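import Cfsg.Agent.Lib.Block2.Puig
import Cfsg.Agent.Lib.Block2.FRChar
import Cfsg.Agent.Lib.Clifford.Det

/-! Blocks with abelian defect groups over normal subgroups of `p`-power index. -/

set_option autoImplicit false
set_option linter.dupNamespace false
set_option linter.unusedSectionVars false
set_option linter.style.haveILetI false

open Cfsg Cfsg.Lib.Block Cfsg.Lib.Block2 Cfsg.Lib.Char Cfsg.Lib.Amalg MonoidAlgebra Subgroup
open scoped ComplexConjugate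

namespace Cfsg.Lib.Block2

variable {G : Type*} [Group G] [Finite G] {p : ℕ} [Fact p.Prime] {M : Ideal AlgInt} [M.IsMaximal]
variable {N P : Subgroup G} {φ ε : MonoidAlgebra (resField M) G} {B : Set (IrrCharacter G)}
  {χ : IrrCharacter G} {u : G}

theorem con_eq_zero_of_vanish [Fintype G] (hM : IsPModular p M) {θ ψ : G → ℂ}
    (hθ : IsClassFunction G θ) (h : ∀ g, pp p g = u → θ g = 0) : con p u φ θ ψ = 0 := by
  classical
  unfold con
  rw [Finset.sum_eq_zero, mul_zero]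
  intro g hg
  rw [bp_congr hM rfl (θ' := (0 : ℂ) • θ) (hθ.comp (centralizer {u}).subtype)
    ((hθ.smul 0).comp (centralizer {u}).subtype) (fun g hg => by simp [h g hg])
    (Finset.mem_filter.1 hg).2, bp_smul, zero_mul, zero_mul]

/-- every character of a block is non-zero somewhere on the `p`-section of a central element of
a defect group -/
theorem DefG.exists_apply_ne_zero (hM : IsPModular p M) (hB : IsPBlock M B)
    (hP : DefG p ⊤ (eB M B) P) (hu : u ∈ P) (hu' : u ∈ centralizer (P : Set G)) (hχ : χ ∈ B) :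
    ∃ g, pp p g = u ∧ χ.1 g ≠ 0 := by
  letI := Fintype.ofFinite G
  obtain ⟨ε, hm⟩ := hP.exists_maxP hM (blk_top_eB hB)
  obtain ⟨χ₀, h₀, h0⟩ := exists_blockHeight_eq_zero (p := p) hB.nonempty
  by_contra h
  push Not at h
  exact hm.con_ne_zero_of_major hM hB (hm.bp.sle_sp hM hu) hu' hχ h₀ h0
    (con_eq_zero_of_vanish hM χ.2.isClassFunction h)

theorem DefG.lin_eq_one (hM : IsPModular p M) (hB : IsPBlock M B)
    (hP : DefG p ⊤ (eB M B) P) (hu : u ∈ P) (hu' : u ∈ centralizer (P : Set G)) (hχ : χ ∈ B)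
    {β : G → ℂ} (hβ : Clifford.LinOn ⊤ β) (h1 : ∀ s, ¬ p ∣ orderOf s → β s = 1)
    (e : ∀ g, β g * χ.1 g = χ.1 g) : β u = 1 := by
  obtain ⟨g, hg, h0⟩ := hP.exists_apply_ne_zero hM hB hu hu' hχ
  have e1 : β g = 1 := mul_right_cancel₀ h0 ((e g).trans (one_mul _).symm)
  have e2 := h1 _ (hg ▸ (isPPart_pp (p := p) g).not_dvd_orderOf)
  have := hβ.map_mul (mem_top u) (mem_top (u⁻¹ * g))
  rwa [mul_inv_cancel_left, e1, e2, mul_one, eq_comm] at this

theorem commutator_le_of_sup_comm [N.Normal] (hab : ∀ x ∈ P, ∀ y ∈ P, x * y = y * x)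
    (hs : N ⊔ P = ⊤) : ⁅(⊤ : Subgroup G), ⊤⁆ ≤ N :=
  Clifford.commutator_le_of_sup hab (by rw [sup_comm, hs]) (Clifford.nrm_of_normal _ _)
    (Clifford.nrm_of_normal _ _) fun g _ x hx =>
      N.mul_mem (‹N.Normal›.conj_mem x hx g) (N.inv_mem hx)

theorem DefG.irrOn_res (hM : IsPModular p M) (hB : IsPBlock M B) [N.Normal]
    (hP : DefG p ⊤ (eB M B) P) (hab : ∀ x ∈ P, ∀ y ∈ P, x * y = y * x) (hs : N ⊔ P = ⊤)
    (hχ : χ ∈ B) : Clifford.IrrOn N χ.1 := by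
  classical
  have hN := Clifford.nrm_of_normal ⊤ N
  have hc := commutator_le_of_sup_comm hab hs
  have hi : Clifford.IrrOn ⊤ χ.1 := Clifford.irrOn_top.2 χ.2
  have hq : PQuo p N ⊤ := hs ▸ (pquo_of_isPGroup hP.isPGroup N).sup le_normalizer_of_normal
  have key : Clifford.dot N χ.1 χ.1 = 1 := by
    rw [← Clifford.dot_ind_left le_top _ hi.classOn, Clifford.ind_ext_eq_sum le_top hN hi.classOn,
      Clifford.dot_sum_left, Finset.sum_eq_single (Clifford.cut ⊤ 1)]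
    · rw [Clifford.cut_top, one_mul, Clifford.dot_smul_left, hi.dot_self]; simp
    · intro β hβ hne
      have hl := Clifford.linOn_of_mem_IrrKer hc hβ
      rw [Clifford.dot_smul_left, (hi.lin_mul hl).dot_eq_zero hi, mul_zero]
      intro e
      apply hne
      rw [Clifford.cut_top]
      have ht : ∀ n ∈ N, β n = 1 := fun n hn =>
        ((Clifford.mem_IrrKer.1 hβ).2 n hn).trans hl.2
      have hk : N ⊔ P ≤ Clifford.kerOn ⊤ β := by
        refine sup_le (fun n hn => hl.mem_kerOn.2 ⟨trivial, ht n hn⟩) fun u hu => ?_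
        exact hl.mem_kerOn.2 ⟨trivial, hP.lin_eq_one hM hB hu (le_cent_self_of_comm hab hu) hχ hl
          (fun s hs => ht s (hq.mem_of_regular (mem_top s) hs)) fun g => e g trivial⟩
      exact funext fun g => (hl.mem_kerOn.1 (hk (hs ▸ mem_top g))).2
    · exact fun h => absurd (Clifford.cut_one_mem_IrrKer le_top) h
  exact (hi.charOn.mono le_top).irrOn_of_dot_self key

omit [Fact p.Prime] in
theorem blockRank_eq_of_res {b : Set (IrrCharacter N)} (hr : ∀ g, ¬ p ∣ orderOf g → g ∈ N)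
    (h1 : ∀ χ ∈ B, ∃ θ ∈ b, ∀ n : N, χ.1 n = θ.1 n)
    (h2 : ∀ θ ∈ b, ∃ χ ∈ B, ∀ n : N, χ.1 n = θ.1 n) : blockRank p B = blockRank p b := by
  let L : (N → ℂ) →ₗ[ℂ] (G → ℂ) := Function.ExtendByZero.linearMap ℂ (Subtype.val : N → G)
  have hL : ∀ (f : N → ℂ) (n : N), L f n = f n := fun f n =>
    Subtype.val_injective.extend_apply f 0 n
  have hL' : ∀ (f : N → ℂ) g, g ∉ N → L f g = 0 := fun f g hg =>
    Function.extend_apply' f (0 : G → ℂ) g fun ⟨n, e⟩ => hg (e ▸ n.2)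
  have e : ∀ (χ : IrrCharacter G) (θ : IrrCharacter N), (∀ n : N, χ.1 n = θ.1 n) →
      pRegularPart p χ.1 = L (pRegularPart p θ.1) := fun χ θ h => funext fun g => by
    rw [Small.pRegularPart_eq, Small.pRegularPart_eq]
    by_cases hg : g ∈ N
    · rw [hL _ ⟨g, hg⟩]
      by_cases hp : p ∣ orderOf g
      · rw [Small.reg_of_dvd _ hp, Small.reg_of_dvd _ (by rwa [← orderOf_coe])]
      · rw [Small.reg_of_not_dvd _ hp, Small.reg_of_not_dvd _ (by rwa [← orderOf_coe]),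
          h ⟨g, hg⟩]
    · rw [hL' _ _ hg, Small.reg_of_dvd _ (by_contra fun h => hg (hr g h))]
  have e' : (fun χ : IrrCharacter G => pRegularPart p χ.1) '' B
      = L '' ((fun θ : IrrCharacter N => pRegularPart p θ.1) '' b) := by
    ext f
    constructor
    · rintro ⟨χ, hχ, rfl⟩
      obtain ⟨θ, hθ, h⟩ := h1 χ hχ
      exact ⟨_, ⟨θ, hθ, rfl⟩, (e χ θ h).symm⟩
    · rintro ⟨_, ⟨θ, hθ, rfl⟩, rfl⟩
      obtain ⟨χ, hχ, h⟩ := h2 θ hθ
      exact ⟨χ, hχ, e χ θ h⟩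
  unfold blockRank
  rw [e', ← Submodule.map_span]
  exact (LinearEquiv.finrank_eq (Submodule.equivMapOfInjective L
    (fun f g h => funext fun n => by rw [← hL f, h, hL]) _)).symm

omit [Fact p.Prime] in
theorem over_of_res {θ : IrrCharacter N} {χ : G → ℂ} (h : ∀ n : N, χ n = θ.1 n) :
    Over N.subtype χ θ.1 := by
  letI := Fintype.ofFinite N
  rw [over_subtype_iff, funext h, θ.2.classInner_self]
  exact one_ne_zero

omit [Fact p.Prime] in
theorem Over.eq_of_irrOn {θ : IrrCharacter N} {χ : G → ℂ} (h : Over N.subtype χ θ.1)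
    (hχ : Clifford.IrrOn N χ) (n : N) : χ n = θ.1 n := by
  rw [over_subtype_iff_dot] at h
  rw [hχ.eq_of_dot_ne_zero (Clifford.irrOn_extendByZero.2 θ.2) h n n.2,
    Clifford.extendByZero_of_mem _ n.2]

theorem cover_of_comm (hM : IsPModular p M) [N.Normal] (hq : PQuo p N ⊤)
    {b : Set (IrrCharacter N)} (hb : IsPBlock M b) (hf : IsFixed ⊤ (EB M b)) (hB : IsPBlock M B)
    (h0 : eB M B * EB M b ≠ 0) (hP : DefG p ⊤ (eB M B) P)
    (hab : ∀ x ∈ P, ∀ y ∈ P, x * y = y * x) :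
    N ⊔ P = ⊤ ∧ DefG p N (EB M b) (P ⊓ N) ∧ (∀ χ ∈ B, ∃ θ ∈ b, ∀ n : N, χ.1 n = θ.1 n) ∧
    (∀ θ ∈ b, Nat.card {χ : IrrCharacter G // χ ∈ B ∧ ∀ n : N, χ.1 n = θ.1 n} = N.index) ∧
    Nat.card B = N.index * Nat.card b ∧ blockRank p B = blockRank p b := by
  classical
  have e : eB M B = EB M b :=
    (blk_top_eB hB).eq_of_mul_ne_zero ((blk_EB hb).of_pquo hM le_top hq hf) h0
  have hP' := e ▸ hP
  have hs := hP'.sup_eq_of_pquo hM (blk_EB hb) hf le_top le_normalizer_of_normal hq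
  have h1 : ∀ χ ∈ B, ∃ θ ∈ b, ∀ n : N, χ.1 n = θ.1 n := fun χ hχ =>
    ⟨⟨_, hP.irrOn_res hM hB hab hs hχ⟩, (over_of_res fun _ => rfl).mem_of_eB_mul_eq
      hB.isBlockUnion hb.isBlockUnion (by rw [← e]; exact (blk_top_eB hB).idem) hχ, fun _ => rfl⟩
  have h2 : ∀ θ ∈ b, ∃ χ ∈ B, ∀ n : N, χ.1 n = θ.1 n := fun θ hθ => by
    obtain ⟨χ, hχ, ho⟩ := exists_over_of_covered hB hb h0 hθ
    exact ⟨χ, hχ, ho.eq_of_irrOn (hP.irrOn_res hM hB hab hs hχ)⟩
  have h3 : ∀ θ ∈ b, Nat.card {χ : IrrCharacter G // χ ∈ B ∧ ∀ n : N, χ.1 n = θ.1 n}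
      = N.index := fun θ hθ => by
    obtain ⟨χ, hχ, hr⟩ := h2 θ hθ
    have hN := Clifford.nrm_of_normal ⊤ N
    have hi := hP.irrOn_res hM hB hab hs hχ
    rw [← relIndex_top_right, ← Clifford.card_IrrKer_of_abelian le_top hN
      (commutator_le_of_sup_comm hab hs), ← Clifford.card_IrrOver_ext le_top hN
      (Clifford.irrOn_top.2 χ.2).charOn hi, ← Nat.card_eq_finsetCard]
    have key : ∀ ψ : IrrCharacter G, (ψ ∈ B ∧ ∀ n : N, ψ.1 n = θ.1 n) ↔
        Clifford.dot N ψ.1 χ.1 ≠ 0 := fun ψ => by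
      have : Clifford.dot N ψ.1 χ.1 ≠ 0 ↔ Over N.subtype ψ.1 θ.1 := by
        rw [over_subtype_iff_dot, Clifford.dot_congr_right ψ.1 (ψ' := extendByZero N θ.1)
          fun x hx => by rw [Clifford.extendByZero_of_mem _ hx, ← hr]]
      rw [this]
      refine ⟨fun h => over_of_res h.2, fun h => ?_⟩
      have hψ := (over_of_res hr).mem_of_supp hB.isBlockUnion (e ▸ (cenIn_EB b).supp) h hχ
      exact ⟨hψ, h.eq_of_irrOn (hP.irrOn_res hM hB hab hs hψ)⟩
    refine Nat.card_congr ⟨fun ψ => ⟨ψ.1.1, Clifford.mem_IrrOver.2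
      ⟨Clifford.mem_Irr_top.2 ψ.1.2, (key _).1 ψ.2⟩⟩, fun ψ => ⟨⟨ψ.1, Clifford.mem_Irr_top.1
        (Clifford.mem_IrrOver.1 ψ.2).1⟩, (key _).2 (Clifford.mem_IrrOver.1 ψ.2).2⟩,
      fun _ => rfl, fun _ => rfl⟩
  refine ⟨hs, (hP'.of_blk_normal hM (blk_EB hb) hf le_top le_normalizer_of_normal).2, h1, h3, ?_,
    blockRank_eq_of_res (fun g => hq.mem_of_regular (mem_top g)) h1 h2⟩
  choose f hf1 hf2 using h1
  let F : B → b := fun χ => ⟨f χ.1 χ.2, hf1 _ _⟩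
  letI := Fintype.ofFinite b
  rw [← Nat.card_congr (Equiv.sigmaFiberEquiv F), Nat.card_sigma, Finset.sum_congr rfl
    (g := fun _ => N.index), Finset.sum_const, Finset.card_univ, smul_eq_mul, mul_comm,
    Nat.card_eq_fintype_card]
  intro θ _
  rw [← h3 θ.1 θ.2]
  refine Nat.card_congr ⟨fun χ => ⟨χ.1.1, χ.1.2, fun n => by
      obtain ⟨χ, rfl⟩ := χ; exact hf2 _ χ.2 n⟩,
    fun χ => ⟨⟨χ.1, χ.2.1⟩, Subtype.ext (Subtype.ext (funext fun n => ?_))⟩,
    fun _ => rfl, fun _ => rfl⟩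
  rw [← χ.2.2, hf2 _ χ.2.1]

end Cfsg.Lib.Block2
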