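import Mathlib
import Cfsg.Agent.Lib.Coprime.ActionForm
import Cfsg.Agent.Lib.Char.Classes

/-! Neumann's BFC theorem (bounded form) and index bounds under coprime action. -/

set_option autoImplicit false

namespace Cfsg.Lib.Bfc

open Subgroup Cfsg.Lib.Core Cfsg.Lib.Coprime
open scoped Pointwise commutatorElement

section Basic
variable {G : Type*} [Group G]

/-- The size of the class of `x`. -/
noncomputable def ix (x : G) : ℕ := (centralizer ({x} : Set G)).index

theorem ix_one : ix (1 : G) = 1 := by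
  unfold ix
  rw [index_eq_one, eq_top_iff]
  intro y _
  rw [mem_centralizer_singleton_iff]; simp

theorem ix_mul_le [Finite G] (x y : G) : ix (x * y) ≤ ix x * ix y := by
  refine le_trans (index_antitone ?_) index_inf_le
  intro z hz
  rw [mem_inf, mem_centralizer_singleton_iff, mem_centralizer_singleton_iff] at hz
  rw [mem_centralizer_singleton_iff, ← mul_assoc, hz.1, mul_assoc, hz.2, mul_assoc]

theorem ix_conj {x y : G} (h : IsConj x y) : ix x = ix y :=
  Char.index_centralizer_eq_of_isConj h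

theorem ix_pos [Finite G] (x : G) : 0 < ix x := Nat.pos_of_ne_zero index_ne_zero_of_finite

theorem ix_le_card_commutator [Finite G] (x : G) : ix x ≤ Nat.card (_root_.commutator G) := by
  unfold ix
  rw [← Char.card_isConj]
  refine Nat.card_le_card_of_injective
    (fun y : {y : G // IsConj x y} => (⟨y.1 * x⁻¹, ?_⟩ : _root_.commutator G)) ?_
  · obtain ⟨c, hc⟩ := isConj_iff.1 y.2
    rw [← hc]
    exact commutator_mem_commutator (mem_top c) (mem_top x)
  · intro y z h
    apply Subtype.ext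
    simpa using h

/-- Neumann: boundedly many commutators. -/
theorem card_commutatorSet_le [Finite G] {n : ℕ} (h : ∀ x : G, ix x ≤ n) :
    Nat.card (commutatorSet G) ≤ n ^ n * n ^ 3 := by
  classical
  have := Fintype.ofFinite G
  obtain ⟨a, -, ha⟩ := Finset.exists_max_image (Finset.univ : Finset G) ix ⟨1, Finset.mem_univ _⟩
  obtain ⟨cl, hcl⟩ : ∃ cl : G → Finset G, cl = fun x => Finset.univ.filter (IsConj x) := ⟨_, rfl⟩
  have hmem : ∀ x y, y ∈ cl x ↔ IsConj x y := by intro x y; simp [hcl]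
  have hcard : ∀ x, (cl x).card = ix x := by
    intro x; rw [hcl]; exact Char.card_filter_isConj x
  have hs : ∀ k : cl a, ∃ s : G, s * a * s⁻¹ = k := fun k => isConj_iff.1 ((hmem _ _).1 k.2)
  choose s hs using hs
  obtain ⟨C, hC⟩ : ∃ C : Subgroup G, C = ⨅ k, centralizer ({s k} : Set G) := ⟨_, rfl⟩
  have hn : 1 ≤ n := (ix_pos (1 : G)).trans_le (h 1)
  have hCi : C.index ≤ n ^ n := by
    rw [hC]
    refine (index_iInf_le _).trans ?_
    refine (Finset.prod_le_pow_card _ _ n fun k _ => h (s k)).trans ?_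
    apply Nat.pow_le_pow_right hn
    rw [Finset.card_univ, Fintype.card_coe, hcard]
    exact h a
  have key : ∀ x ∈ C, ∀ y : G, ∃ k ∈ cl a, ∃ k' ∈ cl a, x⁻¹ * (y * x * y⁻¹) = k * k'⁻¹ := by
    intro x hx y
    have h1 : (cl a).image (fun k => x * k) ⊆ cl (x * a) := by
      intro z hz
      obtain ⟨k, hk, rfl⟩ := Finset.mem_image.1 hz
      rw [hmem, isConj_iff]
      refine ⟨s ⟨k, hk⟩, ?_⟩
      have h2 : x * s ⟨k, hk⟩ = s ⟨k, hk⟩ * x := by
        rw [hC, mem_iInf] at hx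
        exact mem_centralizer_singleton_iff.1 (hx ⟨k, hk⟩)
      have h3 := hs ⟨k, hk⟩
      simp only at h3
      rw [← mul_assoc, ← h2]
      conv_rhs => rw [← h3]
      group
    have h2 : (cl a).image (fun k => x * k) = cl (x * a) := by
      apply Finset.eq_of_subset_of_card_le h1
      rw [Finset.card_image_of_injective _ (mul_right_injective x), hcard, hcard]
      exact ha _ (Finset.mem_univ _)
    have h3 : y * (x * a) * y⁻¹ ∈ cl (x * a) := (hmem _ _).2 (isConj_iff.2 ⟨y, rfl⟩)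
    rw [← h2] at h3
    obtain ⟨k, hk, e⟩ := Finset.mem_image.1 h3
    refine ⟨k, hk, y * a * y⁻¹, (hmem _ _).2 (isConj_iff.2 ⟨y, rfl⟩), ?_⟩
    have : k = x⁻¹ * (y * (x * a) * y⁻¹) := by rw [← e]; group
    rw [this]; group
  have := Fintype.ofFinite (G ⧸ C)
  obtain ⟨T, hT⟩ : ∃ T : Finset G, T = (Finset.univ : Finset (G ⧸ C)).biUnion fun t =>
      ((cl a ×ˢ cl a) ×ˢ cl (t.out⁻¹)).image
        fun u => t.out * (u.1.1 * u.1.2⁻¹) * u.2 := ⟨_, rfl⟩
  have hsub : commutatorSet G ⊆ (T : Set G) := by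
    rintro _ ⟨g, y, rfl⟩
    obtain ⟨c, hc⟩ := QuotientGroup.mk_out_eq_mul C g
    obtain ⟨k, hk, k', hk', e⟩ := key c c.2 y
    rw [hT, Finset.mem_coe, Finset.mem_biUnion]
    refine ⟨(g : G ⧸ C), Finset.mem_univ _, Finset.mem_image.2 ⟨((k, k'),
      y * ((g : G ⧸ C).out)⁻¹ * y⁻¹), ?_, ?_⟩⟩
    · simp only [Finset.mem_product]
      exact ⟨⟨hk, hk'⟩, (hmem _ _).2 (isConj_iff.2 ⟨y, rfl⟩)⟩
    · simp only
      rw [← e, hc, commutatorElement_def]
      group
  have h1 : Nat.card (commutatorSet G) ≤ T.card := by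
    rw [← Nat.card_eq_finsetCard]
    exact Nat.card_mono (Set.toFinite _) hsub
  refine h1.trans ?_
  rw [hT]
  refine Finset.card_biUnion_le.trans ?_
  refine (Finset.sum_le_card_nsmul _ _ (n ^ 3) fun t _ => ?_).trans ?_
  · refine Finset.card_image_le.trans ?_
    rw [Finset.card_product, Finset.card_product, hcard, hcard]
    calc ix a * ix a * ix (t.out⁻¹) ≤ n * n * n := by
          gcongr
          exacts [h _, h _, h _]
      _ = n ^ 3 := by ring
  · rw [smul_eq_mul, Finset.card_univ, ← Nat.card_eq_fintype_card, ← index_eq_card]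
    exact Nat.mul_le_mul_right _ hCi

/-- The BFC bound. -/
noncomputable def bfc (n : ℕ) : ℕ :=
  (Finset.range (n ^ n * n ^ 3 + 1)).sup cardCommutatorBound

theorem card_commutator_le_bfc [Finite G] {n : ℕ} (h : ∀ x : G, ix x ≤ n) :
    Nat.card (_root_.commutator G) ≤ bfc n :=
  card_commutator_le_of_finite_commutatorSet G |>.trans
    (Finset.le_sup (f := cardCommutatorBound)
      (Finset.mem_range.2 (Nat.lt_succ_of_le (card_commutatorSet_le h))))

theorem mem_of_forall_pow_ordCompl [Finite G] {H : Subgroup G} {x : G}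
    (h : ∀ p : ℕ, p.Prime → x ^ (ordCompl[p] (orderOf x)) ∈ H) : x ∈ H := by
  have key : ∀ n : ℕ, x ^ n ∈ H ↔ MulAction.period x ((1 : G) : G ⧸ H) ∣ n := by
    intro n
    rw [← MulAction.pow_smul_eq_iff_period_dvd, MulAction.Quotient.smul_mk, smul_eq_mul, mul_one,
      eq_comm, QuotientGroup.eq]
    simp
  have h1 : MulAction.period x ((1 : G) : G ⧸ H) = 1 := by
    rw [Nat.eq_one_iff_not_exists_prime_dvd]
    intro p hp hd
    exact Nat.not_dvd_ordCompl hp (orderOf_pos x).ne' (hd.trans ((key _).1 (h p hp)))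
  have := (key 1).2 (by rw [h1])
  simpa using this

theorem pow_ordCompl_pow (x : G) (p : ℕ) :
    (x ^ (ordCompl[p] (orderOf x))) ^ p ^ (orderOf x).factorization p = 1 := by
  rw [← pow_mul, mul_comm, Nat.ordProj_mul_ordCompl_eq_self, pow_orderOf_eq_one]

theorem mem_of_index_lt [Finite G] {H : Subgroup G} {x : G} {p k : ℕ} (hp : p.Prime)
    (hx : x ^ p ^ k = 1) (h : H.index < p) : x ∈ H := by
  have h1 : H.relIndex (zpowers x) ∣ p ^ k := by
    refine (relIndex_dvd_card H (zpowers x)).trans ?_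
    rw [Nat.card_zpowers]
    exact orderOf_dvd_of_pow_eq_one hx
  have h2 : H.relIndex (zpowers x) ≤ H.index := by
    rw [← relIndex_top_right]
    exact relIndex_le_of_le_right le_top (by rw [relIndex_top_right]; exact index_ne_zero_of_finite)
  obtain ⟨j, -, hj⟩ := (Nat.dvd_prime_pow hp).1 h1
  rcases j with _ | j
  · rw [pow_zero, relIndex_eq_one] at hj
    exact hj (mem_zpowers x)
  · exfalso
    have : p ≤ p ^ (j + 1) := Nat.le_self_pow (Nat.succ_ne_zero j) p
    omega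

/-- From prime-power elements to all elements. -/
theorem ix_le_of_primary [Finite G] {n : ℕ}
    (h : ∀ (x : G) (p k : ℕ), p.Prime → x ^ p ^ k = 1 → ix x ≤ n) (x : G) :
    ix x ≤ n ^ (n + 1) := by
  have hn : 1 ≤ n := by
    have := h 1 2 0 Nat.prime_two (by simp)
    rwa [ix_one] at this
  have hcent : ∀ (y : G) (p k : ℕ), p.Prime → y ^ p ^ k = 1 → n < p → ∀ z, z * y = y * z := by
    intro y p k hp hy hnp z
    rw [← mem_centralizer_singleton_iff]
    apply mem_of_forall_pow_ordCompl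
    intro r hr
    rw [mem_centralizer_singleton_iff, eq_comm, ← mem_centralizer_singleton_iff]
    exact mem_of_index_lt hp hy ((h _ r _ hr (pow_ordCompl_pow z r)).trans_lt hnp)
  have hle : (⨅ p : {p : Fin (n + 1) // (p : ℕ).Prime},
      centralizer ({x ^ (ordCompl[p.1] (orderOf x))} : Set G)) ≤ centralizer {x} := by
    intro z hz
    rw [mem_iInf] at hz
    rw [mem_centralizer_singleton_iff, eq_comm, ← mem_centralizer_singleton_iff]
    apply mem_of_forall_pow_ordCompl
    intro r hr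
    rw [mem_centralizer_singleton_iff, eq_comm]
    by_cases hnr : n < r
    · exact hcent _ r _ hr (pow_ordCompl_pow x r) hnr z
    · exact mem_centralizer_singleton_iff.1 (hz ⟨⟨r, by omega⟩, hr⟩)
  refine (index_antitone hle).trans ((index_iInf_le _).trans ?_)
  refine (Finset.prod_le_pow_card _ _ n fun p _ => h _ p.1 _ p.2 (pow_ordCompl_pow x p.1)).trans ?_
  apply Nat.pow_le_pow_right hn
  rw [Finset.card_univ]
  exact (Fintype.card_subtype_le _).trans (by simp)

end Basic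

section Act
variable {G A : Type*} [Group G] [Group A] {φ : A →* MulAut G}

/-- Invariant subgroups. -/
def Inv (φ : A →* MulAut G) (H : Subgroup G) : Prop := ∀ a, ∀ x ∈ H, φ a x ∈ H

theorem Inv.inf {H K : Subgroup G} (hH : Inv φ H) (hK : Inv φ K) : Inv φ (H ⊓ K) :=
  fun a x hx => ⟨hH a x hx.1, hK a x hx.2⟩

theorem Inv.sup {H K : Subgroup G} (hH : Inv φ H) (hK : Inv φ K) : Inv φ (H ⊔ K) := by
  intro a
  change H ⊔ K ≤ (H ⊔ K).comap (φ a).toMonoidHom
  exact sup_le (fun x hx => mem_sup_left (hH a x hx)) (fun x hx => mem_sup_right (hK a x hx))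

theorem Inv.comm {H K : Subgroup G} (hH : Inv φ H) (hK : Inv φ K) : Inv φ ⁅H, K⁆ := by
  intro a
  change ⁅H, K⁆ ≤ ⁅H, K⁆.comap (φ a).toMonoidHom
  rw [commutator_le]
  intro x hx y hy
  rw [mem_comap, map_commutatorElement]
  exact commutator_mem_commutator (hH a x hx) (hK a y hy)

theorem Inv.norm [Finite G] {H : Subgroup G} (hH : Inv φ H) : Inv φ (normalizer (H : Set G)) := by
  intro a x hx
  apply mem_normalizer_of_conj_mem
  intro y hy
  have := hH a _ (conj_mem_of_mem_normalizer hx (hH a⁻¹ y hy))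
  simpa using this

theorem inv_actFix (hA : ∀ a b : A, a * b = b * a) (C : Subgroup A) : Inv φ (actFix φ C) := by
  intro a x hx b hb
  rw [← MulAut.mul_apply, ← map_mul, hA, map_mul, MulAut.mul_apply, hx b hb]

/-- Cocyclic subgroups. -/
def Coc (A : Type*) [Group A] : Type _ := {C : Subgroup A // ∃ b, zpowers b ⊔ C = ⊤}

instance [Finite A] : Finite (Coc A) := by unfold Coc; infer_instance

variable [Finite G] [Finite A]

theorem exists_coc (hA : ∀ a b : A, a * b = b * a) (hcop : (Nat.card A).Coprime (Nat.card G))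
    {H L : Subgroup G} (hH : Inv φ H) (h : ¬ H ≤ L) : ∃ C : Coc A, ¬ H ⊓ actFix φ C.1 ≤ L := by
  by_contra hcon
  push Not at hcon
  apply h
  have : IsMulCommutative (⊤ : Subgroup A) := ⟨⟨fun a b => Subtype.ext (hA _ _)⟩⟩
  refine act_le_of_forall_cocyclic (φ := φ) (B := ⊤) (fun b _ => hH b) ?_ ?_
  · rw [card_top]
    exact hcop.coprime_dvd_right (card_subgroup_dvd_card H)
  · rintro C ⟨b, -, hb⟩
    exact hcon ⟨C, b, hb⟩

theorem relIndex_le_prod [Fintype (Coc A)] (hA : ∀ a b : A, a * b = b * a)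
    (hcop : (Nat.card A).Coprime (Nat.card G)) {p : ℕ} [Fact p.Prime] {P : Subgroup G}
    (hP : IsPGroup p P) (hPi : Inv φ P) (Q : Subgroup G) (hQ : Inv φ Q) (hQP : Q ≤ P) :
    Q.relIndex P ≤ ∏ C : Coc A, Q.relIndex (P ⊓ actFix φ C.1) := by
  classical
  induction Q using WellFoundedGT.induction with
  | ind Q ih =>
  by_cases hEq : Q = P
  · subst hEq
    rw [relIndex_self]
    exact Nat.pos_of_ne_zero (Finset.prod_ne_zero_iff.2 fun C _ => index_ne_zero_of_finite)
  have hlt := lt_inf_normalizer_of_isPGroup hP (lt_of_le_of_ne hQP hEq)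
  obtain ⟨C, hC⟩ := exists_coc (φ := φ) hA hcop (hPi.inf hQ.norm) hlt.not_ge
  obtain ⟨M, hM⟩ : ∃ M, M = P ⊓ normalizer (Q : Set G) ⊓ actFix φ C.1 := ⟨_, rfl⟩
  rw [← hM] at hC
  have hMi : Inv φ M := hM ▸ (hPi.inf hQ.norm).inf (inv_actFix hA _)
  have hMn : M ≤ normalizer (Q : Set G) := hM ▸ inf_le_left.trans inf_le_right
  have hMP : M ≤ P := hM ▸ inf_le_left.trans inf_le_left
  have hMC : M ≤ actFix φ C.1 := hM ▸ inf_le_right
  have hR : Q < M ⊔ Q := lt_of_le_of_ne le_sup_right fun e => hC (e ▸ le_sup_left)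
  have hRP : M ⊔ Q ≤ P := sup_le hMP hQP
  have h1 := ih (M ⊔ Q) hR (hMi.sup hQ) hRP
  have h2 : ∀ D : Coc A, Q.relIndex (P ⊓ actFix φ D.1) =
      Q.relIndex ((M ⊔ Q) ⊓ (P ⊓ actFix φ D.1)) * (M ⊔ Q).relIndex (P ⊓ actFix φ D.1) := by
    intro D
    rw [relIndex_inf_mul_relIndex, inf_eq_left.2 hR.le]
  rw [← relIndex_mul_relIndex Q (M ⊔ Q) P hR.le hRP, Finset.prod_congr rfl fun D _ => h2 D,
    Finset.prod_mul_distrib]
  refine Nat.mul_le_mul ?_ h1
  rw [relIndex_sup_of_le_normalizer hMn]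
  refine le_trans (relIndex_le_of_le_right (L := (M ⊔ Q) ⊓ (P ⊓ actFix φ C.1))
    (le_inf le_sup_left (le_inf hMP hMC)) index_ne_zero_of_finite) ?_
  exact Finset.single_le_prod' (f := fun D : Coc A =>
    Q.relIndex ((M ⊔ Q) ⊓ (P ⊓ actFix φ D.1)))
    (fun D _ => Nat.pos_of_ne_zero index_ne_zero_of_finite) (Finset.mem_univ C)

/-- The index of an invariant subgroup is bounded by the indices in the fixed point subgroups. -/
theorem index_dvd_factorial (hA : ∀ a b : A, a * b = b * a)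
    (hcop : (Nat.card A).Coprime (Nat.card G)) {D : Subgroup G} (hD : Inv φ D) {M : ℕ}
    (hM : ∀ C : Coc A, D.relIndex (actFix φ C.1) ≤ M) :
    D.index ∣ (M ^ Nat.card (Coc A)).factorial := by
  have := Fintype.ofFinite (Coc A)
  rw [Nat.dvd_iff_prime_pow_dvd_dvd]
  intro p k hp hd
  have : Fact p.Prime := ⟨hp⟩
  have : IsMulCommutative (⊤ : Subgroup A) := ⟨⟨fun a b => Subtype.ext (hA _ _)⟩⟩
  obtain ⟨P, hP⟩ := act_exists_invariant_sylow (φ := φ) (B := ⊤) (by rwa [card_top])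
    (Or.inl (Group.isSolvable_of_comm fun a b => Subtype.ext (hA _ _))) p
  have hPi : Inv φ (P : Subgroup G) := fun a => hP a (mem_top a)
  have h1 := relIndex_le_prod hA hcop P.isPGroup' hPi (D ⊓ P) (hD.inf hPi) inf_le_right
  have h2 : p ^ k ∣ (D ⊓ P).relIndex P := by
    have h3 : p ^ k ∣ (D ⊓ P).relIndex P * (P : Subgroup G).index := by
      rw [relIndex_mul_index inf_le_right]
      exact hd.trans (index_dvd_of_le inf_le_left)
    exact (Nat.Coprime.pow_left k ((Nat.Prime.coprime_iff_not_dvd hp).2 P.not_dvd_index)).dvd_of_dvd_mul_right h3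
  have h4 : (D ⊓ P).relIndex P ≤ M ^ Nat.card (Coc A) := by
    refine h1.trans ?_
    rw [Nat.card_eq_fintype_card, ← Finset.card_univ]
    refine Finset.prod_le_pow_card _ _ M fun C _ => le_trans ?_ (hM C)
    have e : (D ⊓ P).relIndex (P ⊓ actFix φ C.1) = D.relIndex (P ⊓ actFix φ C.1) := by
      rw [← inf_relIndex_right (D ⊓ P), ← inf_relIndex_right D, inf_assoc, ← inf_assoc (P : Subgroup G),
        inf_idem]
    rw [e]
    exact relIndex_le_of_le_right inf_le_right index_ne_zero_of_finite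
  exact h2.trans (Nat.dvd_factorial (Nat.pos_of_ne_zero index_ne_zero_of_finite) h4)

/-- Products of elements from a list of subgroups. -/
def InT : List (Subgroup G) → G → Prop
  | [], x => x = 1
  | H :: L, x => ∃ a ∈ H, ∃ t, InT L t ∧ x = a * t

omit [Finite G] in
theorem InT.one : ∀ L : List (Subgroup G), InT L 1
  | [] => rfl
  | H :: L => ⟨1, H.one_mem, 1, InT.one L, by simp⟩

omit [Finite G] in
theorem InT.mem {P : Subgroup G} : ∀ {L : List (Subgroup G)} {x : G}, (∀ H ∈ L, H ≤ P) →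
    InT L x → x ∈ P
  | [], x, _, h => by rw [show x = 1 from h]; exact P.one_mem
  | H :: L, x, hL, ⟨a, ha, t, ht, e⟩ => by
    rw [e]
    exact P.mul_mem (hL H (by simp) ha) (InT.mem (fun K hK => hL K (by simp [hK])) ht)

theorem InT.ix_le {n : ℕ} : ∀ {L : List (Subgroup G)} {x : G}, (∀ H ∈ L, ∀ y ∈ H, ix y ≤ n) →
    InT L x → ix x ≤ n ^ L.length
  | [], x, _, h => by rw [show x = 1 from h, ix_one]; simp
  | H :: L, x, hL, ⟨a, ha, t, ht, e⟩ => by
    rw [e, List.length_cons, pow_succ']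
    exact (ix_mul_le a t).trans (Nat.mul_le_mul (hL H (by simp) a ha)
      (InT.ix_le (fun K hK => hL K (by simp [hK])) ht))

omit [Finite G] in
theorem InT.absorb {P Z : Subgroup G} {z : G} (hz : ∀ t ∈ P, t⁻¹ * z⁻¹ * t * z ∈ Z) :
    ∀ {L : List (Subgroup G)} {x : G}, (∀ H ∈ L, H ≤ P) → (∃ H ∈ L, z ∈ H) →
    InT L x → ∃ t, InT L t ∧ ∃ w ∈ Z, x * z = t * w
  | [], x, _, h, _ => by simp at h
  | H :: L, x, hL, hex, ⟨a, ha, t, ht, e⟩ => by
    have hL' : ∀ K ∈ L, K ≤ P := fun K hK => hL K (by simp [hK])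
    by_cases hzH : z ∈ H
    · refine ⟨a * z * t, ⟨a * z, H.mul_mem ha hzH, t, ht, rfl⟩, _, hz t (InT.mem hL' ht), ?_⟩
      rw [e]; group
    · have hex' : ∃ K ∈ L, z ∈ K := by
        obtain ⟨K, hK, hzK⟩ := hex
        rcases List.mem_cons.1 hK with rfl | hK
        · exact (hzH hzK).elim
        · exact ⟨K, hK, hzK⟩
      obtain ⟨t', ht', w, hw, e'⟩ := InT.absorb hz hL' hex' ht
      exact ⟨a * t', ⟨a, ha, t', ht', rfl⟩, w, hw, by rw [e, mul_assoc, e', mul_assoc]⟩

theorem inT_of_mem (hA : ∀ a b : A, a * b = b * a)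
    (hcop : (Nat.card A).Coprime (Nat.card G)) {p : ℕ} [Fact p.Prime] {P : Subgroup G}
    (hP : IsPGroup p P) (hPi : Inv φ P) {L : List (Subgroup G)} (hL : ∀ H ∈ L, H ≤ P)
    (hL' : ∀ C : Coc A, P ⊓ actFix φ C.1 ∈ L) {x : G} (hx : x ∈ P) : InT L x := by
  have key : ∀ Z : Subgroup G, Inv φ Z → Z ≤ P → P ≤ normalizer (Z : Set G) →
      (∃ t, InT L t ∧ ∃ w ∈ Z, x = t * w) → InT L x := by
    intro Z
    induction Z using WellFoundedLT.induction with
    | ind Z ih =>
    rintro hZ hZP hZn ⟨t, ht, w, hw, e⟩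
    by_cases hb : Z = ⊥
    · rw [hb, mem_bot] at hw
      rw [e, hw, mul_one]; exact ht
    have h0 : ⁅Z, P⁆ < Z := commutator_lt_of_isPGroup (hP.to_le hZP) hP hZn hb
    obtain ⟨Z', ⟨h1, h2, h3⟩, hmax⟩ := WellFoundedGT.exists_maximal (α := Subgroup G)
      inferInstance {Y | Inv φ Y ∧ ⁅Z, P⁆ ≤ Y ∧ Y < Z} ⟨⁅Z, P⁆, hZ.comm hPi, le_rfl, h0⟩
    have hcomm : ∀ z ∈ Z, ∀ s ∈ P, s⁻¹ * z⁻¹ * s * z ∈ Z' := by
      intro z hz s hs
      have := h2 (commutator_mem_commutator (Z.inv_mem hz) (P.inv_mem hs))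
      rw [commutatorElement_def] at this
      have := Z'.inv_mem this
      simpa [mul_assoc] using this
    have hZ'n : P ≤ normalizer (Z' : Set G) := by
      intro s hs
      apply mem_normalizer_of_conj_mem
      intro y hy
      have := Z'.mul_mem hy (Z'.inv_mem (hcomm y (h3.le hy) s⁻¹ (P.inv_mem hs)))
      convert this using 1
      group
    obtain ⟨C, hC⟩ := exists_coc (φ := φ) hA hcop hZ h3.not_ge
    have hsup : Z ⊓ actFix φ C.1 ⊔ Z' = Z := by
      by_contra hne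
      have hlt : Z ⊓ actFix φ C.1 ⊔ Z' < Z := lt_of_le_of_ne (sup_le inf_le_left h3.le) hne
      have := hmax ⟨(hZ.inf (inv_actFix hA _)).sup h1, h2.trans le_sup_right, hlt⟩ le_sup_right
      exact hC (le_sup_left.trans this)
    rw [← hsup, mem_sup_of_le_normalizer_right (inf_le_left.trans (hZP.trans hZ'n))] at hw
    obtain ⟨c, hc, w', hw', rfl⟩ := hw
    obtain ⟨t', ht', w'', hw'', e'⟩ := InT.absorb (hcomm c hc.1) hL
      ⟨_, hL' C, hZP hc.1, hc.2⟩ ht
    refine ih Z' h3 h1 (h3.le.trans hZP) hZ'n ⟨t', ht', w'' * w', Z'.mul_mem hw'' hw', ?_⟩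
    rw [e, ← mul_assoc, e', mul_assoc]
  exact key P hPi le_rfl le_normalizer ⟨1, InT.one L, x, hx, by simp⟩

theorem ix_le_of_fix (hA : ∀ a b : A, a * b = b * a)
    (hcop : (Nat.card A).Coprime (Nat.card G)) {n : ℕ}
    (h : ∀ C : Coc A, ∀ y ∈ actFix φ C.1, ix y ≤ n) (x : G) (p k : ℕ) (hp : p.Prime)
    (hx : x ^ p ^ k = 1) : ix x ≤ n ^ Nat.card (Coc A) := by
  have := Fintype.ofFinite (Coc A)
  have : Fact p.Prime := ⟨hp⟩
  obtain ⟨P, hP⟩ := act_exists_invariant_sylow (φ := φ) (B := ⊤) (by rwa [card_top])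
    (Or.inl (Group.isSolvable_of_comm fun a b => Subtype.ext (hA _ _))) p
  have hPi : Inv φ (P : Subgroup G) := fun a => hP a (mem_top a)
  have hx' : IsPGroup p (zpowers x) := by
    obtain ⟨j, -, hj⟩ := (Nat.dvd_prime_pow hp).1 (orderOf_dvd_of_pow_eq_one hx)
    exact IsPGroup.of_card (n := j) (by rw [Nat.card_zpowers, hj])
  obtain ⟨Q, hQ⟩ := hx'.exists_le_sylow
  obtain ⟨g, rfl⟩ := MulAction.exists_smul_eq G Q P
  have hy : g * x * g⁻¹ ∈ ((g • Q : Sylow p G) : Subgroup G) :=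
    smul_mem_pointwise_smul x (MulAut.conj g) _ (hQ (mem_zpowers x))
  rw [ix_conj (isConj_iff.2 ⟨g, rfl⟩ : IsConj x (g * x * g⁻¹))]
  have h1 := inT_of_mem (φ := φ) hA hcop (g • Q).isPGroup' hPi
    (L := (Finset.univ : Finset (Coc A)).toList.map fun C =>
      ((g • Q : Sylow p G) : Subgroup G) ⊓ actFix φ C.1)
    (by
      intro H hH
      obtain ⟨C, -, rfl⟩ := List.mem_map.1 hH
      exact inf_le_left)
    (fun C => List.mem_map.2 ⟨C, by simp, rfl⟩) hy
  have h2 := InT.ix_le (n := n) (by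
      intro H hH y hy
      obtain ⟨C, -, rfl⟩ := List.mem_map.1 hH
      exact h C y hy.2) h1
  rwa [List.length_map, Finset.length_toList, Finset.card_univ, ← Nat.card_eq_fintype_card] at h2

omit [Finite G] in
theorem Coc.index_le (hA : ∀ a b : A, a * b = b * a) {q : ℕ} (hq : 0 < q) (he : ∀ a : A, a ^ q = 1)
    (C : Coc A) : C.1.index ≤ q := by
  obtain ⟨C, b, hb⟩ := C
  change C.index ≤ q
  have : C.Normal := ⟨fun x hx g => by rw [hA g x, mul_inv_cancel_right]; exact hx⟩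
  rw [← relIndex_top_right, ← hb, relIndex_sup_right]
  refine (Nat.le_of_dvd Nat.card_pos (relIndex_dvd_card _ _)).trans ?_
  rw [Nat.card_zpowers]
  exact Nat.le_of_dvd hq (orderOf_dvd_of_pow_eq_one (he b))

theorem ix_le_of_mem_fix (hA : ∀ a b : A, a * b = b * a)
    (hcop : (Nat.card A).Coprime (Nat.card G)) {q m : ℕ} (hq : q.Prime)
    (hcard : Nat.card A = q ^ 3) (he : ∀ a : A, a ^ q = 1)
    (h : ∀ a : A, a ≠ 1 → Nat.card (_root_.commutator (actFix φ (zpowers a))) ≤ m)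
    (B : Coc A) (x : G) (hx : x ∈ actFix φ B.1) :
    ix x ≤ ((m ^ q ^ 3) ^ Nat.card (Coc A)).factorial := by
  have := Fintype.ofFinite A
  obtain ⟨D, hD⟩ : ∃ D : Subgroup G, D = ⨅ a : A, centralizer ({φ a x} : Set G) := ⟨_, rfl⟩
  have hDi : Inv φ D := by
    intro a y hy
    rw [hD, mem_iInf] at hy ⊢
    intro b
    have := mem_centralizer_singleton_iff.1 (hy (a⁻¹ * b))
    rw [mem_centralizer_singleton_iff]
    have h2 := congrArg (φ a) this
    simpa [map_mul] using h2
  have hDx : D ≤ centralizer {x} := by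
    intro y hy
    rw [hD, mem_iInf] at hy
    simpa using hy 1
  refine (index_antitone hDx).trans (Nat.le_of_dvd (Nat.factorial_pos _)
    (index_dvd_factorial (φ := φ) hA hcop hDi fun C => ?_))
  have hne : B.1 ⊓ C.1 ≠ ⊥ := by
    intro e
    have h1 := (index_inf_le (H := B.1) (K := C.1)).trans
      (Nat.mul_le_mul (B.index_le hA hq.pos he) (C.index_le hA hq.pos he))
    rw [e, index_bot, hcard] at h1
    have := hq.two_le
    nlinarith [Nat.mul_pos hq.pos hq.pos]
  obtain ⟨⟨a₀, ha₀⟩, hne⟩ := ne_bot_iff_exists_ne_one.1 hne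
  have hne' : a₀ ≠ 1 := fun e => hne (Subtype.ext e)
  obtain ⟨K, hK⟩ : ∃ K, K = actFix φ (zpowers a₀) := ⟨_, rfl⟩
  have hm := h a₀ hne'
  rw [← hK] at hm
  have hCK : actFix φ C.1 ≤ K := fun y hy => hK ▸ mem_actFix_zpowers.2 (hy a₀ ha₀.2)
  have hBK : actFix φ B.1 ≤ K := fun y hy => hK ▸ mem_actFix_zpowers.2 (hy a₀ ha₀.1)
  rw [hD]
  refine (relIndex_iInf_le _).trans ?_
  rw [← hcard, Nat.card_eq_fintype_card, ← Finset.card_univ]
  refine Finset.prod_le_pow_card _ _ m fun a _ => ?_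
  refine (relIndex_le_of_le_right hCK index_ne_zero_of_finite).trans ?_
  have hy : φ a x ∈ K := hBK (inv_actFix hA _ a x hx)
  have e : (centralizer ({φ a x} : Set G)).subgroupOf K
      = centralizer ({(⟨φ a x, hy⟩ : K)} : Set K) := by
    ext z
    rw [mem_subgroupOf, mem_centralizer_singleton_iff, mem_centralizer_singleton_iff,
      Subtype.ext_iff]
    rfl
  rw [relIndex, e]
  exact (ix_le_card_commutator _).trans hm

theorem main (hA : ∀ a b : A, a * b = b * a)
    (hcop : (Nat.card A).Coprime (Nat.card G)) {q m : ℕ} (hq : q.Prime)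
    (hcard : Nat.card A = q ^ 3) (he : ∀ a : A, a ^ q = 1)
    (h : ∀ a : A, a ≠ 1 → Nat.card (_root_.commutator (actFix φ (zpowers a))) ≤ m) :
    ∃ s ≤ 2 ^ q ^ 3, Nat.card (_root_.commutator G) ≤
      bfc ((((m ^ q ^ 3) ^ s).factorial ^ s) ^ (((m ^ q ^ 3) ^ s).factorial ^ s + 1)) := by
  refine ⟨Nat.card (Coc A), ?_, ?_⟩
  · have := Fintype.ofFinite A
    have e : Nat.card (Set A) = 2 ^ Nat.card A := by
      classical
      simp [Nat.card_eq_fintype_card]
    rw [← hcard, ← e]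
    exact Nat.card_le_card_of_injective (fun C : Coc A => (C.1 : Set A))
      fun C D e => Subtype.ext (SetLike.coe_injective e)
  · apply card_commutator_le_bfc
    apply ix_le_of_primary
    exact ix_le_of_fix hA hcop (ix_le_of_mem_fix hA hcop hq hcard he h)

end Act

end Cfsg.Lib.Bfc
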