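import Cfsg.Agent.Lib.Block2.Ind
import Cfsg.Agent.Lib.Coprime.ActionForm

/-! Implementing automorphisms of an extraspecial 2-group inside its twisted group algebra. -/

set_option autoImplicit false
set_option linter.unusedSectionVars false

open Subgroup

namespace Cfsg.Lib.Block2.DX

variable {F : Type*} [Group F] {A : Type*} [Ring A] [Algebra ℂ A] {z : F} {ρ : F →* A}

/-- `F` has centre `{1, z}` of order two and commutators in it -/
structure Nd (z : F) : Prop where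
  ne : z ≠ 1
  sq : z * z = 1
  cen : ∀ x, z * x = x * z
  comm : ∀ x y, x * y = y * x ∨ x * y = z * (y * x)
  nd : ∀ x, (∀ y, x * y = y * x) → x = 1 ∨ x = z

theorem Nd.aut (h : Nd z) (g : MulAut F) : g z = z := by
  refine (h.nd (g z) fun y => ?_).resolve_left (by simpa using h.ne)
  obtain ⟨y, rfl⟩ := g.surjective y
  rw [← map_mul, ← map_mul, h.cen]

theorem Nd.inv (h : Nd z) : z⁻¹ = z := inv_eq_of_mul_eq_one_right h.sq

open scoped Classical in
noncomputable def δ (z w : F) : ℤ := if w = 1 then 1 else if w = z then -1 else 0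

theorem δ_one : δ z 1 = 1 := by simp [δ]

theorem Nd.δ_z (h : Nd z) : δ z z = -1 := by simp [δ, h.ne]

theorem δ_of_not {w : F} (h : ¬ (w = 1 ∨ w = z)) : δ z w = 0 := by
  push Not at h; simp [δ, h.1, h.2]

theorem Nd.δ_aut (h : Nd z) (g : MulAut F) (w : F) : δ z (g w) = δ z w := by
  have e : g w = z ↔ w = z := by
    conv_lhs => rw [← h.aut g]
    exact g.injective.eq_iff
  classical
  unfold δ
  congr 1 <;> simp [e]

theorem Nd.δ_inv (h : Nd z) (w : F) : δ z w⁻¹ = δ z w := by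
  have e : w⁻¹ = z ↔ w = z := by rw [inv_eq_iff_eq_inv, h.inv]
  classical
  unfold δ
  congr 1 <;> simp [e]

theorem rho_mul_inv (x : F) : ρ x * ρ x⁻¹ = 1 := by rw [← map_mul, mul_inv_cancel, map_one]

theorem rho_inv_mul (x : F) : ρ x⁻¹ * ρ x = 1 := by rw [← map_mul, inv_mul_cancel, map_one]

/-- span of the image of a subgroup -/
def Sp (ρ : F →* A) (H : Subgroup F) : Submodule ℂ A := Submodule.span ℂ (ρ '' H)

theorem rho_mem {H : Subgroup F} {x : F} (h : x ∈ H) : ρ x ∈ Sp ρ H :=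
  Submodule.subset_span ⟨x, h, rfl⟩

theorem one_mem_Sp (H : Subgroup F) : (1 : A) ∈ Sp ρ H := by
  simpa using rho_mem (ρ := ρ) H.one_mem

theorem Sp_mono {H K : Subgroup F} (h : H ≤ K) : Sp ρ H ≤ Sp ρ K :=
  Submodule.span_mono (Set.image_mono h)

theorem Sp_ind {H : Subgroup F} {P : A → Prop} (h1 : ∀ x ∈ H, P (ρ x)) (h0 : P 0)
    (ha : ∀ a b, P a → P b → P (a + b)) (hs : ∀ (c : ℂ) a, P a → P (c • a)) {a : A}
    (h : a ∈ Sp ρ H) : P a := by
  induction h using Submodule.span_induction with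
  | mem x hx => obtain ⟨x, hx, rfl⟩ := hx; exact h1 x hx
  | zero => exact h0
  | add a b _ _ h h' => exact ha a b h h'
  | smul c a _ h => exact hs c a h

theorem Sp_mul {H : Subgroup F} {a b : A} (ha : a ∈ Sp ρ H) (hb : b ∈ Sp ρ H) :
    a * b ∈ Sp ρ H := by
  refine Sp_ind (P := fun a => a * b ∈ Sp ρ H) (fun x hx => ?_) (by simp)
    (fun a a' h h' => by rw [add_mul]; exact add_mem h h')
    (fun c a h => by rw [smul_mul_assoc]; exact Submodule.smul_mem _ c h) ha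
  exact Sp_ind (P := fun b => ρ x * b ∈ Sp ρ H)
    (fun y hy => by rw [← map_mul]; exact rho_mem (mul_mem hx hy)) (by simp)
    (fun a a' h h' => by rw [mul_add]; exact add_mem h h')
    (fun c a h => by rw [mul_smul_comm]; exact Submodule.smul_mem _ c h) hb

theorem Sp_comm {H : Subgroup F} {a b : A} (ha : a ∈ Sp ρ H) (hb : ∀ x ∈ H, ρ x * b = b * ρ x) :
    a * b = b * a :=
  Sp_ind (P := fun a => a * b = b * a) hb (by simp)
    (fun a a' h h' => by rw [add_mul, mul_add, h, h'])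
    (fun c a h => by rw [smul_mul_assoc, mul_smul_comm, h]) ha

theorem Sp_comm₂ {H K : Subgroup F} (h : ∀ x ∈ H, ∀ y ∈ K, x * y = y * x) {a b : A}
    (ha : a ∈ Sp ρ H) (hb : b ∈ Sp ρ K) : a * b = b * a :=
  Sp_comm ha fun x hx => (Sp_comm hb fun y hy => by
    rw [← map_mul, ← map_mul, h x hx y hy]).symm

/-- `a` implements the automorphism `g` -/
def Impl (ρ : F →* A) (H : Subgroup F) (g : MulAut F) (a : A) : Prop :=
  a ∈ Sp ρ H ∧ ∀ y ∈ H, a * ρ y = ρ (g y) * a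

theorem Impl.mul {g h : MulAut F} {a b : A} (ha : Impl ρ ⊤ g a) (hb : Impl ρ ⊤ h b) :
    Impl ρ ⊤ (g * h) (a * b) :=
  ⟨Sp_mul ha.1 hb.1, fun y _ => by
    rw [mul_assoc, hb.2 y trivial, ← mul_assoc, ha.2 _ trivial, mul_assoc, MulAut.mul_apply]⟩

theorem Impl.smul {H : Subgroup F} {g : MulAut F} {a : A} (ha : Impl ρ H g a) (c : ℂ) :
    Impl ρ H g (c • a) :=
  ⟨Submodule.smul_mem _ c ha.1, fun y hy => by rw [smul_mul_assoc, mul_smul_comm, ha.2 y hy]⟩

theorem Impl.pow {g : MulAut F} {a : A} (ha : Impl ρ ⊤ g a) (n : ℕ) : Impl ρ ⊤ (g ^ n) (a ^ n) := by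
  induction n with
  | zero => exact ⟨by simpa using one_mem_Sp ⊤, fun y _ => by simp⟩
  | succ n ih => rw [pow_succ, pow_succ]; exact ih.mul ha

theorem Impl.inv {g : MulAut F} {a b : A} (ha : Impl ρ ⊤ g a) (hb : b ∈ Sp ρ ⊤) (h : a * b = 1)
    (h' : b * a = 1) : Impl ρ ⊤ g⁻¹ b :=
  ⟨hb, fun y _ => by
    have e := ha.2 (g⁻¹ y) trivial
    rw [MulAut.apply_inv_self] at e
    calc b * ρ y = b * (ρ y * a) * b := by rw [mul_assoc, mul_assoc, h, mul_one]
      _ = _ := by rw [← e, ← mul_assoc, h', one_mul]⟩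

/-- a multiplicative choice of implementing elements on `X` -/
structure Good (ρ : F →* A) (H : Subgroup F) (X : Subgroup (MulAut F)) (U : MulAut F → A) :
    Prop where
  one : U 1 = 1
  mul : ∀ a ∈ X, ∀ b ∈ X, U (a * b) = U a * U b
  impl : ∀ a ∈ X, Impl ρ H a (U a)

section Fin
variable [Fintype F]

/-- averaging operator -/
noncomputable def T (ρ : F →* A) : A →ₗ[ℂ] A where
  toFun a := ∑ y, ρ y * a * ρ y⁻¹
  map_add' a b := by simp [mul_add, add_mul, Finset.sum_add_distrib]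
  map_smul' c a := by simp [Finset.smul_sum]

theorem T_apply (a : A) : T ρ a = ∑ y, ρ y * a * ρ y⁻¹ := rfl

theorem T_of_comm {a : A} (h : ∀ y, a * ρ y = ρ y * a) : T ρ a = (Fintype.card F : ℂ) • a := by
  rw [T_apply, Finset.sum_congr rfl (g := fun _ => a) fun y _ => by
    rw [← h, mul_assoc, rho_mul_inv, mul_one]]
  simp [Nat.cast_smul_eq_nsmul]

theorem T_rho (h : Nd z) (hρ : ρ z = -1) (w : F) :
    T ρ (ρ w) = ((Fintype.card F : ℂ) * δ z w) • (1 : A) := by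
  by_cases hw : w = 1 ∨ w = z
  · rcases hw with rfl | rfl
    · rw [T_of_comm (by simp), δ_one]; simp
    · rw [T_of_comm (by simp [hρ]), h.δ_z, hρ]; simp
  rw [δ_of_not hw]
  obtain ⟨y₀, hy⟩ : ∃ y₀, ¬ w * y₀ = y₀ * w := not_forall.1 fun a => hw (h.nd w a)
  have e : y₀ * w = z * (w * y₀) := (h.comm y₀ w).resolve_left fun a => hy a.symm
  have e2 : T ρ (ρ w) = - T ρ (ρ w) := by
    rw [T_apply, ← Finset.sum_neg_distrib, ← Equiv.sum_comp (Equiv.mulRight y₀)]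
    refine Finset.sum_congr rfl fun y _ => ?_
    have : y * y₀ * w * (y * y₀)⁻¹ = z * (y * w * y⁻¹) := by
      rw [mul_assoc y, e, ← mul_assoc y, ← h.cen]; group
    simp only [Equiv.coe_mulRight, ← map_mul]
    rw [this, map_mul, hρ, neg_one_mul]
  have e3 : (2 : ℂ) • T ρ (ρ w) = 0 := by rw [two_smul]; nth_rw 1 [e2]; simp
  simpa using (smul_eq_zero.1 e3).resolve_left two_ne_zero

theorem card_ne : (Fintype.card F : ℂ) ≠ 0 := Nat.cast_ne_zero.2 Fintype.card_ne_zero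

theorem scalar (h : Nd z) (hρ : ρ z = -1) {a : A} (ha : Impl ρ ⊤ 1 a) :
    ∃ c : ℂ, a = c • (1 : A) := by
  obtain ⟨c, hc⟩ : ∃ c : ℂ, T ρ a = c • (1 : A) :=
    Sp_ind (P := fun a => ∃ c : ℂ, T ρ a = c • (1 : A)) (fun x _ => ⟨_, T_rho h hρ x⟩)
      ⟨0, by simp⟩ (fun a b ⟨c, h⟩ ⟨d, h'⟩ => ⟨c + d, by rw [map_add, h, h', add_smul]⟩)
      (fun c a ⟨d, h⟩ => ⟨c * d, by rw [map_smul, h, smul_smul]⟩) ha.1
  rw [T_of_comm fun y => ha.2 y trivial] at hc
  refine ⟨(Fintype.card F : ℂ)⁻¹ * c, ?_⟩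
  rw [← smul_smul, ← hc, smul_smul, inv_mul_cancel₀ card_ne, one_smul]

theorem Impl.uniq (h : Nd z) (hρ : ρ z = -1) {g : MulAut F} {a b b' : A} (ha : Impl ρ ⊤ g a)
    (hb : Impl ρ ⊤ g⁻¹ b') (e : b * b' = 1) : ∃ c : ℂ, a = c • b := by
  obtain ⟨c, hc⟩ := scalar h hρ (a := b' * a) (by simpa using hb.mul ha)
  exact ⟨c, by rw [← one_mul a, ← e, mul_assoc, hc, mul_smul_comm, mul_one]⟩

/-- candidate implementing elements -/
noncomputable def W (ρ : F →* A) (g : MulAut F) (a : F) : A := ∑ x, ρ (g x * a * x⁻¹)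

theorem W_impl (g : MulAut F) (a : F) : Impl ρ ⊤ g (W ρ g a) := by
  refine ⟨Submodule.sum_mem _ fun x _ => rho_mem trivial, fun y _ => ?_⟩
  rw [W, Finset.sum_mul, Finset.mul_sum, ← Equiv.sum_comp (Equiv.mulLeft y)]
  refine Finset.sum_congr rfl fun x _ => ?_
  simp only [Equiv.coe_mulLeft, ← map_mul]
  congr 1
  rw [map_mul]; group

theorem sum_δ {M : Type*} [AddCommGroup M] [Module ℂ M] (h : Nd z) (f : F → M) :
    ∑ v, (δ z v : ℂ) • f v = f 1 - f z := by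
  classical
  rw [← Finset.sum_subset (Finset.subset_univ {1, z}) fun v _ hv => by
    rw [δ_of_not (by simpa using hv)]; simp, Finset.sum_pair h.ne.symm, δ_one, h.δ_z]
  simp [sub_eq_add_neg]

theorem exists_impl [Nontrivial A] (h : Nd z) (hρ : ρ z = -1) (g : MulAut F) :
    ∃ a b, Impl ρ ⊤ g a ∧ Impl ρ ⊤ g⁻¹ b ∧ a * b = 1 ∧ b * a = 1 := by
  classical
  have key : ∑ a, W ρ g⁻¹ a * W ρ g a⁻¹ =
      ((Fintype.card F : ℂ) * (Fintype.card F * 2)) • (1 : A) := by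
    have e1 : ∀ a, W ρ g⁻¹ a * W ρ g a⁻¹ =
        ∑ x, ∑ y, ρ x * (ρ a * ρ (g (x⁻¹ * y)) * ρ a⁻¹) * ρ y⁻¹ := by
      intro a
      rw [W, W, Finset.sum_mul_sum, ← Equiv.sum_comp g.toEquiv]
      refine Finset.sum_congr rfl fun x _ => Finset.sum_congr rfl fun y _ => ?_
      simp only [← map_mul ρ]
      congr 1
      simp [mul_assoc]
    simp only [e1]
    rw [Finset.sum_comm, Finset.sum_congr rfl (g := fun _ => ((Fintype.card F : ℂ) * 2) • (1 : A))
      fun x _ => ?_]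
    · simp [← Nat.cast_smul_eq_nsmul ℂ, smul_smul]
    rw [Finset.sum_comm, ← Equiv.sum_comp (Equiv.mulLeft x)]
    simp only [← Finset.sum_mul, ← Finset.mul_sum]
    simp only [← T_apply]
    simp only [T_rho h hρ, h.δ_aut,
      Equiv.coe_mulLeft, inv_mul_cancel_left, mul_smul, mul_smul_comm, smul_mul_assoc, mul_one,
      ← Finset.smul_sum, ← map_mul, sum_δ h]
    have : x * (x * z)⁻¹ = z := by rw [← h.cen, mul_inv_rev, h.inv]; group
    rw [this, mul_inv_cancel, map_one, hρ, two_smul, sub_neg_eq_add]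
  obtain ⟨a, ha⟩ : ∃ a, W ρ g⁻¹ a * W ρ g a⁻¹ ≠ 0 := by
    by_contra hc
    push Not at hc
    simp only [hc, Finset.sum_const_zero] at key
    exact smul_ne_zero (mul_ne_zero card_ne (mul_ne_zero card_ne two_ne_zero)) one_ne_zero key.symm
  have h1 := W_impl (ρ := ρ) g⁻¹ a
  have h2 := W_impl (ρ := ρ) g a⁻¹
  obtain ⟨c, hc⟩ := scalar h hρ (a := W ρ g⁻¹ a * W ρ g a⁻¹) (by simpa using h1.mul h2)
  obtain ⟨d, hd⟩ := scalar h hρ (a := W ρ g a⁻¹ * W ρ g⁻¹ a) (by simpa using h2.mul h1)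
  have hc0 : c ≠ 0 := by rintro rfl; exact ha (by simpa using hc)
  have hcd : d = c := by
    have e : c • W ρ g⁻¹ a * W ρ g a⁻¹ = d • W ρ g⁻¹ a * W ρ g a⁻¹ := by
      congr 1
      calc c • W ρ g⁻¹ a = W ρ g⁻¹ a * W ρ g a⁻¹ * W ρ g⁻¹ a := by rw [hc]; simp
        _ = _ := by rw [mul_assoc, hd]; simp
    rw [smul_mul_assoc, smul_mul_assoc] at e
    exact (smul_left_injective ℂ ha e).symm
  refine ⟨_, c⁻¹ • W ρ g⁻¹ a, h2, h1.smul _, ?_, ?_⟩
  · rw [mul_smul_comm, hd, hcd, smul_smul, inv_mul_cancel₀ hc0, one_smul]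
  · rw [smul_mul_assoc, hc, smul_smul, inv_mul_cancel₀ hc0, one_smul]

/-- extension over a cyclic quotient -/
theorem Good.ext (h : Nd z) (hρ : ρ z = -1) {M X : Subgroup (MulAut F)} {U : MulAut F → A}
    (hU : Good ρ ⊤ M U) {s : MulAut F} (hs : ∀ m ∈ M, s * m * s⁻¹ ∈ M)
    (hX : ∀ x ∈ X, ∃ m ∈ M, ∃ i : ℕ, x = m * s ^ i) {a b : A} (ha : Impl ρ ⊤ s a)
    (hb : Impl ρ ⊤ s⁻¹ b) (hab : a * b = 1) (hba : b * a = 1)
    (hinv : ∀ m ∈ M, a * U m = U (s * m * s⁻¹) * a) : ∃ V, Good ρ ⊤ X V := by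
  classical
  haveI : Finite (MulAut F) := inferInstance
  have hex : ∃ n, 0 < n ∧ s ^ n ∈ M := ⟨orderOf s, orderOf_pos s, by simp [M.one_mem]⟩
  obtain ⟨n, ⟨hn0, hnM⟩, hmin⟩ : ∃ n, (0 < n ∧ s ^ n ∈ M) ∧ ∀ m < n, ¬ (0 < m ∧ s ^ m ∈ M) :=
    ⟨Nat.find hex, Nat.find_spec hex, fun m hm => Nat.find_min hex hm⟩
  have hUi : ∀ m ∈ M, U m * U m⁻¹ = 1 := fun m hm => by
    rw [← hU.mul m hm _ (inv_mem hm), mul_inv_cancel, hU.one]
  obtain ⟨c, hc⟩ := (ha.pow n).uniq h hρ (hU.impl _ (inv_mem hnM)) (hUi _ hnM)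
  have hab' : ∀ i : ℕ, a ^ i * b ^ i = 1 := fun i => by
    rw [← (Commute.mul_pow (hab.trans hba.symm) i), hab, one_pow]
  obtain ⟨l, hl⟩ := IsAlgClosed.exists_pow_nat_eq c⁻¹ hn0
  obtain ⟨w, hw⟩ : ∃ w, w = l • a := ⟨_, rfl⟩
  rcases subsingleton_or_nontrivial A with hA | hA
  · exact ⟨fun _ => 1, rfl, fun _ _ _ _ => Subsingleton.elim _ _, fun _ _ =>
      ⟨one_mem_Sp _, fun _ _ => Subsingleton.elim _ _⟩⟩
  have hc0 : c ≠ 0 := by
    rintro rfl
    have := hab' n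
    rw [hc] at this
    simp at this
  have hwn : w ^ n = U (s ^ n) := by
    rw [hw, smul_pow, hl, hc, smul_smul, inv_mul_cancel₀ hc0, one_smul]
  have hwi : Impl ρ ⊤ s w := hw ▸ ha.smul l
  have hsi : ∀ i : ℕ, ∀ m ∈ M, s ^ i * m * (s ^ i)⁻¹ ∈ M ∧
      w ^ i * U m = U (s ^ i * m * (s ^ i)⁻¹) * w ^ i := by
    intro i m hm
    induction i with
    | zero => simpa using hm
    | succ i ih =>
      have e : s ^ (i + 1) * m * (s ^ (i + 1))⁻¹ = s * (s ^ i * m * (s ^ i)⁻¹) * s⁻¹ := by group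
      refine ⟨e ▸ hs _ ih.1, ?_⟩
      rw [e, pow_succ', mul_assoc, ih.2, ← mul_assoc, ← mul_assoc]
      congr 1
      rw [hw, smul_mul_assoc, mul_smul_comm, hinv _ ih.1]
  have hk : ∀ k : ℕ, s ^ k ∈ M → w ^ k = U (s ^ k) := by
    intro k hk
    have hq : ∀ q : ℕ, w ^ (n * q) = U (s ^ (n * q)) := fun q => by
      induction q with
      | zero => simpa using hU.one.symm
      | succ q ih =>
        rw [mul_add, mul_one, pow_add, pow_add, ih, hwn,
          hU.mul _ (by rw [pow_mul]; exact pow_mem hnM q) _ hnM]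
    have h0 : k % n = 0 := by
      by_contra h0
      refine hmin _ (Nat.mod_lt k hn0) ⟨Nat.pos_of_ne_zero h0, ?_⟩
      rw [← Nat.div_add_mod k n, pow_add, pow_mul] at hk
      exact (M.mul_mem_cancel_left (pow_mem hnM _)).1 hk
    obtain ⟨q, rfl⟩ := Nat.dvd_of_mod_eq_zero h0
    exact hq q
  have hwd : ∀ m ∈ M, ∀ m' ∈ M, ∀ i j : ℕ, m * s ^ i = m' * s ^ j → U m * w ^ i = U m' * w ^ j := by
    have aux : ∀ m ∈ M, ∀ m' ∈ M, ∀ i k : ℕ, m * s ^ i = m' * s ^ (k + i) →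
        U m * w ^ i = U m' * w ^ (k + i) := by
      intro m hm m' hm' i k e
      rw [pow_add, ← mul_assoc, mul_left_inj] at e
      have hk' : s ^ k ∈ M := (M.mul_mem_cancel_left hm').1 (e ▸ hm)
      rw [pow_add, ← mul_assoc, hk k hk', ← hU.mul _ hm' _ hk', e]
    intro m hm m' hm' i j e
    rcases le_total i j with hij | hij
    · obtain ⟨k, rfl⟩ := Nat.exists_eq_add_of_le' hij
      exact aux m hm m' hm' i k e
    · obtain ⟨k, rfl⟩ := Nat.exists_eq_add_of_le' hij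
      exact (aux m' hm' m hm j k e.symm).symm
  choose! fm hfm fi hfi using hX
  refine ⟨fun x => U (fm x) * w ^ fi x, ?_, fun x hx y hy => ?_, fun x hx => ?_⟩
  · rw [hwd _ (hfm 1 X.one_mem) 1 M.one_mem _ 0 (by rw [← hfi 1 X.one_mem]; simp), hU.one]; simp
  · obtain ⟨h1, h2⟩ := hsi (fi x) _ (hfm y hy)
    rw [hwd _ (hfm _ (mul_mem hx hy)) _ (mul_mem (hfm x hx) h1) _ (fi x + fi y) (by
      rw [← hfi _ (mul_mem hx hy)]
      conv_lhs => rw [hfi x hx, hfi y hy]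
      group), hU.mul _ (hfm x hx) _ h1, pow_add, mul_assoc, ← mul_assoc (U _) (w ^ _), ← h2]
    simp only [mul_assoc]
  · have := (hU.impl _ (hfm x hx)).mul (hwi.pow (fi x))
    rwa [← hfi x hx] at this

end Fin

end Cfsg.Lib.Block2.DX
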