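import Cfsg.Agent.Lib.Block2.DX1

/-! Products, swaps and the base case for multiplicative implementing elements. -/

set_option autoImplicit false
set_option linter.unusedSectionVars false

open Subgroup

namespace Cfsg.Lib.Block2.DX

variable {F : Type*} [Group F] {A : Type*} [Ring A] [Algebra ℂ A] {z : F} {ρ : F →* A}

theorem Good.prod {H₁ H₂ : Subgroup F} {X : Subgroup (MulAut F)} {U₁ U₂ : MulAut F → A}
    (hc : ∀ x ∈ H₁, ∀ y ∈ H₂, x * y = y * x) (htop : ∀ y, ∃ a ∈ H₁, ∃ b ∈ H₂, y = a * b)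
    (h1 : ∀ g ∈ X, ∀ y ∈ H₁, g y ∈ H₁) (hU₁ : Good ρ H₁ X U₁) (hU₂ : Good ρ H₂ X U₂) :
    Good ρ ⊤ X fun g => U₁ g * U₂ g := by
  refine ⟨by rw [hU₁.one, hU₂.one, one_mul], fun a ha b hb => ?_, fun a ha =>
    ⟨Sp_mul (Sp_mono le_top (hU₁.impl a ha).1) (Sp_mono le_top (hU₂.impl a ha).1), fun y _ => ?_⟩⟩
  · rw [hU₁.mul a ha b hb, hU₂.mul a ha b hb, mul_assoc, ← mul_assoc (U₁ b),
      Sp_comm₂ hc (hU₁.impl b hb).1 (hU₂.impl a ha).1]
    simp only [mul_assoc]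
  · obtain ⟨x, hx, y, hy, rfl⟩ := htop y
    rw [map_mul, mul_assoc, ← mul_assoc (U₂ a), ← Sp_comm₂ hc (rho_mem hx) (hU₂.impl a ha).1,
      mul_assoc, (hU₂.impl a ha).2 y hy, ← mul_assoc, (hU₁.impl a ha).2 x hx, map_mul, map_mul,
      mul_assoc, mul_assoc, ← mul_assoc (U₁ a), ← mul_assoc (ρ (a y))]
    congr 2
    by_cases hay : a y ∈ H₂
    · exact Sp_comm₂ hc (hU₁.impl a ha).1 (rho_mem hay)
    · refine Sp_comm (hU₁.impl a ha).1 fun w hw => ?_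
      have := hc _ (h1 _ (inv_mem ha) w hw) y hy
      rw [← map_mul, ← map_mul, ← MulAut.apply_inv_self F a w, ← map_mul a, this, map_mul a]

variable [Fintype F]

theorem Good.swap [Nontrivial A] (h : Nd z) (hρ : ρ z = -1) {H₁ H₂ : Subgroup F}
    {M X : Subgroup (MulAut F)} {U : MulAut F → A} {s : MulAut F}
    (hs : ∀ m ∈ M, s * m * s⁻¹ ∈ M) (hs' : ∀ m ∈ M, s⁻¹ * m * s ∈ M) (hss : s * s ∈ M)
    (hX : ∀ x ∈ X, x ∈ M ∨ x * s⁻¹ ∈ M) (h12 : ∀ y, y ∈ H₂ ↔ s⁻¹ y ∈ H₁)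
    (hc : ∀ x ∈ H₁, ∀ y ∈ H₂, x * y = y * x) (htop : ∀ y, ∃ a ∈ H₁, ∃ b ∈ H₂, y = a * b)
    (h1 : ∀ g ∈ M, ∀ y ∈ H₁, g y ∈ H₁) (hU : Good ρ H₁ M U) : ∃ V, Good ρ ⊤ X V := by
  obtain ⟨a, b, ha, hb, hab, hba⟩ := exists_impl h hρ s
  have hsp : ∀ c ∈ Sp ρ H₁, a * c * b ∈ Sp ρ H₂ := fun c hc =>
    Sp_ind (P := fun c => a * c * b ∈ Sp ρ H₂) (fun x hx => by
        rw [ha.2 x trivial, mul_assoc, hab, mul_one]; exact rho_mem ((h12 _).2 (by simpa using hx)))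
      (by simp) (fun a a' h h' => by rw [mul_add, add_mul]; exact add_mem h h')
      (fun c a h => by rw [mul_smul_comm, smul_mul_assoc]; exact Submodule.smul_mem _ c h) hc
  have hU2 : Good ρ H₂ M fun m => a * U (s⁻¹ * m * s) * b := by
    refine ⟨by simp [hU.one, hab], fun m hm m' hm' => ?_, fun m hm =>
      ⟨hsp _ (hU.impl _ (hs' m hm)).1, fun y hy => ?_⟩⟩
    · rw [show s⁻¹ * (m * m') * s = s⁻¹ * m * s * (s⁻¹ * m' * s) by group,
        hU.mul _ (hs' m hm) _ (hs' m' hm')]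
      simp only [mul_assoc]
      rw [← mul_assoc b, hba, one_mul]
    · rw [mul_assoc, hb.2 y trivial, ← mul_assoc, mul_assoc a,
        (hU.impl _ (hs' m hm)).2 _ ((h12 y).1 hy), ← mul_assoc, ha.2 _ trivial]
      simp [mul_assoc]
  refine (hU.prod hc htop h1 hU2).ext h hρ hs (fun x hx => ?_) ha hb hab hba fun m hm => ?_
  · rcases hX x hx with hx | hx
    · exact ⟨x, hx, 0, by simp⟩
    · exact ⟨_, hx, 1, by simp⟩
  have hUi : U (s * s) * U (s * s)⁻¹ = 1 := by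
    rw [← hU.mul _ hss _ (inv_mem hss), mul_inv_cancel, hU.one]
  have e : ∀ c ∈ Sp ρ H₁, a * (a * c * b) * b = U (s * s) * c * U (s * s)⁻¹ := fun c hc =>
    Sp_ind (P := fun c => a * (a * c * b) * b = U (s * s) * c * U (s * s)⁻¹) (fun x hx => by
        rw [ha.2 x trivial, mul_assoc _ a b, hab, mul_one, ha.2 _ trivial, mul_assoc _ a b, hab,
          (hU.impl _ hss).2 x hx, mul_assoc _ (U _), hUi]; rfl)
      (by simp) (fun a a' h h' => by simp only [mul_add, add_mul, h, h'])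
      (fun c a h => by simp only [mul_smul_comm, smul_mul_assoc, h]) hc
  have e2 := e _ (hU.impl _ (hs' m hm)).1
  rw [← hU.mul _ hss _ (hs' m hm), ← hU.mul _ (mul_mem hss (hs' m hm)) _ (inv_mem hss),
    show s * s * (s⁻¹ * m * s) * (s * s)⁻¹ = s * m * s⁻¹ by group] at e2
  rw [show s⁻¹ * (s * m * s⁻¹) * s = m by group,
    Sp_comm₂ hc (hU.impl _ (hs m hm)).1 (hsp _ (hU.impl m hm).1), ← e2]
  simp only [mul_assoc]
  rw [hba, mul_one, ← mul_assoc b a, hba, one_mul]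

/-- strongly fixed point free automorphisms -/
def Fp (z : F) (g : MulAut F) : Prop := ∀ x, (g x * x⁻¹ = 1 ∨ g x * x⁻¹ = z) → x = 1 ∨ x = z

noncomputable def Nn (z : F) (g h : MulAut F) : ℤ :=
  ∑ p : F × F, δ z (g p.1 * p.1⁻¹ * (h p.2 * p.2⁻¹))

theorem sum_fp (h : Nd z) {g : MulAut F} (hg : Fp z g) : ∑ x, δ z (g x * x⁻¹) = 2 := by
  classical
  rw [← Finset.sum_subset (Finset.subset_univ {1, z}) fun v _ hv =>
    δ_of_not fun a => hv (by simpa using hg v a), Finset.sum_pair h.ne.symm, h.aut]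
  simp [δ_one]

theorem T_W (h : Nd z) (hρ : ρ z = -1) {g : MulAut F} (hg : Fp z g) :
    T ρ (W ρ g 1) = ((Fintype.card F : ℂ) * 2) • (1 : A) := by
  simp only [W, mul_one, map_sum, T_rho h hρ, ← Finset.sum_smul, ← Finset.mul_sum]
  rw [← Int.cast_sum, sum_fp h hg]; simp

theorem T_WW (h : Nd z) (hρ : ρ z = -1) (g g' : MulAut F) :
    T ρ (W ρ g 1 * W ρ g' 1) = ((Fintype.card F : ℂ) * Nn z g g') • (1 : A) := by
  simp only [W, mul_one, Finset.sum_mul_sum, ← map_mul ρ, map_sum, T_rho h hρ, ← Finset.sum_smul,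
    ← Finset.mul_sum, Nn, Fintype.sum_prod_type, Int.cast_sum]

theorem Nn_inv (h : Nd z) (g g' : MulAut F) : Nn z g'⁻¹ g⁻¹ = Nn z g g' := by
  rw [Nn, Nn, ← Equiv.sum_comp ((Equiv.prodComm F F).trans (g'.toEquiv.prodCongr g.toEquiv))]
  refine Finset.sum_congr rfl fun p _ => ?_
  rw [← h.δ_inv]
  congr 1
  simp [mul_assoc]

theorem Nn_self (h : Nd z) {g : MulAut F} (hg : Fp z g) : Nn z g g⁻¹ = Fintype.card F * 2 := by
  rw [Nn, Fintype.sum_prod_type_right, ← Equiv.sum_comp g.toEquiv,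
    Finset.sum_congr rfl (g := fun _ => 2) fun y _ => ?_]
  · simp
  rw [← sum_fp h hg, ← Equiv.sum_comp (Equiv.mulLeft y)]
  refine Finset.sum_congr rfl fun x _ => ?_
  rw [← h.δ_aut (MulAut.conj (g y)) (g x * x⁻¹)]
  congr 1
  simp [mul_assoc]

theorem WW_self [Nontrivial A] (h : Nd z) (hρ : ρ z = -1) {g : MulAut F} (hg : Fp z g) :
    W ρ g 1 * W ρ g⁻¹ 1 = ((Fintype.card F : ℂ) * 2) • (1 : A) := by
  have hi : Impl ρ ⊤ 1 (W ρ g 1 * W ρ g⁻¹ 1) := by simpa using (W_impl g 1).mul (W_impl g⁻¹ 1)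
  have e := T_WW h hρ g g⁻¹
  rw [T_of_comm fun y => hi.2 y trivial, Nn_self h hg, mul_smul] at e
  simpa using smul_right_injective A card_ne e

theorem WW_eq [Nontrivial A] (h : Nd z) (hρ : ρ z = -1) {g g' : MulAut F} (hg : Fp z (g * g')) :
    W ρ g 1 * W ρ g' 1 = ((Nn z g g' : ℂ) / 2) • W ρ (g * g') 1 := by
  have h2 : (Fintype.card F : ℂ) * 2 ≠ 0 := mul_ne_zero card_ne two_ne_zero
  obtain ⟨c, hc⟩ := ((W_impl g 1).mul (W_impl g' 1)).uniq h hρ (b := W ρ (g * g') 1)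
    ((W_impl (g * g')⁻¹ 1).smul ((Fintype.card F : ℂ) * 2)⁻¹)
    (by rw [mul_smul_comm, WW_self h hρ hg, smul_smul, inv_mul_cancel₀ h2, one_smul])
  have e := T_WW h hρ g g'
  rw [hc, map_smul, T_W h hρ hg, smul_smul] at e
  have e2 := smul_left_injective ℂ (one_ne_zero (α := A)) e
  have : c = (Nn z g g' : ℂ) / 2 := by
    have := card_ne (F := F)
    field_simp at e2 ⊢
    exact e2
  rw [hc, this]

theorem Fp.inv (h : Nd z) {g : MulAut F} (hg : Fp z g) : Fp z g⁻¹ := by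
  intro x hx
  obtain ⟨x, rfl⟩ := g.surjective x
  have : x = 1 ∨ x = z := hg x (by
    rw [← inv_inj, ← inv_inj (b := z), h.inv]; simpa using hx)
  rcases this with rfl | rfl
  · simp
  · exact Or.inr (h.aut g)

theorem Nn_sq [Nontrivial A] (h : Nd z) (hρ : ρ z = -1) {g g' : MulAut F} (h1 : Fp z g)
    (h2 : Fp z g') (hg : Fp z (g * g')) : Nn z g g' ^ 2 = Fintype.card F * 8 := by
  have e : W ρ g 1 * W ρ g' 1 * (W ρ g'⁻¹ 1 * W ρ g⁻¹ 1) =
      ((Fintype.card F : ℂ) * 2 * (Fintype.card F * 2)) • (1 : A) := by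
    rw [mul_assoc, ← mul_assoc (W ρ g' 1), WW_self h hρ h2, smul_mul_assoc, one_mul,
      mul_smul_comm, WW_self h hρ h1, smul_smul]
  rw [WW_eq h hρ hg, WW_eq h hρ (by rw [← mul_inv_rev]; exact hg.inv h), Nn_inv h, ← mul_inv_rev,
    smul_mul_assoc, mul_smul_comm, WW_self h hρ hg, smul_smul, smul_smul] at e
  have e2 := smul_left_injective ℂ (one_ne_zero (α := A)) e
  have := card_ne (F := F)
  have e3 : (Nn z g g' : ℂ) ^ 2 = Fintype.card F * 8 := by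
    field_simp at e2
    linear_combination e2
  exact_mod_cast e3

theorem Nn_mod (h : Nd z) {r : ℕ} [Fact r.Prime] {L : Subgroup (MulAut F)} (hL : IsPGroup r L)
    (hf : ∀ x, (∀ l ∈ L, l x = x) → x = 1 ∨ x = z) {g g' : MulAut F}
    (hg : ∀ l ∈ L, l * g = g * l) (hg' : ∀ l ∈ L, l * g' = g' * l) : (Nn z g g' : ZMod r) = 4 := by
  classical
  rw [Nn, Int.cast_sum, sum_eq_sum_fixed hL (MulAction.toPermHom L (F × F)) _
    (fun _ _ _ => Finset.mem_univ _) _ fun l p _ => ?_]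
  · have e : Finset.univ.filter (fun p : F × F => ∀ l : L, MulAction.toPermHom L (F × F) l p = p) =
        ({1, z} : Finset F) ×ˢ ({1, z} : Finset F) := by
      ext p
      simp only [Finset.mem_filter, Finset.mem_univ, true_and, Finset.mem_product,
        Finset.mem_insert, Finset.mem_singleton]
      refine ⟨fun a => ⟨hf _ fun l hl => congrArg Prod.fst (a ⟨l, hl⟩),
        hf _ fun l hl => congrArg Prod.snd (a ⟨l, hl⟩)⟩, fun a l => Prod.ext ?_ ?_⟩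
      · change l.1 p.1 = p.1
        rcases a.1 with a | a <;> rw [a] <;> simp [h.aut]
      · change l.1 p.2 = p.2
        rcases a.2 with a | a <;> rw [a] <;> simp [h.aut]
    refine Eq.trans (Finset.sum_congr (s₂ := ({1, z} : Finset F) ×ˢ ({1, z} : Finset F))
      (by convert e) fun _ _ => rfl) ?_
    rw [Finset.sum_product, Finset.sum_pair h.ne.symm, Finset.sum_pair h.ne.symm,
      Finset.sum_pair h.ne.symm]
    simp [h.aut, δ_one]; norm_num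
  · rw [← h.δ_aut l.1 (g p.1 * p.1⁻¹ * (g' p.2 * p.2⁻¹))]
    change ((δ z (g (l.1 p.1) * (l.1 p.1)⁻¹ * (g' (l.1 p.2) * (l.1 p.2)⁻¹)) : ℤ) : ZMod r) = _
    rw [← MulAut.mul_apply, ← MulAut.mul_apply _ g', ← hg l l.2, ← hg' l l.2]
    simp

theorem base [Nontrivial A] (h : Nd z) (hρ : ρ z = -1) {r : ℕ} [hr : Fact r.Prime] (hr2 : r ≠ 2)
    {L X : Subgroup (MulAut F)} (hL : Nat.card L = r)
    (hf : ∀ l ∈ L, l ≠ 1 → ∀ x, l x = x → x = 1 ∨ x = z) (hX : IsPGroup 2 X)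
    (hXL : X ≤ normalizer (L : Set (MulAut F))) : ∃ V, Good ρ ⊤ X V := by
  haveI : IsCyclic L := isCyclic_of_prime_card hL
  have hLp : IsPGroup r L := IsPGroup.of_card (n := 1) (by simpa using hL)
  have hLc : ∀ a ∈ L, ∀ b ∈ L, a * b = b * a := fun a ha b hb =>
    congrArg Subtype.val (mul_comm' (⟨a, ha⟩ : L) ⟨b, hb⟩)
  have hpow : ∀ l ∈ L, l ≠ 1 → ∀ n : ℕ, l ^ 2 ^ n ≠ 1 := fun l hl h1 n e => by
    have h2 : orderOf l = r := by
      rw [← orderOf_mk l hl]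
      exact orderOf_eq_prime (by rw [← hL]; exact pow_card_eq_one') (by simpa using h1)
    exact hr2 ((Nat.prime_dvd_prime_iff_eq hr.out Nat.prime_two).1
      (hr.out.dvd_of_dvd_pow (h2 ▸ orderOf_dvd_of_pow_eq_one e)))
  obtain ⟨k, hkL, hk1⟩ : ∃ k ∈ L, k ≠ 1 := by
    rcases L.bot_or_exists_ne_one with rfl | a
    · exact absurd (by simpa using hL.symm) hr.out.one_lt.ne'
    · exact a
  obtain ⟨T, hT⟩ : ∃ T, T = X ⊓ centralizer (L : Set (MulAut F)) := ⟨_, rfl⟩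
  have hTc : ∀ t ∈ T, ∀ l ∈ L, l * t = t * l := fun t ht l hl => (hT ▸ ht).2 l hl
  have hfp : ∀ t ∈ T, ∀ l ∈ L, l ≠ 1 → Fp z (t * l) := by
    intro t ht l hl h1 x hx
    obtain ⟨n, hn⟩ := hX ⟨t, (hT ▸ ht).1⟩
    replace hn : t ^ 2 ^ n = 1 := congrArg Subtype.val hn
    have e : ((t * l) ^ 2) x = x := by
      rw [pow_two, MulAut.mul_apply]
      rcases hx with hx | hx <;> rw [mul_inv_eq_iff_eq_mul] at hx
      · rw [one_mul] at hx; rw [hx, hx]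
      · rw [hx, map_mul, hx, h.aut, ← mul_assoc, h.sq, one_mul]
    have e2 : ∀ j : ℕ, (((t * l) ^ 2) ^ j) x = x := fun j => by
      induction j with
      | zero => rfl
      | succ j ih => rw [pow_succ, MulAut.mul_apply, e, ih]
    refine hf _ (pow_mem hl _) (hpow l hl h1 (n + 1)) x ?_
    have := e2 (2 ^ n)
    rwa [← pow_mul, Commute.mul_pow (hTc t ht l hl).symm, mul_comm 2, pow_mul t, hn, one_pow,
      one_mul, ← pow_succ] at this
  have hk2 : k * k ≠ 1 := by simpa [pow_two] using hpow k hkL hk1 1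
  have hfix : ∀ x, (∀ l ∈ L, l x = x) → x = 1 ∨ x = z := fun x hx => hf k hkL hk1 x (hx k hkL)
  have hcm : ∀ t ∈ T, ∀ l ∈ L, ∀ l' ∈ L, l' * (t * l) = t * l * l' := fun t ht l hl l' hl' => by
    rw [← mul_assoc, hTc t ht l' hl', mul_assoc, hLc l' hl' l hl, mul_assoc]
  have hmul : ∀ t ∈ T, ∀ l ∈ L, ∀ t' ∈ T, ∀ l' ∈ L, t * l * (t' * l') = t * t' * (l * l') :=
    fun t ht l hl t' ht' l' hl' => by
      rw [mul_assoc, ← mul_assoc l, hTc t' ht' l hl]; simp only [mul_assoc]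
  have hN : ∀ t ∈ T, ∀ l ∈ L, ∀ t' ∈ T, ∀ l' ∈ L, l ≠ 1 → l' ≠ 1 → l * l' ≠ 1 →
      Nn z (t * l) (t' * l') ^ 2 = Fintype.card F * 8 ∧ (Nn z (t * l) (t' * l') : ZMod r) = 4 :=
    fun t ht l hl t' ht' l' hl' a b c => ⟨Nn_sq h hρ (hfp t ht l hl a) (hfp t' ht' l' hl' b) (by
      rw [hmul t ht l hl t' ht' l' hl']; exact hfp _ (mul_mem ht ht') _ (mul_mem hl hl') c),
      Nn_mod h hLp hfix (hcm t ht l hl) (hcm t' ht' l' hl')⟩
  obtain ⟨N, hNd⟩ : ∃ N, N = Nn z (1 * k) (1 * k) := ⟨_, rfl⟩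
  obtain ⟨hN1, hN2⟩ := hN 1 T.one_mem k hkL 1 T.one_mem k hkL hk1 hk1 hk2
  rw [← hNd] at hN1 hN2
  have hNc : (N : ℂ) ^ 2 = Fintype.card F * 8 := by exact_mod_cast hN1
  have hN0 : (N : ℂ) ≠ 0 := fun a => by
    rw [a] at hNc
    exact mul_ne_zero (card_ne (F := F)) (by norm_num) (hNc.symm.trans (by norm_num))
  obtain ⟨σ, hσ⟩ : ∃ σ : MulAut F → A, ∀ g, σ g = (2 / N : ℂ) • W ρ g 1 := ⟨_, fun _ => rfl⟩
  have hσi : ∀ g, Impl ρ ⊤ g (σ g) := fun g => by rw [hσ]; exact (W_impl g 1).smul _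
  have hσm : ∀ t ∈ T, ∀ l ∈ L, ∀ t' ∈ T, ∀ l' ∈ L, l ≠ 1 → l' ≠ 1 → l * l' ≠ 1 →
      σ (t * l) * σ (t' * l') = σ (t * t' * (l * l')) := by
    intro t ht l hl t' ht' l' hl' a b c
    obtain ⟨e1, e2⟩ := hN t ht l hl t' ht' l' hl' a b c
    have e3 : Nn z (t * l) (t' * l') = N := by
      refine (sq_eq_sq_iff_eq_or_eq_neg.1 (e1.trans hN1.symm)).resolve_right fun e => ?_
      rw [e, Int.cast_neg, hN2] at e2
      have : ((2 ^ 3 : ℕ) : ZMod r) = 0 := by push_cast; linear_combination -e2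
      exact hr2 ((Nat.prime_dvd_prime_iff_eq hr.out Nat.prime_two).1
        (hr.out.dvd_of_dvd_pow ((ZMod.natCast_eq_zero_iff _ _).1 this)))
    rw [hσ, hσ, hσ, smul_mul_assoc, mul_smul_comm, WW_eq h hρ (by
      rw [hmul t ht l hl t' ht' l' hl']; exact hfp _ (mul_mem ht ht') _ (mul_mem hl hl') c), e3,
      hmul t ht l hl t' ht' l' hl', smul_smul, smul_smul]
    congr 1
    field_simp
  have hki : k⁻¹ ≠ 1 := inv_ne_one.2 hk1
  have hkiL := inv_mem hkL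
  have hU : Good ρ ⊤ T fun t => σ (t * k) * σ (1 * k⁻¹) := by
    refine ⟨?_, fun t ht t' ht' => ?_, fun t ht => ?_⟩
    · rw [hσ, hσ, smul_mul_assoc, mul_smul_comm, one_mul, one_mul,
        WW_self h hρ (by simpa using hfp 1 T.one_mem k hkL hk1), smul_smul, smul_smul]
      rw [show 2 / (N : ℂ) * (2 / N) * (Fintype.card F * 2) = 1 by
        field_simp; linear_combination -hNc, one_smul]
    · have a1 := hσm 1 T.one_mem (k * k) (mul_mem hkL hkL) t' ht' k⁻¹ hkiL hk2 hki (by simpa using hk1)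
      have a2 := hσm 1 T.one_mem k⁻¹ hkiL 1 T.one_mem (k * k) (mul_mem hkL hkL) hki hk2
        (by simpa using hk1)
      have a3 := hσm t ht k hkL 1 T.one_mem k hkL hk1 hk1 hk2
      have a4 := hσm t ht (k * k) (mul_mem hkL hkL) t' ht' k⁻¹ hkiL hk2 hki (by simpa using hk1)
      simp only [one_mul, mul_one, mul_inv_cancel_right, inv_mul_cancel_left] at a1 a2 a3 a4 ⊢
      rw [← a4, ← a3, ← a1, ← mul_assoc, ← mul_assoc, mul_assoc _ (σ k⁻¹), a2]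
    · simpa using (hσi (t * k)).mul (hσi (1 * k⁻¹))
  haveI : IsCyclic (ZMod (Nat.card L))ˣ := by rw [hL]; exact ZMod.isCyclic_units_prime hr.out
  haveI : IsCyclic (MulAut L) := (IsCyclic.mulAutMulEquiv L).isCyclic.2 inferInstance
  obtain ⟨s, -, hs⟩ := Coprime.exists_zpowers_sup_ker (Coprime.conjAut hXL) ⊤ inferInstance
  rw [Coprime.ker_conjAut, top_inf_eq] at hs
  obtain ⟨a, b, ha, hb, hab, hba⟩ := exists_impl h hρ s.1
  have hsT : ∀ s ∈ X, ∀ m ∈ T, s * m * s⁻¹ ∈ T := fun s hs m hm => by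
    rw [hT] at hm ⊢
    exact ⟨X.mul_mem (X.mul_mem hs hm.1) (X.inv_mem hs), Coprime.conj_mem (hXL.trans
      (Coprime.normalizer_le_normalizer_centralizer_set _)) hs hm.2⟩
  refine hU.ext h hρ (hsT s.1 s.2) (fun x hx => ?_) ha hb hab hba fun m hm => ?_
  · haveI : ((centralizer (L : Set (MulAut F))).subgroupOf X).Normal := by
      rw [← Coprime.ker_conjAut hXL]; infer_instance
    have : (⟨x, hx⟩ : X) ∈ (centralizer (L : Set (MulAut F))).subgroupOf X ⊔ zpowers s := by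
      rw [sup_comm, hs]; trivial
    obtain ⟨m, hm, y, hy, e⟩ := mem_sup_of_normal_left.1 this
    obtain ⟨i, rfl⟩ := mem_powers_iff_mem_zpowers.2 hy
    exact ⟨m, hT ▸ ⟨m.2, hm⟩, i, (congrArg Subtype.val e).symm⟩
  have hW : ∀ g, a * σ g = σ (s.1 * g * s.1⁻¹) * a := fun g => by
    rw [hσ, hσ, mul_smul_comm, smul_mul_assoc, W, W, Finset.mul_sum, Finset.sum_mul,
      ← Equiv.sum_comp s.1.toEquiv fun x => ρ ((s.1 * g * s.1⁻¹) x * 1 * x⁻¹) * a]
    congr 1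
    refine Finset.sum_congr rfl fun x _ => ?_
    rw [ha.2 _ trivial]
    simp
  have hlL : s.1 * k * s.1⁻¹ ∈ L := Coprime.conj_mem hXL s.2 hkL
  have hl1 : s.1 * k * s.1⁻¹ ≠ 1 := by simpa [mul_inv_eq_one] using hk1
  rw [← mul_assoc, hW, mul_assoc, hW, ← mul_assoc,
    show s.1 * (m * k) * s.1⁻¹ = s.1 * m * s.1⁻¹ * (s.1 * k * s.1⁻¹) by group,
    show s.1 * (1 * k⁻¹) * s.1⁻¹ = 1 * (s.1 * k * s.1⁻¹)⁻¹ by group]
  congr 1
  generalize s.1 * k * s.1⁻¹ = l at hlL hl1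
  by_cases e : l = k
  · rw [e]
  have hm1 : k⁻¹ * l ≠ 1 := fun a => e (inv_mul_eq_one.1 a).symm
  have hk' : k⁻¹ * l * l⁻¹ = k⁻¹ := by group
  have a1 := hσm _ (hsT s.1 s.2 m hm) k hkL 1 T.one_mem _ (mul_mem hkiL hlL) hk1 hm1
    (by simpa using hl1)
  have a2 := hσm 1 T.one_mem _ (mul_mem hkiL hlL) 1 T.one_mem _ (inv_mem hlL) hm1
    (inv_ne_one.2 hl1) (by rwa [hk'])
  simp only [one_mul, mul_one, mul_inv_cancel_left, hk'] at a1 a2 ⊢
  rw [← a1, mul_assoc, a2]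

end Cfsg.Lib.Block2.DX
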