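import Cfsg.Agent.Lib.Block2.DX2
import Cfsg.Agent.Lib.Coprime.Generation
import Cfsg.Agent.Lib.FT.Sec14d

/-! The induction for Dade's extension theorem. -/

set_option autoImplicit false
set_option linter.unusedSectionVars false

open Subgroup Cfsg.Lib.Coprime

namespace Cfsg.Lib.Block2.DX

universe u

variable {A : Type*} [Ring A] [Algebra ℂ A] [Nontrivial A]

theorem idx2 {G : Type*} [Group G] [Finite G] {X Y : Subgroup G} (hX : IsPGroup 2 X)
    (h : ¬ X ≤ Y) : ∃ M ≤ X, ∃ s ∈ X, s ∉ M ∧ (∀ y ∈ X, y ∈ Y → y ∈ M) ∧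
      ∀ a ∈ X, ∀ b ∈ X, (a * b ∈ M ↔ (a ∈ M ↔ b ∈ M)) := by
  obtain ⟨M, hM, hY⟩ := (eq_top_or_exists_le_coatom (Y.subgroupOf X)).resolve_left
    (by rwa [subgroupOf_eq_top])
  have h2 := Core.index_eq_of_isCoatom_of_isPGroup hX hM
  have e : ∀ a (ha : a ∈ X), a ∈ M.map X.subtype ↔ (⟨a, ha⟩ : X) ∈ M := fun a ha =>
    mem_map_iff_mem (f := X.subtype) (x := ⟨a, ha⟩) X.subtype_injective
  obtain ⟨s, hs⟩ : ∃ s, s ∉ M := not_forall.1 fun a => hM.1 (eq_top_iff.2 fun x _ => a x)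
  refine ⟨M.map X.subtype, map_subtype_le M, s, s.2, by rwa [e _ s.2], fun y hy hy' =>
    (e y hy).2 (hY hy'), fun a ha b hb => ?_⟩
  rw [e a ha, e b hb, e _ (mul_mem ha hb), ← mul_mem_iff_of_index_two h2]
  rfl

section
variable {F : Type*} [Group F] [Finite F] {z : F}

/-- fixed points -/
abbrev Fx (Q : Subgroup (MulAut F)) : Subgroup F := actFix (MonoidHom.id (MulAut F)) Q

theorem mem_Fx {Q : Subgroup (MulAut F)} {x : F} : x ∈ Fx Q ↔ ∀ q ∈ Q, q x = x := Iff.rfl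

theorem Nd.two (h : Nd z) : IsPGroup 2 F := fun x => by
  refine ⟨2, ?_⟩
  have : x * x = 1 ∨ x * x = z := h.nd _ fun y => by
    rcases h.comm x y with e | e
    · rw [mul_assoc, e, ← mul_assoc, e, mul_assoc]
    · rw [mul_assoc, e, ← mul_assoc, ← h.cen, mul_assoc, ← mul_assoc x, e, ← mul_assoc,
        ← mul_assoc, ← mul_assoc, h.sq]; group
  rw [show 2 ^ 2 = 2 * 2 by rfl, pow_mul, pow_two x, pow_two]
  rcases this with e | e <;> rw [e]
  · simp
  · exact h.sq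

theorem Nd.cop (h : Nd z) {n : ℕ} (hn : Odd n) (D : Subgroup F) : n.Coprime (Nat.card D) :=
  coprime_card_of_isPGroup (h.two.to_subgroup D) (Nat.coprime_two_right.2 hn)

theorem Nd.spl (h : Nd z) {Q : Subgroup (MulAut F)} (hQ : Odd (Nat.card Q)) {D : Subgroup F}
    (hD : ∀ q ∈ Q, ∀ x ∈ D, q x ∈ D) {y : F} (hy : y ∈ D) :
    ∃ a ∈ D ⊓ Fx Q, ∃ b ∈ D, (∀ x ∈ Fx Q, x * b = b * x) ∧ y = a * b := by
  have e := actComm_sup_actFix (φ := MonoidHom.id (MulAut F)) (B := Q) hD (h.cop hQ D)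
    (Or.inr (isSolvable_of_isPGroup (h.two.to_subgroup D)))
  rw [← e] at hy
  obtain ⟨a, ha, b, hb, rfl⟩ := (mem_sup_iff_of_le_normalizer'
    (inf_le_left.trans (le_normalizer_actComm D))).1 hy
  have h1 : actComm (MonoidHom.id (MulAut F)) D Q ≤ D ⊓ centralizer (Fx Q : Set F) :=
    actComm_le.2 fun y hy q hq => ⟨D.mul_mem (D.inv_mem hy) (hD q hq y hy), fun x hx => by
      change x * (y⁻¹ * q y) = y⁻¹ * q y * x
      have hx' : q x = x := hx q hq
      rcases h.comm x y with e | e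
      · have e' := congrArg q e
        rw [map_mul, map_mul, hx'] at e'
        rw [mul_assoc, ← e', ← mul_assoc, ← mul_assoc, (Commute.inv_right e).eq]
      · have e' := congrArg q e
        rw [map_mul, map_mul, map_mul, hx', h.aut] at e'
        have e2 : x * y⁻¹ = y⁻¹ * z * x := by
          rw [mul_inv_eq_iff_eq_mul, mul_assoc, e, mul_assoc, ← mul_assoc z z, h.sq]; group
        rw [← mul_assoc, e2, mul_assoc, e', mul_assoc, ← mul_assoc z z, h.sq]; group⟩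
  exact ⟨a, ha, b, (h1 hb).1, (h1 hb).2, rfl⟩

theorem Nd.sub (h : Nd z) {H₁ H₂ : Subgroup F} (hz : z ∈ H₁)
    (hc : ∀ x ∈ H₁, ∀ y ∈ H₂, x * y = y * x) (htop : ∀ y, ∃ a ∈ H₁, ∃ b ∈ H₂, y = a * b) :
    Nd (⟨z, hz⟩ : H₁) := by
  refine ⟨fun a => h.ne (congrArg Subtype.val a), Subtype.ext h.sq, fun x => Subtype.ext (h.cen x),
    fun x y => (h.comm x y).imp Subtype.ext Subtype.ext, fun x hx =>
      (h.nd x fun y => ?_).imp Subtype.ext Subtype.ext⟩
  obtain ⟨a, ha, b, hb, rfl⟩ := htop y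
  have : x.1 * a = a * x.1 := congrArg Subtype.val (hx ⟨a, ha⟩)
  rw [← mul_assoc, this, mul_assoc, hc _ x.2 b hb, mul_assoc]

end

/-- the inductive statement -/
def St (A : Type*) [Ring A] [Algebra ℂ A] (F : Type u) [Group F] : Prop :=
  ∀ (z : F), Nd z → ∀ ρ : F →* A, ρ z = -1 → ∀ K X : Subgroup (MulAut F), Odd (Nat.card K) →
    IsPGroup 2 X → X ≤ normalizer (K : Set (MulAut F)) → (∀ x ∈ Fx K, x = 1 ∨ x = z) →
    ∃ V, Good ρ ⊤ X V

section
variable {F : Type u} [Group F] [Finite F] {z : F} {ρ : F →* A} {K X : Subgroup (MulAut F)}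

theorem St.sub {H : Subgroup F} (ih : St A H) (hz : z ∈ H) (h : Nd (⟨z, hz⟩ : H)) (hρ : ρ z = -1)
    (hK : Odd (Nat.card K)) (hX : IsPGroup 2 X) (hXK : X ≤ normalizer (K : Set (MulAut F)))
    (hf : ∀ x ∈ Fx K, x = 1 ∨ x = z) (hKH : ∀ g ∈ K, ∀ y ∈ H, g y ∈ H)
    (hXH : ∀ g ∈ X, ∀ y ∈ H, g y ∈ H) : ∃ V, Good ρ H X V := by
  classical
  have hB : ∀ g : ↥(K ⊔ X), ∀ y ∈ H, (K ⊔ X).subtype g y ∈ H := fun g y hy => by
    obtain ⟨k, hk, a, ha, e⟩ := (mem_sup_iff_of_le_normalizer hXK).1 g.2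
    change g.1 y ∈ H
    rw [e]; exact hKH k hk _ (hXH a ha y hy)
  obtain ⟨V, hV⟩ := ih _ h (ρ.comp H.subtype) hρ
    ((K.subgroupOf (K ⊔ X)).map (subAut _ H hB)) ((X.subgroupOf (K ⊔ X)).map (subAut _ H hB))
    (Odd.of_dvd_nat hK ((card_map_dvd _ _).trans
      (Nat.card_congr (subgroupOfEquivOfLe le_sup_left).toEquiv).dvd))
    ((hX.of_equiv (subgroupOfEquivOfLe le_sup_right).symm).map _)
    (((map_mono ((comap_mono hXK).trans (le_normalizer_comap _)))).trans (le_normalizer_map _))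
    fun x hx => (hf x fun k hk => congrArg Subtype.val
      (hx _ ⟨⟨k, mem_sup_left hk⟩, hk, rfl⟩)).imp Subtype.ext Subtype.ext
  have hm : ∀ a (ha : a ∈ X), subAut _ H hB ⟨a, mem_sup_right ha⟩ ∈
      (X.subgroupOf (K ⊔ X)).map (subAut _ H hB) := fun a ha => ⟨_, ha, rfl⟩
  refine ⟨fun g => if hg : g ∈ K ⊔ X then V (subAut _ H hB ⟨g, hg⟩) else 1, ?_,
    fun a ha b hb => ?_, fun a ha => ?_⟩
  · rw [dif_pos (one_mem _), ← hV.one]; exact congrArg V (map_one _)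
  · rw [dif_pos (mem_sup_right ha), dif_pos (mem_sup_right hb),
      dif_pos (mem_sup_right (mul_mem ha hb)), ← hV.mul _ (hm a ha) _ (hm b hb), ← map_mul]
    rfl
  · rw [dif_pos (mem_sup_right ha)]
    refine ⟨Submodule.span_mono ?_ (hV.impl _ (hm a ha)).1,
      fun y hy => (hV.impl _ (hm a ha)).2 ⟨y, hy⟩ trivial⟩
    rintro _ ⟨x, -, rfl⟩
    exact ⟨x, x.2, rfl⟩

theorem split (ih : ∀ H : Subgroup F, H ≠ ⊤ → St A H) (h : Nd z) (hρ : ρ z = -1)
    (hK : Odd (Nat.card K)) (hX : IsPGroup 2 X) (hXK : X ≤ normalizer (K : Set (MulAut F)))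
    (hf : ∀ x ∈ Fx K, x = 1 ∨ x = z) {H : Subgroup F} (hz : z ∈ H) (hH : H ≠ ⊤)
    (hH' : ¬ ∀ x ∈ H, x = 1 ∨ x = z) (hKH : ∀ g ∈ K, ∀ y ∈ H, g y ∈ H)
    (hXH : ∀ g ∈ X, ∀ y ∈ H, g y ∈ H)
    (htop : ∀ y, ∃ a ∈ H, ∃ b, (∀ x ∈ H, x * b = b * x) ∧ y = a * b) : ∃ V, Good ρ ⊤ X V := by
  have hc : ∀ x ∈ H, ∀ y ∈ centralizer (H : Set F), x * y = y * x := fun x hx y hy => hy x hx
  have hz' : z ∈ centralizer (H : Set F) := fun x _ => (h.cen x).symm
  have hi : ∀ B : Subgroup (MulAut F), (∀ g ∈ B, ∀ y ∈ H, g y ∈ H) →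
      ∀ g ∈ B, ∀ y ∈ centralizer (H : Set F), g y ∈ centralizer (H : Set F) :=
    fun B hB g hg y hy x hx => by
      rw [← MulAut.apply_inv_self F g x, ← map_mul, hy _ (hB _ (inv_mem hg) x hx), map_mul]
  obtain ⟨U₁, hU₁⟩ := (ih H hH).sub hz (h.sub hz hc htop) hρ hK hX hXK hf hKH hXH
  obtain ⟨U₂, hU₂⟩ := (ih (centralizer (H : Set F)) fun e => hH' fun x hx => h.nd x fun y =>
    hc x hx y (by rw [e]; trivial)).sub hz' (h.sub hz' (fun x hx y hy => (hc y hy x hx).symm)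
      fun y => by
        obtain ⟨a, ha, b, hb, rfl⟩ := htop y
        exact ⟨b, hb, a, ha, hb a ha⟩) hρ hK hX hXK hf (hi K hKH) (hi X hXH)
  exact ⟨_, hU₁.prod hc htop hXH hU₂⟩

theorem Fx_inv {B L : Subgroup (MulAut F)} (hB : B ≤ normalizer (L : Set (MulAut F))) :
    ∀ g ∈ B, ∀ y ∈ Fx L, g y ∈ Fx L := fun g hg y hy l hl => by
  have := congrArg g (hy _ (conj_mem' hB hg hl))
  simpa using this

theorem elem (ih : ∀ H : Subgroup F, H ≠ ⊤ → St A H) (h : Nd z) (hρ : ρ z = -1)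
    {L : Subgroup (MulAut F)} (hLo : Odd (Nat.card L)) (hL0 : L ≠ ⊥)
    (hLc : ∀ a ∈ L, ∀ b ∈ L, a * b = b * a) {r : ℕ} [hr : Fact r.Prime] (hr2 : r ≠ 2)
    (hLr : ∀ a ∈ L, a ^ r = 1) (hX : IsPGroup 2 X) (hXL : X ≤ normalizer (L : Set (MulAut F)))
    (hf : ∀ x ∈ Fx L, x = 1 ∨ x = z) (hZ : ¬ ∀ x : F, x = 1 ∨ x = z) : ∃ V, Good ρ ⊤ X V := by
  classical
  haveI := Fintype.ofFinite F
  have hodd : ∀ Q ≤ L, Odd (Nat.card Q) := fun Q hQ => hLo.of_dvd_nat (card_dvd_of_le hQ)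
  obtain ⟨Q, -, ⟨hQL, hQ⟩, hmax⟩ := Finite.exists_le_maximal
    (p := fun Q : Subgroup (MulAut F) => Q ≤ L ∧ ¬ ∀ x ∈ Fx Q, x = 1 ∨ x = z) (a := ⊥)
    ⟨bot_le, fun a => hZ fun x => a x fun q hq => by rw [mem_bot.1 hq]; rfl⟩
  have hmx : ∀ l ∈ L, l ∉ Q → ∀ x ∈ Fx Q, l x = x → x = 1 ∨ x = z := by
    intro l hl hlQ x hx hlx
    by_contra hc
    refine hlQ (hmax (y := Q ⊔ zpowers l) ⟨sup_le hQL (zpowers_le.2 hl), fun a => hc (a x ?_)⟩
      le_sup_left (mem_sup_right (mem_zpowers l)))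
    have : Q ⊔ zpowers l ≤ MulAction.stabilizer (MulAut F) x := sup_le hx (zpowers_le.2 hlx)
    exact fun q hq => this hq
  obtain ⟨QQ, hQQ⟩ : ∃ QQ : MulAut F → Subgroup (MulAut F),
      ∀ s q, q ∈ QQ s ↔ s⁻¹ * q * s ∈ Q :=
    ⟨fun s => Q.comap (MulAut.conj s⁻¹).toMonoidHom, fun s q => by simp⟩
  have hQQL : ∀ s ∈ X, QQ s ≤ L := fun s hs q hq => by
    simpa [mul_assoc] using conj_mem hXL hs (hQL ((hQQ s q).1 hq))
  have hLi : ∀ s ∈ X, ∀ l ∈ L, ∀ y ∈ Fx (QQ s), l y ∈ Fx (QQ s) := fun s hs l hl y hy q hq => by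
    change (q * l) y = l y
    rw [hLc q (hQQL s hs hq) l hl, MulAut.mul_apply, mem_Fx.1 hy q hq]
  have hXi : ∀ t s, ∀ y ∈ Fx (QQ s), t y ∈ Fx (QQ (t * s)) := fun t s y hy q hq => by
    have := congrArg t (hy (t⁻¹ * q * t) ((hQQ _ _).2 (by simpa [mul_assoc] using (hQQ _ _).1 hq)))
    simpa using this
  have hQ1 : QQ 1 = Q := by ext q; simp [hQQ]
  have hcm : ∀ u ∈ X, u ∉ normalizer (Q : Set (MulAut F)) → ∀ y ∈ Fx Q, ∀ x ∈ Fx (QQ u),
      x * y = y * x := by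
    intro u hu huQ y hy x hx
    obtain ⟨q, hq, hq'⟩ : ∃ q ∈ Q, u * q * u⁻¹ ∉ Q := by
      by_contra hc
      push Not at hc
      exact huQ (mem_normalizer_fintype hc)
    have hl : u * q * u⁻¹ ∈ L := conj_mem hXL hu (hQL hq)
    obtain ⟨a, ha, b, -, hb, rfl⟩ := h.spl (hodd _ (zpowers_le.2 hl)) (D := Fx Q)
      (fun l hl' => hQ1 ▸ hLi 1 X.one_mem l (zpowers_le.2 hl hl')) hy
    have e := hb x (mem_actFix_zpowers.2 (hx _ ((hQQ _ _).2 (by simpa [mul_assoc] using hq))))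
    rcases hmx _ hl hq' a ha.1 (ha.2 _ (mem_zpowers _)) with rfl | rfl
    · simpa using e
    · rw [← mul_assoc, ← h.cen, mul_assoc, e, mul_assoc]
  obtain ⟨FF, hFF⟩ : ∃ FF : Subgroup (MulAut F) → Subgroup F,
      ∀ M, FF M = closure {y | ∃ s ∈ M, y ∈ Fx (QQ s)} := ⟨_, fun _ => rfl⟩
  have hle : ∀ M, ∀ s ∈ M, Fx (QQ s) ≤ FF M := fun M s hs y hy => by
    rw [hFF]; exact subset_closure ⟨s, hs, hy⟩
  have hcl : ∀ (M) (D : Subgroup F), (∀ s ∈ M, Fx (QQ s) ≤ D) → FF M ≤ D := fun M D hD => by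
    rw [hFF, closure_le]; rintro y ⟨s, hs, hy⟩; exact hD s hs hy
  have hzF : ∀ M, z ∈ FF M := fun M => hle M 1 M.one_mem fun q _ => h.aut q
  have hFL : ∀ M ≤ X, ∀ l ∈ L, ∀ y ∈ FF M, l y ∈ FF M := fun M hM l hl =>
    hcl M ((FF M).comap l.toMonoidHom) fun s hs y hy => hle M s hs (hLi s (hM hs) l hl y hy)
  have hFX : ∀ M, ∀ t ∈ M, ∀ y ∈ FF M, t y ∈ FF M := fun M t ht =>
    hcl M ((FF M).comap t.toMonoidHom) fun s hs y hy => hle M _ (mul_mem ht hs) (hXi t s y hy)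
  have hFZ : ∀ M, ¬ ∀ x ∈ FF M, x = 1 ∨ x = z := fun M a =>
    hQ fun x hx => a x (hle M 1 M.one_mem (hQ1.symm ▸ hx))
  by_cases hT : FF X = ⊤
  swap
  · refine split ih h hρ hLo hX hXL hf (hzF X) hT (hFZ X) (hFL X le_rfl) (hFX X) fun y => ?_
    have key : ∀ S : Finset (MulAut F), (∀ s ∈ S, s ∈ X) → ∃ a ∈ FF X,
        ∃ b ∈ centralizer {x | ∃ s ∈ S, x ∈ Fx (QQ s)}, y = a * b := by
      intro S
      induction S using Finset.induction_on with
      | empty => exact fun _ => ⟨1, one_mem _, y, fun x hx => by simp at hx, by simp⟩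
      | insert t S _ ih' =>
        intro hS
        have ht := hS t (Finset.mem_insert_self _ _)
        obtain ⟨a, ha, b, hb, rfl⟩ := ih' fun s hs => hS s (Finset.mem_insert_of_mem hs)
        obtain ⟨c, hc, d, hd, hd', rfl⟩ := h.spl (hodd _ (hQQL t ht))
          (D := centralizer {x | ∃ s ∈ S, x ∈ Fx (QQ s)}) (fun q hq w hw x hx => by
          obtain ⟨s, hs, hx⟩ := hx
          rw [← MulAut.apply_inv_self F q x, ← map_mul, hw _ ⟨s, hs, hLi s
            (hS s (Finset.mem_insert_of_mem hs)) _ (inv_mem (hQQL t ht hq)) x hx⟩, map_mul]) hb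
        refine ⟨a * c, mul_mem ha (hle X t ht hc.2), d, ?_, (mul_assoc _ _ _).symm⟩
        rintro x ⟨s, hs, hx⟩
        rcases Finset.mem_insert.1 hs with rfl | hs
        · exact hd' x hx
        · exact hd x ⟨s, hs, hx⟩
    obtain ⟨a, ha, b, hb, e⟩ := key (Set.toFinite (X : Set (MulAut F))).toFinset (by simp)
    exact ⟨a, ha, b, fun x hx => (hcl X (centralizer {b}) (fun s hs w hw =>
      mem_centralizer_singleton_iff.2 (hb w ⟨s, by simpa using hs, hw⟩)) hx b rfl).symm, e⟩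
  by_cases hN : X ≤ normalizer (Q : Set (MulAut F))
  · have hQt : ∀ x, x ∈ Fx Q := fun x => hcl X (Fx Q) (fun s hs y hy q hq =>
      hy q ((hQQ _ _).2 (conj_mem' hN hs hq))) (by rw [hT]; trivial)
    have hf' : ∀ l ∈ L, l ≠ 1 → ∀ x, l x = x → x = 1 ∨ x = z := fun l hl h1 x =>
      hmx l hl (fun a => h1 (MulEquiv.ext fun y => hQt y l a)) x (hQt x)
    haveI : IsMulCommutative L := ⟨⟨fun a b => Subtype.ext (hLc a a.2 b b.2)⟩⟩
    have hcyc : IsCyclic L := by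
      by_contra hc
      refine hZ fun x => h.nd x fun y => ?_
      exact (mem_center_iff.1 (act_le_of_forall_fixed_le (φ := MonoidHom.id (MulAut F)) hc
        (H := ⊤) (L := center F) (fun _ _ _ _ => trivial) (h.cop hLo ⊤) (fun l hl h1 w _ hw => by
          rcases hf' l hl h1 w hw with rfl | rfl
          · exact one_mem _
          · exact mem_center_iff.2 fun g => (h.cen g).symm) (mem_top x)) y).symm
    refine base h hρ hr2 ?_ hf' hX hXL
    haveI := (nontrivial_iff_ne_bot L).2 hL0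
    rw [← IsCyclic.exponent_eq_card]
    exact ((Nat.dvd_prime hr.out).1 (Monoid.exponent_dvd_of_forall_pow_eq_one fun g =>
      Subtype.ext (hLr g g.2))).resolve_left (Monoid.one_lt_exponent).ne'
  obtain ⟨M, hMX, s, hs, hsM, hNM, hM⟩ := idx2 hX hN
  have hsi : s⁻¹ ∉ M := fun a => hsM (inv_inv s ▸ inv_mem a)
  have hc : ∀ x ∈ FF M, ∀ y ∈ (FF M).comap s⁻¹.toMonoidHom, x * y = y * x := by
    intro x hx y hy
    obtain ⟨y, rfl⟩ := s.surjective y
    replace hy : y ∈ FF M := by simpa using hy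
    refine (hcl M (centralizer {s y}) (fun m hm w hw => ?_) hx _ rfl).symm
    refine mem_centralizer_singleton_iff.2 (hcl M ((centralizer {w}).comap s.toMonoidHom)
      (fun m' hm' v hv => mem_centralizer_singleton_iff.2 ?_) hy w rfl)
    have e := hcm (m⁻¹ * (s * m')) (mul_mem (inv_mem (hMX hm)) (mul_mem hs (hMX hm')))
      (fun a => hsM ((M.mul_mem_cancel_right hm').1 ((M.mul_mem_cancel_left (inv_mem hm)).1
        (hNM _ (mul_mem (inv_mem (hMX hm)) (mul_mem hs (hMX hm'))) a))))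
      (m⁻¹ w) (by simpa [hQ1] using hXi m⁻¹ m w hw) _ (hXi _ _ _ (hXi s m' v hv))
    rw [← map_mul, ← map_mul] at e
    exact (m⁻¹).injective e
  have htop : ∀ y, ∃ a ∈ FF M, ∃ b ∈ (FF M).comap s⁻¹.toMonoidHom, y = a * b := by
    intro y
    have : y ∈ (FF M).comap s⁻¹.toMonoidHom ⊔ FF M := hcl X _ (fun t ht w hw => by
      by_cases htM : t ∈ M
      · exact mem_sup_right (hle M t htM hw)
      · exact mem_sup_left (hle M _ ((hM _ (inv_mem hs) t ht).2 (by tauto)) (hXi s⁻¹ t w hw)))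
      (by rw [hT]; trivial)
    exact (mem_sup_iff_of_le_normalizer' (le_trans (b := centralizer _)
      (fun x hx w hw => (hc x hx w hw).symm) (centralizer_le_normalizer _))).1 this
  obtain ⟨U, hU⟩ := (ih (FF M) fun e => hFZ M fun x hx =>
    h.nd x fun y => hc x hx y (by rw [e]; trivial)).sub (hzF M) (h.sub (hzF M) hc htop)
    hρ hLo (hX.to_le hMX) (hMX.trans hXL) hf (hFL M hMX) (hFX M)
  refine hU.swap h hρ (fun m hm => ?_) (fun m hm => ?_) ((hM s hs s hs).2 Iff.rfl)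
    (fun x hx => ?_) (fun y => Iff.rfl) hc htop (hFX M)
  · rw [hM _ (mul_mem hs (hMX hm)) _ (inv_mem hs), hM _ hs _ (hMX hm)]; tauto
  · rw [hM _ (mul_mem (inv_mem hs) (hMX hm)) _ hs, hM _ (inv_mem hs) _ (hMX hm)]; tauto
  · rw [hM _ hx _ (inv_mem hs)]; tauto

end

theorem main (F : Type u) [Group F] [Finite F] : St A F := by
  induction hn : Nat.card F using Nat.strong_induction_on generalizing F with
  | _ n IH =>
  have ih : ∀ H : Subgroup F, H ≠ ⊤ → St A H := fun H hH =>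
    IH _ (by rw [← hn, ← card_top (G := F)]; exact Core.card_lt_of_lt hH.lt_top) H rfl
  intro z h ρ hρ K X hK hX hXK hf
  by_cases hZ : ∀ x : F, x = 1 ∨ x = z
  · refine ⟨fun _ => 1, rfl, fun _ _ _ _ => (one_mul _).symm, fun a _ =>
      ⟨one_mem_Sp _, fun y _ => ?_⟩⟩
    rcases hZ y with rfl | rfl <;> simp [h.aut]
  have hK0 : K ≠ ⊥ := by
    rintro rfl
    exact hZ fun x => hf x fun q hq => by rw [mem_bot.1 hq]; rfl
  obtain ⟨L, hLK, hL0, hN, hmin⟩ := exists_minimal_invariant (A := K ⊔ X)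
    (sup_le le_normalizer hXK) hK0
  have hLo : Odd (Nat.card L) := hK.of_dvd_nat (card_dvd_of_le hLK)
  by_cases hf' : ∀ x ∈ Fx L, x = 1 ∨ x = z
  swap
  · refine split ih h hρ hK hX hXK hf (H := Fx L) (fun q _ => h.aut q) (fun e => hL0 ?_) hf'
      (Fx_inv (le_sup_left.trans hN)) (Fx_inv (le_sup_right.trans hN)) fun y => ?_
    · exact eq_bot_iff.2 fun l hl => MulEquiv.ext fun y => (e ▸ mem_top y : y ∈ Fx L) l hl
    · obtain ⟨a, ha, b, -, hb, e⟩ := h.spl hLo (D := ⊤) (fun _ _ _ _ => trivial) (mem_top y)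
      exact ⟨a, ha.2, b, hb, e⟩
  have hLc : ∀ a ∈ L, ∀ b ∈ L, a * b = b * a := by
    haveI := FT.odd_order_solvable L hLo
    haveI := (nontrivial_iff_ne_bot L).2 hL0
    have e := (hmin ⁅L, L⁆ (commutator_le.2
      fun a ha b hb => mul_mem (mul_mem (mul_mem ha hb) (inv_mem ha)) (inv_mem hb))
      (Core.le_normalizer_commutator hN hN)).resolve_right fun e =>
        (Group.IsSolvable.commutator_lt_of_ne_bot (H := (⊤ : Subgroup L)) top_ne_bot).ne
          (map_injective L.subtype_injective (by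
            rw [map_commutator, ← MonoidHom.range_eq_map, range_subtype, e]))
    exact fun a ha b hb => (commutator_eq_bot_iff_le_centralizer.1 e hb a ha)
  obtain ⟨r, hr, hrL⟩ := Nat.exists_prime_and_dvd (n := Nat.card L) (by simpa using hL0)
  haveI := Fact.mk hr
  refine elem ih h hρ hLo hL0 hLc (r := r) (by rintro rfl; exact hLo.not_two_dvd_nat hrL) ?_ hX
    (le_sup_right.trans hN) hf' hZ
  let W : Subgroup (MulAut F) :=
    { carrier := {a | a ∈ L ∧ a ^ r = 1}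
      one_mem' := ⟨one_mem _, one_pow _⟩
      mul_mem' := fun {a b} ha hb => ⟨mul_mem ha.1 hb.1, by
        rw [Commute.mul_pow (hLc a ha.1 b hb.1), ha.2, hb.2, one_mul]⟩
      inv_mem' := fun {a} ha => ⟨inv_mem ha.1, by rw [inv_pow, ha.2, inv_one]⟩ }
  obtain ⟨g, hg⟩ := exists_prime_orderOf_dvd_card' r hrL
  have e := (hmin W (fun a ha => ha.1) fun x hx => mem_normalizer_fintype fun a ha =>
    ⟨conj_mem hN hx ha.1, by rw [conj_pow, ha.2]; simp⟩).resolve_left fun e => by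
      have : g.1 ∈ W := ⟨g.2, congrArg Subtype.val (hg ▸ pow_orderOf_eq_one g)⟩
      rw [e, mem_bot, OneMemClass.coe_eq_one] at this
      rw [this, orderOf_one] at hg
      exact hr.one_lt.ne hg
  exact fun a ha => (e.symm ▸ ha : a ∈ W).2

end Cfsg.Lib.Block2.DX
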