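import Cfsg.Agent.Lib.Block2.DX3
import Cfsg.Agent.Lib.Coprime.Glaub
import Cfsg.Agent.Lib.Clifford.Cover

/-! Dade's extension theorem for extraspecial 2-groups. -/

set_option autoImplicit false
set_option linter.unusedSectionVars false

open Subgroup Cfsg.Lib.Coprime Cfsg.Lib.Clifford Cfsg.Lib.Char

namespace Cfsg.Lib.Block2.DX

theorem nd_of_extraspecial {F : Type*} [Group F] [Finite F] (h : IsExtraspecial 2 F) :
    ∃ z : F, Nd z := by
  obtain ⟨z, hz, hu⟩ := (Nat.card_eq_two_iff' (1 : center F)).1 h.2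
  have hc : ∀ x ∈ center F, x = 1 ∨ x = z := fun x hx => by
    by_cases e : (⟨x, hx⟩ : center F) = 1
    · exact Or.inl (congrArg Subtype.val e)
    · exact Or.inr (congrArg Subtype.val (hu _ e))
  have hz1 : z.1 ≠ 1 := fun e => hz (Subtype.ext e)
  refine ⟨z, hz1, ?_, fun x => (mem_center_iff.1 z.2 x).symm, fun x y => ?_, fun x hx =>
    hc x (mem_center_iff.2 fun y => (hx y).symm)⟩
  · exact (hc _ (mul_mem z.2 z.2)).resolve_right (by simpa using hz1)
  · have : x * y * x⁻¹ * y⁻¹ ∈ center F := h.1.2.2 ▸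
      commutator_mem_commutator (mem_top x) (mem_top y)
    refine (hc _ this).imp (fun e => ?_) fun e => ?_
    · rw [mul_inv_eq_one, mul_inv_eq_iff_eq_mul] at e; exact e
    · rw [← e]; group

theorem rho_z {F V : Type*} [Group F] [AddCommGroup V] [Module ℂ V] {z : F} (h : Nd z)
    (σ : Representation ℂ F V) [hi : σ.IsIrreducible] (hz : σ z ≠ 1) : σ z = -1 := by
  let W : Subrepresentation σ := ⟨LinearMap.ker (σ z - 1), fun g v hv => by
    simp only [LinearMap.mem_ker, LinearMap.sub_apply, Module.End.one_apply, sub_eq_zero] at hv ⊢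
    rw [← Module.End.mul_apply, ← map_mul, h.cen, map_mul, Module.End.mul_apply, hv]⟩
  rcases hi.eq_bot_or_eq_top W with e | e
  · ext v
    have : σ z v + v ∈ W.toSubmodule := by
      simp only [W, LinearMap.mem_ker, LinearMap.sub_apply, Module.End.one_apply, map_add]
      rw [← Module.End.mul_apply, ← map_mul, h.sq, map_one]; simp
    rw [e] at this
    exact eq_neg_of_add_eq_zero_left this
  · refine absurd (LinearMap.ext fun v => ?_) hz
    have : v ∈ W.toSubmodule := by rw [e]; trivial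
    simpa [W, sub_eq_zero] using this

theorem dade {G : Type*} [Group G] [Finite G] (E H : Subgroup G) [E.Normal]
    (hE : IsExtraspecial 2 E) (hEH : E ⊓ H = ⊥) (hEHtop : E ⊔ H = ⊤) (K : Subgroup G)
    (hKn : ∀ h ∈ H, ∀ k ∈ K, h * k * h⁻¹ ∈ K) (hKodd : Odd (Nat.card K)) (hEK : ⁅E, K⁆ = E)
    (θ : G → ℂ) (hθi : IrrOn E θ) (hθ : ∀ e ∈ E, θ e = θ 1 → e = 1) :
    ∃ χ ∈ Irr (⊤ : Subgroup G), ∀ e ∈ E, χ e = θ e := by
  classical
  haveI := Fintype.ofFinite E
  obtain ⟨z, hz⟩ := nd_of_extraspecial hE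
  obtain ⟨n, σ, hσ, hch⟩ := id hθi
  have htr : ∀ e : E, θ e = LinearMap.trace ℂ _ (σ e) := fun e => (congrFun hch e).symm
  have hσz : σ z = -1 := rho_z hz σ fun e => hz.ne (Subtype.ext (hθ z z.2 (by
    rw [htr, e, ← map_one σ, ← htr]; rfl)))
  haveI : Nontrivial (Module.End ℂ (Fin n → ℂ)) := by
    refine ⟨⟨σ z, 1, fun e => hz.ne (Subtype.ext (hθ z z.2 ?_))⟩⟩
    rw [htr, e, ← map_one σ, ← htr]; rfl
  have hinv : InvOn ⊤ E θ := fun g _ e he => by
    obtain ⟨a, b, ha, -, hab, hba⟩ := exists_impl hz hσz (MulAut.conjNormal g)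
    have e1 : σ (MulAut.conjNormal g ⟨e, he⟩) = a * σ ⟨e, he⟩ * b := by
      rw [ha.2 _ trivial, mul_assoc, hab, mul_one]
    have := htr (MulAut.conjNormal g ⟨e, he⟩)
    rw [e1, LinearMap.trace_mul_comm, ← mul_assoc, hba, one_mul, ← htr] at this
    exact this
  refine exists_ext_of_sylow le_top (nrm_of_normal ⊤ E) hθi hinv fun p hp _ => ?_
  haveI := Fact.mk hp
  obtain ⟨P⟩ : Nonempty (Sylow p H) := inferInstance
  obtain ⟨S, hS⟩ : ∃ S, S = (P : Subgroup H).map H.subtype := ⟨_, rfl⟩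
  have hSH : S ≤ H := hS ▸ map_subtype_le _
  have hSp : IsPGroup p S := hS ▸ P.2.map _
  refine ⟨E ⊔ S, le_sup_left, le_top, fun hd => P.not_dvd_index (hd.trans ?_), ?_⟩
  · have hs : Function.Surjective ((QuotientGroup.mk' E).comp H.subtype) := fun x => by
      obtain ⟨g, rfl⟩ := QuotientGroup.mk'_surjective E x
      obtain ⟨e, he, h, hh, rfl⟩ := mem_sup_of_normal_left.1 (hEHtop ▸ mem_top g)
      refine ⟨⟨h, hh⟩, ?_⟩
      rw [map_mul, QuotientGroup.mk'_apply, (QuotientGroup.eq_one_iff e).2 he, one_mul]; rfl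
    have := index_map_dvd (P : Subgroup H) hs
    rwa [← map_map, ← hS, index_map, QuotientGroup.ker_mk', QuotientGroup.range_mk', index_top,
      mul_one, sup_comm, ← relIndex_top_right] at this
  by_cases hp2 : p = 2
  swap
  · obtain ⟨η, hη, -, e⟩ := exists_canon (L := E ⊔ S) le_sup_left (nrm_of_normal _ E)
      (Nat.Coprime.coprime_dvd_left (relIndex_sup_dvd (nrm_of_normal S E))
        (IsPGroup.coprime_card_of_ne p 2 hp2 _ _ hSp hE.1.1)) hθi fun g _ => hinv g trivial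
    exact ⟨η, (irrOn_of_mem hη).charOn, e⟩
  subst hp2
  obtain ⟨φ, hφ⟩ : ∃ φ : G →* MulAut E, φ = MulAut.conjNormal := ⟨_, rfl⟩
  have hφ' : ∀ g (e : E), (φ g e : G) = g * e * g⁻¹ := fun g e => by rw [hφ]; rfl
  obtain ⟨V, hV⟩ := main E z hz σ hσz (K.map φ) (S.map φ) (hKodd.of_dvd_nat (card_map_dvd _ _))
    (hSp.map _) ((map_mono fun s hs => mem_normalizer_fintype (hKn s (hSH hs))).trans
      (le_normalizer_map _)) fun x hx => hz.nd x fun y => by
      have h1 : ⁅E, K⁆ ≤ centralizer {x.1} := commutator_le.2 fun e he k hk => by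
        have hk' : φ k x = x := hx _ ⟨k, hk, rfl⟩
        have : x * (⟨e, he⟩ * φ k ⟨e, he⟩⁻¹) = ⟨e, he⟩ * φ k ⟨e, he⟩⁻¹ * x := by
          rcases hz.comm x ⟨e, he⟩ with a | a
          · have a' := congrArg (φ k) a
            rw [map_mul, map_mul, hk'] at a'
            rw [map_inv, ← mul_assoc, a, mul_assoc, (Commute.inv_right a').eq, mul_assoc]
          · have a' := congrArg (φ k) a
            rw [map_mul, map_mul, map_mul, hk', hz.aut] at a'
            have a2 : (φ k ⟨e, he⟩)⁻¹ * x = z * (x * (φ k ⟨e, he⟩)⁻¹) := by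
              rw [inv_mul_eq_iff_eq_mul, ← mul_assoc, ← hz.cen, mul_assoc, ← mul_assoc _ x,
                ← mul_assoc, ← a']; group
            rw [map_inv, ← mul_assoc, a, mul_assoc _ _ x, a2, ← mul_assoc _ z, ← hz.cen]
            simp only [mul_assoc]
        have := congrArg Subtype.val this
        simp only [Subgroup.coe_mul, hφ', coe_inv] at this
        rw [mem_centralizer_singleton_iff, commutatorElement_def]
        simpa only [mul_assoc] using this.symm
      rw [hEK] at h1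
      exact Subtype.ext (mem_centralizer_singleton_iff.1 (h1 y.2)).symm
  have hdec : ∀ x : ↥(E ⊔ S), ∃ e : E, ∃ s ∈ S, (x : G) = e * s := fun x => by
    obtain ⟨e, he, s, hs, h⟩ := mem_sup_of_normal_left.1 x.2
    exact ⟨⟨e, he⟩, s, hs, h.symm⟩
  choose fe fs hfs hf using hdec
  have hu : ∀ (x : ↥(E ⊔ S)) (e : E) (s : G), s ∈ S → (x : G) = e * s → fe x = e ∧ fs x = s := by
    intro x e s hs h
    have h1 : (e : G)⁻¹ * fe x = s * (fs x)⁻¹ := by
      rw [inv_mul_eq_iff_eq_mul, ← mul_assoc, ← h, hf x]; simp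
    have h2 : s * (fs x)⁻¹ = 1 := mem_bot.1 (hEH ▸ ⟨h1 ▸ E.mul_mem (E.inv_mem e.2) (fe x).2,
      hSH (mul_mem hs (inv_mem (hfs x)))⟩)
    exact ⟨Subtype.ext (inv_mul_eq_one.1 (h1.trans h2)).symm, (mul_inv_eq_one.1 h2).symm⟩
  let τ : Representation ℂ ↥(E ⊔ S) (Fin n → ℂ) :=
    { toFun := fun x => σ (fe x) * V (φ (fs x))
      map_one' := by
        obtain ⟨a, b⟩ := hu 1 1 1 S.one_mem (by simp)
        rw [a, b, map_one, map_one, hV.one, one_mul]
      map_mul' := fun x y => by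
        obtain ⟨a, b⟩ := hu (x * y) (fe x * φ (fs x) (fe y)) (fs x * fs y)
          (mul_mem (hfs x) (hfs y)) (by
            rw [Subgroup.coe_mul, Subgroup.coe_mul, hφ', hf x, hf y]; group)
        rw [a, b, map_mul, map_mul, hV.mul _ ⟨_, hfs x, rfl⟩ _ ⟨_, hfs y, rfl⟩, mul_assoc,
          mul_assoc, ← mul_assoc (V _), (hV.impl _ ⟨_, hfs x, rfl⟩).2 _ trivial, mul_assoc] }
  obtain ⟨η, hη, -⟩ := exists_res _ τ.character
  refine ⟨η, ⟨n, τ, hη⟩, fun e he => ?_⟩
  obtain ⟨a, b⟩ := hu ⟨e, mem_sup_left he⟩ ⟨e, he⟩ 1 S.one_mem (by simp)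
  have := congrFun hη ⟨e, mem_sup_left he⟩
  rw [htr ⟨e, he⟩]
  refine this.symm.trans ?_
  change LinearMap.trace ℂ _ (σ (fe _) * V (φ (fs _))) = _
  rw [a, b, map_one, hV.one, mul_one]

end Cfsg.Lib.Block2.DX
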