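import Cfsg.Agent.Lib.Block2.Num

/-! Lifting idempotents and linear independence from the residue field to the local ring. -/

set_option autoImplicit false
set_option linter.dupNamespace false
set_option linter.unusedSectionVars false
set_option linter.style.haveILetI false

open Cfsg Cfsg.Lib.Block Cfsg.Lib.Block2 Cfsg.Lib.Char Cfsg.Lib.Amalg MonoidAlgebra Subgroup
open Polynomial IsLocalRing
open scoped ComplexConjugate

namespace Cfsg.Lib.Block2

section abs
variable {O Λ R : Type*} [CommRing O] [Ring Λ] [Algebra O Λ] [Ring R] [Algebra O R]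

theorem aeval_mul_idem {f : R} (hf : f * f = f) (q : O[X]) :
    aeval f q * f = algebraMap O R (q.eval 1) * f := by
  induction q using Polynomial.induction_on' with
  | add a b ha hb => rw [map_add, add_mul, ha, hb, eval_add, map_add, add_mul]
  | monomial n c =>
    rw [aeval_monomial, eval_monomial, one_pow, mul_one, mul_assoc, ← pow_succ,
      IsIdempotentElem.pow_succ_eq n hf]

variable [IsLocalRing O] [IsDomain O] [Module.Finite O Λ]

theorem exists_idem_poly (hs : ∀ m : O[X], m.Monic → m.Splits) (ρ : Λ →ₐ[O] R) {x : Λ}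
    (h0 : ∀ a ∈ maximalIdeal O, algebraMap O R a = 0) (hx : ρ x * ρ x = ρ x) :
    ∃ q : O[X], aeval x q * x * (aeval x q * x) = aeval x q * x ∧ ρ (aeval x q * x) = ρ x := by
  classical
  obtain ⟨m, hm, hmx⟩ : IsIntegral O x := Algebra.IsIntegral.isIntegral x
  set s1 := m.roots.filter fun a => a - 1 ∈ maximalIdeal O
  set s0 := m.roots.filter fun a => ¬ a - 1 ∈ maximalIdeal O
  set m1 : O[X] := (s1.map fun a => X - C a).prod
  set m0 : O[X] := (s0.map fun a => X - C a).prod
  have hmm : m = m0 * m1 := by
    conv_lhs => rw [(hs m hm).eq_prod_roots_of_monic hm, ← Multiset.filter_add_not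
      (fun a => a - 1 ∈ maximalIdeal O) m.roots, Multiset.map_add, Multiset.prod_add, mul_comm]
  have hcop : ∀ a : O, ¬ a - 1 ∈ maximalIdeal O → IsCoprime (X - C a) m1 := fun a ha => by
    refine Multiset.prod_induction _ _ (fun _ _ => IsCoprime.mul_right) isCoprime_one_right ?_
    intro r hr
    obtain ⟨b, hb, rfl⟩ := Multiset.mem_map.1 hr
    refine isCoprime_X_sub_C_of_isUnit_sub ?_
    by_contra hu
    exact ha (by simpa using add_mem ((mem_maximalIdeal _).2 hu) (Multiset.mem_filter.1 hb).2)
  have hc : IsCoprime (m0 * X) m1 := by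
    refine IsCoprime.mul_left ?_ (by simpa using hcop 0 (by simp))
    refine Multiset.prod_induction (fun r => IsCoprime r m1) _ (fun _ _ => IsCoprime.mul_left)
      isCoprime_one_left ?_
    intro r hr
    obtain ⟨b, hb, rfl⟩ := Multiset.mem_map.1 hr
    exact hcop b (Multiset.mem_filter.1 hb).2
  have hu : IsUnit (m0.eval 1) := by
    refine Multiset.prod_induction (fun r : O[X] => IsUnit (r.eval 1)) _
      (fun _ _ h h' => by rw [eval_mul]; exact h.mul h') (by simp) ?_
    intro r hr
    obtain ⟨b, hb, rfl⟩ := Multiset.mem_map.1 hr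
    by_contra hu
    exact (Multiset.mem_filter.1 hb).2 (by simpa using neg_mem ((mem_maximalIdeal _).2 hu))
  obtain ⟨a, b, hab⟩ := hc
  have hm0 : aeval x m = 0 := hmx
  have e1 : aeval x (a * m0) * x = aeval x (a * (m0 * X)) := by simp [mul_assoc]
  refine ⟨a * m0, ?_, ?_⟩
  · have : a * (m0 * X) * (a * (m0 * X)) = a * (m0 * X) - a * b * X * m := by
      rw [hmm]; linear_combination (a * (m0 * X)) * hab
    rw [e1, ← map_mul, this, map_sub, map_mul _ _ m, hm0, mul_zero, sub_zero]
  · have h1 : algebraMap O R (m1.eval 1) * ρ x = 0 := by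
      have h2 := aeval_mul_idem hx m
      rw [aeval_algHom_apply, hm0, map_zero, zero_mul, hmm, eval_mul, map_mul, mul_assoc] at h2
      exact ((hu.map (algebraMap O R)).mul_right_eq_zero).1 h2.symm
    have h3 : (a * m0).eval 1 = 1 - b.eval 1 * m1.eval 1 := by
      have := congrArg (eval 1) hab
      simp only [eval_add, eval_mul, eval_X, mul_one, eval_one] at this
      rw [eval_mul]; linear_combination this
    rw [map_mul, ← aeval_algHom_apply, aeval_mul_idem hx, h3, map_sub, map_mul, sub_mul, mul_assoc,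
      h1, map_one, one_mul, mul_zero, sub_zero]

theorem exists_idem_lift (hs : ∀ m : O[X], m.Monic → m.Splits) (ρ : Λ →ₐ[O] R)
    (hρ : Function.Surjective ρ) (h0 : ∀ a ∈ maximalIdeal O, algebraMap O R a = 0) {E : Λ}
    (hE : E * E = E) {f : R} (hf : f * f = f) (h1 : ρ E * f = f) (h2 : f * ρ E = f) :
    ∃ F, F * F = F ∧ E * F = F ∧ F * E = F ∧ ρ F = f := by
  obtain ⟨y, rfl⟩ := hρ f
  have hx : ρ (E * y * E) = ρ y := by rw [map_mul, map_mul, h1, h2]
  obtain ⟨q, hq1, hq2⟩ := exists_idem_poly hs ρ (x := E * y * E) h0 (by rw [hx, hf])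
  refine ⟨_, hq1, ?_, by rw [mul_assoc, mul_assoc _ E, hE], hq2.trans hx⟩
  have : Commute (aeval (E * y * E) q) (E * y * E) := by
    have := (Commute.all q X).map (aeval (E * y * E))
    rwa [aeval_X] at this
  rw [this.eq, ← mul_assoc, ← mul_assoc, ← mul_assoc, hE]

end abs

variable {M : Ideal AlgInt} [M.IsMaximal]

theorem memLocalRing_of_isIntegral_loc {z : ℂ} (hz : IsIntegral (locRing M) z) :
    MemLocalRing M z := by
  letI : Algebra AlgInt (locRing M) := ((algebraMap AlgInt ℂ).codRestrict (locRing M)
    fun a => memLocalRing_coe a).toAlgebra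
  have he : ∀ a : AlgInt, ((algebraMap AlgInt (locRing M) a : locRing M) : ℂ) = a := fun _ => rfl
  haveI : IsScalarTower AlgInt (locRing M) ℂ := IsScalarTower.of_algebraMap_eq fun _ => rfl
  haveI : IsLocalization M.primeCompl (locRing M) := by
    refine (isLocalization_iff _ _).2 ⟨fun y => ?_, fun r => ?_, fun {a b} h => ⟨1, ?_⟩⟩
    · rw [isUnit_iff_not_memLocalIdeal, he, memLocalIdeal_coe_iff]; exact y.2
    · obtain ⟨a, b, hb, e⟩ := memLocalRing_val r
      refine ⟨⟨a, b, hb⟩, Subtype.ext ?_⟩
      change (r : ℂ) * b = a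
      rw [← e, div_mul_cancel₀ _ (coe_ne_zero_of_notMem hb)]
    · rw [Subtype.ext ((he a).symm.trans ((congrArg Subtype.val h).trans (he b)))]
  obtain ⟨⟨b, hb⟩, h⟩ := IsIntegral.exists_multiple_integral_of_isLocalization M.primeCompl z hz
  have h' : IsIntegral ℤ ((b : ℂ) * z) := isIntegral_trans _ h
  exact ⟨⟨_, h'⟩, b, hb, mul_div_cancel_left₀ _ (coe_ne_zero_of_notMem hb)⟩

theorem splits_loc (m : (locRing M)[X]) (hm : m.Monic) : m.Splits := by
  refine Splits.of_splits_map_of_injective (i := (locRing M).subtype) Subtype.val_injective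
    (IsAlgClosed.splits _) fun z hz => ?_
  have : IsIntegral (locRing M) z := ⟨m, hm, by
    rw [← eval_map]; exact (mem_roots (hm.map _).ne_zero).1 hz⟩
  exact ⟨⟨z, memLocalRing_of_isIntegral_loc this⟩, rfl⟩

instance isAlgClosed_resField : IsAlgClosed (resField M) := by
  refine IsAlgClosed.of_exists_root _ fun f hf hirr => ?_
  obtain ⟨g, hg, hd, hm⟩ := lifts_and_degree_eq_and_monic (f := resHom M)
    (mem_lifts_of_surjective residue_surjective f) hf
  obtain ⟨z, hz⟩ := (splits_loc g hm).exists_eval_eq_zero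
    (hd ▸ (degree_pos_of_irreducible hirr).ne')
  exact ⟨resHom M z, by rw [← hg, eval_map, eval₂_at_apply, hz, map_zero]⟩

theorem red_det {ι : Type*} [Fintype ι] [DecidableEq ι] {A : Matrix ι ι ℂ}
    (hA : ∀ i j, MemLocalRing M (A i j)) : red M A.det = (A.map (red M)).det := by
  let A' : Matrix ι ι (locRing M) := fun i j => ⟨A i j, hA i j⟩
  have h1 : A.det = (A'.det : ℂ) := ((locRing M).subtype.map_det A').symm ▸ rfl
  rw [h1, red_val, RingHom.map_det]
  congr 1
  ext i j
  exact (red_eq_resHom (hA i j)).symm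

theorem linearIndependent_of_red {ι X : Type*} [Finite ι] [Finite X] {v : ι → X → ℂ}
    (hv : ∀ i x, MemLocalRing M (v i x))
    (h : LinearIndependent (resField M) fun i x => red M (v i x)) : LinearIndependent ℂ v := by
  classical
  have := Fintype.ofFinite ι
  have := Fintype.ofFinite X
  obtain ⟨L, hL⟩ := LinearMap.exists_leftInverse_of_injective _ (LinearMap.ker_eq_bot.2
    (linearIndependent_iff_injective_fintypeLinearCombination.1 h))
  let c : X → ι → ℂ := fun x j => sec M (L (Pi.single x 1) j)
  let A : Matrix ι ι ℂ := fun i j => ∑ x, v i x * c x j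
  have hA : ∀ i j, MemLocalRing M (A i j) := fun i j =>
    memLocalRing_sum fun x _ => (hv i x).mul (memLocalRing_sec _)
  have hA1 : A.map (red M) = 1 := by
    ext i j
    have e := congrFun (LinearMap.congr_fun hL (Pi.single i 1)) j
    rw [LinearMap.comp_apply, Fintype.linearCombination_apply_single, one_smul,
      LinearMap.pi_apply_eq_sum_univ] at e
    rw [Matrix.map_apply, red_sum fun x _ => (hv i x).mul (memLocalRing_sec _), Matrix.one_apply,
      show (if i = j then (1 : resField M) else 0) = (Pi.single i 1 : ι → resField M) j by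
        simp [Pi.single_apply, eq_comm], ← LinearMap.id_apply (R := resField M) (Pi.single i 1), ← e,
      Finset.sum_apply]
    refine Finset.sum_congr rfl fun x _ => ?_
    rw [red_mul (hv i x) (memLocalRing_sec _), red_sec, Pi.smul_apply, smul_eq_mul]
    rw [show (Pi.single x 1 : X → resField M) = fun y => if x = y then 1 else 0 from
      funext fun y => by simp [Pi.single_apply, eq_comm]]
  have hd : A.det ≠ 0 := fun h0 => by
    have := red_det (M := M) hA
    rw [h0, hA1, red_zero, Matrix.det_one] at this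
    exact zero_ne_one this
  rw [Fintype.linearIndependent_iff]
  intro a ha
  have : Matrix.vecMul a A = 0 := by
    ext j
    have e : ∀ x, ∑ i, a i * v i x = 0 := fun x => by simpa using congrFun ha x
    simp only [Matrix.vecMul, dotProduct, A, Finset.mul_sum, Pi.zero_apply]
    rw [Finset.sum_comm]
    exact Finset.sum_eq_zero fun x _ => by
      simp only [← mul_assoc]; rw [← Finset.sum_mul, e, zero_mul]
  exact congrFun (Matrix.eq_zero_of_vecMul_eq_zero hd this)

end Cfsg.Lib.Block2
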