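import Cfsg.Agent.Lib.Block2.AbCov
import Cfsg.Agent.Lib.Block2.Lift
import Cfsg.Agent.Lib.Clifford.Gallagher

/-! Principal blocks and normal subgroups supplemented by the centralizer of a Sylow subgroup. -/

set_option autoImplicit false
set_option linter.dupNamespace false
set_option linter.unusedSectionVars false
set_option linter.style.haveILetI false

open Cfsg Cfsg.Lib.Block Cfsg.Lib.Block2 Cfsg.Lib.Char Cfsg.Lib.Amalg MonoidAlgebra Subgroup
open scoped ComplexConjugate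

namespace Cfsg.Lib.Block2

variable {G : Type*} [Group G] [Finite G] {p : ℕ} {M : Ideal AlgInt} [M.IsMaximal]

section roots

theorem exists_root_red {m : ℕ} (hm : m ≠ 0) {β : ℂ} (hβ : MemLocalRing M β) {c : resField M}
    (h : c ^ m = red M β) : ∃ γ, MemLocalRing M γ ∧ γ ^ m = β ∧ red M γ = c := by
  have hq := Polynomial.monic_X_pow_sub_C (⟨β, hβ⟩ : locRing M) hm
  have h1 := congrArg (Polynomial.eval₂RingHom (resHom M) c)
    ((splits_loc _ hq).eq_prod_roots_of_monic hq)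
  rw [map_multiset_prod, Multiset.map_map] at h1
  simp only [Polynomial.coe_eval₂RingHom, Polynomial.eval₂_sub, Polynomial.eval₂_X_pow,
    Polynomial.eval₂_C, h, red_eq_resHom hβ, sub_self, Function.comp_def, Polynomial.eval₂_X] at h1
  obtain ⟨r, hr, e⟩ := Multiset.mem_map.1 (Multiset.prod_eq_zero_iff.1 h1.symm)
  refine ⟨r, r.2, ?_, by rw [red_val, sub_eq_zero.1 e]⟩
  have h2 := (Polynomial.mem_roots hq.ne_zero).1 hr
  simp only [Polynomial.IsRoot.def, Polynomial.eval_sub, Polynomial.eval_pow, Polynomial.eval_X,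
    Polynomial.eval_C, sub_eq_zero] at h2
  exact congrArg Subtype.val h2

theorem eq_one_of_red (hM : IsPModular p M) {m : ℕ} (hm : ¬ p ∣ m) {ζ : ℂ} (h : ζ ^ m = 1)
    (h1 : red M ζ = 1) : ζ = 1 := by
  by_contra hne
  have hζ : MemLocalRing M ζ := memLocalRing_of_pow_eq_one (by rintro rfl; simp at hm) h
  have h2 : ∑ i ∈ Finset.range m, ζ ^ i = 0 := by
    rw [← mul_eq_zero_iff_right (sub_ne_zero.2 hne), geom_sum_mul, h, sub_self]
  have h3 := congrArg (red M) h2
  rw [red_sum fun i _ => hζ.pow i, red_zero] at h3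
  simp only [red_pow hζ, h1, one_pow, Finset.sum_const, Finset.card_range, nsmul_eq_mul,
    mul_one] at h3
  haveI := charP_resField hM
  exact hm ((CharP.cast_eq_zero_iff _ p m).1 h3)

theorem memLocalRing_of_pow {z : ℂ} {n : ℕ} (hn : n ≠ 0) (h : MemLocalRing M (z ^ n)) :
    MemLocalRing M z :=
  memLocalRing_of_isIntegral_loc (IsIntegral.of_pow (Nat.pos_of_ne_zero hn)
    (isIntegral_algebraMap (x := (⟨_, h⟩ : locRing M))))

variable (M) in
/-- Local integers congruent to one. -/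
def U1 (z : ℂ) : Prop := MemLocalRing M z ∧ red M z = 1

theorem U1.not_mem {z : ℂ} (h : U1 M z) : ¬ MemLocalIdeal M z := fun e =>
  one_ne_zero (h.2.symm.trans e.red_eq_zero)

theorem U1.ne_zero {z : ℂ} (h : U1 M z) : z ≠ 0 := ne_zero_of_not_memLocalIdeal h.not_mem

theorem U1.mul {x y : ℂ} (h : U1 M x) (h' : U1 M y) : U1 M (x * y) :=
  ⟨h.1.mul h'.1, by rw [red_mul h.1 h'.1, h.2, h'.2, mul_one]⟩

theorem U1.div {x y : ℂ} (h : U1 M x) (h' : U1 M y) : U1 M (x / y) :=
  ⟨h.1.div h'.1 h'.not_mem, by rw [red_div h.1 h'.1 h'.not_mem, h.2, h'.2, div_one]⟩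

theorem exists_coboundary (hM : IsPModular p M) {Γ : Type*} [Group Γ] [Finite Γ]
    (hn : ¬ p ∣ Nat.card Γ) {α : Γ → Γ → ℂ} (h1 : ∀ a b, U1 M (α a b))
    (hc : ∀ a b c, α a b * α (a * b) c = α b c * α a (b * c)) :
    ∃ γ : Γ → ℂ, (∀ a, γ a ≠ 0) ∧ ∀ a b, α a b * γ (a * b) = γ a * γ b := by
  haveI := Fintype.ofFinite Γ
  have h2 : ∀ a, ∃ γ, MemLocalRing M γ ∧ γ ^ Nat.card Γ = ∏ c, α a c ∧ red M γ = 1 := fun a =>
    exists_root_red Nat.card_pos.ne' (memLocalRing_prod fun c _ => (h1 a c).1) (by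
      rw [red_prod fun c _ => (h1 a c).1, one_pow, Finset.prod_eq_one fun c _ => (h1 a c).2])
  choose γ g1 g2 g3 using h2
  have hU : ∀ a, U1 M (γ a) := fun a => ⟨g1 a, g3 a⟩
  refine ⟨γ, fun a => (hU a).ne_zero, fun a b => ?_⟩
  have h0 := ((hU a).mul (hU b)).ne_zero
  rw [← div_eq_one_iff_eq h0]
  refine eq_one_of_red hM hn ?_ (((h1 a b).mul (hU _)).div ((hU a).mul (hU b))).2
  rw [div_pow, div_eq_one_iff_eq (pow_ne_zero _ h0), mul_pow, mul_pow, g2, g2, g2,
    ← Equiv.prod_comp (Equiv.mulLeft b) (α a), mul_comm (∏ _, _), ← Finset.prod_mul_distrib,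
    Nat.card_eq_fintype_card, ← Finset.card_univ, ← Finset.prod_const, ← Finset.prod_mul_distrib]
  exact Finset.prod_congr rfl fun c _ => hc a b c

theorem exists_teich (hM : IsPModular p M) {Γ : Type*} [Group Γ] [Finite Γ]
    (F : Γ →* resField M) : ∃ l : Γ →* ℂˣ, ∀ a, MemLocalRing M (l a) ∧ red M (l a) = F a := by
  haveI := Fact.mk hM.1
  haveI := charP_resField hM
  obtain ⟨k, m, hm, e⟩ := Nat.exists_eq_pow_mul_and_not_dvd (Nat.card_pos (α := Γ)).ne' p hM.1.ne_one
  have hm0 : m ≠ 0 := by rintro rfl; simp at hm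
  have h2 : ∀ a, ∃ γ, MemLocalRing M γ ∧ γ ^ m = 1 ∧ red M γ = F a := fun a =>
    exists_root_red hm0 memLocalRing_one (by
      rw [red_one, ← sub_eq_zero]
      refine pow_eq_zero_iff (n := p ^ k) (pow_ne_zero _ hM.1.ne_zero) |>.1 ?_
      rw [sub_pow_char_pow, ← pow_mul, mul_comm, ← e, ← map_pow, pow_card_eq_one', map_one, one_pow,
        sub_self])
  choose γ g1 g2 g3 using h2
  have h0 : ∀ a, ¬ MemLocalIdeal M (γ a) := fun a => not_memLocalIdeal_of_pow_eq_one hm0 (g2 a)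
  have h3 : ∀ a b, γ (a * b) = γ a * γ b := fun a b => by
    rw [eq_comm, ← div_eq_one_iff_eq (ne_zero_of_not_memLocalIdeal (h0 _))]
    refine eq_one_of_red hM hm (by rw [div_pow, mul_pow, g2, g2, g2]; simp) ?_
    rw [red_div ((g1 a).mul (g1 b)) (g1 _) (h0 _), red_mul (g1 a) (g1 b), g3, g3, g3, map_mul,
      div_self]
    rw [← map_mul, ← g3, Ne, red_eq_zero_iff (g1 _)]
    exact h0 _
  exact ⟨MonoidHom.mk' (fun a => Units.mk0 (γ a) (ne_zero_of_not_memLocalIdeal (h0 a)))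
    fun a b => Units.ext (h3 a b), fun a => ⟨g1 a, g3 a⟩⟩

end roots

/-- The augmentation. -/
noncomputable abbrev augC (x : MonoidAlgebra ℂ G) : ℂ := charExt (fun _ : G => (1 : ℂ)) x

theorem augC_mul (x y : MonoidAlgebra ℂ G) : augC (x * y) = augC x * augC y := by
  haveI := Fintype.ofFinite G
  simp only [charExt_apply, coeff_mul_sum, mul_one]
  rw [Finset.sum_comm, Finset.sum_mul]
  refine Finset.sum_congr rfl fun g _ => ?_
  rw [← Finset.mul_sum, ← Equiv.sum_comp (Equiv.mulLeft g⁻¹) fun h => y.coeff h]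
  rfl

theorem Cfsg.Lib.Block.IsInt.augC {x : MonoidAlgebra ℂ G} (h : IsInt M x) : MemLocalRing M (augC x) := by
  haveI := Fintype.ofFinite G
  rw [Block2.augC, charExt_apply]
  exact memLocalRing_sum fun g _ => (h g).mul memLocalRing_one

variable {N P : Subgroup G} [N.Normal] {a b : G ⧸ N} {x y : MonoidAlgebra ℂ G}
  {θ : IrrCharacter N} {ψ : G → ℂ}

variable (M) in
/-- Integral `N`-fixed elements supported on a coset of `N`. -/
structure Gd (a : G ⧸ N) (x : MonoidAlgebra ℂ G) : Prop where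
  int : IsInt M x
  fix : IsFixed N x
  supp : ∀ g, x.coeff g ≠ 0 → (g : G ⧸ N) = a

theorem supp_mul_coset (hx : ∀ g, x.coeff g ≠ 0 → (g : G ⧸ N) = a)
    (hy : ∀ g, y.coeff g ≠ 0 → (g : G ⧸ N) = b) (g : G) (h : (x * y).coeff g ≠ 0) :
    (g : G ⧸ N) = a * b := by
  haveI := Fintype.ofFinite G
  rw [coeff_mul_sum] at h
  obtain ⟨k, -, hk⟩ := Finset.exists_ne_zero_of_sum_ne_zero h
  rw [← hx k (left_ne_zero_of_mul hk), ← hy _ (right_ne_zero_of_mul hk)]
  simp

theorem Gd.mul (hx : Gd M a x) (hy : Gd M b y) : Gd M (a * b) (x * y) :=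
  ⟨hx.int.mul hy.int, hx.fix.mul hy.fix, supp_mul_coset hx.supp hy.supp⟩

theorem supp_of_coset (hx : ∀ g, x.coeff g ≠ 0 → (g : G ⧸ N) = 1) : Supp N x := fun g hg =>
  by_contra fun h => hg ((QuotientGroup.eq_one_iff g).1 (hx g h))

theorem Gd.cenIn (hx : Gd M (1 : G ⧸ N) x) : CenIn N x := ⟨supp_of_coset hx.supp, hx.fix⟩

theorem Gd.omega (hθ : θ ∈ principalBlock M N) (hx : Gd M (1 : G ⧸ N) x) :
    MemLocalRing M (omega θ.1 (res N x)) ∧ red M (omega θ.1 (res N x)) = red M (augC x) := by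
  have h1 := θ.2.memLocalRing_omega hx.cenIn.res (hx.int.res N)
  have h2 := Cfsg.SameBlock.omega_sub hθ isIrrCharacter_one θ.2 hx.cenIn.res (hx.int.res N)
  rw [omega_apply, div_one, ← charExt_incl (fun _ => 1) N, hx.cenIn.incl_res,
    ← red_eq_zero_iff (hx.int.augC.sub h1), red_sub hx.int.augC h1, sub_eq_zero] at h2
  exact ⟨h1, h2.symm⟩

theorem exists_gd [Fact p.Prime] (hM : IsPModular p M) (hP : Syl p P N) (hcov : N ⊔ 𝐂 P = ⊤)
    (a : G ⧸ N) : ∃ c, Gd M a c ∧ augC c = 1 := by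
  obtain ⟨g, rfl⟩ := QuotientGroup.mk_surjective a
  have hg : g ∈ ((N ⊔ 𝐂 P : Subgroup G) : Set G) := hcov ▸ mem_top g
  rw [normal_mul] at hg
  obtain ⟨n, hn, k, hk, rfl⟩ := hg
  letI : MulAction N G := MulAction.compHom G (MulAut.conj.comp N.subtype)
  have h1 : (clsSet N k).ncard = (MulAction.stabilizer N k).index := by
    rw [MulAction.index_stabilizer]
    congr 1
    ext y
    exact ⟨fun ⟨x, hx, e⟩ => ⟨⟨x, hx⟩, e⟩, fun ⟨x, e⟩ => ⟨x, x.2, e⟩⟩
  have h2 : ¬ p ∣ (clsSet N k).ncard := fun h => hP.not_dvd_relIndex (h.trans (h1 ▸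
    index_dvd_of_le fun x hx => show (x : G) * k * (x : G)⁻¹ = k by
      rw [hk x hx, mul_inv_cancel_right]))
  have h3 : ((clsSet N k).ncard : ℂ) ≠ 0 := by
    rw [Nat.cast_ne_zero]; rintro e; simp [e] at h2
  refine ⟨((clsSet N k).ncard : ℂ)⁻¹ • clsA ℂ N k, ⟨(isInt_setSum _).smul
    (memLocalRing_inv_natCast hM h2), (isFixed_clsA N k).smul _, fun y hy => ?_⟩, ?_⟩
  · rw [coeff_smul'] at hy
    obtain ⟨x, hx, rfl⟩ : y ∈ clsSet N k := by_contra fun h =>
      right_ne_zero_of_mul hy (coeff_setSum_of_notMem h)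
    simp [(QuotientGroup.eq_one_iff x).2 hx, (QuotientGroup.eq_one_iff n).2 hn]
  · rw [augC, map_smul, clsA, charExt_setSum, finsum_mem_eq_finite_toFinset_sum _ (Set.toFinite _)]
    simp [← Set.ncard_eq_toFinset_card, h3]

theorem charExt_mul_of_fixed (hψ : IsCharacter G ψ) (hr : IsIrrCharacter N fun n => ψ n)
    (hx : IsFixed N x) (y : MonoidAlgebra ℂ G) : charExt ψ (x * y) = omega ψ x * charExt ψ y := by
  obtain ⟨n, ρ, rfl⟩ := hψ
  haveI : Representation.IsIrreducible (ρ.comp N.subtype) :=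
    (isIrrCharacter_character_iff (ρ.comp N.subtype)).1 hr
  obtain ⟨c, hc⟩ := exists_eq_smul_id_of_commute (ρ.comp N.subtype) (ρ.asAlgebraHom x) fun g v => by
    have := congrArg (ρ.asAlgebraHom · v) (isFixed_iff_comm.1 hx g g.2)
    simpa using this.symm
  have h1 : ∀ y, charExt ρ.character (x * y) = c * charExt ρ.character y := fun y => by
    rw [← trace_asAlgebraHom, ← trace_asAlgebraHom, map_mul, hc, smul_mul_assoc, map_smul,
      smul_eq_mul]
    rfl
  have h2 := h1 1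
  rw [mul_one, charExt_one] at h2
  rw [h1, omega_apply, h2, mul_div_cancel_right₀ _ (show ρ.character 1 ≠ 0 from hr.apply_one_ne_zero)]

theorem omega_mul_of_fixed (hψ : IsCharacter G ψ) (hr : IsIrrCharacter N fun n => ψ n)
    (hx : IsFixed N x) (y : MonoidAlgebra ℂ G) : omega ψ (x * y) = omega ψ x * omega ψ y := by
  rw [omega_apply, charExt_mul_of_fixed hψ hr hx, mul_div_assoc, ← omega_apply]

theorem Gd.omega' (hθ : θ ∈ principalBlock M N) (e : ∀ n : N, ψ n = θ.1 n)
    (hx : Gd M (1 : G ⧸ N) x) :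
    MemLocalRing M (Block.omega ψ x) ∧ red M (Block.omega ψ x) = red M (augC x) := by
  have : Block.omega ψ x = Block.omega θ.1 (res N x) := by
    rw [omega_apply, omega_apply, ← e 1, ← funext e, ← charExt_incl, hx.cenIn.incl_res]
    rfl
  exact this ▸ hx.omega hθ

theorem omega_lin_mul (l : G ⧸ N →* ℂˣ) (hx : ∀ g, x.coeff g ≠ 0 → (g : G ⧸ N) = a) :
    omega (fun g : G => l g * ψ g) x = l a * omega ψ x := by
  haveI := Fintype.ofFinite G
  simp only [omega_apply_sum, Finset.mul_sum]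
  refine Finset.sum_congr rfl fun g _ => ?_
  by_cases h : x.coeff g = 0
  · simp [h]
  · rw [hx g h]; simp; ring

theorem exists_lin_principal [Fact p.Prime] (hM : IsPModular p M) (hP : Syl p P N)
    (hcov : N ⊔ 𝐂 P = ⊤) (hθ : θ ∈ principalBlock M N) (hψ : IsCharacter G ψ)
    (e : ∀ n : N, ψ n = θ.1 n) : ∃ l : G ⧸ N →* ℂˣ, ∀ x, IsInt M x → IsFixed N x →
      MemLocalIdeal M (augC x - omega (fun g : G => l g * ψ g) x) := by
  classical
  choose c hc h1 using exists_gd hM hP hcov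
  have hr : IsIrrCharacter N fun n => ψ n := funext e ▸ θ.2
  have hp : ∀ a n, Gd M (a ^ n) (c a ^ n) ∧ omega ψ (c a ^ n) = omega ψ (c a) ^ n := fun a n => by
    induction n with
    | zero =>
      simp only [pow_zero]
      refine ⟨⟨isInt_one, cenIn_one.fixed, fun g hg => ?_⟩, omega_one hr.apply_one_ne_zero⟩
      by_contra h
      exact hg (by rw [coeff_one', if_neg (by rintro rfl; exact h rfl)])
    | succ n ih => rw [pow_succ, pow_succ, pow_succ, omega_mul_of_fixed hψ hr ih.1.fix, ih.2]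
                   exact ⟨ih.1.mul (hc a), rfl⟩
  have h2 : ∀ a, MemLocalRing M (omega ψ (c a)) := fun a =>
    memLocalRing_of_pow (Nat.card_pos (α := G ⧸ N)).ne' (by
      rw [← (hp a _).2]; exact (Gd.omega' hθ e (pow_card_eq_one' (x := a) ▸ (hp a _).1)).1)
  have h3 : ∀ a, red M (omega ψ (c a⁻¹)) * red M (omega ψ (c a)) = 1 := fun a => by
    rw [← red_mul (h2 _) (h2 _), ← omega_mul_of_fixed hψ hr (hc _).fix,
      (Gd.omega' hθ e (inv_mul_cancel a ▸ (hc a⁻¹).mul (hc a))).2, augC_mul, h1, h1, mul_one, red_one]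
  have h4 : ∀ a b, red M (omega ψ (c (a * b))) = red M (omega ψ (c a)) * red M (omega ψ (c b)) :=
    fun a b => by
    have := (Gd.omega' hθ e (inv_mul_cancel (a * b) ▸ (hc (a * b)⁻¹).mul ((hc a).mul (hc b)))).2
    rw [omega_mul_of_fixed hψ hr (hc _).fix, omega_mul_of_fixed hψ hr (hc _).fix, augC_mul, augC_mul,
      h1, h1, h1, mul_one, mul_one, red_one, red_mul (h2 _) ((h2 _).mul (h2 _)),
      red_mul (h2 _) (h2 _), ← h3 (a * b)] at this
    exact (mul_left_cancel₀ (left_ne_zero_of_mul_eq_one (h3 _)) this).symm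
  obtain ⟨l, hl⟩ := exists_teich hM (Γ := G ⧸ N) ⟨⟨fun a => red M (omega ψ (c a⁻¹)), by
    have := h4 1 1
    rw [mul_one] at this
    rw [inv_one, ← h3 1, inv_one, ← this]⟩, fun a b => by
      simp only [mul_inv_rev, h4, mul_comm]⟩
  refine ⟨l, fun x hi hf => ?_⟩
  haveI := Fintype.ofFinite (G ⧸ N)
  have hx : x = ∑ a : G ⧸ N, trunc {g : G | (g : G ⧸ N) = a} x := ga_ext fun g => by
    rw [coeff_sum', Finset.sum_eq_single_of_mem (g : G ⧸ N) (Finset.mem_univ _)
      fun a _ ha => coeff_trunc_of_notMem (T := {g : G | (g : G ⧸ N) = a}) _ (Ne.symm ha)]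
    exact (coeff_trunc_of_mem (T := {y : G | (y : G ⧸ N) = g}) _ rfl).symm
  rw [hx, augC, map_sum, map_sum, ← Finset.sum_sub_distrib]
  refine memLocalIdeal_sum fun a _ => ?_
  have h5 : Gd M a (trunc {g : G | (g : G ⧸ N) = a} x) := ⟨hi.trunc _, hf.trunc fun n hn g => by
    simp [(QuotientGroup.eq_one_iff n).2 hn], fun g hg => by_contra fun h =>
      hg (coeff_trunc_of_notMem _ h)⟩
  generalize trunc {g : G | (g : G ⧸ N) = a} x = y at h5
  obtain ⟨h6, h7⟩ := Gd.omega' hθ e (inv_mul_cancel a ▸ (hc a⁻¹).mul h5)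
  rw [omega_mul_of_fixed hψ hr (hc _).fix] at h6 h7
  have h8 : MemLocalRing M (omega ψ y) := by
    have h9 : ¬ MemLocalIdeal M (omega ψ (c a⁻¹)) := fun h =>
      left_ne_zero_of_mul_eq_one (h3 a) h.red_eq_zero
    simpa [ne_zero_of_not_memLocalIdeal h9] using h6.div (h2 _) h9
  rw [omega_lin_mul l h5.supp, ← red_eq_zero_iff (h5.int.augC.sub ((hl a).1.mul h8)),
    red_sub h5.int.augC ((hl a).1.mul h8), red_mul (hl a).1 h8, (hl a).2, sub_eq_zero]
  rw [augC_mul, h1, one_mul, red_mul (h2 _) h8] at h7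
  exact h7.symm

theorem exists_principal_ext [Fact p.Prime] (hM : IsPModular p M) (hP : Syl p P N)
    (hcov : N ⊔ 𝐂 P = ⊤) (hθ : θ ∈ principalBlock M N) (hψ : IsCharacter G ψ)
    (e : ∀ n : N, ψ n = θ.1 n) : ∃ χ ∈ principalBlock M G, (∀ n : N, χ.1 n = θ.1 n) ∧
      ∀ J : Subgroup G, N ≤ J → ∃ ξ ∈ principalBlock M J, ∀ y : J, ξ.1 y = χ.1 y := by
  obtain ⟨l, hl⟩ := exists_lin_principal hM hP hcov hθ hψ e
  have h1 : IsCharacter G fun g : G => l g * ψ g :=
    (isCharacter_linear (l.comp (QuotientGroup.mk' N))).mul hψ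
  have h2 : ∀ n : N, l (n : G) * ψ n = θ.1 n := fun n => by
    rw [(QuotientGroup.eq_one_iff (n : G)).2 n.2, e]; simp
  have h3 : Clifford.IrrOn N fun g : G => l g * ψ g := by
    have := θ.2; rwa [← funext h2] at this
  have h4 : ∀ J : Subgroup G, N ≤ J → Clifford.IrrOn J fun g : G => l g * ψ g := fun J hJ => by
    simpa using (Clifford.irrOn_one J).mul_ext (fun _ _ => rfl) hJ (Clifford.nrm_of_normal J N)
      (Clifford.charOn_of_isCharacter h1 J) h3
  refine ⟨⟨_, Clifford.irrOn_top.1 (h4 ⊤ le_top)⟩, fun g => ?_, h2, fun J hJ =>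
    ⟨⟨_, h4 J hJ⟩, fun g => ?_, fun _ => rfl⟩⟩
  · rw [← omega_classSum (isClassFunction_const 1), ← omega_classSum h1.isClassFunction,
      omega_apply, div_one]
    exact hl _ (isInt_classSum g) ((isCen_classSum g).isFixed N)
  · have := hl _ (isInt_classSum g).incl ((isCen_classSum g).incl.mono hJ)
    rw [← omega_classSum (isClassFunction_const 1), ← omega_classSum (h4 J hJ).isClassFunction,
      omega_apply, div_one]
    rw [augC, charExt_incl, omega_apply, charExt_incl] at this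
    rw [omega_apply]
    exact this

theorem exists_ext_of_principal [Fact p.Prime] (hM : IsPModular p M) (hP : Syl p P N)
    (hcov : N ⊔ 𝐂 P = ⊤) (hi : ¬ p ∣ N.index) (hθ : θ ∈ principalBlock M N) :
    ∃ ψ, IsCharacter G ψ ∧ ∀ n : N, ψ n = θ.1 n := by
  classical
  choose c hc h1 using exists_gd hM hP hcov
  set e : MonoidAlgebra ℂ G := incl N (idem {θ}) with he
  have e1 : CenIn N e := cenIn_incl (isCen_idem _)
  have e2 : e * e = e := by rw [he, ← map_mul, idem_mul_self]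
  have e3 : ∀ x, Gd M (1 : G ⧸ N) x → augC x = 1 → ∃ s, U1 M s ∧ x * e = s • e := fun x hx h => by
    refine ⟨_, ⟨(hx.omega hθ).1, by rw [(hx.omega hθ).2, h, red_one]⟩, ?_⟩
    rw [he, ← hx.cenIn.incl_res, ← map_mul, ← map_smul, res_incl]
    congr 1
    refine (hx.cenIn.res.mul (isCen_idem _)).ext_omega ((isCen_idem _).smul _) fun χ => ?_
    rw [χ.2.omega_mul hx.cenIn.res, map_smul, omega_idem]
    split_ifs with h
    · rw [show χ = θ from h, smul_eq_mul]
    · simp
  have e4 : ∀ a, c a * e = e * c a := fun a => (hc a).fix.comm_supp e1.supp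
  have e5 : ∀ a b, ∃ α, U1 M α ∧ c a * c b * e = α • (c (a * b) * e) := fun a b => by
    obtain ⟨s, hs, h2⟩ := e3 _ (mul_inv_cancel (a * b) ▸ ((hc a).mul (hc b)).mul (hc (a * b)⁻¹))
      (by rw [augC_mul, augC_mul, h1, h1, h1, mul_one, mul_one])
    obtain ⟨t, ht, h3⟩ := e3 _ (inv_mul_cancel (a * b) ▸ (hc (a * b)⁻¹).mul (hc (a * b)))
      (by rw [augC_mul, h1, h1, mul_one])
    refine ⟨s / t, hs.div ht, ?_⟩
    have h4 := congrArg (· * c (a * b)) h2
    simp only [mul_assoc, ← e4, smul_mul_assoc] at h4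
    rw [← mul_assoc (c (a * b)⁻¹), h3, mul_smul_comm, mul_smul_comm, ← mul_assoc] at h4
    rw [div_eq_inv_mul, mul_smul, ← h4, smul_smul, inv_mul_cancel₀ ht.ne_zero, one_smul]
  choose α hα h2 using e5
  have e0 : ∀ a, c a * e ≠ 0 := fun a h => by
    obtain ⟨t, ht, h3⟩ := e3 _ (inv_mul_cancel a ▸ (hc a⁻¹).mul (hc a))
      (by rw [augC_mul, h1, h1, mul_one])
    rw [mul_assoc, h, mul_zero, eq_comm, smul_eq_zero_iff_right ht.ne_zero, he,
      map_eq_zero_iff _ (incl_injective N)] at h3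
    have := omega_idem_of_mem (B := {θ}) rfl
    rw [h3, map_zero] at this
    exact zero_ne_one this
  obtain ⟨γ, g0, hγ⟩ := exists_coboundary hM (Γ := G ⧸ N) hi hα fun a b d => by
    refine smul_left_injective ℂ (e0 (a * b * d)) ?_
    simp only [mul_smul]
    rw [← h2, mul_assoc a, ← h2, mul_assoc (c a), ← mul_smul_comm (α b d), ← h2, mul_assoc, e4,
      ← mul_assoc, ← smul_mul_assoc, ← h2]
    simp only [mul_assoc, ← e4]
  set d : G ⧸ N → MonoidAlgebra ℂ G := fun a => (γ a)⁻¹ • (c a * e) with hd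
  have d1 : ∀ a b, d a * d b = d (a * b) := fun a b => by
    simp only [hd, smul_mul_smul_comm]
    rw [mul_assoc, ← mul_assoc e, ← e4, mul_assoc _ e, e2, ← mul_assoc, h2, smul_smul, ← mul_inv,
      ← hγ]
    congr 1
    field_simp [(hα a b).ne_zero]
  have d2 : d 1 = e := by
    obtain ⟨s, hs, h3⟩ := e3 _ (hc 1) (h1 1)
    have h4 : d 1 = ((γ 1)⁻¹ * s) • e := by simp only [hd, h3, smul_smul]
    have h5 := d1 1 1
    rw [mul_one, h4, smul_mul_smul_comm, e2] at h5
    have h6 := smul_left_injective ℂ (right_ne_zero_of_mul (e0 1)) h5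
    rw [h4, mul_left_cancel₀ (mul_ne_zero (inv_ne_zero (g0 1)) hs.ne_zero) (h6.trans (mul_one _).symm),
      one_smul]
  have d3 : ∀ g : G, Supp N (single g 1 * d (g : G ⧸ N)⁻¹) := fun g => by
    simp only [hd, mul_smul_comm, ← mul_assoc]
    refine ((supp_of_coset fun y hy => ?_).mul e1.supp).smul _
    rw [supp_mul_coset (a := (g : G ⧸ N)) (fun y hy => by
      rw [coeff_single'] at hy; rw [by_contra fun h => hy (if_neg h)]) (hc _).supp y hy,
      mul_inv_cancel]
  have d4 : ∀ a, IsFixed N (d a) := fun a => ((hc a).fix.mul e1.fixed).smul _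
  obtain ⟨θ, n, ρ, hρ, rfl⟩ := θ
  have d5 : ρ.asAlgebraHom (idem {⟨ρ.character, n, ρ, hρ, rfl⟩}) = 1 := by
    obtain ⟨s, hs⟩ := exists_eq_smul_id_of_commute ρ
      (ρ.asAlgebraHom (idem {⟨ρ.character, n, ρ, hρ, rfl⟩})) fun g v => by
      simpa using congrArg (ρ.asAlgebraHom · v) ((isCen_idem _).comm (single g 1))
    have h3 := omega_idem_of_mem (B := {⟨ρ.character, n, ρ, hρ, rfl⟩}) rfl
    rw [omega_apply, ← trace_asAlgebraHom, hs, map_smul, smul_eq_mul] at h3
    have h4 : ρ.character 1 = LinearMap.trace ℂ (Fin n → ℂ) LinearMap.id := by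
      rw [Representation.character, map_one]; rfl
    rw [← h4, mul_div_cancel_right₀ _ (isIrrCharacter_character ρ).apply_one_ne_zero] at h3
    rw [hs, h3, one_smul]; rfl
  let T : Representation ℂ G (Fin n → ℂ) :=
    { toFun := fun g => ρ.asAlgebraHom (res N (single g 1 * d (g : G ⧸ N)⁻¹))
      map_one' := by
        rw [QuotientGroup.mk_one, inv_one, d2, ← one_def, one_mul, he, res_incl, d5]
      map_mul' := fun g h => by
        rw [← map_mul, ← (d3 g).res_mul, mul_assoc, (d4 _).comm_supp (d3 h), mul_assoc, d1,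
          ← mul_assoc, single_mul_single, one_mul, QuotientGroup.mk_mul, mul_inv_rev] }
  refine ⟨_, isCharacter_character T, fun m => ?_⟩
  change LinearMap.trace ℂ _ (ρ.asAlgebraHom (res N (single (m : G) 1 * d ((m : G) : G ⧸ N)⁻¹))) = _
  rw [(QuotientGroup.eq_one_iff (m : G)).2 m.2, inv_one, d2, he, ← incl_single, ← map_mul, res_incl,
    map_mul, d5, mul_one, Representation.asAlgebraHom_single_one]
  rfl

theorem eq_of_principal_over [Fact p.Prime] (hM : IsPModular p M) (hP : Syl p P ⊤)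
    (hcov : N ⊔ 𝐂 P = ⊤) (hi : ¬ p ∣ N.index) {χ χ' : IrrCharacter G}
    (hχ : χ ∈ principalBlock M G) (hχ' : χ' ∈ principalBlock M G) (e : ∀ n : N, χ.1 n = θ.1 n)
    (ho : Over N.subtype χ'.1 θ.1) : χ' = χ := by
  haveI := Fintype.ofFinite (G ⧸ N)
  obtain ⟨β, hβ, h⟩ := Clifford.exists_mul_ext le_top (Clifford.nrm_of_normal ⊤ N)
    (Clifford.charOn_top.2 χ.2.isCharacter) (by have := θ.2; rwa [← funext e] at this)
    (Clifford.irrOn_top.2 χ'.2) (by
      rw [Clifford.dot_congr_right _ (ψ' := extendByZero N θ.1) fun x hx => by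
        rw [extendByZero_of_mem _ hx, ← e]]
      exact over_subtype_iff_dot.1 ho)
  rw [Clifford.mem_IrrKer, Clifford.mem_Irr_top] at hβ
  obtain ⟨μ, hμ, rfl⟩ := hβ.1.exists_quotient N fun n hn => hβ.1.isCharacter.mem_charKer.2 (hβ.2 n hn)
  have h0 := hμ.apply_one_ne_zero
  have h1 : ∀ a, U1 M (μ a / μ 1) := fun a => by
    obtain ⟨g, rfl⟩ := QuotientGroup.mk_surjective a
    have hg : g ∈ ((N ⊔ 𝐂 P : Subgroup G) : Set G) := hcov ▸ mem_top g
    rw [normal_mul] at hg
    obtain ⟨n, hn, k, hk, rfl⟩ := hg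
    have h2 : ¬ p ∣ (centralizer {k}).index := fun h => hP.not_dvd_index (h.trans
      (index_dvd_of_le fun x hx => mem_centralizer_singleton_iff.2 (hk x hx)))
    have h3 : ∀ ξ ∈ principalBlock M G,
        U1 M (centralChar ξ.1 k / (centralizer {k}).index) := fun ξ hξ => by
      have h4 := ξ.2.memLocalRing_centralChar (M := M) k
      have h5 := hξ k
      have h6 := (memLocalIdeal_natCast_iff hM _).not.2 h2
      rw [centralChar, mul_one, div_one, ← red_eq_zero_iff ((memLocalRing_natCast _).sub h4),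
        red_sub (memLocalRing_natCast _) h4, sub_eq_zero] at h5
      refine ⟨h4.div (memLocalRing_natCast _) h6, ?_⟩
      rw [red_div h4 (memLocalRing_natCast _) h6, h5, div_self]
      rwa [← h5, Ne, red_eq_zero_iff (memLocalRing_natCast _)]
    have h4 := (h3 _ hχ').div (h3 _ hχ)
    have h5 := (h3 _ hχ).ne_zero
    have h6 := χ.2.apply_one_ne_zero
    have h7 : χ.1 k ≠ 0 := fun e => h5 (by simp [centralChar, e])
    have h8 : ((centralizer {k}).index : ℂ) ≠ 0 := fun e => h5 (by simp [e])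
    convert h4 using 1
    simp only [centralChar, h _ (mem_top _), QuotientGroup.mk_mul, QuotientGroup.mk_one,
      (QuotientGroup.eq_one_iff n).2 hn, one_mul]
    field_simp
  have h2 : classInner μ (fun _ => 1) ≠ 0 := fun h3 => by
    have h4 : ∑ a, μ a / μ 1 = 0 := by
      rw [← Finset.sum_div, div_eq_zero_iff]; left
      simpa [classInner_def] using h3
    have h5 := congrArg (red M) h4
    rw [red_sum fun a _ => (h1 a).1, red_zero, Finset.sum_congr rfl fun a _ => (h1 a).2] at h5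
    haveI := charP_resField hM
    rw [Finset.sum_const, nsmul_one, CharP.cast_eq_zero_iff _ p, Finset.card_univ,
      ← Nat.card_eq_fintype_card] at h5
    exact hi h5
  have h3 := hμ.eq_of_classInner_ne_zero isIrrCharacter_one h2
  exact Subtype.ext (funext fun g => by rw [h g (mem_top g), h3, one_mul])

end Cfsg.Lib.Block2
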