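import Cfsg.Agent.Lib.Block2.Dade
import Cfsg.Agent.Lib.Clifford.Cover
import Cfsg.Agent.Lib.Char.Galois

/-! Rational extensions of characters in principal blocks. -/

set_option autoImplicit false
set_option linter.dupNamespace false
set_option linter.unusedSectionVars false
set_option linter.style.haveILetI false

open Cfsg Cfsg.Lib.Block Cfsg.Lib.Block2 Cfsg.Lib.Char Cfsg.Lib.Amalg MonoidAlgebra Subgroup
open Cfsg.Lib.Clifford
open scoped ComplexConjugate IntermediateField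

namespace Cfsg.Lib.Block2

variable {G : Type*} [Group G] [Finite G] {p : ℕ} {M : Ideal AlgInt} [M.IsMaximal]

theorem mem_adjoin_of_fixed {ζ α : ℂ} (hζ : IsIntegral ℚ ζ) (hα : IsIntegral ℚ α)
    (h : ∀ σ : ℂ ≃+* ℂ, σ ζ = ζ → σ α = α) : α ∈ ℚ⟮ζ⟯ := by
  classical
  have hα' : IsIntegral ℚ⟮ζ⟯ α := hα.tower_top
  haveI := IntermediateField.adjoin.finiteDimensional hζ
  haveI := IntermediateField.adjoin.finiteDimensional hα'
  haveI : FiniteDimensional ℚ ℚ⟮ζ⟯⟮α⟯ := Module.Finite.trans ℚ⟮ζ⟯ _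
  have hdeg : (minpoly ℚ⟮ζ⟯ α).natDegree ≤ 1 := by
    rw [← Polynomial.card_rootSet_eq_natDegree (K := ℂ) (minpoly.irreducible hα').separable
      (IsAlgClosed.splits _), Fintype.card_le_one_iff]
    have key : ∀ x : (minpoly ℚ⟮ζ⟯ α).rootSet ℂ, (x : ℂ) = α := fun x => by
      have hβ : x.1 ∈ (minpoly ℚ⟮ζ⟯ α).aroots ℂ := by
        rw [Polynomial.mem_aroots]
        exact ⟨minpoly.ne_zero hα', Polynomial.aeval_eq_zero_of_mem_rootSet x.2⟩
      set φ := (IntermediateField.algHomAdjoinIntegralEquiv ℚ⟮ζ⟯ hα').symm ⟨_, hβ⟩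
      obtain ⟨σ, hσ⟩ := exists_ringEquiv_extend (algebraMap ℚ⟮ζ⟯⟮α⟯ ℂ) φ.toRingHom
      refine Eq.trans ?_ (h σ ((hσ (algebraMap ℚ⟮ζ⟯ _ (IntermediateField.AdjoinSimple.gen ℚ ζ))).trans
        (φ.commutes _)))
      exact ((hσ (IntermediateField.AdjoinSimple.gen ℚ⟮ζ⟯ α)).trans
        (IntermediateField.algHomAdjoinIntegralEquiv_symm_apply_gen ℚ⟮ζ⟯ hα' ⟨_, hβ⟩)).symm
    exact fun a b => Subtype.ext ((key a).trans (key b).symm)
  obtain ⟨q, hq⟩ := minpoly.natDegree_eq_one_iff.1 (le_antisymm hdeg (minpoly.natDegree_pos hα'))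
  exact hq ▸ q.2

theorem map_eq_of_mem_adjoin {ζ α : ℂ} (σ : ℂ ≃+* ℂ) (h : σ ζ = ζ) (hα : α ∈ ℚ⟮ζ⟯) : σ α = α := by
  induction hα using IntermediateField.adjoin_induction with
  | mem x hx => rw [show x = ζ from hx, h]
  | algebraMap x => exact map_ratCast σ x
  | add x y _ _ hx hy => rw [map_add, hx, hy]
  | inv x _ hx => rw [map_inv₀, hx]
  | mul x y _ _ hx hy => rw [map_mul, hx, hy]

theorem detChar_of_pow {χ ψ : G → ℂ} (hχ : IsCharacter G χ) (hψ : IsCharacter G ψ) {u : G} {k : ℕ}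
    (h : ∀ x ∈ zpowers u, ψ x = χ (x ^ k)) : detChar ψ u = detChar χ (u ^ k) := by
  have h1 := detChar_comp hψ (zpowers u).subtype ⟨u, mem_zpowers u⟩
  have h2 := detChar_comp hχ (MonoidHom.mk' (fun x : zpowers u => (x : G) ^ k) fun x y =>
    Commute.mul_pow (congrArg Subtype.val (mul_comm' x y)) k) ⟨u, mem_zpowers u⟩
  refine h1.symm.trans (Eq.trans ?_ h2)
  congr 1
  exact funext fun x => h x x.2

theorem detChar_pow (χ : G → ℂ) (u : G) (k : ℕ) : detChar χ (u ^ k) = detChar χ u ^ k := by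
  induction k with
  | zero => rw [pow_zero, pow_zero, detChar_one]
  | succ k ih => rw [pow_succ, pow_succ, detChar_mul, ih]

theorem detChar_eq_one_of_rat (hp : p.Prime) (h2 : p ≠ 2) {θ : G → ℂ} (hθ : IsCharacter G θ) {m : ℕ}
    (hm : ¬ p ∣ m) (hrat : ∀ g, θ g ∈ ℚ⟮Complex.exp (2 * Real.pi * Complex.I / m)⟯) {u : G} {e : ℕ}
    (hu : u ^ p ^ e = 1) : detChar θ u = 1 := by
  have hm0 : m ≠ 0 := by rintro rfl; simp at hm
  have hc : m.Coprime (p ^ e) := ((hp.coprime_iff_not_dvd.2 hm).symm).pow_right e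
  obtain ⟨k, h1, h3⟩ := Nat.chineseRemainder hc 1 2
  obtain ⟨σ, hσ⟩ := exists_ringEquiv_pow (n := m * p ^ e) (k := k)
    (mul_ne_zero hm0 (pow_ne_zero _ hp.ne_zero)) (Nat.Coprime.mul_right
      (by rw [Nat.Coprime, h1.gcd_eq]; simp) (by
        rw [Nat.Coprime, h3.gcd_eq]
        exact ((Nat.coprime_primes Nat.prime_two hp).2 h2.symm).pow_right e))
  have hz := (Complex.isPrimitiveRoot_exp m hm0).pow_eq_one
  have h4 := detChar_of_pow hθ hθ (u := u) (k := k) fun x ⟨j, hj⟩ => by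
    rw [← hθ.isGeneralizedCharacter.map_eq_apply_pow σ.toRingHom hσ (g := x) (by
      rw [← hj, mul_comm, ← zpow_natCast, ← zpow_mul, mul_comm, zpow_mul, zpow_natCast, pow_mul, hu,
        one_pow, one_zpow])]
    refine (map_eq_of_mem_adjoin σ ?_ (hrat x)).symm
    rw [hσ _ (by rw [pow_mul, hz, one_pow]), pow_eq_pow_mod k hz, h1, ← pow_eq_pow_mod 1 hz, pow_one]
  rw [pow_eq_pow_mod k hu, h3, ← pow_eq_pow_mod 2 hu, sq, detChar_mul] at h4
  have h5 : detChar θ u ^ p ^ e = 1 := by rw [← detChar_pow, hu, detChar_one]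
  exact (mul_eq_left₀ (by rintro h; simp [h, hp.ne_zero] at h5)).1 h4.symm

theorem mem_principalBlock_of_u1 [Fact p.Prime] (hM : IsPModular p M)
    {χ : IrrCharacter G} (hd : ¬ p ∣ charDegree χ.1)
    (h : ∀ g : G, ¬ p ∣ (centralizer {g}).index → U1 M (χ.1 g / χ.1 1)) :
    χ ∈ principalBlock M G := fun g => by
  have h1 : MemLocalRing M (χ.1 g / χ.1 1) := (χ.2.isCharacter.memLocalRing g).div
    (χ.2.isCharacter.memLocalRing 1) (by
      rw [← cast_deg χ.2.isCharacter, memLocalIdeal_natCast_iff hM]; exact hd)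
  rw [centralChar, centralChar, mul_one, div_one, mul_div_assoc, ← mul_one_sub]
  by_cases hg : p ∣ (centralizer {g}).index
  · exact ((memLocalIdeal_natCast_iff hM _).2 hg).mul_right (memLocalRing_one.sub h1)
  · refine Cfsg.MemLocalIdeal.mul_left ?_ (memLocalRing_natCast _)
    rw [← red_eq_zero_iff (memLocalRing_one.sub h1), red_sub memLocalRing_one h1, red_one, (h g hg).2,
      sub_self]

variable {N P : Subgroup G} [N.Normal] {θ : IrrCharacter N} {ψ : G → ℂ}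

theorem exists_gd' [Fact p.Prime] (hM : IsPModular p M) (hP : Syl p P N) {k : G} (hk : k ∈ 𝐂 P) :
    ∃ c, Gd M (k : G ⧸ N) c ∧ ∀ ψ, IsClassFunction G ψ → charExt ψ c = ψ k := by
  letI : MulAction N G := MulAction.compHom G (MulAut.conj.comp N.subtype)
  have h1 : (clsSet N k).ncard = (MulAction.stabilizer N k).index := by
    rw [MulAction.index_stabilizer]
    congr 1
    ext y
    exact ⟨fun ⟨x, hx, e⟩ => ⟨⟨x, hx⟩, e⟩, fun ⟨x, e⟩ => ⟨x, x.2, e⟩⟩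
  have h2 : ¬ p ∣ (clsSet N k).ncard := fun h => hP.not_dvd_relIndex (h.trans (h1 ▸
    index_dvd_of_le fun x hx => show (x : G) * k * (x : G)⁻¹ = k by
      rw [hk x hx, mul_inv_cancel_right]))
  have h3 : ((clsSet N k).ncard : ℂ) ≠ 0 := by
    rw [Nat.cast_ne_zero]; rintro e; simp [e] at h2
  refine ⟨((clsSet N k).ncard : ℂ)⁻¹ • clsA ℂ N k, ⟨(isInt_setSum _).smul
    (memLocalRing_inv_natCast hM h2), (isFixed_clsA N k).smul _, fun y hy => ?_⟩, fun ψ hψ => ?_⟩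
  · rw [coeff_smul'] at hy
    obtain ⟨x, hx, rfl⟩ : y ∈ clsSet N k := by_contra fun h =>
      right_ne_zero_of_mul hy (coeff_setSum_of_notMem h)
    simp [(QuotientGroup.eq_one_iff x).2 hx]
  · rw [map_smul, clsA, charExt_setSum, finsum_mem_eq_finite_toFinset_sum _ (Set.toFinite _),
      Finset.sum_congr rfl (g := fun _ => ψ k) fun y hy => by
        obtain ⟨x, -, rfl⟩ := (Set.Finite.mem_toFinset _).1 hy
        exact hψ.conj_eq k x]
    simp [← Set.ncard_eq_toFinset_card, h3]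

theorem u1_ratio [Fact p.Prime] (hM : IsPModular p M) (hP : Syl p P N)
    (hθ : θ ∈ principalBlock M N) (hψ : IsCharacter G ψ) (e : ∀ n : N, ψ n = θ.1 n) {a b c : G}
    (ha : a ∈ 𝐂 P) (hb : b ∈ 𝐂 P) (hc : c ∈ 𝐂 P) (h : a * b * c ∈ N) :
    U1 M (ψ a / ψ 1 * (ψ b / ψ 1) * (ψ c / ψ 1)) := by
  have hr : IsIrrCharacter N fun n => ψ n := funext e ▸ θ.2
  obtain ⟨x, x1, x2⟩ := exists_gd' hM hP ha
  obtain ⟨y, y1, y2⟩ := exists_gd' hM hP hb
  obtain ⟨z, z1, z2⟩ := exists_gd' hM hP hc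
  have h1 := (x1.mul y1).mul z1
  rw [← QuotientGroup.mk_mul, ← QuotientGroup.mk_mul, (QuotientGroup.eq_one_iff _).2 h] at h1
  have h2 := h1.omega' hθ e
  rw [omega_mul_of_fixed hψ hr (x1.mul y1).fix, omega_mul_of_fixed hψ hr x1.fix, augC_mul, augC_mul,
    augC, augC, augC, x2 _ (isClassFunction_const 1), y2 _ (isClassFunction_const 1),
    z2 _ (isClassFunction_const 1), omega_apply, omega_apply, omega_apply, x2 _ hψ.isClassFunction,
    y2 _ hψ.isClassFunction, z2 _ hψ.isClassFunction, mul_one, mul_one, red_one] at h2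
  exact h2

theorem exists_teich' (hM : IsPModular p M) {Γ : Type*} [Group Γ] [Finite Γ]
    (F : Γ →* resField M) :
    ∃ l : Γ →* ℂˣ, ∃ m, ¬ p ∣ m ∧ ∀ a, (l a : ℂ) ^ m = 1 ∧ red M (l a) = F a := by
  obtain ⟨l, hl⟩ := exists_teich hM F
  haveI := Fact.mk hM.1
  haveI := charP_resField hM
  obtain ⟨k, m, hm, e⟩ := Nat.exists_eq_pow_mul_and_not_dvd (Nat.card_pos (α := Γ)).ne' p hM.1.ne_one
  obtain ⟨j, h1, h2⟩ := Nat.chineseRemainder ((hM.1.coprime_iff_not_dvd.2 hm).pow_left k) 0 1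
  obtain ⟨i, rfl⟩ := (Nat.modEq_zero_iff_dvd.1 h1)
  refine ⟨(powMonoidHom (p ^ k * i)).comp l, m, hm, fun a => ⟨?_, ?_⟩⟩
  · simp only [MonoidHom.comp_apply, powMonoidHom_apply]
    rw [← Units.val_pow_eq_pow_val, ← pow_mul, mul_right_comm, ← e, pow_mul, ← map_pow,
      pow_card_eq_one', map_one, one_pow, Units.val_one]
  · have h3 : F a ^ m = 1 := by
      rw [← sub_eq_zero]
      refine pow_eq_zero_iff (n := p ^ k) (pow_ne_zero _ hM.1.ne_zero) |>.1 ?_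
      rw [sub_pow_char_pow, ← pow_mul, mul_comm, ← e, ← map_pow, pow_card_eq_one', map_one, one_pow,
        sub_self]
    simp only [MonoidHom.comp_apply, powMonoidHom_apply, Units.val_pow_eq_pow_val]
    rw [red_pow (hl a).1, (hl a).2, pow_eq_pow_mod _ h3, h2, ← pow_eq_pow_mod _ h3, pow_one]

theorem mem_sup_cent {g : G} : g ∈ N ⊔ 𝐂 P ↔ ∃ c ∈ 𝐂 P, (c : G ⧸ N) = g := by
  rw [← SetLike.mem_coe, normal_mul]
  refine ⟨fun ⟨n, hn, c, hc, e⟩ => ⟨c, hc, by simp [← e, (QuotientGroup.eq_one_iff n).2 hn]⟩,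
    fun ⟨c, hc, e⟩ => ⟨g * c⁻¹, (QuotientGroup.eq_one_iff _).1 (by simp [e]), c, hc, by simp⟩⟩

theorem exists_lin_u1 [Fact p.Prime] (hM : IsPModular p M) (hP : Syl p P N)
    (hθ : θ ∈ principalBlock M N) (hψ : IsCharacter G ψ) (e : ∀ n : N, ψ n = θ.1 n)
    (hd : ¬ p ∣ charDegree ψ) {a : ℕ} (hi : (N ⊔ 𝐂 P).index = p ^ a) :
    ∃ μ, LinOn ⊤ μ ∧ (∀ n ∈ N, μ n = 1) ∧ ∀ c ∈ 𝐂 P, U1 M (μ c * ψ c / ψ 1) := by
  have h0 : ψ 1 ≠ 0 := (e 1).trans_ne θ.2.apply_one_ne_zero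
  have h1 : ∀ c, MemLocalRing M (ψ c / ψ 1) := fun c => (hψ.memLocalRing c).div (hψ.memLocalRing 1) (by
    rw [← cast_deg hψ, memLocalIdeal_natCast_iff hM]; exact hd)
  set F : G → resField M := fun c => red M (ψ c / ψ 1) with hF
  have h2 : ∀ a ∈ 𝐂 P, ∀ b ∈ 𝐂 P, ∀ c ∈ 𝐂 P, ((a * b * c : G) : G ⧸ N) = 1 → F a * F b * F c = 1 :=
    fun a ha b hb c hc h => by
      simpa only [red_mul (h1 _) (h1 _), red_mul ((h1 _).mul (h1 _)) (h1 _)] using
        (u1_ratio hM hP hθ hψ e ha hb hc ((QuotientGroup.eq_one_iff _).1 h)).2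
  have h3 : ∀ a ∈ 𝐂 P, ∀ b ∈ 𝐂 P, (a : G ⧸ N) = b → F a⁻¹ * F b = 1 := fun a ha b hb h => by
    simpa [hF, h0, red_one] using h2 _ (inv_mem ha) _ hb _ (one_mem _) (by simp [h])
  choose c hc1 hc2 using fun g : (N ⊔ 𝐂 P : Subgroup G) => mem_sup_cent.1 g.2
  obtain ⟨l, m, hm, hl⟩ := exists_teich' hM (Γ := (N ⊔ 𝐂 P : Subgroup G)) ⟨⟨fun g => F (c g)⁻¹, by
    simpa [hF, h0, red_one] using h3 _ (hc1 1) _ (one_mem _) (hc2 1)⟩, fun g h => by
      have h4 := h2 _ (inv_mem (hc1 h)) _ (inv_mem (hc1 g)) _ (hc1 (g * h)) (by simp [hc2])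
      rw [← h3 _ (hc1 (g * h)) _ (hc1 _) rfl] at h4
      exact (mul_right_cancel₀ (right_ne_zero_of_mul_eq_one (h3 _ (hc1 (g * h)) _ (hc1 _) rfl))
        h4).symm.trans (mul_comm _ _)⟩
  have hm0 : m ≠ 0 := by rintro rfl; simp at hm
  have h4 : ∀ (g : (N ⊔ 𝐂 P : Subgroup G)), ∀ d ∈ 𝐂 P, (d : G ⧸ N) = g → red M (l g) * F d = 1 :=
    fun g d hd h => (hl g).2 ▸ h3 _ (hc1 g) _ hd ((hc2 g).trans h.symm)
  have h5 : ∀ g g' : (N ⊔ 𝐂 P : Subgroup G), red M (l g) = red M (l g') → (l g : ℂ) = l g' :=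
    fun g g' h => by
    have h6 := not_memLocalIdeal_of_pow_eq_one (M := M) hm0 (hl g').1
    have h7 := memLocalRing_of_pow_eq_one (M := M) hm0 (hl g').1
    rw [← div_eq_one_iff_eq (Units.ne_zero _)]
    refine eq_one_of_red hM hm (by rw [div_pow, (hl g).1, (hl g').1, div_one]) ?_
    rw [red_div (memLocalRing_of_pow_eq_one hm0 (hl g).1) h7 h6, h, div_self]
    rwa [Ne, red_eq_zero_iff h7]
  have h6 : ∀ g x : G, ∀ d ∈ 𝐂 P, (d : G ⧸ N) = x →
      ∃ d' ∈ 𝐂 P, (d' : G ⧸ N) = (g * x * g⁻¹ : G) ∧ F d' = F d := fun g x d hd h => by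
    obtain ⟨n, hn, y, hy, rfl⟩ := hP.frattini_mem (g := g) (by rw [normalizer_eq_top]; trivial)
    refine ⟨y * d * y⁻¹, ?_, by simp [h, (QuotientGroup.eq_one_iff n).2 hn], by
      simp only [hF, hψ.isClassFunction.conj_eq]⟩
    rw [← conj_mem_cj_iff (g := y), cj_centralizer, cj_of_mem_normalizer hy] at hd
    exact hd
  have h7 : Nrm ⊤ (N ⊔ 𝐂 P) := fun g _ x hx => by
    obtain ⟨d, hd, h⟩ := mem_sup_cent.1 hx
    obtain ⟨d', h1, h2, -⟩ := h6 g x d hd h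
    exact mem_sup_cent.2 ⟨d', h1, h2⟩
  obtain ⟨μ, m1, m2, -⟩ := (linOn_of_hom (lam := extendByZero (N ⊔ 𝐂 P) fun g => l g) l
    fun x => extendByZero_coe _ x).exists_ext_of_coprime le_top h7 (fun g _ x hx => by
      obtain ⟨d, hd, h⟩ := mem_sup_cent.1 hx
      obtain ⟨d', h1, h2, h3⟩ := h6 g x d hd h
      rw [Clifford.extendByZero_of_mem _ hx, Clifford.extendByZero_of_mem _ (h7 g trivial x hx)]
      have h8 := h4 ⟨x, hx⟩ d hd h
      exact h5 _ _ (mul_right_cancel₀ (right_ne_zero_of_mul_eq_one h8)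
        ((h3 ▸ h4 ⟨_, h7 g trivial x hx⟩ d' h1 h2).trans h8.symm))) (by
      rw [relIndex_top_right, hi]
      refine ((hM.1.coprime_iff_not_dvd.2 hm).pow_left a).coprime_dvd_right
        (ordOn_dvd_iff.2 fun x hx => ?_)
      rw [Clifford.extendByZero_of_mem _ hx, (hl _).1])
  refine ⟨μ, m1, fun n hn => ?_, fun d hd => ?_⟩
  · rw [m2 n (mem_sup_left hn), Clifford.extendByZero_of_mem _ (mem_sup_left hn)]
    refine eq_one_of_red hM hm (hl _).1 ?_
    simpa [hF, h0, red_one] using h4 ⟨n, mem_sup_left hn⟩ 1 (one_mem _)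
      ((QuotientGroup.eq_one_iff n).2 hn).symm
  · have h8 := memLocalRing_of_pow_eq_one (M := M) hm0 (hl ⟨d, mem_sup_right hd⟩).1
    rw [m2 d (mem_sup_right hd), Clifford.extendByZero_of_mem _ (mem_sup_right hd), mul_div_assoc]
    exact ⟨h8.mul (h1 d), (red_mul h8 (h1 d)).trans (h4 _ d hd rfl)⟩

theorem exists_ext_of_principal_pow [Fact p.Prime] (hM : IsPModular p M) (hP : Syl p P N)
    (hθ : θ ∈ principalBlock M N) (hinv : ∀ g : G, ∀ n n' : N, (n' : G) = g * n * g⁻¹ → θ.1 n' = θ.1 n)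
    (hd : ¬ p ∣ charDegree θ.1) (ho : ∀ (u : N) e, u ^ p ^ e = 1 → detChar θ.1 u = 1) {a : ℕ}
    (hi : (N ⊔ 𝐂 P).index = p ^ a) : ∃ ψ, IsCharacter G ψ ∧ ∀ n : N, ψ n = θ.1 n := by
  have h1 : IrrOn N (extendByZero N θ.1) := irrOn_extendByZero.2 θ.2
  have h2 : InvOn ⊤ N (extendByZero N θ.1) := fun g _ n hn => by
    rw [Clifford.extendByZero_of_mem _ hn,
      Clifford.extendByZero_of_mem _ (Normal.conj_mem inferInstance n hn g)]
    exact hinv g _ _ rfl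
  have h3 : ∀ {r : ℕ} [Fact r.Prime] {R : Subgroup G}, IsPGroup r R →
      ∃ k, N.relIndex (N ⊔ R) ∣ r ^ k := fun hR => by
    obtain ⟨k, hk⟩ := hR.exists_card_eq
    exact ⟨k, by rw [relIndex_sup_left, ← hk]; exact relIndex_dvd_card _ _⟩
  obtain ⟨χ, h4, h5⟩ := exists_ext_of_sylow le_top (nrm_of_normal _ N) h1 h2 fun r hr _ => by
    by_cases e : r = p
    · subst e
      obtain ⟨T, hT⟩ := exists_syl r (⊤ : Subgroup G)
      obtain ⟨k, hk⟩ := h3 hT.isPGroup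
      obtain ⟨j, m, hm, e⟩ := Nat.exists_eq_pow_mul_and_not_dvd (Nat.card_pos (α := N)).ne' r hr.ne_one
      obtain ⟨η, h4, h5, -⟩ := exists_ext_of_coprime (K := N ⊔ T) le_sup_left (nrm_of_normal _ N) h1
        (h2.mono le_top le_rfl) (Nat.Coprime.coprime_dvd_left hk (Nat.Coprime.pow_left k
          (Nat.Coprime.mul_right ((hr.coprime_iff_not_dvd.2 hm).coprime_dvd_right
            (ordOn_dvd_iff.2 fun x hx => by
              rw [detOn_apply _ (⟨x, hx⟩ : N), res_extendByZero, ← detChar_pow]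
              exact ho _ j (by rw [← pow_mul, mul_comm, ← e, pow_card_eq_one'])))
            (hr.coprime_iff_not_dvd.2 (by rwa [← charDegree_res N, res_extendByZero])))))
      exact ⟨N ⊔ T, le_sup_left, le_top, hT.not_dvd_relIndex_of_le le_sup_right, η,
        (irrOn_of_mem h4).charOn, h5⟩
    haveI := Fact.mk hr
    obtain ⟨R, hR⟩ := exists_syl r (𝐂 P)
    obtain ⟨k, hk⟩ := h3 hR.isPGroup
    obtain ⟨η, h4, h5⟩ := exists_ext_of_principal (N := N.subgroupOf (N ⊔ R)) hM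
      (hP.subgroupOf le_sup_left) (θ := irrCongr (subgroupOfEquivOfLe le_sup_left).symm θ)
      (eq_top_iff.2 fun x _ => by
        obtain ⟨n, hn, y, hy, e⟩ := (Set.ext_iff.1 (normal_mul N R) x).1 x.2
        rw [show x = ⟨n, mem_sup_left hn⟩ * ⟨y, mem_sup_right hy⟩ from Subtype.ext e.symm]
        exact mul_mem_sup hn fun z hz => Subtype.ext (hR.le hy z hz))
      (fun h => e ((Nat.prime_dvd_prime_iff_eq hM.1 hr).1 (hM.1.dvd_of_dvd_pow (h.trans hk))).symm)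
      (by rw [← image_principalBlock (subgroupOfEquivOfLe le_sup_left).symm]
          exact Set.mem_image_of_mem _ hθ)
    refine ⟨N ⊔ R, le_sup_left, le_top, fun h => ?_, _, charOn_extendByZero.2 h4, fun n hn => ?_⟩
    · rw [← relIndex_mul_relIndex _ (N ⊔ 𝐂 P) _ (sup_le_sup_left hR.le N) le_top, relIndex_top_right,
        hi, hr.dvd_mul] at h
      refine h.elim (fun h => (hR.map (QuotientGroup.mk' N)).not_dvd_relIndex ?_) fun h =>
        e ((Nat.prime_dvd_prime_iff_eq hr hM.1).1 (hr.dvd_of_dvd_pow h))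
      rwa [sup_comm N R, ← QuotientGroup.ker_mk' N, ← comap_map_eq, relIndex_comap, Subgroup.map_sup,
        (Subgroup.map_eq_bot_iff _).2 le_rfl, bot_sup_eq] at h
    · rw [Clifford.extendByZero_of_mem _ hn, Clifford.extendByZero_of_mem _ (mem_sup_left hn)]
      exact h5 ⟨⟨n, mem_sup_left hn⟩, hn⟩
  exact ⟨χ, (mem_Irr_top.1 h4).isCharacter, fun n => (h5 n n.2).trans (extendByZero_coe _ n)⟩

theorem exists_good_ext [Fact p.Prime] (hM : IsPModular p M) (hP : Syl p P N)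
    (hθ : θ ∈ principalBlock M N) (hinv : ∀ g : G, ∀ n n' : N, (n' : G) = g * n * g⁻¹ → θ.1 n' = θ.1 n)
    (hd : ¬ p ∣ charDegree θ.1) (ho : ∀ (u : N) e, u ^ p ^ e = 1 → detChar θ.1 u = 1) {a : ℕ}
    (hi : (N ⊔ 𝐂 P).index = p ^ a) : ∃ χ, IsCharacter G χ ∧ (∀ n : N, χ n = θ.1 n) ∧
      (∀ c ∈ 𝐂 P, U1 M (χ c / χ 1)) ∧ ∀ u e, u ^ p ^ e = 1 → detChar χ u = 1 := by
  obtain ⟨ψ, h1, h2⟩ := exists_ext_of_principal_pow hM hP hθ hinv hd ho hi
  have h3 : ∀ {χ : G → ℂ}, (∀ n : N, χ n = θ.1 n) → charDegree χ = charDegree θ.1 := fun h => by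
    rw [← funext h]; rfl
  obtain ⟨μ, m1, m2, m3⟩ := exists_lin_u1 hM hP hθ h1 h2 (h3 h2 ▸ hd) hi
  have h4 : IsCharacter G (μ * ψ) := (linOn_top.1 m1).1.mul h1
  have h5 : ∀ n : N, (μ * ψ) n = θ.1 n := fun n => by rw [Pi.mul_apply, m2 _ n.2, one_mul, h2]
  have h6 : ∀ c ∈ 𝐂 P, U1 M ((μ * ψ) c / (μ * ψ) 1) := fun c hc => by
    rw [Pi.mul_apply _ _ 1, m1.2, one_mul]; exact m3 c hc
  generalize μ * ψ = φ at h4 h5 h6
  obtain ⟨k, m, hm, e⟩ := Nat.exists_eq_pow_mul_and_not_dvd (Nat.card_pos (α := G)).ne' p hM.1.ne_one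
  obtain ⟨t, ht⟩ : ∃ t, p ^ k ∣ m * t * charDegree θ.1 + 1 := by
    have h0 := pow_pos hM.1.pos k
    obtain ⟨t, -, ht⟩ := Nat.exists_mul_mod_eq_of_coprime (n := m * charDegree θ.1) (k := p ^ k)
      (p ^ k - 1) (Nat.Coprime.pow_right _ (hM.1.coprime_iff_not_dvd.2
        (hM.1.dvd_mul.not.2 (not_or.2 ⟨hm, hd⟩))).symm) h0.ne'
    refine ⟨t, (Nat.modEq_zero_iff_dvd.1 ?_)⟩
    rw [mul_right_comm]
    refine (Nat.ModEq.add_right 1 ht).trans ?_
    rw [Nat.sub_add_cancel h0]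
    exact Nat.modEq_zero_iff_dvd.2 dvd_rfl
  have h7 : LinOn ⊤ (detChar φ ^ (m * t)) := detOn_top h4 ▸ (linOn_detOn ⊤ φ).pow _
  have h8 : IsCharacter G (detChar φ ^ (m * t) * φ) := (linOn_top.1 h7).1.mul h4
  refine ⟨_, h8, fun n => ?_, fun c hc => ?_, fun u j hu => ?_⟩
  · rw [Pi.mul_apply, h5, Pi.pow_apply, pow_mul, ← detChar_pow, ← coe_pow,
      show detChar φ (n ^ m : N) = _ from (detChar_comp h4 N.subtype (n ^ m)).symm, show (fun y => φ (N.subtype y)) = θ.1 from funext h5,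
      ho _ k (Subtype.ext (by rw [← pow_mul, mul_comm, ← e, coe_pow, pow_card_eq_one']; rfl)), one_pow,
      one_mul]
  · have h9 : (detChar φ ^ (m * t)) c ^ p ^ k = 1 := by
      rw [Pi.pow_apply, ← pow_mul, mul_right_comm, mul_comm m, ← e, pow_mul, ← detChar_pow,
        pow_card_eq_one', detChar_one, one_pow]
    rw [Pi.mul_apply, Pi.mul_apply, h7.2, one_mul, mul_div_assoc]
    exact U1.mul ⟨memLocalRing_of_pow_eq_one (pow_ne_zero _ hM.1.ne_zero) h9,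
      red_eq_one_of_pow_prime_pow hM h9⟩ (h6 c hc)
  · obtain ⟨s, hs⟩ := ht
    have h9 : u ^ p ^ k = 1 := by
      rw [← orderOf_dvd_iff_pow_eq_one] at hu ⊢
      exact (((hM.1.coprime_iff_not_dvd.2 hm).pow_left j).coprime_dvd_left hu).dvd_of_dvd_mul_right
        (e ▸ orderOf_dvd_natCard u)
    rw [← detOn_top h8, h7.detOn_mul (charOn_top.2 h4) trivial, detOn_top h4, Pi.pow_apply, ← pow_mul,
      ← pow_succ, h3 h5, hs, pow_mul, ← detChar_pow, h9, detChar_one, one_pow]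

theorem exists_rat_principal_ext [Fact p.Prime] (hM : IsPModular p M) (h2 : p ≠ 2) (hP : Syl p P N)
    (hθ : θ ∈ principalBlock M N) (hinv : ∀ g : G, ∀ n n' : N, (n' : G) = g * n * g⁻¹ → θ.1 n' = θ.1 n)
    (hd : ¬ p ∣ charDegree θ.1) {m : ℕ} (hm : ¬ p ∣ m)
    (hr : ∀ n, θ.1 n ∈ ℚ⟮Complex.exp (2 * Real.pi * Complex.I / m)⟯) {a : ℕ}
    (hi : (N ⊔ 𝐂 P).index = p ^ a) : ∃ χ ∈ principalBlock M G, (∃ n : ℕ, ¬ p ∣ n ∧
      ∀ g, χ.1 g ∈ ℚ⟮Complex.exp (2 * Real.pi * Complex.I / n)⟯) ∧ ∀ n : N, χ.1 n = θ.1 n := by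
  obtain ⟨χ, h1, h3, h4, h5⟩ := exists_good_ext hM hP hθ hinv hd
    (fun u e => detChar_eq_one_of_rat hM.1 h2 θ.2.isCharacter hm hr) hi
  have h6 : IrrOn N χ := by have := θ.2; rwa [← funext h3] at this
  have h7 : IsIrrCharacter G χ := irrOn_top.1 (by
    simpa using (irrOn_one ⊤).mul_ext (fun _ _ => rfl) le_top (nrm_of_normal ⊤ N) (charOn_top.2 h1) h6)
  have h8 : charDegree χ = charDegree θ.1 := by rw [← funext h3]; rfl
  obtain ⟨k, b, hb, e⟩ := Nat.exists_eq_pow_mul_and_not_dvd (Nat.card_pos (α := G)).ne' p hM.1.ne_one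
  have hn : ¬ p ∣ m * b := hM.1.dvd_mul.not.2 (not_or.2 ⟨hm, hb⟩)
  have hn0 : m * b ≠ 0 := by rintro h; simp [h] at hn
  refine ⟨⟨χ, h7⟩, mem_principalBlock_of_u1 hM (h8 ▸ hd) fun g hg => ?_, ⟨m * b, hn, fun g => ?_⟩, h3⟩
  · obtain ⟨T, hT⟩ := exists_syl p (centralizer {g})
    obtain ⟨y, -, hy⟩ := ((hT.of_le_of_not_dvd le_top (by rwa [relIndex_top_right])).inf_normal_top
      N).exists_conj hP
    have := h4 (y * g * y⁻¹) fun x hx => by
      rw [← hy] at hx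
      exact mem_centralizer_singleton_iff.1 (cj_centralizer_singleton y g ▸
        cj_mono y (inf_le_left.trans hT.le) hx)
    rwa [h1.isClassFunction.conj_eq] at this
  have hz := Complex.isPrimitiveRoot_exp _ hn0
  refine mem_adjoin_of_fixed (hz.isIntegral (Nat.pos_of_ne_zero hn0)).tower_top
    (h1.isIntegral g).tower_top fun σ hσ => ?_
  have s1 : ∀ z : ℂ, z ^ (m * b) = 1 → σ z = z ^ 1 := fun z h => by
    haveI := NeZero.mk hn0
    obtain ⟨i, -, rfl⟩ := hz.eq_pow_of_pow_eq_one h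
    rw [map_pow, hσ, pow_one]
  obtain ⟨j, -, s2⟩ := exists_pow_map_char G σ.toRingHom
  obtain ⟨β, b1, b2, b3⟩ := exists_lin_of_ext le_top (nrm_of_normal ⊤ N) (charOn_top.2 h1) h6
    (charOn_top.2 (h1.map_ringEquiv σ)) fun n hn => by
      rw [h3 ⟨n, hn⟩]
      refine map_eq_of_mem_adjoin σ ((s1 _ ?_).trans (pow_one _)) (hr _)
      rw [pow_mul, (Complex.isPrimitiveRoot_exp m (left_ne_zero_of_mul hn0)).pow_eq_one, one_pow]
  have b4 : ∀ x, β x ^ b = 1 := fun x => by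
    have h9 : (x ^ b) ^ p ^ k = 1 := by rw [← pow_mul, mul_comm, ← e, pow_card_eq_one']
    have h10 := b1.detOn_mul (charOn_top.2 h1) (mem_top (x ^ b))
    rw [← detOn_congr (φ := fun g => σ (χ g)) (ψ := β * χ) b3, detOn_top h1, detOn_top (h1.map_ringEquiv σ), h5 _ k h9,
      detChar_of_pow h1 (h1.map_ringEquiv σ) fun y _ => s2 χ h1.isGeneralizedCharacter y,
      h5 _ k (by rw [← pow_mul, mul_comm, pow_mul, h9, one_pow]), mul_one, h8] at h10
    rw [← b1.map_pow trivial]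
    exact eq_one_of_pow_of_coprime ((hM.1.coprime_iff_not_dvd.2 hd).pow_left k)
      (by rw [← b1.map_pow trivial, h9, b1.2]) h10.symm
  have b5 : ∀ x ∈ N ⊔ 𝐂 P, β x ^ p ^ k = 1 := fun x hx => by
    obtain ⟨c, hc, h⟩ := mem_sup_cent.1 hx
    have h9 := b3 (c ^ p ^ k) trivial
    rw [show σ _ = _ from h1.isGeneralizedCharacter.map_eq_apply_pow σ.toRingHom s1 (by
      rw [← pow_mul, mul_left_comm, ← e, mul_comm, pow_mul, pow_card_eq_one', one_pow]), pow_one,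
      eq_comm, mul_eq_right₀ (div_ne_zero_iff.1 (h4 _ (pow_mem hc _)).ne_zero).1,
      b1.map_pow trivial] at h9
    rw [← mul_inv_cancel_left c x, b1.map_mul trivial trivial, b2 _ (QuotientGroup.eq.1 h), mul_one, h9]
  have b6 : Nrm ⊤ (N ⊔ 𝐂 P) := fun g _ x hx => by
    obtain ⟨n, hn, y, hy, rfl⟩ := hP.frattini_mem (g := g) (by rw [normalizer_eq_top]; trivial)
    obtain ⟨c, hc, h⟩ := mem_sup_cent.1 hx
    rw [← conj_mem_cj_iff (g := y), cj_centralizer, cj_of_mem_normalizer hy] at hc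
    exact mem_sup_cent.2 ⟨_, hc, by simp [h, (QuotientGroup.eq_one_iff n).2 hn]⟩
  haveI := b6.normal
  have b7 := b5 _ ((N ⊔ 𝐂 P).pow_index_mem g)
  rw [b1.map_pow trivial, hi, ← pow_mul, ← pow_add] at b7
  rw [show σ _ = _ from b3 g trivial, eq_one_of_pow_of_coprime
    ((hM.1.coprime_iff_not_dvd.2 hb).pow_left _) b7 (b4 g), one_mul]

end Cfsg.Lib.Block2
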