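import Cfsg.Agent.Lib.Clifford.Gallagher
import Cfsg.Agent.Lib.Clifford.Column
import Cfsg.Agent.Lib.Small.BT
import Cfsg.Agent.Lib.Hall.ClassSize
import Cfsg.Agent.Lib.Char.Center

/-! Groups of bounded character degree have an abelian subgroup of index at most `(b!)²`. -/

set_option autoImplicit false

namespace Cfsg.Lib.Block2.Deg

open Cfsg Cfsg.Lib.Char Cfsg.Lib.Clifford Subgroup Finset
open scoped ComplexConjugate commutatorElement Nat

universe u
variable {Γ : Type u} [Group Γ] [Finite Γ] {H K N : Subgroup Γ} {θ χ β : Γ → ℂ} {b c : ℕ}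

/-- all irreducible characters of `H` have degree at most `b` -/
def Bd (H : Subgroup Γ) (b : ℕ) : Prop := ∀ χ, IrrOn H χ → charDegree χ ≤ b

theorem Bd.mono (h : Bd K b) (hHK : H ≤ K) : Bd H b := fun θ hθ => by
  obtain ⟨χ, hχ, hd⟩ := hθ.exists_over hHK
  exact (((irrOn_of_mem hχ).charOn.mono hHK).deg_le_of_dot hθ hd).trans (h _ (irrOn_of_mem hχ))

theorem Bd.ext (h : Bd K b) (hHK : H ≤ K) (hθ : IrrOn H θ) (hb : charDegree θ = b) (hχ : IrrOn K χ)
    (hd : dot H χ θ ≠ 0) : ∀ x ∈ H, χ x = θ x := by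
  have h1 := (hχ.charOn.mono hHK).deg_le_of_dot hθ hd
  have h2 := h _ hχ
  refine (hχ.charOn.mono hHK).eq_of_dot_of_deg hθ hd ?_
  rw [hχ.one_eq, hθ.one_eq, show charDegree χ = charDegree θ by omega]

omit [Finite Γ] in
theorem deg_mul' (h : CharOn K χ) (h' : CharOn K β) : charDegree (χ * β) = charDegree χ * charDegree β :=
  charDegree_of_eq (by rw [Pi.mul_apply, h.one_eq, h'.one_eq, Nat.cast_mul])

omit [Finite Γ] in
theorem Bd.sub (h : Bd H b) : Bd (⊤ : Subgroup H) b := fun χ hχ => by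
  have := h _ (irrOn_extendByZero.2 (irrOn_top.1 hχ))
  rwa [← charDegree_res H, res_extendByZero] at this

omit [Finite Γ] in
theorem irr_comp {Q : Type u} [Group Q] {f : Γ →* Q} (hf : Function.Surjective f) {η : Q → ℂ}
    (h : IrrOn ⊤ η) : IrrOn ⊤ (η ∘ f) :=
  IrrOn.comp (by rwa [← MonoidHom.range_eq_map, MonoidHom.range_eq_top.2 hf])

omit [Finite Γ] in
theorem deg_comp {Q : Type u} [Group Q] (f : Γ →* Q) (η : Q → ℂ) : charDegree (η ∘ f) = charDegree η := by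
  simp [charDegree]

omit [Finite Γ] in
theorem Bd.quot {Q : Type u} [Group Q] {f : Γ →* Q} (hf : Function.Surjective f) (h : Bd (⊤ : Subgroup Γ) b) :
    Bd (⊤ : Subgroup Q) b := fun η hη => deg_comp f η ▸ h _ (irr_comp hf hη)

theorem Bd.half [K.Normal] (h : Bd (⊤ : Subgroup Γ) b) (hβ : IrrOn ⊤ β) (ht : Triv K β) (h2 : 2 ≤ charDegree β) :
    Bd K (b / 2) := fun ξ hξ => by
  by_contra! hc
  have hN := nrm_of_normal ⊤ K
  obtain ⟨χ, hχ, hd⟩ := hξ.exists_over (le_top (a := K))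
  have hχ := irrOn_of_mem hχ
  obtain ⟨m, hm⟩ := deg_dvd_of_dot le_top hN hχ hξ hd
  have h3 := h _ hχ
  have h4 := hχ.deg_pos
  have hm1 : m = 1 := by
    rcases m with _ | _ | m
    · simp [hm] at h4
    · rfl
    · nlinarith [Nat.lt_mul_div_succ b (show 0 < 2 by norm_num)]
  have e := (hχ.charOn.mono le_top).eq_of_dot_of_deg hξ hd (by rw [hχ.one_eq, hξ.one_eq, hm, hm1, mul_one])
  have h5 := h _ (hβ.mul_ext ht le_top hN hχ.charOn (hξ.congr fun x hx => (e x hx).symm))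
  rw [deg_mul' hβ.charOn hχ.charOn, hm, hm1, mul_one] at h5
  nlinarith [Nat.lt_mul_div_succ b (show 0 < 2 by norm_num)]

theorem Bd.conj_mem (h : Bd (⊤ : Subgroup Γ) b) (hθ : IrrOn H θ) (hb : charDegree θ = b) {x : Γ} (hx : x ∈ H)
    (h0 : θ x ≠ 0) (g : Γ) : g * x * g⁻¹ ∈ H := by
  obtain ⟨χ, hχ, hd⟩ := hθ.exists_over (le_top (a := H))
  have hχ := irrOn_of_mem hχ
  have e := h.ext le_top hθ hb hχ hd
  have h1 : ∀ y ∈ H, ind H ⊤ θ y =
      (∑ ψ ∈ IrrOver ⊤ H θ, (mult H ψ θ : ℂ)) * θ y := fun y hy => by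
    rw [hθ.charOn.ind_eq_sum_over le_top, Finset.sum_apply, sum_mul]
    refine sum_congr rfl fun ψ hψ => ?_
    rw [Pi.smul_apply, smul_eq_mul, h.ext le_top hθ hb (irrOn_of_mem (mem_IrrOver.1 hψ).1) (mem_IrrOver.1 hψ).2 y hy]
  have h2 : ∀ y ∈ H, ind H ⊤ θ y = ind H ⊤ 1 y * θ y := fun y hy => by
    rw [← ind_congr ⊤ e, ind_of_classOn le_top hχ.classOn, Pi.mul_apply, e y hy]
  have h3 := mul_right_cancel₀ h0 ((h2 x hx).symm.trans (h1 x hx))
  have h4 := mul_right_cancel₀ hθ.one_ne_zero ((h2 1 H.one_mem).symm.trans (h1 1 H.one_mem))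
  exact ((charOn_one H).mem_of_ind_eq (K := ⊤) one_ne_zero
    ((ind_conj H 1 (mem_top g) x).trans (h3.trans h4.symm))).1

theorem Bd.invOn [H.Normal] (h : Bd (⊤ : Subgroup Γ) b) (hθ : IrrOn H θ) (hb : charDegree θ = b) :
    InvOn ⊤ H θ := by
  obtain ⟨χ, hχ, hd⟩ := hθ.exists_over (le_top (a := H))
  have hχ := irrOn_of_mem hχ
  exact (hχ.classOn.mono le_rfl le_top).congr (nrm_of_normal _ _) (h.ext le_top hθ hb hχ hd)

theorem Bd.comm_mem [H.Normal] [K.Normal] (h : Bd (⊤ : Subgroup Γ) b) (hKH : K ≤ H) (hab : ⁅H, H⁆ ≤ K)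
    (hθ : IrrOn H θ) (hb : charDegree θ = b) {x : Γ} (hx : x ∈ H) (h0 : θ x ≠ 0) (g : Γ) :
    g * x * g⁻¹ * x⁻¹ ∈ K := by
  by_contra hc
  obtain ⟨l, hl, h1⟩ := exists_IrrKer_ne hKH (nrm_of_normal _ _) hc
  have hl := linOn_of_mem_IrrKer hab hl
  have h2 := h.invOn (hθ.lin_mul hl) (by rw [deg_mul' hl.charOn hθ.charOn, hl.deg, one_mul, hb]) g trivial x hx
  rw [Pi.mul_apply, Pi.mul_apply, h.invOn hθ hb g trivial x hx] at h2
  refine h1 ?_
  rw [hl.map_mul (Normal.conj_mem inferInstance x hx g) (inv_mem hx), mul_right_cancel₀ h0 h2, hl.map_inv hx,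
    mul_inv_cancel₀ (hl.ne_zero hx), hl.2]

theorem relIndex_dvd_sq (hKH : K ≤ H) (hN : Nrm H K) (hθ : IrrOn H θ) (h0 : ∀ x ∈ H, x ∉ K → θ x = 0) :
    K.relIndex H ∣ charDegree θ ^ 2 := by
  obtain ⟨ξ, hξ, hd⟩ := (hθ.charOn.mono hKH).exists_constituent hθ.one_ne_zero
  have hξ := irrOn_of_mem hξ
  have h1 := clifford_dot_self hKH hN hθ hξ hd
  rw [dot_of_supp hKH h0, hθ.dot_self, mul_one] at h1
  have h2 : K.relIndex H = mult K θ ξ ^ 2 * (inertia H K ξ).relIndex H := by exact_mod_cast h1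
  rw [h2, clifford_deg hKH hN hθ hξ hd]
  exact ⟨(inertia H K ξ).relIndex H * charDegree ξ ^ 2, by ring⟩

theorem Bd.exists_class [Nontrivial Γ] (h : Bd (⊤ : Subgroup Γ) b) :
    ∃ x : Γ, x ≠ 1 ∧ (centralizer ({x} : Set Γ)).index ≤ b ^ 2 := by
  classical
  by_contra! hc
  have := Fintype.ofFinite Γ
  have h1 := sum_card_centralizer (G := Γ) fun _ => True
  rw [Finset.filter_congr_decidable, filter_true, elems_top, Nat.card_congr (Equiv.subtypeUnivEquiv fun _ => trivial),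
    ← card_irrCharacter_eq, ← card_Irr_top, ← add_sum_erase _ _ (mem_univ 1)] at h1
  have h2 := Clifford.sum_deg_sq (⊤ : Subgroup Γ)
  rw [← add_sum_erase _ _ (cut_one_mem ⊤), (linOn_cut.2 (linOn_one _)).deg, card_top] at h2
  have h3 := sum_le_card_nsmul ((Irr (⊤ : Subgroup Γ)).erase (cut ⊤ 1)) (fun χ => charDegree χ ^ 2) (b ^ 2)
    fun χ hχ => Nat.pow_le_pow_left (h _ (irrOn_of_mem (mem_of_mem_erase hχ))) 2
  have h4 := sum_le_card_nsmul ((univ : Finset Γ).erase 1)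
    (fun x => Nat.card (centralizer ({x} : Set Γ)) * (b ^ 2 + 1)) (Nat.card Γ) fun x hx => by
      rw [← (centralizer ({x} : Set Γ)).card_mul_index]
      exact Nat.mul_le_mul_left _ (hc x (ne_of_mem_erase hx))
  have h5 : Nat.card (centralizer ({1} : Set Γ)) ≤ Nat.card Γ := Subgroup.card_le_card_group _
  have h6 := card_erase_add_one (cut_one_mem (⊤ : Subgroup Γ))
  have h7 := card_erase_add_one (mem_univ (1 : Γ))
  have h8 : 1 < Nat.card Γ := Finite.one_lt_card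
  rw [card_univ, ← Nat.card_eq_fintype_card] at h7
  rw [← sum_mul] at h4
  simp only [smul_eq_mul] at h3 h4
  generalize ((Irr (⊤ : Subgroup Γ)).erase (cut ⊤ 1)).card = k at *
  generalize ((univ : Finset Γ).erase 1).card = n at *
  rw [← h6, ← h7] at h1
  rw [← h7] at h2 h4 h5 h8
  have h9 : n ≤ k * b ^ 2 := by omega
  have h10 : k * (n + 1) * (b ^ 2 + 1) ≤ n * (n + 1) := le_trans (Nat.mul_le_mul_right _ (by nlinarith)) h4
  have h11 : k * (b ^ 2 + 1) ≤ n := Nat.le_of_mul_le_mul_right (by linarith) (Nat.succ_pos n)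
  have : k = 0 := by nlinarith
  simp [this] at h9
  omega

theorem Bd.solvable (h : Bd (⊤ : Subgroup Γ) 4) : Group.IsSolvable Γ := by
  refine Hall.isSolvable_of_hereditary (fun G _ => Finite G → Bd (⊤ : Subgroup G) 4)
    (fun G _ _ N _ h _ => ((h ‹_›).mono le_top).sub)
    (fun G _ _ N _ h _ => (h ‹_›).quot (QuotientGroup.mk'_surjective N)) (fun G _ _ _ h => ?_) Γ fun _ => h
  have h := h ‹_›
  by_cases hG : IsMulCommutative G
  · exact Group.isSolvable_of_comm fun a b => hG.is_comm.comm a b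
  have key : ∀ p : ℕ, p.Prime → p ∣ Nat.card G → ∃ M : Ideal AlgInt, IsPModular p M ∧ ∃ χ ∈ principalBlock M G,
      χ ≠ principalIrr G ∧ charDegree χ.1 = 3 := fun p hp hd => by
    obtain ⟨M, hM⟩ := exists_isPModular hp
    have := hM.2.1
    have := Fact.mk hp
    obtain ⟨g, hg⟩ := exists_prime_orderOf_dvd_card' p hd
    obtain ⟨χ, h1, h2, h3, -⟩ := Small.exists_principal_not_dvd hM Nat.prime_two (hg ▸ dvd_rfl : p ∣ orderOf g)
    have h4 := h _ (irrOn_top.2 χ.2)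
    have h5 := mt (Small.eq_principal_of_degree_one (Small.commutator_eq_top_of_simple hG)) h2
    exact ⟨M, hM, χ, h1, h2, by omega⟩
  obtain ⟨p, hp, hd⟩ := Nat.exists_prime_and_dvd (Finite.one_lt_card (α := G)).ne'
  obtain ⟨-, -, χ, -, -, h3⟩ := key p hp hd
  obtain ⟨M, hM, ψ, h1, h2, h4⟩ := key 3 Nat.prime_three (χ.2.degree_dvd_card (h3 ▸ (irrOn_top.2 χ.2).one_eq))
  have := hM.2.1
  exact (Small.degree_ne_pow_of_principal hG hM h1 h2 1 h4).elim

theorem num4 (hb : 5 ≤ b) : b ^ 4 * (b / 2)! ^ 2 ≤ b ! ^ 2 := by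
  obtain ⟨m, rfl⟩ : ∃ m, b = m + 3 := ⟨b - 3, by omega⟩
  have h1 : ((m + 3) / 2)! ≤ m ! := Nat.factorial_le (by omega)
  rw [show (m + 3) ^ 4 * ((m + 3) / 2)! ^ 2 = ((m + 3) ^ 2 * ((m + 3) / 2)!) ^ 2 by ring]
  refine Nat.pow_le_pow_left ?_ 2
  rw [Nat.factorial_succ, Nat.factorial_succ, Nat.factorial_succ, sq, mul_assoc, ← mul_assoc (m + 1 + 1)]
  exact Nat.mul_le_mul_left _ (Nat.mul_le_mul (by nlinarith) h1)

theorem num3 (hb : 3 ≤ b) : b ^ 3 * (b / 2)! ^ 2 ≤ b ! ^ 2 := by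
  by_cases h : 5 ≤ b
  · exact le_trans (Nat.mul_le_mul_right _ (Nat.pow_le_pow_right (by omega) (by norm_num))) (num4 h)
  · have : b = 3 ∨ b = 4 := by omega
    rcases this with rfl | rfl <;> decide

theorem num2 (hb : 1 ≤ b) {n : ℕ} (h : n ≤ b ^ 2) : n * (b - 1)! ^ 2 ≤ b ! ^ 2 := by
  obtain ⟨m, rfl⟩ : ∃ m, b = m + 1 := ⟨b - 1, by omega⟩
  rw [Nat.factorial_succ, mul_pow, Nat.add_sub_cancel]
  exact Nat.mul_le_mul_right _ h

theorem exists_nonlin (hn : commutator Γ ≠ ⊥) (hj : ∀ M : Subgroup Γ, M.Normal → M ≠ ⊥ → commutator Γ ≤ M) :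
    ∃ β : Γ → ℂ, IrrOn ⊤ β ∧ 2 ≤ charDegree β ∧ charKer β = ⊥ := by
  obtain ⟨x, hx, h1⟩ : ∃ x ∈ commutator Γ, x ∉ (⊥ : Subgroup Γ) := by
    by_contra! e
    exact hn (eq_bot_iff.2 e)
  obtain ⟨β, hβ, h2⟩ := exists_IrrKer_ne (K := ⊤) bot_le (nrm_of_normal _ _) h1
  have hβ := irrOn_of_mem (IrrKer_subset hβ)
  have h3 : ¬ commutator Γ ≤ kerOn ⊤ β := fun e => h2 (triv_kerOn x (e hx))
  refine ⟨β, hβ, ?_, ?_⟩
  · have := hβ.deg_pos
    have h4 : charDegree β ≠ 1 := fun e => h3 (hβ.charOn.linOn_of_deg e).commutator_le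
    omega
  · rw [← kerOn_top]
    exact by_contra fun e => h3 (hj _ hβ.classOn.nrm_kerOn.normal e)

theorem caseA (hβ : IrrOn ⊤ β) (hk : charKer β = ⊥) (hc : commutator Γ ≤ center Γ) {g : Γ} (hg : g ∉ center Γ) :
    β g = 0 := by
  have hβ' := irrOn_top.1 hβ
  obtain ⟨y, hy⟩ : ∃ y, y * g ≠ g * y := by
    by_contra! e
    exact hg (mem_center_iff.2 e)
  obtain ⟨c, hc⟩ := mem_charCenter_def.1 (hβ'.center_le_charCenter
    (hc (commutator_mem_commutator (mem_top y) (mem_top g))))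
  by_contra h0
  have h1 := hc g
  rw [show ⁅y, g⁆ * g = y * g * y⁻¹ by rw [commutatorElement_def]; group, hβ.classOn y trivial g trivial] at h1
  have h2 : (c : ℂ) = 1 := mul_right_cancel₀ h0 (by rw [← h1, one_mul])
  have h3 : ⁅y, g⁆ ∈ kerOn ⊤ β := ⟨trivial, fun z _ => by rw [hc, h2, one_mul]⟩
  rw [kerOn_top, hk] at h3
  exact hy (commutatorElement_eq_one_iff_mul_comm.1 h3)

theorem caseB1 (hj : ∀ M : Subgroup Γ, M.Normal → M ≠ ⊥ → commutator Γ ≤ M) (hβ : IrrOn ⊤ β)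
    (h2 : 2 ≤ charDegree β) (hz : center Γ = ⊥) (hab : ⁅commutator Γ, commutator Γ⁆ = ⊥) :
    ∃ T : Subgroup Γ, T.Normal ∧ ⁅T, T⁆ = ⊥ ∧ T.index ≤ charDegree β ∧ T.index ≠ 1 := by
  obtain ⟨l, hl, hd⟩ := (hβ.charOn.mono (le_top (a := commutator Γ))).exists_constituent hβ.one_ne_zero
  have hN := nrm_of_normal ⊤ (commutator Γ)
  have hl := (irrOn_of_mem hl).linOn_of_comm fun a ha b hb =>
    commutatorElement_eq_one_iff_mul_comm.1 (mem_bot.1 (hab.le (commutator_mem_commutator ha hb)))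
  have hnl : ¬ Triv (commutator Γ) β := fun e => by
    have := (hβ.linOn_iff.2 e).deg
    omega
  have hT : (inertia ⊤ (commutator Γ) l).Normal := Normal.of_commutator_le _ (le_inertia le_top hN hl.classOn)
  have h3 : ⁅inertia ⊤ (commutator Γ) l, commutator Γ⁆ = ⊥ := by_contra fun e => hnl (by
    refine (triv_iff_of_dot le_top le_rfl hN hβ hl.irrOn hd).2 (triv_kerOn.mono
      ((hj _ inferInstance e).trans (commutator_le.2 fun t ht d hd => hl.mem_kerOn.2 ?_)))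
    have h4 := hN t trivial d hd
    refine ⟨mul_mem h4 (inv_mem hd), ?_⟩
    rw [commutatorElement_def, hl.map_mul h4 (inv_mem hd), invOn_inertia hN t ht d hd, hl.map_inv hd,
      mul_inv_cancel₀ (hl.ne_zero hd)])
  have h4 := clifford_deg le_top hN hβ hl.irrOn hd
  rw [hl.deg, mul_one, relIndex_top_right] at h4
  generalize inertia ⊤ (commutator Γ) l = T at *
  have h5 : ∀ A B : Subgroup Γ, ⁅⁅A, B⁆, T⁆ = ⊥ := fun A B => by
    rw [eq_bot_iff, ← h3, commutator_comm T]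
    exact commutator_mono (commutator_mono le_top le_top) le_rfl
  have h6 : ⁅T, T⁆ = ⊥ := by
    have h7 := commutator_commutator_eq_bot_of_rotate (h5 T ⊤) (h5 ⊤ T)
    rwa [commutator_eq_bot_iff_le_centralizer, coe_top, centralizer_univ, hz, le_bot_iff] at h7
  refine ⟨T, hT, h6, Nat.le_of_dvd hβ.deg_pos (h4 ▸ dvd_mul_left _ _), fun e => hnl ?_⟩
  rw [index_eq_one.1 e] at h6
  exact (triv_bot β).mono h6.le

theorem Bd.central {Z : Subgroup Γ} (h : Bd (⊤ : Subgroup Γ) b) (hβ : IrrOn ⊤ β) (h2 : 2 ≤ charDegree β)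
    (hZ : Z ≤ charCenter β) (h0 : ∀ g, g ∉ Z → β g = 0) : Z.index ≤ b ^ 2 ∧ Bd Z (b - 1) := by
  have h1 := ((irrOn_top.1 hβ).degree_sq_eq_index_iff hZ).2 h0
  have h3 : charDegree β ^ 2 = Z.index := by rw [hβ.one_eq] at h1; exact_mod_cast h1
  refine ⟨h3 ▸ Nat.pow_le_pow_left (h _ hβ) 2, fun θ hθ => ?_⟩
  by_contra! hc
  have h4 := h.mono le_top _ hθ
  have h5 := hθ.deg_pos
  have hb : charDegree θ = b := by omega
  obtain ⟨χ, hχ, hd⟩ := hθ.exists_over (le_top (a := Z))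
  have hχ := irrOn_of_mem hχ
  have e := h.ext le_top hθ hb hχ hd
  obtain ⟨lam, hl⟩ := exists_linear_of_le_charCenter hβ.one_ne_zero hZ
  have hl' : LinOn Z (extendByZero Z fun z => (lam z : ℂ)) :=
    linOn_of_hom lam fun z => Clifford.extendByZero_of_mem _ z.2
  have h6 : ∀ z ∈ Z, (χ * β) z = (β 1 • (θ * extendByZero Z fun z => (lam z : ℂ))) z := fun z hz => by
    have := hl ⟨z, hz⟩ 1
    rw [mul_one] at this
    rw [Pi.mul_apply, Pi.smul_apply, Pi.mul_apply, Clifford.extendByZero_of_mem _ hz, e z hz, this, smul_eq_mul]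
    ring
  have h7 := dot_of_supp (le_top (a := Z)) (show ∀ x ∈ (⊤ : Subgroup Γ), x ∉ Z → (χ * β) x = 0 from
    fun x _ hx => by rw [Pi.mul_apply, h0 x hx, mul_zero]) (χ * β)
  rw [dot_congr h6 h6, dot_smul_left, dot_smul_right, hl'.dot_mul_mul, hθ.dot_self, relIndex_top_right, ← h1,
    mul_one, hβ.one_eq, Complex.conj_natCast, ← sq] at h7
  have h8 := h _ ((hχ.charOn.mul hβ.charOn).irrOn_of_dot_self (mul_left_cancel₀
    (pow_ne_zero 2 (Nat.cast_ne_zero.2 hβ.deg_pos.ne')) (h7.symm.trans (mul_one _).symm)))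
  have h9 : charDegree χ = b := charDegree_of_eq (by rw [e 1 Z.one_mem, hθ.one_eq, hb])
  rw [deg_mul' hχ.charOn hβ.charOn, h9] at h8
  nlinarith

theorem Bd.step (h : Bd (⊤ : Subgroup Γ) b) (hn : commutator Γ ≠ ⊥) :
    ∃ (H : Subgroup Γ) (c : ℕ), c < b ∧ Bd H c ∧ H.index * c ! ^ 2 ≤ b ! ^ 2 := by
  obtain ⟨K, ⟨_, h1⟩, h2⟩ := (wellFounded_gt (α := Subgroup Γ)).has_min
    {K | K.Normal ∧ ¬ commutator Γ ≤ K} ⟨⊥, inferInstance, le_bot_iff.not.2 hn⟩
  have hf := QuotientGroup.mk'_surjective K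
  have e : (commutator Γ).map (QuotientGroup.mk' K) = commutator (Γ ⧸ K) := by
    rw [map_commutator_eq, MonoidHom.range_eq_top.2 hf]; rfl
  have hn' : commutator (Γ ⧸ K) ≠ ⊥ := e ▸ (Core.map_mk'_eq_bot_iff _ _).not.2 h1
  have hj : ∀ M : Subgroup (Γ ⧸ K), M.Normal → M ≠ ⊥ → commutator (Γ ⧸ K) ≤ M := fun M _ hM => by
    rw [← e, map_le_iff_le_comap]
    exact by_contra fun h => h2 _ ⟨inferInstance, h⟩ ((Core.le_comap_mk' K M).lt_of_ne fun e' => hM (by
      rw [← Core.map_comap_mk' K M, ← e', Core.map_mk'_eq_bot_iff]))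
  have hk : ∀ x, QuotientGroup.mk' K x = 1 ↔ x ∈ K := QuotientGroup.eq_one_iff
  have hc : Nat.card (Γ ⧸ K) = K.index := rfl
  generalize QuotientGroup.mk' K = f at *
  obtain ⟨β, hβ, hβ2, hβk⟩ := exists_nonlin hn' hj
  have hq := h.quot hf
  have hβb := hq _ hβ
  have hβ' := irr_comp hf hβ
  have hβ2' : 2 ≤ charDegree (β ∘ f) := by rwa [deg_comp]
  have hhalf := h.half (K := K) hβ' (fun n hn => by simp [(hk n).2 hn]) hβ2'
  have hle : ∀ M : Subgroup (Γ ⧸ K), K ≤ M.comap f := fun M x hx => by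
    rw [mem_comap, (hk x).2 hx]; exact M.one_mem
  have gen : ∀ H : Subgroup Γ, K ≤ H → H.index ≤ b ^ 2 → (K.relIndex H ∣ b ^ 2 → K.index * (b / 2)! ^ 2 ≤ b ! ^ 2) →
      (∀ θ, IrrOn H θ → charDegree θ = b → ∀ x ∈ H, θ x ≠ 0 → x ∈ K) →
      ∃ (H : Subgroup Γ) (c : ℕ), c < b ∧ Bd H c ∧ H.index * c ! ^ 2 ≤ b ! ^ 2 := fun H hKH h3 h4 h5 => by
    by_cases hH : Bd H (b - 1)
    · exact ⟨H, b - 1, by omega, hH, num2 (by omega) h3⟩
    simp only [Bd, not_forall] at hH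
    obtain ⟨θ, hθ, h6⟩ := hH
    have h7 := h.mono le_top _ hθ
    have hb : charDegree θ = b := by omega
    exact ⟨K, b / 2, by omega, hhalf, h4 (hb ▸ relIndex_dvd_sq hKH (nrm_of_normal _ _) hθ fun x hx hx' =>
      by_contra fun e => hx' (h5 θ hθ hb x hx e))⟩
  by_cases hz : center (Γ ⧸ K) = ⊥
  swap
  · obtain ⟨h3, h4⟩ := h.central (Z := (center _).comap f) hβ' hβ2' (fun z hz => by
      obtain ⟨c, hc⟩ := mem_charCenter_def.1 ((irrOn_top.1 hβ).center_le_charCenter hz)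
      exact mem_charCenter_def.2 ⟨c, fun y => by simp [hc]⟩) fun g hg => caseA hβ hβk (hj _ inferInstance hz) hg
    exact ⟨_, b - 1, by omega, h4, num2 (by omega) h3⟩
  have hnt : Nontrivial (Γ ⧸ K) := by
    by_contra e
    rw [not_nontrivial_iff_subsingleton] at e
    exact hn' (Subsingleton.elim _ _)
  by_cases hab : ⁅commutator (Γ ⧸ K), commutator (Γ ⧸ K)⁆ = ⊥
  · obtain ⟨T, _, h3, h4, h5⟩ := caseB1 hj hβ hβ2 hz hab
    have h6 := index_comap_of_surjective T hf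
    refine gen (T.comap f) (hle T) (by rw [h6]; nlinarith) (fun h7 => ?_) fun θ hθ hb x hx h0 => ?_
    · have h8 := relIndex_mul_index (hle T)
      rw [h6] at h8
      by_cases hb : 3 ≤ b
      · refine le_trans (Nat.mul_le_mul_right _ ?_) (num3 hb)
        rw [← h8, pow_succ]
        exact Nat.mul_le_mul (Nat.le_of_dvd (by positivity) h7) (h4.trans hβb)
      have h9 : T.index ≠ 0 := index_ne_zero_of_finite
      obtain rfl : b = 2 := by omega
      have h10 : T.index = 2 := by omega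
      have := Fact.mk Nat.prime_two
      obtain ⟨k, -, h11⟩ := (Nat.dvd_prime_pow Nat.prime_two).1 h7
      have h12 : IsPGroup 2 (Γ ⧸ K) := .of_card (n := k + 1) (by rw [hc, ← h8, h10, h11, pow_succ])
      exact ((nontrivial_iff_ne_bot _).1 h12.center_nontrivial hz).elim
    · have h8 : ⁅T.comap f, T.comap f⁆ ≤ K := commutator_le.2 fun a ha b hb => (hk _).1 (by
        rw [map_commutatorElement]; exact mem_bot.1 (h3.le (commutator_mem_commutator ha hb)))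
      refine (hk x).1 (mem_bot.1 (hz.le (mem_center_iff.2 fun y => ?_)))
      obtain ⟨y, rfl⟩ := hf y
      have := (hk _).2 (h.comm_mem (hle T) h8 hθ hb hx h0 y)
      rwa [map_mul, map_mul, map_mul, map_inv, map_inv, mul_inv_eq_one, mul_inv_eq_iff_eq_mul] at this
  have h5 : 5 ≤ b := by
    by_contra e
    have : Group.IsSolvable (Γ ⧸ K) := Bd.solvable fun η hη => (hq η hη).trans (by omega)
    exact (Group.IsSolvable.commutator_lt_of_ne_bot hn').not_ge (hj _ inferInstance hab)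
  have hC : centralizer (commutator (Γ ⧸ K) : Set (Γ ⧸ K)) = ⊥ := by_contra fun e =>
    hab (commutator_eq_bot_iff_le_centralizer.2 (hj _ inferInstance e))
  obtain ⟨x, hx, h3⟩ := hq.exists_class
  have h6 := index_comap_of_surjective (centralizer ({x} : Set (Γ ⧸ K))) hf
  refine gen (comap f (centralizer {x})) (hle _) (by rwa [h6]) (fun h7 => ?_) fun θ hθ hb y hy h0 => ?_
  · refine le_trans (Nat.mul_le_mul_right _ ?_) (num4 h5)
    rw [← relIndex_mul_index (hle (centralizer {x})), h6, show b ^ 4 = b ^ 2 * b ^ 2 by ring]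
    exact Nat.mul_le_mul (Nat.le_of_dvd (by positivity) h7) h3
  · refine (hk y).1 (by_contra fun e => hx (mem_bot.1 (hC.le (mem_centralizer_iff.2 fun d hd => ?_))))
    refine mem_centralizer_singleton_iff.1 (normalCore_le _ (hj (centralizer {x}).normalCore inferInstance
      (fun e' => e (mem_bot.1 (e'.le fun g => ?_))) hd))
    obtain ⟨g, rfl⟩ := hf g
    have := h.conj_mem hθ hb hy h0 g
    rwa [mem_comap, map_mul, map_mul, map_inv] at this

theorem exists_abelian (b : ℕ) : ∀ (Γ : Type u) [Group Γ] [Finite Γ], Bd (⊤ : Subgroup Γ) b →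
    ∃ A : Subgroup Γ, (∀ x ∈ A, ∀ y ∈ A, x * y = y * x) ∧ A.index ≤ b ! ^ 2 := by
  induction b using Nat.strong_induction_on with
  | _ b ih =>
  intro Γ _ _ h
  by_cases hn : commutator Γ = ⊥
  · exact ⟨⊤, fun x _ y _ => commutatorElement_eq_one_iff_mul_comm.1
      (mem_bot.1 (hn.le (commutator_mem_commutator (mem_top x) (mem_top y)))),
      by rw [index_top]; exact Nat.one_le_pow _ _ (Nat.factorial_pos b)⟩
  obtain ⟨H, c, h1, h2, h3⟩ := h.step hn
  obtain ⟨A, h4, h5⟩ := ih c h1 H h2.sub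
  refine ⟨A.map H.subtype, ?_, ?_⟩
  · rintro _ ⟨x, hx, rfl⟩ _ ⟨y, hy, rfl⟩
    rw [← map_mul, h4 x hx y hy, map_mul]
  · rw [index_map_subtype, mul_comm]
    exact le_trans (Nat.mul_le_mul_left _ h5) h3

end Cfsg.Lib.Block2.Deg
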