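import Mathlib.Data.Nat.Choose.Lucas
import Mathlib.Data.Nat.Choose.Factorization
import Mathlib.NumberTheory.Bertrand
import Cfsg.Agent.Lib.Perm.TwoCyc
import Cfsg.Agent.Lib.Linear.AutAlt
import Cfsg.Agent.S0713

/-!
# Derangements of the largest prime order for primitive groups with alternating socle
-/

set_option autoImplicit false

namespace Cfsg.Lib.Derang

open Finset

theorem pow_le_pow_mul_choose : ∀ r m : ℕ, r ≤ m → m ^ r ≤ r ^ r * m.choose r
  | 0, m, _ => by simp
  | r + 1, 0, h => by omega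
  | r + 1, m + 1, h => by
    have ih := pow_le_pow_mul_choose r m (by omega)
    have e := Nat.add_one_mul_choose_eq m r
    rcases Nat.eq_zero_or_pos r with rfl | hr
    · simp
    have h1 : ((m + 1) * r) ^ r ≤ (m * (r + 1)) ^ r := Nat.pow_le_pow_left (by nlinarith) r
    rw [mul_pow, mul_pow] at h1
    have h2 : (m + 1) ^ r ≤ (r + 1) ^ r * m.choose r := by
      refine Nat.le_of_mul_le_mul_right (c := r ^ r) (h1.trans ?_) (by positivity)
      calc m ^ r * (r + 1) ^ r ≤ r ^ r * m.choose r * (r + 1) ^ r := Nat.mul_le_mul_right _ ih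
        _ = _ := by ring
    calc (m + 1) ^ (r + 1) = (m + 1) ^ r * (m + 1) := pow_succ _ _
      _ ≤ (r + 1) ^ r * m.choose r * (m + 1) := Nat.mul_le_mul_right _ h2
      _ = (r + 1) ^ r * ((m + 1) * m.choose r) := by ring
      _ = _ := by rw [e]; ring

theorem choose_mono {m j : ℕ} : ∀ {k : ℕ}, j ≤ k → 2 * k ≤ m → m.choose j ≤ m.choose k := by
  intro k h h2
  induction k, h using Nat.le_induction with
  | base => exact le_rfl
  | succ k _ ih => exact (ih (by omega)).trans (Nat.choose_le_succ_of_lt_half_left (by omega))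

theorem choose_le_pow {m k r : ℕ} (hm : 0 < m) (hk : k ≤ m) (h : ∀ s : ℕ, s.Prime → s ∣ m.choose k → s ≤ r) :
    m.choose k ≤ m ^ ((range (r + 1)).filter Nat.Prime).card := by
  have h0 := (Nat.choose_pos hk).ne'
  calc m.choose k = ∏ p ∈ (m.choose k).primeFactors, p ^ (m.choose k).factorization p := by
        conv_lhs => rw [← Nat.prod_factorization_pow_eq_self h0]
        rfl
    _ ≤ m ^ (m.choose k).primeFactors.card := prod_le_pow_card _ _ _ fun p _ => Nat.pow_factorization_choose_le hm
    _ ≤ _ := Nat.pow_le_pow_right hm (card_le_card fun p hp => by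
        have := h p (Nat.prime_of_mem_primeFactors hp) (Nat.dvd_of_mem_primeFactors hp)
        simp [Nat.prime_of_mem_primeFactors hp]; omega)

theorem card_primes {r : ℕ} (h : 9 ≤ r) : 2 * ((range (r + 1)).filter Nat.Prime).card + 1 ≤ r := by
  have : ((range (r + 1)).filter Nat.Prime).card ≤ ((range ((r - 1) / 2 + 1)).erase 4).card := by
    refine card_le_card_of_injOn (fun p => (p - 1) / 2) (fun p hp => ?_) fun p hp q hq e => ?_
    · simp only [coe_filter, mem_range, Set.mem_ofPred_eq, coe_erase, coe_range, Set.mem_sdiff, Set.mem_Iio,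
        Set.mem_singleton_iff] at hp ⊢
      refine ⟨by omega, fun e => ?_⟩
      have : p = 9 ∨ p = 10 := by omega
      rcases this with rfl | rfl <;> exact absurd hp.2 (by decide)
    · simp only [coe_filter, mem_range, Set.mem_ofPred_eq] at hp hq e
      have := hp.2.eq_two_or_odd
      have := hq.2.eq_two_or_odd
      have := hp.2.two_le
      have := hq.2.two_le
      omega
  rw [card_erase_of_mem (by simp; omega), card_range] at this
  omega

theorem not_le_pow {m r : ℕ} (hr : r.Prime) (hm : r * r ≤ m) :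
    ¬ m.choose r ≤ m ^ ((range (r + 1)).filter Nat.Prime).card := fun h => by
  have h2 := hr.two_le
  rcases lt_or_ge r 9 with h9 | h9
  · have h1 := Nat.pow_sub_le_descFactorial m r
    have h3 := Nat.descFactorial_eq_factorial_mul_choose m r
    interval_cases r
    · rw [show ((range 3).filter Nat.Prime).card = 1 by decide] at h
      obtain ⟨x, rfl⟩ := Nat.exists_eq_add_of_le' (show 4 ≤ m by omega)
      rw [h3, show x + 4 + 1 - 2 = x + 3 by omega, Nat.factorial_two] at h1
      nlinarith
    · rw [show ((range 4).filter Nat.Prime).card = 2 by decide] at h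
      obtain ⟨x, rfl⟩ := Nat.exists_eq_add_of_le' (show 9 ≤ m by omega)
      simp only [Nat.descFactorial_succ, Nat.descFactorial_zero, show Nat.factorial 3 = 6 by decide,
        show x + 9 - 2 = x + 7 by omega, show x + 9 - 1 = x + 8 by omega, Nat.sub_zero] at h3
      nlinarith [Nat.zero_le (x * x * x), Nat.zero_le (x * x)]
    · exact absurd hr (by decide)
    · rw [show ((range 6).filter Nat.Prime).card = 3 by decide] at h
      obtain ⟨x, rfl⟩ := Nat.exists_eq_add_of_le' (show 4 ≤ m by omega)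
      rw [h3, show x + 4 + 1 - 5 = x by omega, show Nat.factorial 5 = 120 by decide] at h1
      have h4 : (4 * (x + 4)) ^ 3 ≤ (5 * x) ^ 3 := Nat.pow_le_pow_left (by omega) 3
      have h5 : 21 ^ 2 ≤ x ^ 2 := Nat.pow_le_pow_left (by omega) 2
      have h6 := Nat.mul_le_mul h4 h5
      have h7 : 0 < (x + 4) ^ 3 := by positivity
      rw [mul_pow, mul_pow, mul_assoc (5 ^ 3), ← pow_add, show 3 + 2 = 5 from rfl] at h6
      omega
    · exact absurd hr (by decide)
    · rw [show ((range 8).filter Nat.Prime).card = 4 by decide] at h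
      obtain ⟨x, rfl⟩ := Nat.exists_eq_add_of_le' (show 6 ≤ m by omega)
      rw [h3, show x + 6 + 1 - 7 = x by omega, show Nat.factorial 7 = 5040 by decide] at h1
      have h4 : (7 * (x + 6)) ^ 4 ≤ (8 * x) ^ 4 := Nat.pow_le_pow_left (by omega) 4
      have h5 : 43 ^ 3 ≤ x ^ 3 := Nat.pow_le_pow_left (by omega) 3
      have h6 := Nat.mul_le_mul h4 h5
      have h7 : 0 < (x + 6) ^ 4 := by positivity
      rw [mul_pow, mul_pow, mul_assoc (8 ^ 4), ← pow_add, show 4 + 3 = 7 from rfl] at h6
      omega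
    · exact absurd hr (by decide)
  · have h1 := pow_le_pow_mul_choose r m (by nlinarith)
    have h3 := card_primes h9
    generalize ((range (r + 1)).filter Nat.Prime).card = c at h h3
    have h4 : (m ^ r) ^ 2 ≤ (r ^ r * m ^ c) ^ 2 := Nat.pow_le_pow_left (h1.trans (Nat.mul_le_mul_left _ h)) 2
    have h5 : (r ^ r) ^ 2 ≤ m ^ r := by rw [← pow_mul, mul_comm, pow_mul, sq]; exact Nat.pow_le_pow_left hm r
    rw [mul_pow] at h4
    have h6 := h4.trans (Nat.mul_le_mul_right _ h5)
    rw [← pow_mul, ← pow_mul, ← pow_add, Nat.pow_le_pow_iff_right (by nlinarith)] at h6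
    omega

/-- The largest prime divisor of a binomial coefficient produces a carry in the last digit. -/
theorem carry {m k r : ℕ} (hr : r.Prime) (hk : 2 * k ≤ m) (hd : r ∣ m.choose k)
    (h : ∀ s : ℕ, s.Prime → s ∣ m.choose k → s ≤ r) : m % r < k % r := by
  by_contra hc
  have := Fact.mk hr
  have h1 := (Choose.choose_modEq_choose_mod_mul_choose_div_nat (n := m) (k := k) (p := r)).dvd_iff dvd_rfl
  have key : ∀ {a b : ℕ}, b ≤ a → r ∣ a.choose b → r ≤ a := fun {a b} hab hd => by
    by_contra hlt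
    have := (hr.dvd_iff_one_le_factorization (Nat.choose_pos hab).ne').1 hd
    rw [Nat.factorization_choose_eq_zero_of_lt (by omega)] at this
    omega
  have h2 := (hr.dvd_mul.1 (h1.1 hd)).resolve_left fun h => by
    have := key (by omega) h
    have := Nat.mod_lt m hr.pos
    omega
  have h3 := key (Nat.div_le_div_right (by omega)) h2
  have h4 : k / r ≠ 0 := fun e => by rw [e, Nat.choose_zero_right] at h2; exact hr.one_lt.ne' (Nat.dvd_one.1 h2)
  have h5 : r ≤ k := by by_contra hlt; exact h4 (Nat.div_eq_of_lt (by omega))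
  exact not_le_pow hr ((Nat.le_div_iff_mul_le hr.pos).1 h3)
    ((choose_mono h5 hk).trans (choose_le_pow (by have := hr.pos; omega) (by omega) h))

theorem four_dvd {m k : ℕ} (hm : 5 ≤ m) (hk : 2 * k ≤ m) (h0 : 0 < k)
    (h : ∀ s : ℕ, s.Prime → s ∣ m.choose k → s ≤ 2) : 4 ∣ m := by
  have h1 := choose_le_pow (by omega) (by omega) h
  rw [show ((range 3).filter Nat.Prime).card = 1 by decide, pow_one] at h1
  have h2 := choose_mono (m := m) (j := 1) h0 hk
  rw [Nat.choose_one_right] at h2
  rw [le_antisymm h1 h2] at h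
  have h3 := Nat.eq_prime_pow_of_unique_prime_dvd (n := m) (p := 2) (by omega) fun hd h' =>
    le_antisymm (h _ hd h') hd.two_le
  generalize m.primeFactorsList.length = j at h3
  subst h3
  refine pow_dvd_pow 2 (show 2 ≤ j from ?_)
  by_contra hj
  interval_cases j <;> omega

theorem two_mul_le {r : ℕ} (hr : r.Prime) : ∀ {m : ℕ}, r * r ∣ m.factorial → 2 * r ≤ m
  | 0, h => absurd (Nat.dvd_one.1 ((dvd_mul_right r r).trans h)) hr.one_lt.ne'
  | m + 1, h => by
    by_contra hlt
    rw [Nat.factorial_succ] at h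
    by_cases hd : r ∣ m + 1
    · obtain ⟨c, hc⟩ := hd
      obtain rfl : c = 1 := by
        rcases c with _ | _ | c
        · omega
        · rfl
        · nlinarith
      rw [hc, mul_one] at h
      have := hr.dvd_factorial.1 (Nat.dvd_of_mul_dvd_mul_left hr.pos h)
      omega
    · have hc := (Nat.Prime.coprime_iff_not_dvd hr).2 hd
      have := two_mul_le hr ((Nat.Coprime.mul_left hc hc).dvd_of_dvd_mul_left h)
      omega

open MulAction Equiv Equiv.Perm
open scoped Pointwise

variable {α : Type*} [Fintype α] [DecidableEq α]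

theorem inv_card {r : ℕ} (hr : r.Prime) {g : Perm α} (hg : g ^ r = 1) {S : Finset α} (h : ∀ x ∈ S, g x ∈ S) :
    S.card % r ≤ Fintype.card α - g.support.card := by
  have := Fact.mk hr
  let f : Function.End S := fun x => ⟨g x, h x x.2⟩
  have hf : ∀ n (x : S), ((f ^ n) x : α) = (g ^ n) x := fun n => by
    induction n with
    | zero => intro x; rfl
    | succ n ih => intro x; rw [pow_succ, pow_succ]; exact ih _
  have h1 := card_fixedPoints_modEq (f := f) (p := r) (n := 1)
    (funext fun x => Subtype.ext (by rw [hf, pow_one, hg]; rfl))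
  rw [Fintype.card_coe] at h1
  rw [h1, ← card_compl, ← Fintype.card_coe]
  exact (Nat.mod_le _ _).trans (Fintype.card_le_of_injective
    (fun x => ⟨x.1.1, mem_compl.2 (notMem_support.2 (congrArg Subtype.val x.2))⟩) fun x y e =>
      Subtype.ext (Subtype.ext (Subtype.mk.inj e)))

theorem exists_rep {r c : ℕ} (hr : r.Prime) (hc : 0 < c) (h : c * r ≤ Fintype.card α) (he : Even (c * r + c)) :
    ∃ g : alternatingGroup α, orderOf g = r ∧ g.1.support.card = c * r ∧ (c = 1 → g.1.IsCycle) := by
  obtain ⟨g, hg⟩ := (exists_with_cycleType_iff α (m := Multiset.replicate c r)).2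
    ⟨by simpa using h, fun a ha => Multiset.eq_of_mem_replicate ha ▸ hr.two_le⟩
  refine ⟨⟨g, mem_alternatingGroup.2 ?_⟩, ?_, ?_, ?_⟩
  · rw [sign_of_cycleType, hg]; simpa using he.neg_one_pow
  · rw [← Subgroup.orderOf_coe, ← lcm_cycleType, hg]
    obtain ⟨c, rfl⟩ := Nat.exists_eq_add_of_le' hc
    refine Nat.dvd_antisymm (Multiset.lcm_dvd.2 fun a ha => Multiset.eq_of_mem_replicate ha ▸ dvd_rfl)
      (Multiset.dvd_lcm (by simp))
  · rw [← sum_cycleType, hg]; simp
  · rintro rfl; exact card_cycleType_eq_one.1 (by rw [hg]; simp)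

variable {Ω : Type*} [Finite Ω] [MulAction (alternatingGroup α) Ω]

/-- The point stabiliser as a permutation group. -/
abbrev St (α : Type*) [Fintype α] [DecidableEq α] [MulAction (alternatingGroup α) Ω] (ω : Ω) : Subgroup (Perm α) :=
  (stabilizer (alternatingGroup α) ω).map (alternatingGroup α).subtype

theorem exists_der [IsPretransitive (alternatingGroup α) Ω] (hm : 5 ≤ Fintype.card α) (hΩ : 2 ≤ Nat.card Ω) {r : ℕ}
    (hr : r.Prime) (hd : r ∣ Nat.card Ω) (hmax : ∀ s : ℕ, s.Prime → s ∣ Nat.card Ω → s ≤ r) (ω : Ω)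
    (hI : Fintype.card α = 6 ∨ ∀ S : Finset α, S.Nonempty → S ≠ univ →
      (∀ b, b ∈ S ↔ 2 * (orbit (St α ω) b).ncard ≤ Fintype.card α) → ∀ x : alternatingGroup α, x • S = S → x • ω = ω) :
    ∃ g : alternatingGroup α, orderOf g = r ∧ ∀ ω : Ω, g • ω ≠ ω := by
  classical
  by_contra hcon
  push Not at hcon
  have conj : ∀ (g : alternatingGroup α), (orderOf g).Prime → (orderOf g = r ∨ ¬ orderOf g ∣ Nat.card Ω) →
      ∃ t : alternatingGroup α, (t * g * t⁻¹) • ω = ω := fun g hg h => by
    obtain ⟨ω', h'⟩ : ∃ ω' : Ω, g • ω' = ω' := by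
      rcases h with h | h
      · exact hcon g h
      · have := Fact.mk hg
        obtain ⟨ω', h'⟩ := (IsPGroup.of_card (G := Subgroup.zpowers g) (n := 1)
          (by rw [Nat.card_zpowers, pow_one])).nonempty_fixed_point_of_prime_not_dvd_card Ω h
        exact ⟨ω', h' ⟨g, Subgroup.mem_zpowers g⟩⟩
    obtain ⟨t, rfl⟩ := exists_smul_eq (alternatingGroup α) ω' ω
    exact ⟨t, by simp [mul_smul, h']⟩
  have rep : ∀ {s c : ℕ}, s.Prime → 0 < c → c * s ≤ Fintype.card α → Even (c * s + c) → (s = r ∨ ¬ s ∣ Nat.card Ω) →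
      ∃ g ∈ St α ω, g ^ s = 1 ∧ g.support.card = c * s ∧ (c = 1 → g.IsCycle) := fun hs hc h he h' => by
    obtain ⟨g, rfl, h2, h3⟩ := exists_rep hs hc h he
    obtain ⟨t, ht⟩ := conj g hs h'
    refine ⟨_, ⟨_, ht, rfl⟩, ?_, ?_, fun e => (h3 e).conj⟩
    · simp [conj_pow, ← Subgroup.coe_pow, pow_orderOf_eq_one]
    · rw [← h2]; exact card_support_conj
  have hidx := index_stabilizer_of_transitive (alternatingGroup α) ω
  have := Fact.mk hr
  have h2r : 2 * r ≤ Fintype.card α := by
    obtain ⟨g, hg⟩ := exists_prime_orderOf_dvd_card' (G := alternatingGroup α) r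
      (hd.trans (hidx ▸ Subgroup.index_dvd_card _))
    obtain ⟨t, ht⟩ := conj g (hg ▸ hr) (Or.inl hg)
    have h1 := Subgroup.orderOf_dvd_natCard (stabilizer (alternatingGroup α) ω) ht
    rw [show orderOf (t * g * t⁻¹) = r from hg ▸ (MulAut.conj t).orderOf_eq g] at h1
    refine two_mul_le hr ((Nat.mul_dvd_mul h1 (hidx ▸ hd)).trans ?_)
    rw [Subgroup.card_mul_index, ← Fintype.card_perm, ← Nat.card_eq_fintype_card]
    exact Subgroup.card_subgroup_dvd_card _
  obtain ⟨p, hp, hp1, hp2⟩ := Nat.exists_prime_lt_and_le_two_mul (Fintype.card α / 2) (by omega)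
  have odd : ∀ {s : ℕ}, s.Prime → s ≠ 2 → Even (1 * s + 1) := fun hs h => by
    rw [one_mul]; exact (hs.odd_of_ne_two h).add_one
  obtain ⟨x, hx, -, hx1, hx2⟩ := rep hp one_pos (by omega) (odd hp (by omega))
    (Or.inr fun h => by have := hmax p hp h; omega)
  rw [one_mul] at hx1
  obtain ⟨S, hS⟩ : ∃ S : Finset α, ∀ b, b ∈ S ↔ 2 * (orbit (St α ω) b).ncard ≤ Fintype.card α :=
    ⟨univ.filter _, fun b => by simp; rfl⟩
  rcases S.eq_empty_or_nonempty with rfl | hne
  · have : IsPretransitive (St α ω) α := ⟨fun a b => by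
      have h1 := (hS a).not.1 (notMem_empty a)
      have h2 := (hS b).not.1 (notMem_empty b)
      by_contra hab
      have h3 : Disjoint (orbit (St α ω) a) (orbit (St α ω) b) := Set.disjoint_left.2 fun c ha hb =>
        hab (show b ∈ orbit (St α ω) a from orbit_eq_iff.2 ha ▸ orbit_eq_iff.2 hb ▸ mem_orbit_self b)
      have h4 := Set.ncard_le_card (orbit (St α ω) a ∪ orbit (St α ω) b)
      rw [Set.ncard_union_eq h3, Nat.card_eq_fintype_card] at h4
      omega⟩
    have hP := Perm.TwoCyc.prim_of hx (hx2 rfl) (hx1 ▸ hp) (by omega)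
    have hA : alternatingGroup α ≤ St α ω := by
      by_cases h2 : r = 2
      · obtain ⟨c, hc, -, h1, -⟩ := rep Nat.prime_three one_pos (by omega) (by decide)
          (Or.inr fun h => by have := hmax 3 Nat.prime_three h; omega)
        exact alternatingGroup_le_of_isPreprimitive_of_isThreeCycle_mem hP (card_support_eq_three_iff.1 h1) hc
      · obtain ⟨c, hc, -, h1, h3⟩ := rep hr one_pos (by omega) (odd hr h2) (Or.inl rfl)
        exact Cfsg.Agent.S0713.result _ hP hr hm (by have := hr.two_le; omega) (h3 rfl) (h1.trans (one_mul r)) hc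
    rw [Subgroup.index_eq_one.2 (eq_top_iff.2 fun g _ => by
      obtain ⟨g', h, e⟩ := hA g.2
      exact Subtype.ext e ▸ h)] at hidx
    omega
  have hinv : ∀ g ∈ St α ω, ∀ b ∈ S, g b ∈ S := fun g hg b hb => by
    rw [hS] at hb ⊢
    rwa [show g b = (⟨g, hg⟩ : St α ω) • b from rfl, orbit_eq_iff.2 (mem_orbit b _)]
  have hk : S.card + p ≤ Fintype.card α := by
    rw [← hx1, ← card_union_of_disjoint (disjoint_left.2 fun b hb hb' => ?_)]
    · exact card_le_univ _
    have h1 : (x.support : Set α) ⊆ orbit (St α ω) b := fun c hc => by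
      obtain ⟨n, hn⟩ := (hx2 rfl).exists_zpow_eq (mem_support.1 hb') (mem_support.1 hc)
      exact ⟨⟨x ^ n, Subgroup.zpow_mem _ hx n⟩, hn⟩
    have h2 := Set.ncard_le_ncard h1
    rw [Set.ncard_coe_finset] at h2
    have := (hS b).1 hb
    omega
  have := Set.powersetCard.isPretransitive_alternatingGroup (α := α) (n := S.card)
    (by rw [Nat.card_eq_fintype_card]; omega)
  have hC := index_stabilizer_of_transitive (alternatingGroup α) (⟨S, rfl⟩ : Set.powersetCard α S.card)
  rw [Set.powersetCard.card, Nat.card_eq_fintype_card] at hC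
  have hle : stabilizer (alternatingGroup α) ω ≤
      stabilizer (alternatingGroup α) (⟨S, rfl⟩ : Set.powersetCard α S.card) := fun g hg =>
    Subtype.ext (eq_of_subset_of_card_le (fun b hb => by
      obtain ⟨c, hc, rfl⟩ := mem_smul_finset.1 hb
      exact hinv _ ⟨g, hg, rfl⟩ c hc) (card_smul_finset g S).ge)
  have hdv := Subgroup.index_dvd_of_le hle
  rw [hC, hidx] at hdv
  have hmx : ∀ s : ℕ, s.Prime → s ∣ (Fintype.card α).choose S.card → s ≤ r := fun s hs h => hmax s hs (h.trans hdv)
  have hpos := hne.card_pos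
  have hrC : r ∣ (Fintype.card α).choose S.card := by
    rcases hI with h6 | hI
    · obtain rfl : p = 5 := by
        rcases (by omega : p = 4 ∨ p = 5 ∨ p = 6) with rfl | rfl | rfl <;> first | rfl | exact absurd hp (by decide)
      rw [show S.card = 1 by omega, h6] at hmx ⊢
      have := hmx 3 Nat.prime_three (by decide)
      obtain rfl : r = 3 := by omega
      decide
    · rw [← hC, ← le_antisymm hle fun g hg => hI S hne (fun e => by
        rw [e, card_univ] at hk; have := hp.pos; omega) hS g (congrArg Subtype.val hg), hidx]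
      exact hd
  have hcar := carry hr (by omega) hrC hmx
  have hdm := Nat.div_add_mod' (Fintype.card α) r
  obtain ⟨g, hg, h1, h2, -⟩ := rep hr (Nat.div_pos (by omega) hr.pos) (Nat.div_mul_le_self (Fintype.card α) r) (by
    rw [← Nat.mul_succ]
    rcases hr.eq_two_or_odd' with rfl | h
    · have := four_dvd hm (by omega) hpos hmx
      exact Even.mul_right (Nat.even_iff.2 (by omega)) _
    · exact Even.mul_left h.add_one _) (Or.inl rfl)
  have := inv_card hr h1 (hinv g hg)
  omega

theorem main {G Ω : Type*} [Group G] [Finite G] [MulAction G Ω] [FaithfulSMul G Ω] [Finite Ω]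
    (T : Subgroup G) (hT : T.Normal) (m : ℕ) (hm : 5 ≤ m)
    (eT : T ≃* alternatingGroup (Fin m)) (hprim : IsPreprimitive G Ω) (hΩ : 2 ≤ Nat.card Ω)
    (r : ℕ) (hr : r.Prime) (hrd : r ∣ Nat.card Ω) (hmax : ∀ s : ℕ, s.Prime → s ∣ Nat.card Ω → s ≤ r) :
    ∃ g : G, orderOf g = r ∧ ∀ ω : Ω, g • ω ≠ ω := by
  classical
  let _ : MulAction (alternatingGroup (Fin m)) Ω := MulAction.compHom Ω (T.subtype.comp eT.symm.toMonoidHom)
  have hs : ∀ (x : alternatingGroup (Fin m)) (ω : Ω), x • ω = (eT.symm x : G) • ω := fun _ _ => rfl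
  have hnt : Nontrivial (alternatingGroup (Fin m)) := alternatingGroup.nontrivial_of_three_le_card (by simp; omega)
  have htr : IsPretransitive T Ω := hprim.isQuasiPreprimitive.isPretransitive_of_normal fun e => by
    obtain ⟨x, hx⟩ := exists_ne (1 : alternatingGroup (Fin m))
    refine hx (eT.symm.injective (Subtype.ext (eq_of_smul_eq_smul (α := Ω) fun ω => ?_)))
    rw [map_one, Subgroup.coe_one, one_smul]
    exact (e ▸ Set.mem_univ ω : ω ∈ fixedPoints T Ω) _
  have : IsPretransitive (alternatingGroup (Fin m)) Ω := ⟨fun a b => by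
    obtain ⟨t, ht⟩ := exists_smul_eq T a b
    exact ⟨eT t, by rw [hs, eT.symm_apply_apply]; exact ht⟩⟩
  have hO : Nontrivial Ω := Finite.one_lt_card_iff_nontrivial.1 hΩ
  obtain ⟨ω⟩ : Nonempty Ω := inferInstance
  obtain ⟨g, h1, h2⟩ := exists_der (α := Fin m) (by simpa using hm) hΩ hr hrd hmax ω (by
    refine (em _).imp_right fun h6 S hne hS h x hx => ?_
    let e := MulEquiv.ofBijective _ (Linear.conjNormal_alt_bijective (α := Fin m) (by simp; omega) h6)
    let φ : G →* Perm (Fin m) := e.symm.toMonoidHom.comp ((MulAut.congr eT).toMonoidHom.comp MulAut.conjNormal)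
    have hφ : ∀ (g : G) (t : T), φ g * (eT t).1 * (φ g)⁻¹ = (eT (MulAut.conjNormal g t)).1 := fun g t => by
      have := congrArg Subtype.val (DFunLike.congr_fun (e.apply_symm_apply
        (MulAut.congr eT (MulAut.conjNormal g))) (eT t))
      exact this.trans (by simp)
    have hφT : ∀ y : alternatingGroup (Fin m), φ (eT.symm y) = y := fun y => e.symm_apply_eq.2 (by
      ext z : 2
      have : MulAut.conjNormal (eT.symm y : G) (eT.symm z) = eT.symm (y * z * y⁻¹) := Subtype.ext (by simp)
      simp [e, this])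
    have hle : stabilizer G ω ≤ (stabilizer (Perm (Fin m)) S).comap φ := fun g hg => by
      have key : ∀ g ∈ stabilizer G ω, ∀ b, φ g '' orbit (St (Fin m) ω) b ⊆ orbit (St (Fin m) ω) (φ g b) := by
        rintro g hg b _ ⟨_, ⟨⟨_, y, hy, rfl⟩, rfl⟩, rfl⟩
        refine ⟨⟨_, eT (MulAut.conjNormal g (eT.symm y)), ?_, rfl⟩, ?_⟩
        · have hy' : (eT.symm y : G) • ω = ω := hy
          have hg' : g⁻¹ • ω = ω := inv_mem hg
          change _ • ω = ω
          rw [hs, eT.symm_apply_apply, MulAut.conjNormal_apply, mul_smul, mul_smul, hg', hy', hg]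
        · change (eT _).1 _ = φ g (y.1 b)
          rw [← hφ]; simp
      refine eq_of_subset_of_card_le (fun b hb => ?_) (card_smul_finset _ S).ge
      obtain ⟨c, hc, rfl⟩ := mem_smul_finset.1 hb
      have h1 := Set.ncard_le_ncard (key _ (inv_mem hg) (φ g c))
      rw [Set.ncard_image_of_injective _ (φ g⁻¹).injective, show φ g⁻¹ (φ g c) = c by simp] at h1
      rw [h] at hc ⊢
      exact le_trans (Nat.mul_le_mul_left 2 h1) hc
    have hM := ((isCoatom_stabilizer_iff_preprimitive G ω).2 hprim).le_iff.1 hle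
    rcases hM with hM | hM
    · obtain ⟨a, ha⟩ := hne
      obtain ⟨b, hb⟩ := not_forall.1 (mt eq_univ_of_forall hS)
      have := alternatingGroup.isPretransitive_of_three_le_card (α := Fin m) (by simp; omega)
      obtain ⟨y, rfl⟩ := exists_smul_eq (alternatingGroup (Fin m)) a b
      have h1 : (eT.symm y : G) ∈ (stabilizer (Perm (Fin m)) S).comap φ := hM ▸ Subgroup.mem_top _
      rw [Subgroup.mem_comap, hφT, mem_stabilizer_iff] at h1
      exact absurd (h1 ▸ smul_mem_smul_finset ha) hb
    · have h1 : (eT.symm x : G) ∈ (stabilizer (Perm (Fin m)) S).comap φ := by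
        rw [Subgroup.mem_comap, hφT]; exact hx
      rw [hM] at h1
      exact h1)
  exact ⟨eT.symm g, by rw [Subgroup.orderOf_coe, MulEquiv.orderOf_eq, h1], h2⟩

end Cfsg.Lib.Derang
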