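import Cfsg.Agent.Lib.Block2.EAcl
import Cfsg.Prelude.Def_G2

/-! Sylow 2-subgroups of the automorphism group of the split octonions in odd characteristic. -/

set_option autoImplicit false
set_option linter.dupNamespace false
set_option linter.unusedSectionVars false
set_option linter.style.haveILetI false

open Cfsg Cfsg.Lie Cfsg.Lib.Amalg Cfsg.Lib.Forms Cfsg.Lib.Forms.Form Subgroup Module Matrix
open MulAction

namespace Cfsg.Lib.Block2.SylEA

local notation "v₂" => padicValNat 2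

theorem exists_stab {G V : Type*} [Group G] [Finite G] [MulAction G V] (H : Subgroup G)
    (s : Set V) [Finite s] [Nonempty s] (h : ∀ g ∈ H, ∀ v ∈ s, g • v ∈ s) :
    ∃ v ∈ s, v₂ (Nat.card H) ≤ v₂ (Nat.card s) + v₂ (Nat.card ↥(H ⊓ stabilizer G v)) := by
  let X : SubMulAction H V := ⟨s, fun g v hv => h g g.2 v hv⟩
  have : Finite X := ‹Finite s›
  obtain ⟨x, hx⟩ : ∃ x : X, ¬ 2 ^ (v₂ (Nat.card s) + 1) ∣ Nat.card (orbit H x) := by
    by_contra! h1
    have := Fintype.ofFinite (orbitRel.Quotient H X)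
    refine pow_succ_padicValNat_not_dvd (p := 2) (Nat.card_pos (α := s)).ne' ?_
    rw [show Nat.card s = _ from (Nat.card_congr (selfEquivSigmaOrbits H X)).trans Nat.card_sigma]
      at h1 ⊢
    exact Finset.dvd_sum fun _ _ => h1 _
  refine ⟨x, x.2, ?_⟩
  have h1 : Nat.card (orbit H x) ≠ 0 := (Nat.card_pos_iff.2 ⟨⟨x, mem_orbit_self x⟩, inferInstance⟩).ne'
  rw [padicValNat_dvd_iff_le h1] at hx
  have h2 : stabilizer H x = (H ⊓ stabilizer G x.1).subgroupOf H := by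
    ext g
    simp only [mem_stabilizer_iff, mem_subgroupOf, mem_inf, g.2, true_and, Subtype.ext_iff]
    rfl
  rw [← (stabilizer H x).index_mul_card, index_stabilizer, ← Nat.card_coe_set_eq,
    padicValNat.mul h1 Nat.card_pos.ne', h2,
    Nat.card_congr (subgroupOfEquivOfLe inf_le_left).toEquiv]
  omega

theorem ea_ext {G : Type*} [Group G] [Finite G] {M : Subgroup G} (h : EA 2 M) {t : G}
    (ht : t ∈ normalizer (M : Set G)) (h2 : t ^ 2 = 1) (hM : t ∉ M)
    (hv : v₂ (Nat.card G) ≤ v₂ (Nat.card M) + 1) : EA 2 G := by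
  have hn : zpowers t ≤ normalizer (M : Set G) := zpowers_le.2 ht
  obtain ⟨S, hS, h1⟩ := exists_syl_ge (isPGroup_zpowers_of_pow (p := 2) (k := 1) h2)
    (le_sup_right (a := M))
  have h3 := hS.inf_normal le_sup_left (sup_le le_normalizer hn)
  have ht := h1 (mem_zpowers t)
  refine ⟨S, syl_of_le hS.isPGroup ?_, fun x hx => ?_⟩
  · obtain ⟨k, hk⟩ := IsPGroup.iff_card.1 hS.isPGroup
    have h4 := lt_of_not_ge fun e => hM ((eq_of_le_of_card_ge (inf_le_left : S ⊓ M ≤ S) e).ge ht).2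
    rw [h3.card_eq_pow, Nat.factorization_def _ Nat.prime_two, hk,
      Nat.pow_lt_pow_iff_right one_lt_two] at h4
    rw [hk]
    exact Nat.pow_le_pow_right two_pos (by omega)
  · obtain ⟨a, ha, b, hb, rfl⟩ := (mem_sup_of_le_normalizer' hn).1 (hS.le hx)
    exact mul_mem (pw_mono inf_le_left (h.le' h3 ⟨(S.mul_mem_cancel_right (h1 hb)).1 hx, ha⟩))
      (zpowers_le.2 (mem_pw_of_pow ht h2) hb)

variable {F : Type*} [Field F]

section Count
variable {V : Type*} [AddCommGroup V] [Module F V] {D : Form (quadKind F) V} {ι : Type*}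

/-- An orthonormal family. -/
structure On (D : Form (quadKind F) V) (u : ι → V) : Prop where
  B : ∀ i j, i ≠ j → D.B (u i) (u j) = 0
  Q : ∀ i, D.Q (u i) = 1

/-- The unit vectors perpendicular to a family. -/
def Xs (D : Form (quadKind F) V) (u : ι → V) : Set V := {z | (∀ i, D.B (u i) z = 0) ∧ D.Q z = 1}

theorem On.li {u : ι → V} (h : On D u) (h2 : (2 : F) ≠ 0) : LinearIndependent F u :=
  LinearMap.linearIndependent_of_isOrthoᵢ (B := D.B) (fun i j => h.B i j) fun i =>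
    quad_B_ne_zero h2 (h.Q i ▸ one_ne_zero)

variable [Finite F] [FiniteDimensional F V] [Fintype ι]

theorem On.perp {u : ι → V} (h : On D u) (hD : D.Nondeg) (h2 : (2 : F) ≠ 0) :
    ∃ (P : Submodule F V) (h' : (D.restrict P).Nondeg),
      Fintype.card ι + finrank F P = finrank F V ∧ disc h' = disc hD ∧
      Nat.card (Xs D u) = Nat.card {b // (D.restrict P).Q b = 1} := by
  classical
  let b := Basis.span (h.li h2)
  have hb : ∀ i j, i ≠ j → (D.restrict _).B (b i) (b j) = 0 := fun i j e => by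
    simpa [b] using h.B i j e
  have hq : ∀ i, (D.restrict _).Q (b i) = 1 := fun i => by simpa [b] using h.Q i
  have h1 := (nondeg_iff_det_gram_ne_zero b).2 (by
    rw [det_gram_of_orth hb]; simp only [hq]; simp [h2])
  have h3 := hD.isOrthCompl ((nondeg_restrict_iff _).1 h1)
  refine ⟨_, h3.symm.nondeg_left hD, ?_, ?_, Nat.card_congr ⟨fun z => ⟨⟨z, ?_⟩, z.2.2⟩,
    fun z => ⟨z.1, fun i => z.1.2 _ (Submodule.subset_span ⟨i, rfl⟩), z.2⟩, fun _ => rfl,
    fun _ => rfl⟩⟩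
  · rw [← hD.finrank_perp (Submodule.span F (Set.range u)), finrank_span_eq_card (h.li h2)]
  · rw [h3.disc_eq hD, disc_of_orth _ b hb]
    simp only [hq]
    simp
  · rw [mem_perp_span]
    rintro _ ⟨i, rfl⟩
    exact z.2.1 i

theorem exists_cnt (hD : D.Nondeg) (h2 : (2 : F) ≠ 0) (hn : 2 ≤ finrank F V) :
    Nat.card {b // D.Q b = 1} ≠ 0 ∧ ∃ (P : Submodule F V) (h' : (D.restrict P).Nondeg),
      1 + finrank F P = finrank F V ∧ disc h' = disc hD ∧
      v₂ (Nat.card D.isom) = v₂ (Nat.card {b // D.Q b = 1}) + v₂ (Nat.card (D.restrict P).isom) := by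
  obtain ⟨a, ha⟩ := Quad.exists_Q_eq hD hn 1
  have h1 : D.Q a ≠ 0 := ha ▸ one_ne_zero
  have h3 := hD.card_isom_of_B_ne_zero (quad_B_ne_zero h2 h1)
  have := Module.finite_of_finite F (M := V)
  have := finite_isom (D := D)
  have h4 := mul_ne_zero_iff.1 (h3 ▸ (Nat.card_pos (α := D.isom)).ne')
  rw [ha] at h3 h4
  refine ⟨h4.1, _, nondeg_perp_singleton hD (quad_B_ne_zero h2 h1), ?_, ?_, ?_⟩
  · rw [← hD.finrank_perp (F ∙ a), finrank_span_singleton (by rintro rfl; simp at h1)]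
  · rw [disc_eq_perp hD h2 h1, ha, chi_one, one_mul]
  · rw [h3, padicValNat.mul h4.1 h4.2]

theorem On.nonempty {u : ι → V} (h : On D u) (hD : D.Nondeg) (h2 : (2 : F) ≠ 0)
    (hn : Fintype.card ι + 2 ≤ finrank F V) : Nonempty (Xs D u) := by
  obtain ⟨P, h', h1, -, h3⟩ := h.perp hD h2
  exact (Nat.card_ne_zero.1 (h3 ▸ (exists_cnt h' h2 (by omega)).1)).1

theorem On.val_odd {u : ι → V} (h : On D u) (hD : D.Nondeg) (h2 : (2 : F) ≠ 0) (hd : disc hD = 1)
    {m : ℕ} (hn : finrank F V = Fintype.card ι + (2 * (m + 1) + 1)) :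
    v₂ (Nat.card (Xs D u)) = 1 := by
  obtain ⟨P, h', h1, h3, h4⟩ := h.perp hD h2
  obtain ⟨-, P', h'', h5, h6, h7⟩ := exists_cnt h' h2 (by omega)
  rw [val_isom_odd h' h2 (m := m + 1) (by omega), val_isom_even h'' h2 (m := m) (by omega),
    if_pos (h6.trans (h3.trans hd)), ← h4] at h7
  omega

theorem On.val_even {u : ι → V} (h : On D u) (hD : D.Nondeg) (h2 : (2 : F) ≠ 0) (hd : disc hD = 1)
    {m : ℕ} (hn : finrank F V = Fintype.card ι + 2 * (m + 1)) :
    v₂ (Nat.card (Xs D u)) + 1 = v₂ (Nat.card F ^ 2 - 1) + v₂ (m + 1) := by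
  obtain ⟨P, h', h1, h3, h4⟩ := h.perp hD h2
  obtain ⟨-, P', h'', h5, h6, h7⟩ := exists_cnt h' h2 (by omega)
  rw [val_isom_odd h'' h2 (m := m) (by omega), val_isom_even h' h2 (m := m) (by omega),
    if_pos (h3.trans hd), Nat.factorial_succ, padicValNat.mul (by simp) m.factorial_ne_zero,
    add_mul, ← h4] at h7
  omega

end Count

local infixl:70 " ⋆ " => zornMul

theorem zm (x y : Fin 8 → F) : x ⋆ y =
    ![x 0 * y 0 + (x 1 * y 4 + x 2 * y 5 + x 3 * y 6),
      x 0 * y 1 + y 7 * x 1 - (x 5 * y 6 - x 6 * y 5),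
      x 0 * y 2 + y 7 * x 2 - (x 6 * y 4 - x 4 * y 6),
      x 0 * y 3 + y 7 * x 3 - (x 4 * y 5 - x 5 * y 4),
      y 0 * x 4 + x 7 * y 4 + (x 2 * y 3 - x 3 * y 2),
      y 0 * x 5 + x 7 * y 5 + (x 3 * y 1 - x 1 * y 3),
      y 0 * x 6 + x 7 * y 6 + (x 1 * y 2 - x 2 * y 1),
      (x 4 * y 1 + x 5 * y 2 + x 6 * y 3) + x 7 * y 7] := rfl

/-- The norm form. -/
def fN (F : Type*) [Field F] : Form (quadKind F) (Fin 8 → F) where
  B := LinearMap.mk₂ F (fun x y => x 0 * y 7 + x 7 * y 0 -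
    (x 1 * y 4 + x 4 * y 1 + x 2 * y 5 + x 5 * y 2 + x 3 * y 6 + x 6 * y 3))
    (fun _ _ _ => by simp; ring) (fun _ _ _ => by simp; ring) (fun _ _ _ => by simp; ring)
    (fun _ _ _ => by simp; ring)
  Q x := x 0 * x 7 - (x 1 * x 4 + x 2 * x 5 + x 3 * x 6)
  symm x y := by simp; ring
  Q_add x y := by simp; ring
  Q_smul c x := by simp; ring
  B_self x := by simp; ring
  Q_mem x := ⟨_, rfl⟩

theorem fN_B (x y : Fin 8 → F) : (fN F).B x y = x 0 * y 7 + x 7 * y 0 -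
    (x 1 * y 4 + x 4 * y 1 + x 2 * y 5 + x 5 * y 2 + x 3 * y 6 + x 6 * y 3) := rfl

theorem fN_Q (x : Fin 8 → F) :
    (fN F).Q x = x 0 * x 7 - (x 1 * x 4 + x 2 * x 5 + x 3 * x 6) := rfl

theorem fN_nondeg : (fN F).Nondeg := fun x h => by
  have h' := fun i => h (Pi.single i 1)
  have h0 := h' 0; have h1 := h' 1; have h2 := h' 2; have h3 := h' 3
  have h4 := h' 4; have h5 := h' 5; have h6 := h' 6; have h7 := h' 7
  simp [fN_B] at h0 h1 h2 h3 h4 h5 h6 h7
  ext i; fin_cases i <;> simp [*]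

/-- The unit element. -/
def zE (F : Type*) [Field F] : Fin 8 → F := ![1, 0, 0, 0, 0, 0, 0, 1]

theorem zE_mul (x : Fin 8 → F) : zE F ⋆ x = x := by
  ext i; fin_cases i <;> simp [zm, zE]

theorem mul_zE (x : Fin 8 → F) : x ⋆ zE F = x := by
  ext i; fin_cases i <;> simp [zm, zE]

theorem Q_zE : (fN F).Q (zE F) = 1 := by simp [fN_Q, zE]

theorem Q_zm (x y : Fin 8 → F) : (fN F).Q (x ⋆ y) = (fN F).Q x * (fN F).Q y := by
  simp [fN_Q, zm]; ring

theorem B_zm (a b c d : Fin 8 → F) :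
    (fN F).B (a ⋆ b) (c ⋆ d) = (fN F).B a c * (fN F).B b d - (fN F).B (a ⋆ d) (c ⋆ b) := by
  simp [fN_B, zm]; ring

theorem B_zm_left (a b d : Fin 8 → F) :
    (fN F).B (a ⋆ b) (a ⋆ d) = (fN F).Q a * (fN F).B b d := by
  simp [fN_B, fN_Q, zm]; ring

theorem B_zm_right (a b c : Fin 8 → F) :
    (fN F).B (a ⋆ b) (c ⋆ b) = (fN F).B a c * (fN F).Q b := by
  simp [fN_B, fN_Q, zm]; ring

theorem zm_self (x : Fin 8 → F) : x ⋆ x = (fN F).B (zE F) x • x - (fN F).Q x • zE F := by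
  ext i; fin_cases i <;> simp [zm, zE, fN_B, fN_Q] <;> ring

theorem B_zm_comm (a x y : Fin 8 → F) : (fN F).B a (x ⋆ y) = (fN F).B (zE F) x * (fN F).B a y +
    (fN F).B (zE F) y * (fN F).B a x - (fN F).B x y * (fN F).B (zE F) a - (fN F).B a (y ⋆ x) := by
  simp [fN_B, zm, zE]; ring

theorem on_one : On (fN F) ![zE F] := ⟨by simp, by simp [Q_zE]⟩

theorem on_two {x : Fin 8 → F} (h : x ∈ Xs (fN F) ![zE F]) : On (fN F) ![zE F, x] := by
  have h1 : (fN F).B (zE F) x = 0 := h.1 0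
  exact ⟨by simp [Fin.forall_fin_two, h1, quad_symm _ x], by simp [Q_zE, h.2]⟩

theorem on_four {x y : Fin 8 → F} (h : x ∈ Xs (fN F) ![zE F]) (h' : y ∈ Xs (fN F) ![zE F, x]) :
    On (fN F) ![zE F, x, y, x ⋆ y] := by
  have h1 : (fN F).B (zE F) x = 0 := h.1 0
  have h2 : (fN F).B (zE F) y = 0 := h'.1 0
  have h3 : (fN F).B x y = 0 := h'.1 1
  have h4 := B_zm (zE F) (zE F) x y
  have h5 := B_zm_left x (zE F) y
  have h6 := B_zm_right (zE F) y x
  simp only [zE_mul, mul_zE, h1, h2, quad_symm _ y x, h3, mul_zero, zero_mul, sub_zero] at h4 h5 h6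
  exact ⟨by simp [Fin.forall_fin_succ, h1, h2, h3, h4, h5, h6, quad_symm _ x (zE F),
    quad_symm _ y (zE F), quad_symm _ y x, quad_symm _ (x ⋆ y)],
    by simp [Fin.forall_fin_succ, Q_zE, Q_zm, h.2, h'.2]⟩

theorem on_eight (h2 : (2 : F) ≠ 0) {x y z : Fin 8 → F} (h : x ∈ Xs (fN F) ![zE F])
    (h' : y ∈ Xs (fN F) ![zE F, x]) (hz : z ∈ Xs (fN F) ![zE F, x, y, x ⋆ y]) :
    On (fN F) (Sum.elim ![zE F, x, y, x ⋆ y] fun i => ![zE F, x, y, x ⋆ y] i ⋆ z) := by
  have h4 := on_four h h'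
  have z0 : (fN F).B (zE F) z = 0 := hz.1 0
  have a : ∀ u v, (fN F).B (u ⋆ z) v = -(fN F).B (v ⋆ z) u := fun u v => by
    simpa [mul_zE, quad_symm _ z, z0, quad_symm _ u (v ⋆ z)] using B_zm u z v (zE F)
  have b : ∀ u, (fN F).B (u ⋆ z) u = 0 := fun u =>
    mul_left_cancel₀ h2 (by linear_combination a u u)
  have c : ∀ i, (fN F).B z (![zE F, x, y, x ⋆ y] i) = 0 := fun i => eq_zero_symm _ (hz.1 i)
  have c0 := c 0; have c1 := c 1; have c2 := c 2; have c3 := c 3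
  have x0 : (fN F).B (zE F) x = 0 := h.1 0
  have y0 : (fN F).B (zE F) y = 0 := h'.1 0
  have y1 : (fN F).B x y = 0 := h'.1 1
  simp only [cons_val_zero, cons_val_one, cons_val] at c0 c1 c2 c3
  have d1 : (fN F).B (x ⋆ z) y = 0 := by
    simpa [zE_mul, quad_symm _ x (zE F), x0, quad_symm _ (x ⋆ y), c3] using B_zm x z (zE F) y
  have d2 : (fN F).B (x ⋆ z) (x ⋆ y) = 0 := by rw [B_zm_left, c2, mul_zero]
  have d3 : (fN F).B (y ⋆ z) (x ⋆ y) = 0 := by simp [B_zm_comm _ x y, B_zm_left, x0, y0, y1, c1]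
  have e : ∀ i j, (fN F).B (![zE F, x, y, x ⋆ y] i ⋆ z) (![zE F, x, y, x ⋆ y] j) = 0 := by
    simp [Fin.forall_fin_succ, zE_mul, c0, c1, c2, c3, b, d1, d2, d3, a _ (zE F), a y x,
      a (x ⋆ y) x, a (x ⋆ y) y]
  refine ⟨?_, ?_⟩
  · rintro (i | i) (j | j) hij
    · exact h4.B i j (by simpa using hij)
    · exact eq_zero_symm _ (e j i)
    · exact e i j
    · exact (B_zm_right _ _ _).trans (by rw [h4.B i j (by simpa using hij), zero_mul])
  · rintro (i | i)
    · exact h4.Q i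
    · exact (Q_zm _ _).trans (by rw [h4.Q i, hz.2, one_mul])

theorem smul_zm (g : G2 F) (x y : Fin 8 → F) : g • (x ⋆ y) = (g • x) ⋆ (g • y) := g.2 x y

theorem smul_zE (g : G2 F) : g • zE F = zE F := by
  rw [← mul_zE (g • zE F)]
  nth_rw 2 [← smul_inv_smul g (zE F)]
  rw [← smul_zm, zE_mul, smul_inv_smul]

theorem g_smul (g : G2 F) (c : F) (x : Fin 8 → F) : g • c • x = c • g • x := mulVec_smul _ _ _

theorem Q_smul_g (g : G2 F) (x : Fin 8 → F) : (fN F).Q (g • x) = (fN F).Q x := by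
  have h := smul_zm g x x
  rw [zm_self, zm_self, smul_sub, g_smul, g_smul, smul_zE, sub_eq_sub_iff_sub_eq_sub, ← sub_smul,
    ← sub_smul] at h
  by_cases h1 : (fN F).B (zE F) x - (fN F).B (zE F) (g • x) = 0
  · rw [h1, zero_smul, eq_comm, smul_eq_zero, sub_eq_zero] at h
    exact (h.resolve_right fun e => by simpa [zE] using congrFun e 0).symm
  · obtain ⟨c, hc⟩ : ∃ c : F, g • x = c • zE F := ⟨_, by
      rw [← eq_inv_smul_iff₀ h1, smul_smul] at h; exact h⟩
    rw [show x = c • zE F by rw [← inv_smul_smul g x, hc, g_smul, smul_zE], g_smul, smul_zE]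

theorem B_smul_g (g : G2 F) (x y : Fin 8 → F) : (fN F).B (g • x) (g • y) = (fN F).B x y := by
  rw [quad_B_eq, quad_B_eq, ← smul_add, Q_smul_g, Q_smul_g, Q_smul_g]

theorem smul_Xs {ι : Type*} {u : ι → Fin 8 → F} {g : G2 F} (h : ∀ i, g • u i = u i) :
    ∀ v ∈ Xs (fN F) u, g • v ∈ Xs (fN F) u := fun v hv =>
  ⟨fun i => by rw [← h i, B_smul_g, hv.1 i], by rw [Q_smul_g, hv.2]⟩

theorem val_G2 [Finite F] (h2 : (2 : F) ≠ 0) :
    v₂ (Nat.card (G2 F)) ≤ 2 * v₂ (Nat.card F ^ 2 - 1) := by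
  have hD := fN_nondeg (F := F)
  have n1 := on_one.nonempty hD h2 (by simp)
  have n2 := fun x (h : x ∈ Xs (fN F) _) => (on_two h).nonempty hD h2 (by simp)
  have n3 := fun x y (h : x ∈ Xs (fN F) _) (h' : y ∈ _) => (on_four h h').nonempty hD h2 (by simp)
  obtain ⟨x, hx, h1⟩ := exists_stab (⊤ : Subgroup (G2 F)) (Xs (fN F) ![zE F]) fun g _ =>
    smul_Xs (by simp [smul_zE])
  have := n2 x hx
  obtain ⟨y, hy, h3⟩ := exists_stab (⊤ ⊓ stabilizer (G2 F) x) (Xs (fN F) ![zE F, x]) fun g hg =>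
    smul_Xs (by simpa [smul_zE] using hg)
  have := n3 x y hx hy
  obtain ⟨z, hz, h4⟩ := exists_stab (⊤ ⊓ stabilizer (G2 F) x ⊓ stabilizer (G2 F) y)
    (Xs (fN F) ![zE F, x, y, x ⋆ y]) fun g hg => smul_Xs (by
      have h1 : g • x = x := hg.1.2
      have h2 : g • y = y := hg.2
      simp [Fin.forall_fin_succ, smul_zE, smul_zm, h1, h2])
  have h8 := on_eight h2 hx hy hz
  let b := basisOfLinearIndependentOfCardEqFinrank (h8.li h2) (by simp)
  have hb : ⇑b = _ := coe_basisOfLinearIndependentOfCardEqFinrank _ _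
  have hd : disc hD = 1 := by
    rw [disc_of_orth hD b (hb ▸ h8.B), hb]
    simp only [h8.Q, chi_one, Finset.prod_const_one]
  have h5 : ⊤ ⊓ stabilizer (G2 F) x ⊓ stabilizer (G2 F) y ⊓ stabilizer (G2 F) z = ⊥ := by
    refine eq_bot_iff.2 fun g hg => Subtype.ext (Units.ext (toLin'.injective (b.ext fun i => ?_)))
    have h1 : g • x = x := hg.1.1.2
    have h2 : g • y = y := hg.1.2
    have h3 : g • z = z := hg.2
    have h4 : ∀ i, g • ![zE F, x, y, x ⋆ y] i = ![zE F, x, y, x ⋆ y] i := by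
      simp [Fin.forall_fin_succ, smul_zE, smul_zm, h1, h2]
    refine (show g • b i = b i from ?_).trans (by simp)
    rw [hb]
    rcases i with i | i
    · exact h4 i
    · simp only [Sum.elim_inr, smul_zm, h4, h3]
  have e1 := on_one.val_odd hD h2 hd (m := 2) (by simp)
  have e2 := (on_two hx).val_even hD h2 hd (m := 2) (by simp)
  have e3 := (on_four hx hy).val_even hD h2 hd (m := 1) (by simp)
  rw [val_odd (n := 2 + 1) (by decide)] at e2
  rw [val_two_mod (n := 1 + 1) rfl] at e3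
  rw [h5, card_bot, padicValNat_one_right] at h4
  rw [card_top] at h1
  omega

/-- Cayley-Dickson coordinates. -/
def cdE (F : Type*) [Field F] :
    (Fin 8 → F) ≃ₗ[F] Matrix (Fin 2) (Fin 2) F × Matrix (Fin 2) (Fin 2) F where
  toFun x := (!![x 0, x 1; x 4, x 7], !![x 2, x 6; x 3, -x 5])
  invFun m := ![m.1 0 0, m.1 0 1, m.2 0 0, m.2 1 0, m.1 1 0, -m.2 1 1, m.2 0 1, m.1 1 1]
  map_add' x y := by ext i j <;> fin_cases i <;> fin_cases j <;> simp [add_comm]
  map_smul' c x := by ext i j <;> fin_cases i <;> fin_cases j <;> simp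
  left_inv x := by ext i; fin_cases i <;> simp
  right_inv m := by ext i j <;> fin_cases i <;> fin_cases j <;> simp

theorem cdE_zm (x y : Fin 8 → F) : cdE F (x ⋆ y) =
    ((cdE F x).1 * (cdE F y).1 - adjugate (cdE F y).2 * (cdE F x).2,
      (cdE F y).2 * (cdE F x).1 + (cdE F x).2 * adjugate (cdE F y).1) := by
  ext i j <;> fin_cases i <;> fin_cases j <;> simp [cdE, zm, adjugate_fin_two] <;> ring

/-- The action of pairs of matrices in Cayley-Dickson coordinates. -/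
def cdA (F : Type*) [Field F] : GL (Fin 2) F × GL (Fin 2) F →*
    Module.End F (Matrix (Fin 2) (Fin 2) F × Matrix (Fin 2) (Fin 2) F) where
  toFun g := (LinearMap.mulLeftRight F (g.1.1, g.1⁻¹.1)).prodMap
    (LinearMap.mulLeftRight F (g.2.1, g.1⁻¹.1))
  map_one' := by ext1 <;> ext1 <;> simp
  map_mul' g h := by ext1 <;> ext1 <;> simp [mul_assoc]

/-- The action of pairs of matrices. -/
noncomputable def cdG (F : Type*) [Field F] : GL (Fin 2) F × GL (Fin 2) F →* GL (Fin 8) F :=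
  ((LinearMap.toMatrixAlgEquiv'.toAlgHom.toMonoidHom.comp
    ((cdE F).symm.conjAlgEquiv F).toAlgHom.toMonoidHom).comp (cdA F)).toHomUnits

theorem cdG_apply (g : GL (Fin 2) F × GL (Fin 2) F) (x : Fin 8 → F) :
    cdE F ((cdG F g).1 *ᵥ x) = (g.1.1 * (cdE F x).1 * g.1⁻¹.1, g.2.1 * (cdE F x).2 * g.1⁻¹.1) := by
  have : (cdG F g).1 = LinearMap.toMatrix' ((cdE F).symm.conjAlgEquiv F (cdA F g)) := rfl
  rw [this, ← toLin'_apply, toLin'_toMatrix']
  simp [cdA]

theorem adj_conj (g k : GL (Fin 2) F) (h : g.1.det = k.1.det) (m : Matrix (Fin 2) (Fin 2) F) :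
    adjugate (k.1 * m * g⁻¹.1) = g.1 * adjugate m * k⁻¹.1 := by
  have h1 : ∀ a : GL (Fin 2) F, adjugate a.1 = a.1.det • a⁻¹.1 := fun a => by
    rw [← one_mul (adjugate a.1), ← a.inv_mul, mul_assoc, mul_adjugate, Matrix.mul_smul, mul_one]
  rw [adjugate_mul_distrib, adjugate_mul_distrib, h1, h1, inv_inv, Matrix.smul_mul,
    Matrix.mul_smul, Matrix.mul_smul, smul_smul, ← h, ← det_mul, g.inv_mul, det_one, one_smul,
    mul_assoc]

theorem cdG_mem {g : GL (Fin 2) F × GL (Fin 2) F} (h : g.1.1.det = g.2.1.det) :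
    cdG F g ∈ G2 F := fun x y => (cdE F).injective (by
  simp only [Units.coeHom_apply, cdE_zm, cdG_apply]
  rw [adj_conj _ _ h, adj_conj _ _ rfl]
  simp only [mul_sub, sub_mul, mul_add, add_mul, mul_assoc, Units.inv_mul_cancel_left])

theorem cdG_eq_one {g : GL (Fin 2) F × GL (Fin 2) F} :
    cdG F g = 1 ↔ g.2 = g.1 ∧ ∃ c, scalar (Fin 2) c = g.1.1 := by
  constructor
  · intro h
    have h1 : ∀ m, g.2.1 * m * g.1⁻¹.1 = m := fun m => by
      simpa [h] using (congrArg Prod.snd (cdG_apply g ((cdE F).symm (0, m)))).symm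
    have h2 : g.2 = g.1 := mul_inv_eq_one.1 (Units.ext (by simpa using h1 1))
    refine ⟨h2, mem_range_scalar_iff_commute_single'.2 fun i j => ?_⟩
    have := h1 (single i j 1)
    rwa [h2, Units.mul_inv_eq_iff_eq_mul, eq_comm] at this
  · rintro ⟨h1, c, hc⟩
    refine Units.ext (matrix_eq_iff.2 fun x => (cdE F).injective ?_)
    have h2 : ∀ m, g.1.1 * m * g.1⁻¹.1 = m := fun m => by
      rw [Units.mul_inv_eq_iff_eq_mul, ← hc]
      exact (scalar_commute c (fun _ => mul_comm _ _) m).eq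
    rw [cdG_apply, h1, h2, h2, Units.val_one, one_mulVec]

theorem ea_G2 [Finite F] (h2 : (2 : F) ≠ 0) : EA 2 (G2 F) := by
  let T : SpecialLinearGroup (Fin 2) F →* GL (Fin 2) F := SpecialLinearGroup.toGL
  let f : _ →* G2 F := ((cdG F).comp (T.prodMap T)).codRestrict _ fun g =>
    cdG_mem (g.1.2.trans g.2.2.symm)
  obtain ⟨δ, hδ⟩ := exists_not_isSquare h2
  have h0 : δ ≠ 0 := fun e => hδ (e ▸ IsSquare.zero)
  let j := GeneralLinearGroup.mkOfDetNeZero !![0, -δ; 1, 0] (by simpa using h0)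
  have hc : ∀ g, ∃ g', T g' = j * T g * j⁻¹ := fun g => by
    change _ ∈ T.range
    rw [Linear.range_toGL]
    simp [T]
  refine ea_ext (M := f.range) (t := ⟨cdG F (j, j), cdG_mem rfl⟩)
    (((ea_SL2 h2).prod (ea_SL2 h2)).of_surj _ f.rangeRestrict_surjective)
    (mem_normalizer_of_cj_le ?_) (Subtype.ext ?_) ?_ ?_
  · rintro _ ⟨_, ⟨g, rfl⟩, rfl⟩
    obtain ⟨a, ha⟩ := hc g.1
    obtain ⟨b, hb⟩ := hc g.2
    refine ⟨(a, b), Subtype.ext ?_⟩
    change cdG F (T a, T b) = cdG F (j, j) * cdG F (T g.1, T g.2) * (cdG F (j, j))⁻¹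
    rw [← map_inv, ← map_mul, ← map_mul, ha, hb]
    rfl
  · change cdG F (j, j) ^ 2 = 1
    rw [← map_pow, cdG_eq_one]
    refine ⟨rfl, -δ, ?_⟩
    ext a b
    fin_cases a <;> fin_cases b <;> simp [j, sq]
  · rintro ⟨g, hg⟩
    have h1 : cdG F (T g.1, T g.2) = cdG F (j, j) := congrArg Subtype.val hg
    rw [← inv_mul_eq_one, ← map_inv, ← map_mul, cdG_eq_one] at h1
    obtain ⟨-, c, h1⟩ := h1
    have h3 := congrArg det h1
    simp [T, j] at h3
    exact hδ ⟨c, by rw [← h3, sq]⟩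
  · let n : SpecialLinearGroup (Fin 2) F × SpecialLinearGroup (Fin 2) F := (-1, -1)
    have h1 : f.ker ≤ zpowers n := fun g hg => by
      obtain ⟨h1, c, h3⟩ := cdG_eq_one.1 (congrArg Subtype.val hg)
      have h4 : g.2 = g.1 := SpecialLinearGroup.toGL_injective h1
      have h5 : scalar (Fin 2) c = g.1.1 := h3
      have h6 : c ^ 2 = 1 := by simpa using (congrArg det h5).trans g.1.2
      rcases sq_eq_one_iff.1 h6 with rfl | rfl
      · have : g.1 = 1 := Subtype.ext (h5.symm.trans (map_one _))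
        rw [show g = 1 from Prod.ext this (h4.trans this)]
        exact one_mem _
      · have : g.1 = -1 := Subtype.ext (h5.symm.trans (by rw [map_neg, map_one]; rfl))
        rw [show g = n from Prod.ext this (h4.trans this)]
        exact mem_zpowers _
    have h3 := card_dvd_of_le h1
    rw [Nat.card_zpowers] at h3
    replace h3 := h3.trans (orderOf_dvd_of_pow_eq_one (n := 2) (Prod.ext neg_one_sq neg_one_sq))
    have h4 := congrArg v₂ f.ker.index_mul_card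
    rw [index_ker, padicValNat.mul Nat.card_pos.ne' Nat.card_pos.ne', Nat.card_prod,
      padicValNat.mul Nat.card_pos.ne' Nat.card_pos.ne', val_SL2 h2] at h4
    have h5 := val_G2 h2
    have h6 : v₂ (Nat.card f.ker) ≤ 1 := by
      rcases (Nat.dvd_prime Nat.prime_two).1 h3 with e | e <;> rw [e] <;> simp
    omega

end Cfsg.Lib.Block2.SylEA
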