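import Cfsg.Agent.Lib.Block2.PInd

/-! Dual basic sets; blocks all of whose characters have the same degree. -/

set_option autoImplicit false
set_option linter.dupNamespace false
set_option linter.unusedSectionVars false
set_option linter.style.haveILetI false

open Cfsg Cfsg.Lib.Block Cfsg.Lib.Block2 Cfsg.Lib.Char Cfsg.Lib.Amalg MonoidAlgebra Subgroup
open Cfsg.Lib.Small Module
open scoped ComplexConjugate

namespace Cfsg.Lib.Block2

variable {G : Type*} [Group G] [Fintype G] {p : ℕ} {M : Ideal AlgInt} [M.IsMaximal]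
variable {θ η : G → ℂ} {b B : Set (IrrCharacter G)} {P : Subgroup G}
  {ε φ : MonoidAlgebra (resField M) G} {u : G}

theorem charExt_left_mul (χ : G → ℂ) (u : G) (H : Subgroup G) (a : MonoidAlgebra ℂ H) :
    charExt (fun c : H => χ (u * c)) a = charExt χ (single u 1 * incl H a) := by
  rw [← charExt_charExt, charExt_incl]
  simp [single_mul_single, charExt_single]

theorem classInner_pchar_right (hθ : IsClassFunction G θ) {a : MonoidAlgebra ℂ G}
    (ha : IsGeneralizedCharacter G (pchar a)) : classInner θ (pchar a) = charExt θ a := by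
  have h : (Nat.card G : ℂ) ≠ 0 := by exact_mod_cast Nat.card_pos.ne'
  rw [classInner_def, inv_mul_eq_iff_eq_mul₀ h, ← sum_mul_pchar hθ, ← Equiv.sum_comp (Equiv.inv G)]
  simp [ha.apply_inv]

theorem classInner_pchar_left (hθ : IsClassFunction G θ) (hη : ∀ g, η g = conj (θ g⁻¹))
    (a : MonoidAlgebra ℂ G) : classInner (pchar a) η = charExt θ a := by
  have h : (Nat.card G : ℂ) ≠ 0 := by exact_mod_cast Nat.card_pos.ne'
  rw [classInner_def, inv_mul_eq_iff_eq_mul₀ h, ← sum_mul_pchar hθ]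
  simp [hη, mul_comm]

variable [Fact p.Prime]

theorem exists_dual_basic (hM : IsPModular p M) (hb : IsPBlock M b) :
    ∃ φ Φ : Fin (blockRank p b) → G → ℂ, (∀ i, φ i ∈ LB p b) ∧
      (∀ η ∈ LB p b, ∃ c : Fin (blockRank p b) → ℤ, η = ∑ i, (c i : ℂ) • φ i) ∧
      (∀ i, IsGeneralizedCharacter G (Φ i) ∧ Φ i ∈ VB p b) ∧
      (∀ η ∈ VB p b, η = ∑ i, classInner η (Φ i) • φ i) ∧
      ∀ i j, classInner (φ i) (Φ j) = if i = j then 1 else 0 := by
  classical
  obtain ⟨φ, h1, h2, h3⟩ := exists_basic hM hb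
  choose! c hc using fun χ (hχ : χ ∈ b) => h3 _ (reg_mem_LB hχ)
  let Φ : Fin (blockRank p b) → G → ℂ := fun i => ∑ χ with χ ∈ b, (c χ i : ℂ) • χ.1
  have h4 : ∀ a : IrrCharacter G → ℂ, ∑ χ with χ ∈ b, a χ • reg p χ.1 =
      ∑ i, (∑ χ with χ ∈ b, a χ * c χ i) • φ i := fun a => by
    rw [Finset.sum_congr rfl fun χ hχ => by rw [hc χ (by simpa using hχ), Finset.smul_sum],
      Finset.sum_comm]
    simp [Finset.sum_smul, smul_smul]
  have h5 : ∀ η ∈ VB p b, η = ∑ i, classInner η (Φ i) • φ i := fun η hη => by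
    obtain ⟨e1, e2, e3⟩ := VB_spec hM hb.isBlockUnion hη
    refine e1.symm.trans ((congrArg (reg p) e2.eq_sum).trans ?_)
    rw [reg_sum_smul, ← Finset.sum_filter_of_ne (p := (· ∈ b))
      fun χ _ h => by_contra fun hχ => h (by rw [e3 χ hχ, zero_smul]), h4]
    simp [Φ, classInner_sum_right, classInner_smul_right, mul_comm]
  refine ⟨φ, Φ, h1, h3, fun i => ⟨?_, ?_⟩, h5, fun i j => ?_⟩
  · convert isGeneralizedCharacter_sum_irr fun χ => if χ ∈ b then c χ i else 0 using 1
    simp [Φ, Finset.sum_filter]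
  · have h6 : reg p (Φ i) = Φ i := funext fun g => by
      by_cases hg : p ∣ orderOf g
      · have h7 := h4 fun χ => conj (χ.1 g)
        rw [show ∑ χ with χ ∈ b, conj (χ.1 g) • reg p χ.1 = 0 from funext fun x => by
          by_cases hx : p ∣ orderOf x
          · simp [reg_of_dvd _ hx]
          · simpa [reg_of_not_dvd _ hx, finsum_mem_irr, mul_comm] using
              weak_orthogonality_of_int hM hb.memLocalRing_blockCoeff hx hg] at h7
        have := congrArg conj (Fintype.linearIndependent_iff.1 h2 _ h7.symm i)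
        rw [reg_of_dvd _ hg]
        simpa [Φ, mul_comm] using this.symm
      · exact reg_of_not_dvd _ hg
    rw [← h6, reg_sum_smul]
    exact Submodule.sum_mem _ fun χ hχ => Submodule.smul_mem _ _ (reg_mem_VB (by simpa using hχ))
  · have := h5 _ (mem_VB_of_LB (h1 i))
    have h7 := Fintype.linearIndependent_iff.1 h2 (fun j => classInner (φ i) (Φ j) -
      if i = j then 1 else 0) (by simp [sub_smul, ← this]) j
    exact sub_eq_zero.1 h7

theorem blockRank_le_one_of_dvd (hM : IsPModular p M) (hb : IsPBlock M b)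
    (h : ∀ Φ ∈ VB p b, ∀ Φ' ∈ VB p b, IsGeneralizedCharacter G Φ → IsGeneralizedCharacter G Φ' →
      MemLocalRing M (classInner Φ Φ' / p ^ blockDefect p b)) : blockRank p b ≤ 1 := by
  obtain ⟨φ, Φ, h1, -, h2, h3, h4⟩ := exists_dual_basic hM hb
  obtain ⟨A, μ, κ, hA⟩ := exists_form hM hb
  have hp : (p : ℂ) ^ blockDefect p b ≠ 0 := pow_ne_zero _ (by exact_mod_cast (Fact.out : p.Prime).ne_zero)
  have h5 : ∀ j l, (κ * ∑ i, red M (classInner (Φ l) (Φ i) / p ^ blockDefect p b) * μ (φ i)) * μ (φ j) =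
      if j = l then 1 else 0 := fun j l => by
    have e := congrArg (classInner · (φ j)) (h3 _ (h2 l).2)
    simp only [classInner_sum_left, classInner_smul_left] at e
    rw [← conj_classInner, h4, Finset.sum_congr rfl fun i _ => show _ = classInner (Φ l) (Φ i) /
      p ^ blockDefect p b * A (φ i) (φ j) by rw [(hA _ (h1 i) _ (h1 j)).1]; field_simp] at e
    have e' := congrArg (red M) e
    rw [red_sum fun i _ => (h _ (h2 l).2 _ (h2 i).2 (h2 l).1 (h2 i).1).mul (memLocalRing_intCast _),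
      Finset.sum_congr rfl fun i _ => by rw [red_mul (h _ (h2 l).2 _ (h2 i).2 (h2 l).1 (h2 i).1)
        (memLocalRing_intCast _), red_intCast, (hA _ (h1 i) _ (h1 j)).2]] at e'
    rw [Finset.mul_sum, Finset.sum_mul]
    refine Eq.trans (Finset.sum_congr rfl fun i _ => by ring) (e'.symm.trans ?_)
    split_ifs <;> simp [red_one, red_zero]
  by_contra hc
  have a := h5 ⟨0, by omega⟩ ⟨0, by omega⟩
  have b := h5 ⟨1, by omega⟩ ⟨0, by omega⟩
  have c := h5 ⟨1, by omega⟩ ⟨1, by omega⟩
  simp only [if_true, Fin.mk.injEq, one_ne_zero, if_false] at a b c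
  rw [(mul_eq_zero.1 b).resolve_left (left_ne_zero_of_mul_eq_one a), mul_zero] at c
  exact zero_ne_one c

theorem Wed.exists_singleton_of_deg (W : Wed M G) (hM : IsPModular p M) (hB : IsPBlock M B) {d : ℕ}
    (hd : ∀ χ ∈ B, charDegree χ.1 = d) : ∃ s, W.T B = {s} ∧ ∀ χ ∈ B, W.dec χ s = 1 := by
  classical
  obtain ⟨χ₀, h₀⟩ := hB.nonempty
  have hd0 : 0 < d := hd χ₀ h₀ ▸ Nat.pos_of_ne_zero (deg_ne_zero χ₀.2)
  obtain ⟨n, hn⟩ := W.exists_int_of_PSp (mem_PSp hM (isGeneralizedCharacter_sum_irr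
    fun χ => if χ ∈ B then 1 else 0) fun g hg => by
    have := blockCoeff_eq_zero_of_int hM hB.memLocalRing_blockCoeff (y := g⁻¹) (by simpa using hg)
    rw [blockCoeff_eq_sum, Finset.sum_congr rfl fun χ hχ => by
      rw [← irr_cast_deg, hd χ (by simpa using hχ), inv_inv], ← Finset.mul_sum] at this
    simpa [hd0.ne', Finset.sum_filter, ite_apply] using this)
  simp only [classInner_sum_irr] at hn
  obtain ⟨m, hm0, hm⟩ := W.exists_deg
  have h1 : ∀ s ∈ W.T B, (m s : ℤ) = d * n s := fun s hs => by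
    have := Fintype.linearIndependent_iff.1 W.linearIndependent_dec
      (fun s => (if s ∈ W.T B then (m s : ℂ) else 0) - d * n s) (funext fun χ => by
        simp only [Finset.sum_apply, Pi.smul_apply, smul_eq_mul, sub_mul, Finset.sum_sub_distrib,
          mul_assoc, ← Finset.mul_sum, ← hn, Pi.zero_apply]
        by_cases hχ : χ ∈ B
        · rw [← hd χ hχ, hm χ, Finset.sum_congr rfl fun t _ => show _ = (m t : ℂ) * W.dec χ t by
            by_cases h : W.dec χ t = 0
            · simp [h]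
            · rw [if_pos ((W.mem_iff_of_dec hB.isBlockUnion h).1 hχ)]]
          simp [hχ]
        · rw [Finset.sum_eq_zero fun t _ => by
            by_cases h : W.dec χ t = 0
            · simp [h]
            · rw [if_neg (mt (W.mem_iff_of_dec hB.isBlockUnion h).2 hχ), zero_mul]]
          simp [hχ]) s
    rw [if_pos hs, sub_eq_zero] at this
    exact_mod_cast this
  have h2 : ∀ s ∈ W.T B, d ≤ m s := fun s hs =>
    Nat.le_of_dvd (Nat.pos_of_ne_zero (hm0 s)) (Int.natCast_dvd_natCast.1 ⟨_, h1 s hs⟩)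
  have h3 : ∀ χ ∈ B, ∑ s, W.dec χ s ≤ 1 := fun χ hχ => by
    refine Nat.le_of_mul_le_mul_left ?_ hd0
    rw [mul_one, Finset.mul_sum]
    refine (Finset.sum_le_sum fun s _ => ?_).trans ((hm χ).symm.trans (hd χ hχ)).le
    by_cases h : W.dec χ s = 0
    · simp [h]
    · exact Nat.mul_le_mul_right _ (h2 s ((W.mem_iff_of_dec hB.isBlockUnion h).1 hχ))
  obtain ⟨s, hs⟩ := W.exists_dec_ne_zero' χ₀
  have hs' := (W.mem_iff_of_dec hB.isBlockUnion hs).1 h₀
  have h4 : W.T B = {s} := (W.eq_of_closed hB (by simpa using hs') (by simp) fun χ t t' h h' e => by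
    obtain rfl : t = s := e
    by_contra hne
    have := (Finset.add_le_sum (f := W.dec χ) (fun _ _ => Nat.zero_le _) (Finset.mem_univ t')
      (Finset.mem_univ t) hne).trans (h3 χ ((W.mem_iff_of_dec hB.isBlockUnion h).2 hs'))
    omega).symm
  refine ⟨s, h4, fun χ hχ => ?_⟩
  have := (Finset.single_le_sum (f := W.dec χ) (fun _ _ => Nat.zero_le _) (Finset.mem_univ s)).trans
    (h3 χ hχ)
  have := (W.dec_ne_zero_iff hB.isBlockUnion h4).2 hχ
  omega

theorem sum_charExt_mul_mem [DecidablePred (· ∈ B)] (hM : IsPModular p M) (hB : IsPBlock M B) {d : ℕ}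
    (hd : ∀ χ ∈ B, charDegree χ.1 = d) {a b : MonoidAlgebra ℂ G} (ha : IsInt M a) (hb : IsInt M b) :
    MemLocalRing M ((∑ χ with χ ∈ B, charExt χ.1 a * charExt χ.1 b) / p ^ blockDefect p B) := by
  classical
  obtain ⟨W⟩ := nonempty_wed M G
  obtain ⟨s, hs, h1⟩ := W.exists_singleton_of_deg hM hB hd
  obtain ⟨x, y, hx, hy, e⟩ := W.exists_idem_eq_sum hB.isBlockUnion hs
  have h2 : ∀ χ ∈ B, ∀ a, charExt χ.1 a = charExt χ.1 (W.i s * ∑ j, y j * a * x j) := fun χ hχ a => by
    rw [← if_pos (c := χ ∈ B) hχ (t := charExt χ.1 a) (e := 0), ← charExt_idem_mul, ← e,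
      Finset.sum_mul, Finset.mul_sum, map_sum, map_sum]
    exact Finset.sum_congr rfl fun j _ => by
      rw [mul_assoc, mul_assoc, charExt_mul_comm χ.2.isCharacter.isClassFunction]
      simp only [mul_assoc]
  obtain ⟨χ₀, h₀, h0⟩ := Block.exists_minVal_eq (p := p) hB.nonempty
  have hd0 : d ≠ 0 := hd χ₀ h₀ ▸ deg_ne_zero χ₀.2
  have hp : p.Prime := Fact.out
  set c := W.i s * (∑ j, y j * a * x j) * W.i s * ∑ j, y j * b * x j
  have h3 : (∑ χ with χ ∈ B, charExt χ.1 a * charExt χ.1 b) * d = Nat.card G * c.coeff 1 := by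
    have := congrFun (pchar_eq_sum c) 1
    rw [pchar_apply] at this
    simp only [inv_one, mul_one, mul_inv_cancel, Finset.sum_const, Finset.card_univ, nsmul_eq_mul,
      Finset.sum_apply, Pi.smul_apply, smul_eq_mul] at this
    rw [Nat.card_eq_fintype_card, this, Finset.sum_mul, Finset.sum_filter]
    refine Finset.sum_congr rfl fun χ _ => ?_
    split_ifs with hχ
    · rw [χ.2.isCharacter.charExt_corner (W.i_mul_i s) (by rw [W.charExt_i, h1 χ hχ, Nat.cast_one]),
        ← h2 χ hχ, ← h2 χ hχ, ← irr_cast_deg, hd χ hχ]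
    · rw [show c = idem B * c by simp only [c, ← mul_assoc, W.idem_mul_i hB.isBlockUnion
        (hs ▸ rfl : s ∈ W.T B)], charExt_idem_mul, if_neg hχ, zero_mul]
  rw [eq_div_of_mul_eq (by exact_mod_cast hd0) h3, show Nat.card G * c.coeff 1 / d / p ^ blockDefect p B =
    (Nat.card G : ℂ) / (d * p ^ blockDefect p B : ℕ) * c.coeff 1 by push_cast; ring]
  refine (memLocalRing_natDiv hM Nat.card_pos.ne' (mul_ne_zero hd0 (pow_ne_zero _ hp.ne_zero)) ?_).mul
    ((((W.isInt_i s).mul (isInt_sum fun j _ => ((hy j).mul ha).mul (hx j))).mul (W.isInt_i s)).mul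
      (isInt_sum fun j _ => ((hy j).mul hb).mul (hx j)) 1)
  rw [Nat.factorization_mul hd0 (pow_ne_zero _ hp.ne_zero), hp.factorization_pow, Finsupp.add_apply,
    Finsupp.single_eq_same, ← hd χ₀ h₀, h0, minVal_add_blockDefect hB.nonempty]

theorem nilB_of_deg (hM : IsPModular p M) (hB : IsPBlock M B) (hm : MaxP p ⊤ (eB M B) P ε)
    (hP : P ≤ 𝐂 P) {d : ℕ} (hd : ∀ χ ∈ B, charDegree χ.1 = d) : NilB p ⊤ (eB M B) := by
  classical
  have hD := (isDefectGroup_iff_defG_top hM hB).2 hm.defG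
  have H : ∀ u ∈ P, rk p P ε u ≤ 1 := fun u hu => by
    haveI := Fintype.ofFinite (𝐂 (zpowers u))
    have h1 := hm.bpo_sp hM hu
    have h2 := (h1.exists_ctr hM hB).1
    have hx : ∃ k, orderOf u = p ^ k := IsPGroup.iff_orderOf.1 hm.defG.isPGroup ⟨u, hu⟩ |>.imp
      fun k h => by simpa using h
    have h3 := (hm.cent_of_comm hM (hP.trans (centralizer_le (zpowers_le.2 hu)))
      (hm.bp.sle_sp hM hu)).defG
    rw [top_inf_eq] at h3
    have h4 : blockDefect p (bset (𝐂 (zpowers u)) (sp p P ε u)) = blockDefect p B :=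
      Nat.pow_right_injective (Fact.out : p.Prime).two_le
        ((h3.card_eq_pow hM h1.bp.blk_top).symm.trans (hD.card_eq_pow hM hB))
    refine blockRank_le_one_of_dvd hM h2.1 fun Φ hΦ Φ' hΦ' g g' => ?_
    obtain ⟨a, ha, rfl⟩ := exists_pchar_eq (mem_PSp hM g fun x hx => by
      rw [← (VB_spec hM isBlockUnion_bset hΦ).1, reg_of_dvd _ hx])
    obtain ⟨a', ha', rfl⟩ := exists_pchar_eq (mem_PSp hM g' fun x hx => by
      rw [← (VB_spec hM isBlockUnion_bset hΦ').1, reg_of_dvd _ hx])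
    have hc : ∀ (χ : IrrCharacter G) v, v ∈ zpowers u →
        IsClassFunction (𝐂 (zpowers u)) fun c => χ.1 (v * c) := fun χ v hv x y => by
      simp only [← χ.2.isCharacter.isClassFunction (v * x) y]
      simp [← mul_assoc, mem_centralizer_iff.1 y.2 v hv]
    rw [← parseval_subsec hM hB.isBlockUnion (centralizer_zpowers_eq u) hx isBlockUnion_bset
      (subset_under h2) hΦ hΦ', h4, Finset.sum_congr rfl fun χ _ => by
      rw [fsub, inner_VB hM isBlockUnion_bset hΦ, inner_VB' hM isBlockUnion_bset hΦ',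
        classInner_pchar_right (hc χ u (mem_zpowers u)) g',
        classInner_pchar_left (hc χ u⁻¹ (inv_mem (mem_zpowers u))) fun c => by
          rw [← χ.2.isCharacter.apply_inv]
          simp [mem_centralizer_iff.1 c.2 u (mem_zpowers u)], charExt_left_mul, charExt_left_mul]]
    exact sum_charExt_mul_mem hM hB hd ((isInt_single _ memLocalRing_one).mul ha.incl)
      ((isInt_single _ memLocalRing_one).mul ha'.incl)
  refine hm.nilB_of_card_le hM hB hP H (card_eq_of_deg hM hB hD ?_ hd).ge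
  have := H 1 (one_mem _)
  have := blockRank_ne_zero hM hB
  rw [hm.rk_one hM hB] at *
  omega

end Cfsg.Lib.Block2
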