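import Mathlib

/-! Symmetric local algebras with a small centre are commutative (Külshammer). -/

set_option autoImplicit false
set_option linter.dupNamespace false
set_option linter.unusedSectionVars false

open Module Submodule

namespace Cfsg.Lib.Block2

variable {k A : Type*} [Field k]

theorem exists_le_span_sup [AddCommGroup A] [Module k A] [FiniteDimensional k A]
    {V W : Submodule k A} (hW : W ≤ V) {n : ℕ} (h : finrank k V ≤ finrank k W + (n + 1)) :
    ∃ x ∈ V, finrank k V ≤ finrank k (W ⊔ span k {x} : Submodule k A) + n := by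
  by_cases hV : V ≤ W
  · exact ⟨0, V.zero_mem, le_add_right (finrank_mono (hV.trans le_sup_left))⟩
  · obtain ⟨x, hx, hx'⟩ := SetLike.not_le_iff_exists.1 hV
    have : W < W ⊔ span k {x} := left_lt_sup.2 (by simpa using hx')
    exact ⟨x, hx, by have := finrank_lt_finrank_of_lt this; omega⟩

variable [Ring A] [Algebra k A]

/-- A symmetric local algebra with radical `J` and symmetrizing form `l`. -/
structure SymLoc (J : Submodule k A) (l : A →ₗ[k] k) : Prop where
  loc : ∀ a, ∃ c : k, a - c • 1 ∈ J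
  mul : J * J ≤ J
  nil : ∃ n, J ^ (n + 1) = ⊥
  symm : ∀ a b, l (a * b) = l (b * a)
  nondeg : ∀ a, (∀ b, l (a * b) = 0) → a = 0

variable (k A) in
/-- The commutator space. -/
def comSp : Submodule k A := span k {z | ∃ a b : A, z = a * b - b * a}

theorem mem_comSp (a b : A) : a * b - b * a ∈ comSp k A := subset_span ⟨a, b, rfl⟩

namespace SymLoc

variable {J : Submodule k A} {l : A →ₗ[k] k} (h : SymLoc J l)
include h

theorem pow_le (n : ℕ) : J ^ (n + 2) ≤ J ^ (n + 1) := by
  rw [pow_succ', pow_succ' J n, ← mul_assoc]; exact mul_le_mul_left h.mul _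

theorem pow_anti {m n : ℕ} (hmn : m ≤ n) : J ^ (n + 1) ≤ J ^ (m + 1) := by
  induction hmn with
  | refl => rfl
  | step _ ih => exact (h.pow_le _).trans ih

theorem eq_bot_of_le {n : ℕ} (hn : J ^ (n + 1) ≤ J ^ (n + 2)) : J ^ (n + 1) = ⊥ := by
  obtain ⟨N, hN⟩ := h.nil
  have : ∀ m, J ^ (n + 1) ≤ J ^ (n + 1 + m) := fun m => by
    induction m with
    | zero => rfl
    | succ m ih =>
      refine ih.trans ?_
      rw [pow_add, show n + 1 + (m + 1) = n + 2 + m by ring, pow_add J (n + 2)]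
      exact mul_le_mul_left hn _
  exact eq_bot_iff.2 ((this N).trans (by
    rw [← hN, show n + 1 + N = n + N + 1 by ring]; exact h.pow_anti (by omega)))

theorem le_of_le_sup (S : Subalgebra k A) (hS : J ≤ J ^ 2 ⊔ Subalgebra.toSubmodule S ⊓ J) :
    J ≤ Subalgebra.toSubmodule S := by
  have key : ∀ n, J ^ (n + 1) ≤ J ^ (n + 2) ⊔ Subalgebra.toSubmodule S ⊓ J ^ (n + 1) := fun n => by
    induction n with
    | zero => simpa using hS
    | succ n ih =>
      rw [pow_succ J (n + 1)]
      refine (mul_le_mul' ih hS).trans ?_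
      rw [Submodule.sup_mul, Submodule.mul_sup, Submodule.mul_sup]
      refine sup_le (sup_le ?_ ?_) (sup_le ?_ ?_)
      · rw [← pow_add]; exact (h.pow_le (n + 2)).trans le_sup_left
      · exact (mul_le_mul_right inf_le_right _).trans ((pow_succ J _).ge.trans le_sup_left)
      · exact (mul_le_mul_left inf_le_right _).trans ((pow_add J _ _).ge.trans le_sup_left)
      · refine le_sup_of_le_right (le_inf ?_ (mul_le_mul' inf_le_right inf_le_right))
        exact Submodule.mul_le.2 fun a ha b hb => S.mul_mem ha.1 hb.1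
  have : ∀ n, J ≤ J ^ (n + 1) ⊔ Subalgebra.toSubmodule S := fun n => by
    induction n with
    | zero => simp
    | succ n ih => exact ih.trans (sup_le ((key n).trans (sup_le_sup_left inf_le_left _)) le_sup_right)
  obtain ⟨N, hN⟩ := h.nil
  simpa [hN] using this N

theorem comm_of_forall (hJ : ∀ a ∈ J, ∀ b ∈ J, a * b = b * a) (a b : A) : a * b = b * a := by
  obtain ⟨c, hc⟩ := h.loc a
  obtain ⟨d, hd⟩ := h.loc b
  have := hJ _ hc _ hd
  simp only [mul_sub, sub_mul, smul_mul_assoc, mul_smul_comm, one_mul, mul_one, smul_sub,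
    smul_smul, mul_comm d c] at this
  linear_combination (norm := abel) this

theorem comm_of_span {x : A} (hx : x ∈ J) (hJ : J ≤ J ^ 2 ⊔ span k {x}) (a b : A) :
    a * b = b * a := by
  have H : ∀ S : Subalgebra k A, x ∈ S → J ≤ Subalgebra.toSubmodule S := fun S hS =>
    h.le_of_le_sup S (hJ.trans (sup_le_sup_left (by simpa using ⟨hS, hx⟩) _))
  have h1 := H (Subalgebra.centralizer k {x}) (by simp [Subalgebra.mem_centralizer_iff])
  have h2 := H (Subalgebra.centralizer k J) (by
    rw [Subalgebra.mem_centralizer_iff]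
    exact fun y hy => ((Subalgebra.mem_centralizer_iff k).1 (h1 hy) x rfl).symm)
  exact h.comm_of_forall (fun a ha b hb => (Subalgebra.mem_centralizer_iff k).1 (h2 hb) a ha) a b

theorem comSp_le_of {W : Submodule k A} (hW : ∀ a ∈ J, ∀ b ∈ J, a * b - b * a ∈ W) :
    comSp k A ≤ W := by
  refine span_le.2 ?_
  rintro _ ⟨a, b, rfl⟩
  obtain ⟨c, hc⟩ := h.loc a
  obtain ⟨d, hd⟩ := h.loc b
  change _ ∈ W
  convert hW _ hc _ hd using 1
  simp only [mul_sub, sub_mul, smul_mul_assoc, mul_smul_comm, one_mul, mul_one, smul_sub,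
    smul_smul, mul_comm d c]
  abel

theorem comSp_le_sq : comSp k A ≤ J ^ 2 :=
  h.comSp_le_of fun _ ha _ hb => by
    rw [sq]; exact sub_mem (mul_mem_mul ha hb) (mul_mem_mul hb ha)

theorem comSp_le_ker : comSp k A ≤ LinearMap.ker l := by
  refine span_le.2 ?_
  rintro _ ⟨a, b, rfl⟩
  simp [h.symm a b]

theorem apply_ne_zero {s : A} (hs : s ≠ 0) (hJ : ∀ a ∈ J, s * a = 0) : l s ≠ 0 := fun h0 =>
  hs (h.nondeg s fun b => by
    obtain ⟨c, hc⟩ := h.loc b
    have := congrArg l (hJ _ hc)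
    simpa [mul_sub, h0] using this)

theorem exists_soc {n : ℕ} (hn : J ^ (n + 1) ≠ ⊥) : ∃ s ∈ J ^ (n + 1), l s ≠ 0 := by
  classical
  have hex : ∃ m, J ^ (n + m + 2) = ⊥ := by
    obtain ⟨N, hN⟩ := h.nil
    exact ⟨N, eq_bot_iff.2 (hN ▸ h.pow_anti (by omega))⟩
  have h1 : J ^ (n + Nat.find hex + 1) ≠ ⊥ := by
    rcases hm : Nat.find hex with _ | m
    · exact hn
    · exact Nat.find_min hex (m := m) (by omega)
  obtain ⟨s, hs, hs0⟩ := (Submodule.ne_bot_iff _).1 h1
  refine ⟨s, h.pow_anti (by omega) hs, h.apply_ne_zero hs0 fun a ha => ?_⟩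
  have := mul_mem_mul hs ha
  rwa [← pow_succ, Nat.find_spec hex] at this

/-- The bilinear form attached to `l`. -/
def form (l : A →ₗ[k] k) : LinearMap.BilinForm k A := (LinearMap.mul k A).compr₂ l

omit h in
theorem form_apply (a b : A) : form l a b = l (a * b) := rfl

theorem isRefl : (form l).IsRefl := fun a b hab => (h.symm b a).trans hab

theorem nondegenerate : (form l).Nondegenerate :=
  ⟨h.nondeg, fun a ha => h.nondeg a fun b => (h.symm a b).trans (ha b)⟩

theorem orth_comSp : (form l).orthogonal (comSp k A) = Subalgebra.toSubmodule (Subalgebra.center k A) := by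
  ext z
  have e : ∀ a b, l ((a * b - b * a) * z) = l ((z * a - a * z) * b) := fun a b => by
    rw [sub_mul, sub_mul, map_sub, map_sub, h.symm _ z, mul_assoc b, h.symm b, mul_assoc z]
  rw [Subalgebra.mem_toSubmodule, Subalgebra.mem_center_iff]
  refine ⟨fun hz a => (sub_eq_zero.1 (h.nondeg _ fun b => (e a b).symm.trans
    (hz _ (mem_comSp a b)))).symm, fun hz w hw => ?_⟩
  refine (span_le (p := LinearMap.ker ((form l).flip z))).2 ?_ hw
  rintro _ ⟨a, b, rfl⟩
  exact (e a b).trans (by rw [hz a, sub_self, zero_mul, map_zero])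

variable [FiniteDimensional k A]

theorem finrank_center :
    finrank k (Subalgebra.center k A) + finrank k (comSp k A) = finrank k A := by
  have := LinearMap.BilinForm.finrank_orthogonal h.nondegenerate (comSp k A)
  rw [h.orth_comSp] at this
  have h2 := Submodule.finrank_le (comSp k A)
  change finrank k (Subalgebra.center k A) = _ at this
  omega

theorem finrank_lt [Nontrivial A] : finrank k J < finrank k A := by
  refine Submodule.finrank_lt fun hJ => ?_
  obtain ⟨n, hn⟩ := h.nil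
  have : (1 : A) ∈ J ^ (n + 1) := by simpa using pow_mem_pow J (x := 1) (hJ ▸ mem_top) (n + 1)
  exact one_ne_zero ((hn ▸ this : (1 : A) ∈ (⊥ : Submodule k A)))

theorem finrank_le : finrank k A ≤ finrank k J + 1 := by
  have : (⊤ : Submodule k A) = J ⊔ span k {1} := top_le_iff.1 (fun a _ => by
    obtain ⟨c, hc⟩ := h.loc a
    simpa using add_mem (mem_sup_left hc) (mem_sup_right (smul_mem _ c (mem_span_singleton_self 1))))
    |>.symm
  rw [← finrank_top, this]
  exact (finrank_add_le_finrank_add_finrank _ _).trans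
    (by gcongr; exact (finrank_span_le_card _).trans (by simp))

theorem finrank_sq_le (h3 : J ^ 3 = ⊥) [Nontrivial A] : finrank k (J ^ 2 : Submodule k A) ≤ 1 := by
  have h1 : J ^ 2 ≤ (form l).orthogonal J := fun a ha b hb => by
    have := mul_mem_mul hb ha
    rw [← pow_succ', h3] at this
    exact (form_apply b a).trans (by rw [this, map_zero])
  have := LinearMap.BilinForm.finrank_orthogonal h.nondegenerate J
  have := finrank_mono h1
  have := h.finrank_le
  omega

omit [FiniteDimensional k A] in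
theorem cube_le {x y : A} (hx : x ∈ J) (hy : y ∈ J) (hJ : J ≤ J ^ 2 ⊔ span k {x} ⊔ span k {y})
    (h2 : J ^ 2 ≤ J ^ 3 ⊔ span k {x * y - y * x}) : J ^ 3 ≤ J ^ 4 := by
  set c := x * y - y * x with hc
  have hc2 : c ∈ J ^ 2 := h.comSp_le_sq (mem_comSp x y)
  have hβ : ∀ u ∈ J, ∀ v ∈ J, ∃ b : k, u * v - b • c ∈ J ^ 3 := fun u hu v hv => by
    obtain ⟨z, hz, w, hw, e⟩ := mem_sup.1 (h2 (sq J ▸ mul_mem_mul hu hv))
    obtain ⟨b, rfl⟩ := mem_span_singleton.1 hw
    exact ⟨b, by rw [← e]; simpa using hz⟩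
  let q := (J ^ 4).mkQ
  have key : ∀ {u v w : A} {b b' : k}, u ∈ J → w ∈ J → u * v - b • c ∈ J ^ 3 →
      v * w - b' • c ∈ J ^ 3 → b • q (c * w) = b' • q (u * c) := fun {u v w b b'} hu hw h1 h2 => by
    rw [← map_smul, ← map_smul]
    refine (Submodule.Quotient.eq _).2 ?_
    have e1 := mul_mem_mul h1 hw
    have e2 := mul_mem_mul hu h2
    rw [← pow_succ] at e1
    rw [← pow_succ'] at e2
    convert sub_mem e2 e1 using 1
    simp [mul_sub, sub_mul, mul_assoc]
  obtain ⟨a, ha⟩ := hβ x hx x hx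
  obtain ⟨b, hb⟩ := hβ x hx y hy
  obtain ⟨d, hd⟩ := hβ y hy y hy
  have hb' : y * x - (b - 1) • c ∈ J ^ 3 := by convert hb using 1; rw [sub_smul, one_smul, hc]; abel
  have e1 := key hx hx ha ha
  have e2 := key hx hy ha hb
  have e3 := key hx hx hb hb'
  have e4 := key hx hy hb hd
  have e5 := key hy hx hb' ha
  have e6 := key hy hy hb' hb
  have hXY : q (c * x) = 0 ∧ q (c * y) = 0 := by
    by_cases ha0 : a = 0
    · by_cases hb0 : b = 0
      · subst ha0 hb0; simp only [zero_sub, neg_smul, one_smul, zero_smul, neg_eq_zero] at e5 e6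
        exact ⟨e5, e6⟩
      · subst ha0
        rw [zero_smul, eq_comm, smul_eq_zero_iff_right hb0] at e2
        rw [e2, smul_zero, smul_eq_zero_iff_right hb0] at e3 e4
        exact ⟨e3, e4⟩
    · rw [smul_right_injective _ ha0 e1, sub_smul, one_smul, eq_sub_iff_add_eq, add_eq_left] at e3
      rw [e3, smul_zero, smul_eq_zero_iff_right ha0] at e1 e2
      exact ⟨e1, e2⟩
  rw [pow_succ J 2]
  refine (mul_le_mul' h2 le_rfl).trans ?_
  rw [Submodule.sup_mul, ← pow_succ]
  refine sup_le le_rfl ((mul_le_mul' le_rfl hJ).trans ?_)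
  rw [Submodule.mul_sup, Submodule.mul_sup, span_mul_span, span_mul_span]
  refine sup_le (sup_le ?_ ?_) ?_
  · exact (mul_le_mul_left (by simpa using hc2) _).trans (pow_add J 2 2).ge
  · simpa using (Submodule.Quotient.mk_eq_zero _).1 hXY.1
  · simpa using (Submodule.Quotient.mk_eq_zero _).1 hXY.2

omit [FiniteDimensional k A] in
theorem comSp_le_two {x y : A} (hx : x ∈ J) (hy : y ∈ J)
    (hJ : J ≤ J ^ 2 ⊔ span k {x} ⊔ span k {y}) : comSp k A ≤ J ^ 3 ⊔ span k {x * y - y * x} := by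
  have H : ∀ a ∈ J, ∃ z ∈ J ^ 2, ∃ s t : k, a = z + s • x + t • y := fun a ha => by
    obtain ⟨_, h1, _, h2, rfl⟩ := mem_sup.1 (hJ ha)
    obtain ⟨z, hz, _, h3, rfl⟩ := mem_sup.1 h1
    obtain ⟨s, rfl⟩ := mem_span_singleton.1 h3
    obtain ⟨t, rfl⟩ := mem_span_singleton.1 h2
    exact ⟨z, hz, s, t, rfl⟩
  refine h.comSp_le_of fun a ha b hb => ?_
  obtain ⟨z, hz, s, t, rfl⟩ := H a ha
  obtain ⟨z', hz', s', t', rfl⟩ := H b hb
  have hw : s • x + t • y ∈ J := add_mem (smul_mem _ _ hx) (smul_mem _ _ hy)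
  have m1 : ∀ {u v}, u ∈ J ^ 2 → v ∈ J → u * v - v * u ∈ J ^ 3 := fun hu hv =>
    sub_mem (pow_succ J 2 ▸ mul_mem_mul hu hv) (pow_succ' J 2 ▸ mul_mem_mul hv hu)
  convert add_mem (mem_sup_left (sub_mem (m1 hz hb) (m1 hz' hw))) (mem_sup_right
    (smul_mem _ (s * t' - t * s') (mem_span_singleton_self (x * y - y * x)))) using 1
  simp only [mul_add, add_mul, smul_mul_assoc, mul_smul_comm, smul_add, smul_sub, sub_smul,
    smul_smul, mul_comm s', mul_comm t']
  abel

theorem comm_of_le_four (h4 : finrank k (Subalgebra.center k A) ≤ 4) (a b : A) :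
    a * b = b * a := by
  by_contra hab
  haveI : Nontrivial A := ⟨⟨_, _, hab⟩⟩
  have hK : comSp k A ≠ ⊥ := fun h0 => hab (sub_eq_zero.1 ((h0 ▸ mem_comSp a b :
    _ ∈ (⊥ : Submodule k A))))
  have h2 : J ^ 2 ≠ ⊥ := fun h0 => hK (eq_bot_iff.2 (h0 ▸ h.comSp_le_sq))
  have hlt : ∀ s ∈ J ^ 2, l s ≠ 0 → comSp k A < comSp k A ⊔ span k {s} ∧
      comSp k A ⊔ span k {s} ≤ J ^ 2 := fun s hs hl =>
    ⟨left_lt_sup.2 fun hle => hl (h.comSp_le_ker (hle (mem_span_singleton_self s))),
      sup_le h.comSp_le_sq (by simpa using hs)⟩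
  obtain ⟨s, hs, hl⟩ := h.exists_soc h2
  have f1 := finrank_lt_finrank_of_lt ((hlt s hs hl).1.trans_le (hlt s hs hl).2)
  have f2 := h.finrank_center
  have f3 := h.finrank_lt
  have hle : J ^ 2 ≤ J := by simpa using h.pow_le 0
  have f4 : ¬ finrank k J ≤ finrank k (J ^ 2 : Submodule k A) + (0 + 1) := fun f => by
    obtain ⟨x, hx, f⟩ := exists_le_span_sup hle f
    exact hab (h.comm_of_span hx (eq_of_le_of_finrank_le (sup_le hle (by simpa using hx)) f).ge a b)
  obtain ⟨x, hx, f5⟩ := exists_le_span_sup hle (n := 1) (by omega)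
  have hle' := sup_le hle ((span_singleton_le_iff_mem _ _).2 hx)
  obtain ⟨y, hy, f6⟩ := exists_le_span_sup hle' f5
  have hJ := (eq_of_le_of_finrank_le (sup_le hle' (by simpa using hy)) f6).ge
  have h3 : J ^ 3 ≠ ⊥ := fun h0 => by
    have := h.finrank_sq_le h0
    exact hK (finrank_eq_zero.1 (by omega))
  obtain ⟨t, ht, hl'⟩ := h.exists_soc h3
  have ht' := hlt t (h.pow_le 1 ht) hl'
  have f7 := finrank_lt_finrank_of_lt ht'.1
  refine h3 (h.eq_bot_of_le (h.cube_le hx hy hJ ?_))
  rw [← eq_of_le_of_finrank_le ht'.2 (by omega)]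
  exact sup_le (h.comSp_le_two hx hy hJ) (le_sup_of_le_left (by simpa using ht))

end SymLoc

end Cfsg.Lib.Block2
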