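import Cfsg.Agent.Lib.Block2.Proj
import Cfsg.Agent.Lib.Block2.SymLoc
import Cfsg.Agent.Lib.Small.Subsec

/-! The semisimple quotient of the modular group algebra, primitive idempotents and decomposition
numbers. -/

set_option autoImplicit false
set_option linter.dupNamespace false
set_option linter.unusedSectionVars false
set_option linter.style.haveILetI false

open Cfsg Cfsg.Lib.Block Cfsg.Lib.Block2 Cfsg.Lib.Char Cfsg.Lib.Amalg MonoidAlgebra Subgroup
open Module Cfsg.Lib.Small
open scoped ComplexConjugate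

namespace Cfsg.Lib.Block2

theorem exists_wedderburn (k A : Type*) [Field k] [IsAlgClosed k] [Ring A] [Algebra k A]
    [FiniteDimensional k A] : ∃ (n : ℕ) (d : Fin n → ℕ)
      (π : A →ₐ[k] Π s, Matrix (Fin (d s + 1)) (Fin (d s + 1)) k), Function.Surjective π ∧
        ∃ N, LinearMap.ker π.toLinearMap ^ (N + 1) = ⊥ := by
  have := IsArtinianRing.of_finite k A
  have : FiniteDimensional k (A ⧸ Ring.jacobson A) :=
    Module.Finite.of_surjective (Ideal.Quotient.mkₐ k (Ring.jacobson A)).toLinearMap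
      (Ideal.Quotient.mkₐ_surjective k _)
  obtain ⟨n, d, hd, ⟨e⟩⟩ :=
    IsSemisimpleRing.exists_algEquiv_pi_matrix_of_isAlgClosed k (A ⧸ Ring.jacobson A)
  obtain ⟨d, rfl⟩ : ∃ d' : Fin n → ℕ, d = fun s => d' s + 1 :=
    ⟨fun s => d s - 1, funext fun s => (Nat.sub_one_add_one (hd s).1).symm⟩
  refine ⟨n, d, e.toAlgHom.comp (Ideal.Quotient.mkₐ k _),
    e.surjective.comp (Ideal.Quotient.mkₐ_surjective k _), ?_⟩
  obtain ⟨N, hN⟩ := IsSemiprimaryRing.isNilpotent (R := A)
  refine ⟨N, ?_⟩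
  have h : LinearMap.ker (e.toAlgHom.comp (Ideal.Quotient.mkₐ k (Ring.jacobson A))).toLinearMap =
      (Ring.jacobson A).restrictScalars k := by
    ext a; simp [Ideal.Quotient.eq_zero_iff_mem]
  rw [h, ← Submodule.restrictScalars_pow N.succ_ne_zero, Submodule.pow_succ, hN]
  simp

theorem exists_rank_one {k : Type*} [Field k] {m : ℕ} {E : Matrix (Fin (m + 1)) (Fin (m + 1)) k}
    (hE : E * E = E) (h0 : E ≠ 0) : ∃ a b : Matrix (Fin (m + 1)) (Fin (m + 1)) k,
      b * a = Matrix.single 0 0 1 ∧ E * a = a ∧ b * E = b ∧ a * Matrix.single 0 0 1 = a := by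
  obtain ⟨i, j, hij⟩ : ∃ i j, E i j ≠ 0 := by
    by_contra! h; exact h0 (Matrix.ext h)
  refine ⟨E * Matrix.single j 0 (E i j)⁻¹, Matrix.single 0 i 1 * E, ?_, by rw [← mul_assoc, hE],
    by rw [mul_assoc, hE], by simp [mul_assoc]⟩
  rw [mul_assoc, ← mul_assoc E, hE, ← mul_assoc, Matrix.single_mul_mul_single]
  simp [hij]

variable (M : Ideal AlgInt) [M.IsMaximal] (G : Type*) [Group G] [Finite G]

/-- A Wedderburn decomposition of the semisimple quotient of the modular group algebra. -/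
structure Wed where
  n : ℕ
  d : Fin n → ℕ
  π : MonoidAlgebra (resField M) G →ₐ[resField M]
    Π s, Matrix (Fin (d s + 1)) (Fin (d s + 1)) (resField M)
  surj : Function.Surjective π
  nil : ∃ N, LinearMap.ker π.toLinearMap ^ (N + 1) = ⊥

theorem nonempty_wed : Nonempty (Wed M G) :=
  have ⟨n, d, π, h1, h2⟩ := exists_wedderburn (resField M) (MonoidAlgebra (resField M) G)
  ⟨⟨n, d, π, h1, h2⟩⟩

variable {M G}

namespace Wed

variable (W : Wed M G)

/-- The semisimple quotient. -/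
abbrev R : Type := Π s, Matrix (Fin (W.d s + 1)) (Fin (W.d s + 1)) (resField M)

/-- Reduction followed by the projection to the semisimple quotient. -/
noncomputable def r (a : MonoidAlgebra ℂ G) : W.R := W.π (redA M a)

/-- The reduction map on the group algebra over the local ring. -/
noncomputable def ρ : MonoidAlgebra (locRing M) G →ₐ[locRing M] W.R :=
  (W.π.restrictScalars (locRing M)).comp
    { toK G M with commutes' := fun c => by simp [toK] }

theorem ρ_apply (a : MonoidAlgebra (locRing M) G) : W.ρ a = W.r (toC G M a) := by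
  rw [r, redA_toC]; rfl

variable {a b e f : MonoidAlgebra ℂ G}

theorem r_one : W.r 1 = 1 := by rw [r, redA_one, map_one]
theorem r_zero : W.r 0 = 0 := by rw [r, redA_zero, map_zero]
theorem r_mul (ha : IsInt M a) (hb : IsInt M b) : W.r (a * b) = W.r a * W.r b := by
  rw [r, redA_mul ha hb, map_mul]; rfl
theorem r_add (ha : IsInt M a) (hb : IsInt M b) : W.r (a + b) = W.r a + W.r b := by
  rw [r, redA_add ha hb, map_add]; rfl
theorem r_sub (ha : IsInt M a) (hb : IsInt M b) : W.r (a - b) = W.r a - W.r b := by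
  rw [r, redA_sub ha hb, map_sub]; rfl
theorem r_sum {ι : Type*} {s : Finset ι} {v : ι → MonoidAlgebra ℂ G} (h : ∀ i ∈ s, IsInt M (v i)) :
    W.r (∑ i ∈ s, v i) = ∑ i ∈ s, W.r (v i) := by
  rw [r, redA_sum h, map_sum]; rfl

theorem exists_r (x : W.R) : ∃ a, IsInt M a ∧ W.r a = x :=
  have ⟨y, hy⟩ := W.surj x
  ⟨_, isInt_secA y, by rw [r, redA_secA, hy]⟩

theorem exists_idem (hi : IsInt M e) (he : e * e = e) {x : W.R} (hx : x * x = x)
    (h1 : W.r e * x = x) (h2 : x * W.r e = x) :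
    ∃ f, IsInt M f ∧ f * f = f ∧ e * f = f ∧ f * e = f ∧ W.r f = x := by
  obtain ⟨e, rfl⟩ := isInt_iff.1 hi
  obtain ⟨F, a1, a2, a3, a4⟩ := exists_idem_lift splits_loc W.ρ (fun x => by
      obtain ⟨a, ha, rfl⟩ := W.exists_r x
      exact ⟨liftA M a, by rw [ρ_apply, ha.toC_liftA]⟩)
    (fun a ha => by
      rw [IsScalarTower.algebraMap_apply _ (resField M), IsLocalRing.ResidueField.algebraMap_eq,
        (IsLocalRing.residue_eq_zero_iff _).2 ha, map_zero])
    (E := e) (toC_injective (by rw [map_mul, he])) hx (by rwa [ρ_apply]) (by rwa [ρ_apply])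
  exact ⟨_, isInt_toC F, by rw [← map_mul, a1], by rw [← map_mul, a2], by rw [← map_mul, a3],
    (W.ρ_apply F).symm.trans a4⟩

theorem isNilpotent_of_π {x : MonoidAlgebra (resField M) G} (h : W.π x = 0) : IsNilpotent x :=
  have ⟨N, hN⟩ := W.nil
  ⟨N + 1, by simpa [hN] using Submodule.pow_mem_pow (LinearMap.ker W.π.toLinearMap) (x := x) h (N + 1)⟩

theorem exists_inv (ha : IsInt M a) (h : W.r a = 1) : ∃ b, IsInt M b ∧ a * b = 1 ∧ b * a = 1 := by
  obtain ⟨a, rfl⟩ := isInt_iff.1 ha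
  obtain ⟨N, hN⟩ := W.isNilpotent_of_π (x := toK G M (1 - a)) (by
    rw [map_sub, map_one, map_sub, map_one, ← redA_toC, ← r, h, sub_self])
  have h1 : IsUnit (1 - (1 - a) ^ N) := isUnit_of_sub_one_mem_smul_top (R := locRing M) (by
    have := Fintype.ofFinite G
    rw [sub_sub_cancel_left, neg_mem_iff, eq_sum_single ((1 - a) ^ N)]
    refine Submodule.sum_mem _ fun g _ => Submodule.smul_mem_smul ?_ trivial
    rw [← IsLocalRing.residue_eq_zero_iff, ← coeff_toK, map_pow, hN]; rfl)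
  have h2 := mul_neg_geom_sum (1 - a) N
  have h3 := geom_sum_mul_neg (1 - a) N
  rw [sub_sub_cancel] at h2 h3
  obtain ⟨c, hc⟩ := (isUnit_iff_exists_and_exists.2 ⟨⟨_, by
    rw [← mul_assoc, h2]; exact h1.mul_val_inv⟩, ⟨_, by
    rw [mul_assoc, h3]; exact h1.val_inv_mul⟩⟩ : IsUnit a)
  exact ⟨_, isInt_toC ↑c⁻¹, by rw [← map_mul, ← hc, c.mul_inv, map_one],
    by rw [← map_mul, ← hc, c.inv_mul, map_one]⟩

theorem eq_zero_of_r (hi : IsInt M e) (he : e * e = e) (h : W.r e = 0) : e = 0 := by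
  obtain ⟨b, -, -, hb⟩ := W.exists_inv (isInt_one.sub hi) (by
    rw [W.r_sub isInt_one hi, h, r_one, sub_zero])
  rw [← one_mul e, ← hb, mul_assoc, sub_mul, one_mul, he, sub_self, mul_zero]

/-- An element of the corner `e Λ e` reducing to `e` is invertible in the corner. -/
theorem exists_corner_inv (hi : IsInt M e) (he : e * e = e) (ha : IsInt M a) (h1 : e * a = a)
    (h2 : a * e = a) (h : W.r a = W.r e) :
    ∃ b, IsInt M b ∧ a * b = e ∧ b * a = e ∧ e * b = b ∧ b * e = b := by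
  obtain ⟨c, hc, c1, c2⟩ := W.exists_inv ((isInt_one.sub hi).add ha) (by
    rw [W.r_add (isInt_one.sub hi) ha, W.r_sub isInt_one hi, h, r_one, sub_add_cancel])
  have e1 : a * c = e := by
    rw [← mul_one e, ← c1, ← mul_assoc, mul_add, mul_sub, mul_one, he, sub_self, zero_add, h1]
  have e2 : c * a = e := by
    rw [← one_mul e, ← c2, mul_assoc, add_mul, sub_mul, one_mul, he, sub_self, zero_add, h2]
  refine ⟨e * c * e, (hi.mul hc).mul hi, ?_, ?_, ?_, ?_⟩
  · rw [← mul_assoc, ← mul_assoc, h2, e1, he]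
  · rw [mul_assoc, h1, mul_assoc, e2, he]
  · rw [← mul_assoc, ← mul_assoc, he]
  · rw [mul_assoc, he]

theorem exists_equiv (hi : IsInt M e) (he : e * e = e) (hi' : IsInt M f) (hf : f * f = f)
    {x y : W.R} (h1 : x * y = W.r e) (h2 : y * x = W.r f) :
    ∃ a b, IsInt M a ∧ IsInt M b ∧ a * b = e ∧ b * a = f := by
  obtain ⟨a, ha, rfl⟩ := W.exists_r x
  obtain ⟨b, hb, rfl⟩ := W.exists_r y
  have re : W.r e * W.r e = W.r e := by rw [← W.r_mul hi hi, he]
  have rf : W.r f * W.r f = W.r f := by rw [← W.r_mul hi' hi', hf]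
  have ia := (hi.mul ha).mul hi'
  have ib := (hi'.mul hb).mul hi
  have ra : W.r (e * a * f) = W.r e * W.r a := by
    rw [W.r_mul (hi.mul ha) hi', W.r_mul hi ha, ← h2, mul_assoc, ← mul_assoc (W.r a), h1,
      ← mul_assoc, re]
  have rb : W.r (f * b * e) = W.r f * W.r b := by
    rw [W.r_mul (hi'.mul hb) hi, W.r_mul hi' hb, ← h1, mul_assoc, ← mul_assoc (W.r b), h2,
      ← mul_assoc, rf]
  have ab : W.r a * W.r f = W.r e * W.r a := by rw [← h2, ← mul_assoc, h1]
  obtain ⟨c, hc, c1, c2, c3, c4⟩ := W.exists_corner_inv hi he (ia.mul ib)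
    (by simp only [← mul_assoc, he]) (by simp only [mul_assoc, he]) (by
      rw [W.r_mul ia ib, ra, rb, mul_assoc, ← mul_assoc (W.r a), ab, mul_assoc, h1, re, re])
  have ic := (ib.mul hc).mul ia
  have rc : W.r c = W.r e := by
    rw [← c2, W.r_mul hc (ia.mul ib), W.r_mul ia ib, ra, rb, mul_assoc (W.r e), ← mul_assoc (W.r a),
      ab, mul_assoc, h1, re, re, ← W.r_mul hc hi, c4]
  refine ⟨e * a * f, f * b * e * c, ia, ib.mul hc, by rw [← mul_assoc, c1], ?_⟩
  set g := f * b * e * c * (e * a * f) with hg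
  have g1 : g * g = g := by
    rw [hg, mul_assoc _ (e * a * f), ← mul_assoc (e * a * f), ← mul_assoc (e * a * f), c1,
      ← mul_assoc e, ← mul_assoc e, he]
  have g2 : f * g = g := by simp only [hg, ← mul_assoc, hf]
  have g3 : g * f = g := by simp only [hg, mul_assoc, hf]
  refine (sub_eq_zero.1 (W.eq_zero_of_r (hi'.sub ic) ?_ ?_)).symm
  · rw [sub_mul, mul_sub, mul_sub, hf, g1, g2, g3, sub_self, sub_zero]
  · rw [W.r_sub hi' ic, W.r_mul (ib.mul hc) ia, W.r_mul ib hc, ra, rb, rc, mul_assoc, ← mul_assoc (W.r e),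
      re, ← ab, mul_assoc, ← mul_assoc (W.r b), h2, rf, rf, sub_self]

theorem charExt_eq_of_equiv (hi : IsInt M e) (he : e * e = e) (hi' : IsInt M f) (hf : f * f = f)
    {x y : W.R} (h1 : x * y = W.r e) (h2 : y * x = W.r f) {θ : G → ℂ} (hθ : IsClassFunction G θ) :
    charExt θ e = charExt θ f := by
  obtain ⟨a, b, -, -, rfl, rfl⟩ := W.exists_equiv hi he hi' hf h1 h2
  exact charExt_mul_comm hθ a b

/-- The standard primitive idempotent of the `s`-th factor. -/
noncomputable def E (s : Fin W.n) : W.R := Pi.single s (Matrix.single 0 0 1)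

theorem E_mul_E (s : Fin W.n) : W.E s * W.E s = W.E s := by
  rw [E, ← Pi.single_mul]; simp

theorem exists_i (s : Fin W.n) : ∃ f, IsInt M f ∧ f * f = f ∧ W.r f = W.E s :=
  have ⟨f, h1, h2, _, _, h3⟩ := W.exists_idem isInt_one (mul_one 1) (W.E_mul_E s)
    (by rw [r_one, one_mul]) (by rw [r_one, mul_one])
  ⟨f, h1, h2, h3⟩

/-- A primitive idempotent of type `s`. -/
noncomputable def i (s : Fin W.n) : MonoidAlgebra ℂ G := (W.exists_i s).choose

theorem isInt_i (s : Fin W.n) : IsInt M (W.i s) := (W.exists_i s).choose_spec.1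
theorem i_mul_i (s : Fin W.n) : W.i s * W.i s = W.i s := (W.exists_i s).choose_spec.2.1
theorem r_i (s : Fin W.n) : W.r (W.i s) = W.E s := (W.exists_i s).choose_spec.2.2

/-- The decomposition numbers. -/
noncomputable def dec (χ : IrrCharacter G) (s : Fin W.n) : ℕ :=
  (χ.2.isCharacter.exists_charExt_idem (W.i_mul_i s)).choose

theorem charExt_i (χ : IrrCharacter G) (s : Fin W.n) : charExt χ.1 (W.i s) = W.dec χ s :=
  (χ.2.isCharacter.exists_charExt_idem (W.i_mul_i s)).choose_spec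

theorem i_ne_zero (s : Fin W.n) : W.i s ≠ 0 := fun h => by
  have := congrFun (congrFun (congrFun (W.r_i s) s) 0) 0
  rw [h, r_zero] at this
  simp [E] at this

theorem exists_dec_ne_zero (s : Fin W.n) : ∃ χ, W.dec χ s ≠ 0 := by
  by_contra! h
  exact W.i_ne_zero s (idem_eq_zero_of_charExt (W.i_mul_i s) fun χ => by simp [charExt_i, h])

theorem exists_split (hi : IsInt M e) (he : e * e = e) {s : Fin W.n} (hs : W.r e s ≠ 0) :
    ∃ f, IsInt M f ∧ f * f = f ∧ e * f = f ∧ f * e = f ∧ (∀ t, t ≠ s → W.r f t = 0) ∧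
      ∀ θ, IsClassFunction G θ → charExt θ f = charExt θ (W.i s) := by
  have re : W.r e * W.r e = W.r e := by rw [← W.r_mul hi hi, he]
  obtain ⟨a, b, h1, h2, h3, h4⟩ := exists_rank_one (congrFun re s) hs
  have k1 : (Pi.single s b * Pi.single s a : W.R) = W.r (W.i s) := by
    rw [← Pi.single_mul, h1, r_i, E]
  have k2 : W.r e * Pi.single s a = Pi.single s a := by rw [← Pi.single_mul_right, h2]
  have k3 : Pi.single s b * W.r e = Pi.single s b := by rw [← Pi.single_mul_left, h3]
  obtain ⟨f, f1, f2, f3, f4, f5⟩ := W.exists_idem hi he (x := Pi.single s a * Pi.single s b) (by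
    rw [← Pi.single_mul, ← Pi.single_mul, mul_assoc, ← mul_assoc b, h1, ← mul_assoc, h4]) (by rw [← mul_assoc, k2]) (by rw [mul_assoc, k3])
  exact ⟨f, f1, f2, f3, f4, fun t ht => by rw [f5, Pi.mul_apply, Pi.single_eq_of_ne ht, zero_mul],
    fun θ hθ => W.charExt_eq_of_equiv f1 f2 (W.isInt_i s) (W.i_mul_i s) f5.symm k1 hθ⟩

theorem exists_decomp (hi : IsInt M e) (he : e * e = e) : ∃ m : Fin W.n → ℕ,
    (∀ s, m s = 0 ↔ W.r e s = 0) ∧
      ∀ θ, IsClassFunction G θ → charExt θ e = ∑ s, m s * charExt θ (W.i s) := by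
  obtain ⟨N, hN⟩ := isCharacter_regChar.exists_charExt_idem he
  induction N using Nat.strong_induction_on generalizing e with
  | _ N ih =>
  by_cases h0 : W.r e = 0
  · exact ⟨0, fun s => by simp [h0], fun θ _ => by simp [W.eq_zero_of_r hi he h0]⟩
  obtain ⟨s, hs⟩ := Function.ne_iff.1 h0
  obtain ⟨f, f1, f2, f3, f4, f5, f6⟩ := W.exists_split hi he hs
  have g2 : (e - f) * (e - f) = e - f := by
    rw [sub_mul, mul_sub, mul_sub, he, f2, f3, f4, sub_self, sub_zero]
  obtain ⟨N1, h1⟩ := isCharacter_regChar.exists_charExt_idem g2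
  obtain ⟨N2, h2⟩ := isCharacter_regChar.exists_charExt_idem (W.i_mul_i s)
  have h3 : N2 ≠ 0 := fun h => W.i_ne_zero s (idem_eq_zero_of_coeff_one (W.i_mul_i s) (by
    rwa [h, charExt_regChar, Nat.cast_zero, mul_eq_zero, or_iff_right (card_ne_zero G)] at h2))
  have h4 : N1 + N2 = N := by
    rw [map_sub, f6 _ isCharacter_regChar.isClassFunction, h2, hN, sub_eq_iff_eq_add] at h1
    exact_mod_cast h1.symm
  obtain ⟨m, m1, m2⟩ := ih N1 (by omega) (hi.sub f1) g2 h1
  refine ⟨m + Pi.single s 1, fun t => ?_, fun θ hθ => ?_⟩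
  · by_cases ht : t = s
    · subst ht; simpa using hs
    · rw [Pi.add_apply, Pi.single_eq_of_ne ht, add_zero, m1, W.r_sub hi f1, Pi.sub_apply, f5 t ht,
        sub_zero]
  · rw [← sub_add_cancel e f, map_add, m2 θ hθ, f6 θ hθ]
    simp [add_mul, Finset.sum_add_distrib, Pi.single_apply]

/-- A lift of the trace function of the `s`-th simple module. -/
noncomputable def τ (s : Fin W.n) (g : G) : ℂ := sec M (W.π (single g 1) s).trace

theorem isClassFunction_τ (s : Fin W.n) : IsClassFunction G (W.τ s) := fun g x => by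
  have : (single (x * g * x⁻¹) 1 : MonoidAlgebra (resField M) G) =
      single x 1 * (single g 1 * single x⁻¹ 1) := by simp [single_mul_single, mul_assoc]
  rw [τ, this, map_mul, Pi.mul_apply, Matrix.trace_mul_comm, ← Pi.mul_apply, ← map_mul]
  simp [τ, single_mul_single]

theorem red_charExt_τ (s : Fin W.n) (ha : IsInt M a) :
    MemLocalRing M (charExt (W.τ s) a) ∧ red M (charExt (W.τ s) a) = (W.r a s).trace := by
  have h := red_charExt (θ := W.τ s) (fun g => memLocalRing_sec _) ha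
  refine ⟨h.1, h.2.trans ?_⟩
  have := Fintype.ofFinite G
  conv_rhs => rw [r, eq_sum_single (redA M a), map_sum, Finset.sum_apply, Matrix.trace_sum]
  rw [charExt_apply]
  exact Finset.sum_congr rfl fun g _ => by
    rw [map_smul, Pi.smul_apply, Matrix.trace_smul, τ, red_sec, smul_eq_mul]

theorem red_charExt_τ_i (s t : Fin W.n) :
    red M (charExt (W.τ s) (W.i t)) = if t = s then 1 else 0 := by
  rw [(W.red_charExt_τ s (W.isInt_i t)).2, r_i, E]
  split_ifs with h
  · subst h; simp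
  · rw [Pi.single_eq_of_ne' h, Matrix.trace_zero]

theorem linearIndependent_dec :
    LinearIndependent ℂ fun (s : Fin W.n) (χ : IrrCharacter G) => (W.dec χ s : ℂ) := by
  have := Fintype.ofFinite G
  have H : ∀ s t, ∑ χ : IrrCharacter G, classInner (W.τ t) χ.1 * W.dec χ s =
      charExt (W.τ t) (W.i s) := fun s t => by
    rw [charExt_classFun (W.isClassFunction_τ t)]; simp only [charExt_i]
  refine linearIndependent_of_pairing (M := M)
    (fun t => ∑ χ : IrrCharacter G, classInner (W.τ t) χ.1 • LinearMap.proj χ) (fun s t => ?_)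
    fun s t => ?_
  · simpa [H] using (W.red_charExt_τ t (W.isInt_i s)).1
  · simpa [H] using W.red_charExt_τ_i t s

section block
variable {B : Set (IrrCharacter G)} {s : Fin W.n} {χ : IrrCharacter G}

theorem r_cen (ha : IsCen a) (s : Fin W.n) : ∃ c : resField M, W.r a s = c • 1 := by
  obtain ⟨c, hc⟩ := Matrix.mem_range_scalar_of_commute_single (M := W.r a s) fun j k _ => by
    obtain ⟨y, hy⟩ := W.surj (Pi.single s (Matrix.single j k 1))
    have := congrFun (congrArg W.π (ha.redA.comm y)) s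
    rw [map_mul, map_mul, hy, Pi.mul_apply, Pi.mul_apply, Pi.single_eq_same] at this
    exact this.symm
  exact ⟨c, by rw [← hc, Matrix.scalar_apply, Matrix.smul_one_eq_diagonal]⟩

/-- The simple modules in `B`. -/
def T (B : Set (IrrCharacter G)) : Set (Fin W.n) := {s | W.r (idem B) s = 1}

theorem r_idem_of_notMem (hB : IsBlockUnion M B) (hs : s ∉ W.T B) : W.r (idem B) s = 0 := by
  obtain ⟨c, hc⟩ := W.r_cen (isCen_idem B) s
  have h := congrFun (W.r_mul hB.isInt_idem hB.isInt_idem) s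
  rw [idem_mul_self, Pi.mul_apply, hc, smul_mul_smul_comm, mul_one] at h
  have h1 : c = c * c := by simpa using congrFun (congrFun h 0) 0
  by_cases h0 : c = 0
  · rw [hc, h0, zero_smul]
  · exact (hs (by rw [T, Set.mem_ofPred_eq, hc, (left_eq_mul₀ h0).1 h1, one_smul])).elim

theorem idem_mul_i_of_notMem (hB : IsBlockUnion M B) (hs : s ∉ W.T B) : idem B * W.i s = 0 := by
  refine W.eq_zero_of_r (hB.isInt_idem.mul (W.isInt_i s)) (by
    rw [mul_assoc, ← mul_assoc (W.i s), ← (isCen_idem B).comm, mul_assoc, i_mul_i, ← mul_assoc,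
      idem_mul_self]) ?_
  rw [W.r_mul hB.isInt_idem (W.isInt_i s), r_i, E, ← Pi.single_mul_right,
    W.r_idem_of_notMem hB hs, zero_mul, Pi.single_zero]

theorem mem_T_compl (hB : IsBlockUnion M B) : s ∈ W.T Bᶜ ↔ s ∉ W.T B := by
  rw [T, Set.mem_ofPred_eq, idem_compl, W.r_sub isInt_one hB.isInt_idem, r_one, Pi.sub_apply,
    Pi.one_apply, sub_eq_self]
  exact ⟨fun h h' => zero_ne_one (h.symm.trans h'), W.r_idem_of_notMem hB⟩

theorem idem_mul_i (hB : IsBlockUnion M B) (hs : s ∈ W.T B) : idem B * W.i s = W.i s := by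
  have := W.idem_mul_i_of_notMem hB.compl (s := s) (by rwa [W.mem_T_compl hB, not_not])
  rwa [idem_compl, sub_mul, one_mul, sub_eq_zero, eq_comm] at this

theorem mem_iff_of_dec (hB : IsBlockUnion M B) (h : W.dec χ s ≠ 0) : χ ∈ B ↔ s ∈ W.T B := by
  have H : ∀ {B}, IsBlockUnion M B → χ ∈ B → s ∈ W.T B := fun {B} hB hχ => by
    by_contra hs
    have := (idem_mul_eq_zero_iff (W.i_mul_i s) B).1 (W.idem_mul_i_of_notMem hB hs) χ hχ
    exact h (by rwa [charExt_i, Nat.cast_eq_zero] at this)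
  exact ⟨H hB, fun hs => by_contra fun hχ => (W.mem_T_compl hB).1 (H hB.compl hχ) hs⟩

/-- The degrees of the simple modules. -/
theorem exists_deg : ∃ m : Fin W.n → ℕ, (∀ s, m s ≠ 0) ∧
    ∀ χ : IrrCharacter G, charDegree χ.1 = ∑ s, m s * W.dec χ s := by
  obtain ⟨m, h1, h2⟩ := W.exists_decomp isInt_one (mul_one 1)
  refine ⟨m, fun s h => one_ne_zero ((congrFun W.r_one s).symm.trans ((h1 s).1 h)), fun χ => ?_⟩
  have := h2 χ.1 χ.2.isCharacter.isClassFunction
  rw [charExt_one, ← irr_cast_deg] at this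
  simp only [charExt_i] at this
  exact_mod_cast this

theorem exists_dec_ne_zero' (χ : IrrCharacter G) : ∃ s, W.dec χ s ≠ 0 := by
  obtain ⟨m, -, h⟩ := W.exists_deg
  by_contra! h0
  exact deg_ne_zero χ.2 (by simp [h, h0])

theorem card_T_le {p : ℕ} [Fact p.Prime] (hM : IsPModular p M) (hB : IsBlockUnion M B) :
    Nat.card (W.T B) ≤ blockRank p B := by
  classical
  have := Fintype.ofFinite G
  have H : ∀ s t : W.T B, charExt (reg p (blockPart B (W.τ s))) (W.i t) = charExt (W.τ s) (W.i t) :=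
    fun s t => by
      rw [charExt_reg_idem hM (W.isInt_i t) (W.i_mul_i t) (isClassFunction_blockPart _ _),
        ← charExt_idem_mul_classFun B (W.isClassFunction_τ s), W.idem_mul_i hB t.2]
  let c : MonoidAlgebra ℂ G → (G → ℂ) →ₗ[ℂ] ℂ := fun a =>
    { toFun θ := charExt θ a, map_add' _ _ := charExt_add _ _ _, map_smul' _ _ := charExt_smul _ _ _ }
  have h1 : LinearIndependent ℂ fun s : W.T B =>
      (⟨reg p (blockPart B (W.τ s)), reg_blockPart_mem _⟩ : VB p B) :=
    linearIndependent_of_pairing (M := M) (fun t => c (W.i t) ∘ₗ (VB p B).subtype)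
      (fun s t => (H s t).symm ▸ (W.red_charExt_τ s (W.isInt_i t)).1) fun s t => by
        change red M (charExt (reg p (blockPart B (W.τ s))) (W.i t)) = _
        rw [H, red_charExt_τ_i]; simp [Subtype.val_inj, eq_comm]
  rw [blockRank_eq, Nat.card_eq_fintype_card]
  exact h1.fintype_card_le_finrank

/-- A block is connected through the simple modules. -/
theorem eq_of_closed (hB : IsPBlock M B) {S : Set (Fin W.n)} (hS : S ⊆ W.T B) (hne : S.Nonempty)
    (h : ∀ χ s t, W.dec χ s ≠ 0 → W.dec χ t ≠ 0 → s ∈ S → t ∈ S) : S = W.T B := by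
  classical
  let x : W.R := fun s => if s ∈ S then 1 else 0
  obtain ⟨f, f1, f2, -, -, f3⟩ := W.exists_idem isInt_one (mul_one 1) (x := x)
    (funext fun s => by simp only [x, Pi.mul_apply]; split_ifs <;> simp)
    (by rw [r_one, one_mul]) (by rw [r_one, mul_one])
  obtain ⟨m, m1, m2⟩ := W.exists_decomp f1 f2
  obtain ⟨m', m1', m2'⟩ := W.exists_decomp (isInt_one.sub f1) (IsIdempotentElem.one_sub f2)
  have hU : f = idem {χ | ∃ s ∈ S, W.dec χ s ≠ 0} := eq_idem_of_charExt f2 (fun χ ⟨s, hs, hd⟩ => by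
    have := m2' χ.1 χ.2.isCharacter.isClassFunction
    rw [map_sub, charExt_one, Finset.sum_eq_zero fun t _ => ?_, sub_eq_zero] at this
    · exact this.symm
    by_cases ht : t ∈ S
    · rw [(m1' t).2 (by simp [W.r_sub isInt_one f1, r_one, f3, x, ht]), Nat.cast_zero, zero_mul]
    · rw [charExt_i, of_not_not fun h' => ht (h χ s t hd h' hs), Nat.cast_zero, mul_zero])
    fun χ hχ => by
      rw [m2 χ.1 χ.2.isCharacter.isClassFunction]
      refine Finset.sum_eq_zero fun t _ => ?_
      by_cases ht : t ∈ S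
      · rw [charExt_i, of_not_not fun h' => hχ ⟨t, ht, h'⟩, Nat.cast_zero, mul_zero]
      · rw [(m1 t).2 (by simp [f3, x, ht]), Nat.cast_zero, zero_mul]
  have hU' := isBlockUnion_of_isInt_idem (hU ▸ f1)
  obtain ⟨s, hs⟩ := hne
  obtain ⟨χ, hχ⟩ := W.exists_dec_ne_zero s
  refine hS.antisymm fun t ht => ?_
  obtain ⟨ψ, hψ⟩ := W.exists_dec_ne_zero t
  obtain ⟨u, hu, hd⟩ := hU' χ ⟨s, hs, hχ⟩ ψ (hB.sameBlock ((W.mem_iff_of_dec hB.isBlockUnion hχ).2
    (hS hs)) ((W.mem_iff_of_dec hB.isBlockUnion hψ).2 ht))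
  exact h ψ u t hd hψ hu

theorem exists_idem_eq_sum (hB : IsBlockUnion M B) (hs : W.T B = {s}) :
    ∃ x y : Fin (W.d s + 1) → MonoidAlgebra ℂ G, (∀ j, IsInt M (x j)) ∧ (∀ j, IsInt M (y j)) ∧
      ∑ j, x j * W.i s * y j = idem B := by
  choose x hx rx using fun j => W.exists_r (Pi.single s (Matrix.single j 0 1))
  choose y hy ry using fun j => W.exists_r (Pi.single s (Matrix.single 0 j 1))
  have hi : ∀ j, IsInt M (x j * W.i s * y j) := fun j => ((hx j).mul (W.isInt_i s)).mul (hy j)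
  have h1 : idem B * ∑ j, x j * W.i s * y j = ∑ j, x j * W.i s * y j := by
    rw [Finset.mul_sum]
    exact Finset.sum_congr rfl fun j _ => by
      rw [← mul_assoc, ← mul_assoc, (isCen_idem B).comm, mul_assoc (x j),
        W.idem_mul_i hB (hs ▸ rfl)]
  obtain ⟨c, hc, c1, -⟩ := W.exists_corner_inv hB.isInt_idem (idem_mul_self B)
    (isInt_sum fun j _ => hi j) h1 (by rw [← (isCen_idem B).comm, h1]) (by
      rw [W.r_sum fun j _ => hi j]
      simp only [W.r_mul ((hx _).mul (W.isInt_i s)) (hy _), W.r_mul (hx _) (W.isInt_i s), rx, ry,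
        r_i, E, ← Pi.single_mul]
      ext1 t
      by_cases ht : t = s
      · subst ht
        rw [show W.r (idem B) t = 1 from (hs ▸ rfl : t ∈ W.T B)]
        simp [Finset.sum_apply, Matrix.sum_single_one]
      · simp [Finset.sum_apply, Pi.single_eq_of_ne ht, W.r_idem_of_notMem hB (s := t) (by rwa [hs])])
  exact ⟨x, fun j => y j * c, hx, fun j => (hy j).mul hc, by
    rw [← c1, Finset.sum_mul]; simp only [mul_assoc]⟩

theorem T_eq_singleton {p : ℕ} [Fact p.Prime] (hM : IsPModular p M) (hB : IsPBlock M B)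
    (h : blockRank p B ≤ 1) : ∃ s, W.T B = {s} := by
  obtain ⟨χ, hχ⟩ := hB.nonempty
  obtain ⟨s, hs⟩ := W.exists_dec_ne_zero' χ
  have hs := (W.mem_iff_of_dec hB.isBlockUnion hs).1 hχ
  have := Finite.card_le_one_iff_subsingleton.1 ((W.card_T_le hM hB.isBlockUnion).trans h)
  exact ⟨s, Set.eq_singleton_iff_unique_mem.2 ⟨hs, fun t ht =>
    congrArg Subtype.val (Subsingleton.elim (⟨t, ht⟩ : W.T B) ⟨s, hs⟩)⟩⟩

theorem dec_ne_zero_iff (hB : IsBlockUnion M B) (hs : W.T B = {s}) : W.dec χ s ≠ 0 ↔ χ ∈ B := by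
  refine ⟨fun h => (W.mem_iff_of_dec hB h).2 (hs ▸ rfl), fun h => ?_⟩
  obtain ⟨t, ht⟩ := W.exists_dec_ne_zero' χ
  have := (W.mem_iff_of_dec hB ht).1 h
  rw [hs] at this
  exact this ▸ ht

theorem exists_deg_of_singleton (hB : IsBlockUnion M B) (hs : W.T B = {s}) :
    ∃ m, ∀ χ ∈ B, charDegree χ.1 = m * W.dec χ s := by
  obtain ⟨m, -, h⟩ := W.exists_deg
  refine ⟨m s, fun χ hχ => (h χ).trans (Finset.sum_eq_single s (fun t _ ht => ?_) (by simp))⟩
  by_contra h'
  exact ht (by simpa [hs] using (W.mem_iff_of_dec hB (right_ne_zero_of_mul h')).1 hχ)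

end block

section loc
variable (s : Fin W.n)

/-- The reduction of the primitive idempotent. -/
noncomputable def j : MonoidAlgebra (resField M) G := redA M (W.i s)

theorem j_mul_j : W.j s * W.j s = W.j s := by
  rw [j, ← redA_mul (W.isInt_i s) (W.isInt_i s), i_mul_i]

theorem π_j : W.π (W.j s) = W.E s := W.r_i s

/-- The radical of the local corner algebra. -/
def rad : Submodule (resField M) (MonoidAlgebra (resField M) G) where
  carrier := {x | W.j s * x = x ∧ x * W.j s = x ∧ W.π x = 0}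
  add_mem' hx hy := ⟨by rw [mul_add, hx.1, hy.1], by rw [add_mul, hx.2.1, hy.2.1],
    by rw [map_add, hx.2.2, hy.2.2, add_zero]⟩
  zero_mem' := by simp
  smul_mem' c x hx := ⟨by rw [mul_smul_comm, hx.1], by rw [smul_mul_assoc, hx.2.1],
    by rw [map_smul, hx.2.2, smul_zero]⟩

variable {s} in
theorem rad_mul {x y : MonoidAlgebra (resField M) G} (hx : x ∈ W.rad s) (hy : y ∈ W.rad s) :
    x * y ∈ W.rad s :=
  ⟨by rw [← mul_assoc, hx.1], by rw [mul_assoc, hy.2.1], by rw [map_mul, hx.2.2, zero_mul]⟩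

/-- The local corner algebra, with the identity of the group algebra adjoined to its radical. -/
def loc : Subalgebra (resField M) (MonoidAlgebra (resField M) G) where
  carrier := {x | ∃ c : resField M, x - c • 1 ∈ W.rad s}
  mul_mem' := fun {x y} ⟨c, hc⟩ ⟨d, hd⟩ => ⟨c * d, by
    convert add_mem (add_mem (W.rad_mul hc hd) (Submodule.smul_mem _ c hd))
      (Submodule.smul_mem _ d hc) using 1
    simp only [mul_sub, sub_mul, smul_mul_assoc, mul_smul_comm, one_mul, mul_one, smul_sub,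
      smul_smul, mul_comm d c]
    abel⟩
  add_mem' := fun ⟨c, hc⟩ ⟨d, hd⟩ => ⟨c + d, by
    convert add_mem hc hd using 1; rw [add_smul]; abel⟩
  algebraMap_mem' c := ⟨c, by rw [Algebra.algebraMap_eq_smul_one, sub_self]; exact zero_mem _⟩

variable {s} in
theorem j_comm {x : MonoidAlgebra (resField M) G} (hx : x ∈ W.loc s) : W.j s * x = x * W.j s := by
  obtain ⟨c, hc⟩ := hx
  have := hc.1.trans hc.2.1.symm
  simpa [mul_sub, sub_mul] using this

theorem exists_loc (y : MonoidAlgebra (resField M) G) :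
    ∃ b ∈ W.loc s, W.j s * b = W.j s * y * W.j s := by
  have h : W.j s * y * W.j s - W.π y s 0 0 • W.j s ∈ W.rad s := by
    refine ⟨by simp [mul_sub, ← mul_assoc, j_mul_j], by simp [sub_mul, mul_assoc, j_mul_j], ?_⟩
    rw [map_sub, map_mul, map_mul, map_smul, π_j, E, ← Pi.single_mul_left, ← Pi.single_mul,
      Matrix.single_mul_mul_single, ← Pi.single_smul, Matrix.smul_single]
    simp
  exact ⟨_ + W.π y s 0 0 • 1, ⟨_, by rwa [add_sub_cancel_right]⟩, by
    rw [mul_add, h.1, mul_smul_comm, mul_one, sub_add_cancel]⟩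

variable {s} in
theorem eq_zero_of_j_mul {x : MonoidAlgebra (resField M) G} (hx : x ∈ W.loc s)
    (h : W.j s * x = 0) : x = 0 := by
  obtain ⟨c, hc⟩ := hx
  have h1 := hc.1
  rw [mul_sub, h, mul_smul_comm, mul_one, zero_sub] at h1
  have h2 := congrFun (congrFun (congrFun hc.2.2 s) 0) 0
  rw [← h1, map_neg, map_smul, π_j] at h2
  obtain rfl : c = 0 := by simpa [E] using h2
  simpa using h1.symm

omit [M.IsMaximal] in
theorem _root_.Cfsg.Lib.Block2.coeff_one_mul_comm {S : Type*} [CommRing S]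
    (x y : MonoidAlgebra S G) : (x * y).coeff 1 = (y * x).coeff 1 := by
  have := Fintype.ofFinite G
  rw [coeff_mul_sum, coeff_mul_sum']
  simp [mul_comm]

/-- The symmetrizing form on the local corner algebra. -/
noncomputable def frm : W.loc s →ₗ[resField M] resField M where
  toFun a := (W.j s * a).coeff 1
  map_add' a b := by simp [mul_add]
  map_smul' c a := by simp

theorem symLoc : SymLoc ((W.rad s).comap (W.loc s).val.toLinearMap) (W.frm s) where
  loc a := a.2
  mul := Submodule.mul_le.2 fun _ hx _ hy => W.rad_mul hx hy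
  nil := by
    obtain ⟨N, hN⟩ := W.nil
    refine ⟨N, Submodule.map_injective_of_injective (f := (W.loc s).val.toLinearMap)
      Subtype.val_injective (eq_bot_iff.2 ?_ |>.trans (Submodule.map_bot _).symm)⟩
    rw [Submodule.map_pow, ← hN]
    exact pow_le_pow_left' ((Submodule.map_comap_le _ _).trans fun x (hx : x ∈ W.rad s) => hx.2.2) _
  symm a b := by
    change (W.j s * (a * b)).coeff 1 = (W.j s * (b * a)).coeff 1
    rw [← mul_assoc, coeff_one_mul_comm, ← mul_assoc, ← W.j_comm b.2, mul_assoc]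
  nondeg a ha := Subtype.ext (W.eq_zero_of_j_mul a.2 (ga_ext fun g => by
    obtain ⟨b, hb, e⟩ := W.exists_loc s (single g⁻¹ 1)
    have : (W.j s * (a * b)).coeff 1 = 0 := ha ⟨b, hb⟩
    rw [← mul_assoc, W.j_comm a.2, mul_assoc, e, ← mul_assoc, coeff_one_mul_comm, ← mul_assoc,
      ← mul_assoc, mul_assoc (W.j s), ← W.j_comm a.2, ← mul_assoc, j_mul_j] at this
    simpa using this))

theorem finrank_loc : finrank (resField M) (W.loc s) = ∑ χ, W.dec χ s ^ 2 := by
  have h := finrank_range_mulLeftRight_red (W.i_mul_i s) (W.i_mul_i s) (W.isInt_i s) (W.isInt_i s)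
  simp only [charExt_i, ← sq] at h
  norm_cast at h
  rw [← h, ← LinearMap.finrank_range_of_inj
    (f := LinearMap.mulLeft _ (W.j s) ∘ₗ (W.loc s).val.toLinearMap)
    (LinearMap.ker_eq_bot.1 (LinearMap.ker_eq_bot'.2 fun a ha =>
      Subtype.ext (W.eq_zero_of_j_mul a.2 ha)))]
  refine congrArg (fun V : Submodule (resField M) (MonoidAlgebra (resField M) G) =>
    finrank (resField M) V) (Submodule.ext fun x => ⟨?_, ?_⟩)
  · rintro ⟨a, rfl⟩
    exact ⟨a, by
      change W.j s * a * W.j s = W.j s * a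
      rw [mul_assoc, ← W.j_comm a.2, ← mul_assoc, j_mul_j]⟩
  · rintro ⟨y, rfl⟩
    obtain ⟨b, hb, e⟩ := W.exists_loc s y
    exact ⟨⟨b, hb⟩, e⟩

variable {s} in
theorem finrank_center_le {B : Set (IrrCharacter G)} (hB : IsBlockUnion M B) (hs : W.T B = {s}) :
    finrank (resField M) (Subalgebra.center (resField M) (W.loc s)) ≤ Nat.card B := by
  obtain ⟨x, y, hx, hy, h⟩ := W.exists_idem_eq_sum hB hs
  have h' : ∑ l, redA M (x l) * W.j s * redA M (y l) = eB M B := by
    rw [eB, ← h, redA_sum fun l _ => ((hx l).mul (W.isInt_i s)).mul (hy l)]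
    exact Finset.sum_congr rfl fun l _ => by
      rw [redA_mul ((hx l).mul (W.isInt_i s)) (hy l), redA_mul (hx l) (W.isInt_i s), j]
  have hj : eB M B * W.j s = W.j s := by
    rw [eB, j, ← redA_mul hB.isInt_idem (W.isInt_i s), W.idem_mul_i hB (hs ▸ rfl)]
  let Z := Subalgebra.toSubmodule (Subalgebra.center (resField M) (W.loc s))
  change finrank _ Z ≤ _
  let f : Z →ₗ[resField M] MonoidAlgebra (resField M) G :=
    (∑ l, LinearMap.mulLeftRight _ (redA M (x l) * W.j s, redA M (y l))) ∘ₗ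
      (W.loc s).val.toLinearMap ∘ₗ Z.subtype
  have hf : ∀ z, f z = ∑ l, redA M (x l) * W.j s * z.1.1 * redA M (y l) := fun z => by
    simp [f, LinearMap.sum_apply]
  have hz : ∀ (z : Z) a,
      W.j s * a * W.j s * z.1.1 = z.1.1 * (W.j s * a * W.j s) := fun z a => by
    obtain ⟨b, hb, e⟩ := W.exists_loc s a
    have : b * z.1.1 = z.1.1 * b :=
      congrArg Subtype.val ((Subalgebra.mem_center_iff (R := resField M)).1 z.2 ⟨b, hb⟩)
    rw [← e, mul_assoc, this, ← mul_assoc, W.j_comm z.1.2, mul_assoc]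
  have he : ∀ z, eB M B * f z = f z := fun z => by
    rw [hf, Finset.mul_sum]
    exact Finset.sum_congr rfl fun l _ => by
      rw [← mul_assoc, ← mul_assoc, ← mul_assoc, (isCen_eB B).comm, mul_assoc _ (eB M B), hj]
  have hinj : ∀ z, f z = 0 → z.1.1 = 0 := fun z h0 => by
    have : W.j s * f z = z.1.1 * (W.j s * eB M B) := by
      rw [hf, ← h']
      simp only [Finset.mul_sum]
      exact Finset.sum_congr rfl fun l _ => by
        have := congrArg (· * redA M (y l)) (hz z (redA M (x l)))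
        simpa only [mul_assoc] using this
    rw [h0, mul_zero, ← (isCen_eB B).comm, hj] at this
    exact W.eq_zero_of_j_mul z.1.2 (by rw [W.j_comm z.1.2, ← this])
  rw [← LinearMap.finrank_range_of_inj (f := f) fun z w e => Subtype.ext (Subtype.ext
    (sub_eq_zero.1 (hinj (z - w) (by simp only [hf] at e ⊢; simp [mul_sub, sub_mul, e]))))]
  · refine finrank_cen_le B hB ?_
    rintro _ ⟨z, rfl⟩
    refine ⟨isCen_iff_comm.2 fun a => ?_, he z⟩
    conv_lhs => rw [← he, (isCen_eB B).comm, mul_assoc, (isCen_eB B).comm, ← h']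
    conv_rhs => rw [← he, ← mul_assoc, ← (isCen_eB B).comm, ← h']
    simp only [hf, Finset.sum_mul, Finset.mul_sum]
    refine Finset.sum_congr rfl fun m _ => Finset.sum_congr rfl fun l _ => ?_
    have := congrArg (redA M (x l) * · * redA M (y m)) (hz z (redA M (y l) * a * redA M (x m)))
    simp only [mul_assoc] at this ⊢
    rw [this, ← mul_assoc (W.j s), W.j_comm z.1.2, mul_assoc]

end loc

end Wed

end Cfsg.Lib.Block2
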