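import Cfsg.Agent.Lib.Block2.Puig
import Cfsg.Agent.Lib.Block2.Wed
import Cfsg.Agent.S4675

/-! Counting characters of a block through subsections; blocks with few characters. -/

set_option autoImplicit false
set_option linter.dupNamespace false
set_option linter.unusedSectionVars false
set_option linter.style.haveILetI false

open Cfsg Cfsg.Lib.Block Cfsg.Lib.Block2 Cfsg.Lib.Char Cfsg.Lib.Amalg MonoidAlgebra Subgroup
open Cfsg.Lib.Small
open scoped ComplexConjugate

namespace Cfsg.Lib.Block2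

variable {G : Type*} [Group G] [Finite G] {p : ℕ} {M : Ideal AlgInt} [M.IsMaximal]
variable {P D : Subgroup G} {ε φ β : MonoidAlgebra (resField M) G} {u v x g : G}
variable {B : Set (IrrCharacter G)}

theorem Wed.dec_eq_one_of_comm (W : Wed M G) {s : Fin W.n} (hB : IsBlockUnion M B)
    (hs : W.T B = {s}) (h : ∀ a b : W.loc s, a * b = b * a) : ∀ χ ∈ B, W.dec χ s = 1 := by
  classical
  haveI := Fintype.ofFinite (IrrCharacter G)
  have h1 := W.finrank_center_le hB hs
  have h2 : Subalgebra.center (resField M) (W.loc s) = ⊤ :=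
    eq_top_iff.2 fun a _ => Subalgebra.mem_center_iff.2 fun b => h b a
  rw [h2, ← Subalgebra.finrank_toSubmodule, Algebra.top_toSubmodule, finrank_top,
    W.finrank_loc] at h1
  have h3 : ∀ χ ∈ Finset.univ.filter (· ∈ B), 1 ≤ W.dec χ s ^ 2 := fun χ hχ =>
    Nat.one_le_iff_ne_zero.2 (pow_ne_zero _ ((W.dec_ne_zero_iff hB hs).2 (by simpa using hχ)))
  have h4 : ∑ χ with χ ∈ B, W.dec χ s ^ 2 ≤ ∑ χ with χ ∈ B, 1 := by
    refine (Finset.sum_le_sum_of_subset (Finset.filter_subset _ _)).trans (le_of_eq_of_le ?_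
      (h1.trans_eq ?_))
    · congr!
    · simp [Nat.card_eq_fintype_card, Fintype.card_subtype]
  intro χ hχ
  have := (Finset.sum_eq_sum_iff_of_le h3).1 (le_antisymm (Finset.sum_le_sum h3) h4) χ
    (by simpa using hχ)
  exact (Nat.pow_eq_one.1 this.symm).resolve_right two_ne_zero

variable [Fact p.Prime]

theorem exists_deg_of_le_four (hM : IsPModular p M) (hB : IsPBlock M B) (h : blockRank p B ≤ 1)
    (h4 : Nat.card B ≤ 4) : ∃ m, ∀ χ ∈ B, charDegree χ.1 = m := by
  obtain ⟨W⟩ := nonempty_wed M G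
  obtain ⟨s, hs⟩ := W.T_eq_singleton hM hB h
  obtain ⟨m, hm⟩ := W.exists_deg_of_singleton hB.isBlockUnion hs
  refine ⟨m, fun χ hχ => ?_⟩
  rw [hm χ hχ, W.dec_eq_one_of_comm hB.isBlockUnion hs ((W.symLoc s).comm_of_le_four
    ((W.finrank_center_le hB.isBlockUnion hs).trans h4)) χ hχ, mul_one]

theorem blockRank_ne_zero (hM : IsPModular p M) (hB : IsPBlock M B) : blockRank p B ≠ 0 := fun h => by
  obtain ⟨W⟩ := nonempty_wed M G
  obtain ⟨s, hs⟩ := W.T_eq_singleton hM hB (by omega)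
  have := W.card_T_le hM hB.isBlockUnion
  rw [hs, h] at this
  simp at this

theorem card_eq_of_deg (hM : IsPModular p M) (hB : IsPBlock M B) (hD : IsDefectGroup p M B D)
    (h : blockRank p B = 1) {m : ℕ} (hm : ∀ χ ∈ B, charDegree χ.1 = m) :
    Nat.card B = Nat.card D := by
  classical
  haveI := Fintype.ofFinite G
  obtain ⟨φ, d, ⟨n, hn⟩, h1, h2⟩ := Cfsg.Agent.S4675.result p M hM B hB D hD h
  have h0 : IsPRegular p (1 : G) := by simpa [IsPRegular] using (Fact.out : p.Prime).ne_one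
  have h3 : ∀ χ ∈ B, (m : ℂ) = d χ * φ 1 := fun χ hχ => by
    rw [← h1 χ hχ 1 h0, ← hm χ hχ, irr_cast_deg]
  have h4 : φ 1 = (∑ ψ with ψ ∈ B, n ψ : ℤ) * m := by
    rw [hn 1 h0, finsum_mem_irr, Int.cast_sum, Finset.sum_mul]
    exact Finset.sum_congr rfl fun ψ hψ => by
      rw [← hm ψ (by simpa using hψ), irr_cast_deg]
  have h5 : ∀ χ ∈ B, d χ = 1 := fun χ hχ => by
    have h6 := h3 χ hχ
    have h7 : (m : ℂ) ≠ 0 := by rw [← hm χ hχ]; exact_mod_cast deg_ne_zero χ.2
    rw [h4, ← mul_assoc] at h6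
    have h8 : (d χ : ℤ) * (∑ ψ with ψ ∈ B, n ψ : ℤ) = 1 := by
      exact_mod_cast (mul_right_cancel₀ h7 (h6.symm.trans (one_mul _).symm))
    exact_mod_cast Int.eq_one_of_mul_eq_one_right (Int.natCast_nonneg _) h8
  rw [← h2, finsum_mem_irr, Finset.sum_congr rfl (g := fun _ => 1) fun χ hχ => by
    rw [h5 χ (by simpa using hχ), one_pow]]
  simp [Nat.card_eq_fintype_card, Fintype.card_subtype]

theorem BP.nF_pos (hM : IsPModular p M) (h : BP p ⊤ P ε) (hu : u ∈ P) : 0 < nF p P ε u :=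
  (Set.ncard_pos (Set.toFinite _)).2 ⟨u, 1, h.bMor_one hM (zpowers_le.2 hu), by simp⟩

theorem BP.conj_eq_of_nF (hM : IsPModular p M) (h : BP p ⊤ P ε) (hu : u ∈ P)
    (h1 : nF p P ε u = 1) (hg : BMor p ⊤ P ε (zpowers u) g) : g * u * g⁻¹ = u := by
  obtain ⟨a, ha⟩ := Set.ncard_eq_one.1 h1
  have h2 : ∀ v, (∃ g, BMor p ⊤ P ε (zpowers u) g ∧ g * u * g⁻¹ = v) → v = a := fun v hv =>
    Set.mem_singleton_iff.1 (ha ▸ hv)
  rw [h2 _ ⟨g, hg, rfl⟩, h2 u ⟨1, h.bMor_one hM (zpowers_le.2 hu), by simp⟩]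

theorem BP.nF_one (hM : IsPModular p M) (h : BP p ⊤ P ε) : nF p P ε 1 = 1 :=
  Set.ncard_eq_one.2 ⟨1, Set.eq_singleton_iff_unique_mem.2
    ⟨⟨1, h.bMor_one hM (zpowers_le.2 (one_mem _)), by simp⟩, fun v ⟨g, _, e⟩ => by simpa using e.symm⟩⟩

variable (p P ε) in
/-- Number of Brauer characters of the subsection block at `u`. -/
noncomputable abbrev rk (u : G) : ℕ := blockRank p (bset (𝐂 (zpowers u)) (sp p P ε u))

theorem MaxP.bpo_sp (hM : IsPModular p M) (hm : MaxP p ⊤ β P ε) (hu : u ∈ P) :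
    BPO p ⊤ β (zpowers u) (sp p P ε u) := hm.bpo.of_sle hM (hm.bp.sle_sp hM hu)

theorem MaxP.sum_classInner_sst [Fintype G] [DecidablePred (· ∈ B)] [DecidablePred (· ∈ P)]
    (hM : IsPModular p M) (hB : IsPBlock M B) (hm : MaxP p ⊤ (eB M B) P ε) {η : G → ℂ}
    (hη : FSt p P ε η) : ∑ χ with χ ∈ B, classInner (sst p P ε η χ.1) χ.1 =
      ∑ u with u ∈ P, η u * rk p P ε u / nF p P ε u := by
  rw [Finset.sum_congr rfl fun χ hχ => hm.classInner_sst hM hB hη (by simpa using hχ)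
    χ.2.isCharacter.isClassFunction, Finset.sum_comm]
  refine Finset.sum_congr rfl fun u hu => ?_
  rw [← Finset.sum_div, ← Finset.mul_sum, (hm.bpo_sp hM (by simpa using hu)).sum_con hM hB]

theorem MaxP.card_eq_sum [Fintype G] [DecidablePred (· ∈ P)] (hM : IsPModular p M)
    (hB : IsPBlock M B) (hm : MaxP p ⊤ (eB M B) P ε) :
    (Nat.card B : ℚ) = ∑ u with u ∈ P, (rk p P ε u : ℚ) / nF p P ε u := by
  classical
  have h := hm.sum_classInner_sst hM hB (fSt_const 1)
  rw [Finset.sum_congr rfl (g := fun _ => 1) fun χ hχ => by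
    rw [hm.sst_const hM hB (by simpa using hχ) (c := 1) fun _ _ => rfl, one_smul,
      χ.2.classInner_self]] at h
  have h2 : (Nat.card B : ℂ) = ∑ u with u ∈ P, (rk p P ε u : ℂ) / nF p P ε u := by
    simpa [Nat.card_eq_fintype_card, Fintype.card_subtype] using h
  exact Rat.cast_injective (α := ℂ) (by simpa using h2)

theorem MaxP.rk_one (hM : IsPModular p M) (hB : IsPBlock M B) (hm : MaxP p ⊤ (eB M B) P ε) :
    rk p P ε 1 = blockRank p B := by
  classical
  haveI := Fintype.ofFinite G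
  have h := hm.sum_classInner_sst hM hB (η := fun u => if u = 1 then 1 else 0) fun u g _ => by
    simp
  rw [Finset.sum_congr rfl fun χ hχ => by
    rw [hm.sst_eq_reg hM hB (by simpa using hχ) fun u _ hu => if_neg hu, if_pos rfl, one_smul],
    sum_inner_reg_eq_rank hM hB.isBlockUnion, Finset.sum_eq_single_of_mem 1 (by simp)
    fun u _ hu => by simp [hu], hm.bp.nF_one hM] at h
  simp only [if_true, one_mul, Nat.cast_one, div_one] at h
  exact_mod_cast h.symm

theorem MaxP.nilB_of_card_le (hM : IsPModular p M) (hB : IsPBlock M B)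
    (hm : MaxP p ⊤ (eB M B) P ε) (hP : P ≤ 𝐂 P) (h1 : ∀ u ∈ P, rk p P ε u ≤ 1)
    (h2 : Nat.card P ≤ Nat.card B) : NilB p ⊤ (eB M B) := by
  classical
  haveI := Fintype.ofFinite G
  have h3 : ∀ u ∈ Finset.univ.filter (· ∈ P), (rk p P ε u : ℚ) / nF p P ε u ≤ 1 := fun u hu => by
    have hu' : u ∈ P := by simpa using hu
    have := hm.bp.nF_pos hM hu'
    rw [div_le_one (by exact_mod_cast this)]
    exact_mod_cast (h1 u hu').trans this
  have h4 := (Finset.sum_eq_sum_iff_of_le h3).1 (le_antisymm (Finset.sum_le_sum h3) (by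
    rw [← hm.card_eq_sum hM hB]
    simpa [Nat.card_eq_fintype_card, Fintype.card_subtype] using h2))
  refine (hm.nilB_iff_of_comm hM hP).2 fun g hg => mem_centralizer_iff.2 fun u hu => ?_
  have h5 := hm.bp.nF_pos hM hu
  have h6 := h4 u (by simpa using hu)
  rw [div_eq_one_iff_eq (by exact_mod_cast h5.ne')] at h6
  have h7 := h1 u hu
  have := hm.bp.conj_eq_of_nF hM hu (by have : rk p P ε u = nF p P ε u := by exact_mod_cast h6
                                        omega) (hm.bp.bMor_of_stab hM (zpowers_le.2 hu) hg)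
  rw [mul_inv_eq_iff_eq_mul] at this
  exact this.symm

omit [Fact p.Prime] in
theorem inv_mul_mem_of_card_le {U : Subgroup G} (hU : U ≤ P) (h : Nat.card P ≤ 2 * Nat.card U)
    {a b : G} (ha : a ∈ P) (hb : b ∈ P) (h1 : a ∉ U) (h2 : b ∉ U) : a⁻¹ * b ∈ U := by
  have h3 := (U.subgroupOf P).card_mul_index
  rw [Nat.card_congr (subgroupOfEquivOfLe hU).toEquiv] at h3
  have h4 : (U.subgroupOf P).index ≠ 1 := fun e => h1 (by
    have := index_eq_one.1 e ▸ mem_top (⟨a, ha⟩ : P); simpa [mem_subgroupOf] using this)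
  have h5 := (U.subgroupOf P).index_ne_zero_of_finite
  have h6 : 0 < Nat.card U := Nat.card_pos
  have h7 : (U.subgroupOf P).index = 2 := by
    have : (U.subgroupOf P).index ≤ 2 := by nlinarith
    omega
  have := (mul_mem_iff_of_index_two h7 (a := ⟨a, ha⟩⁻¹) (b := ⟨b, hb⟩)).2 (by
    simp [mem_subgroupOf, h1, h2])
  simpa [mem_subgroupOf] using this

omit [Fact p.Prime] in
theorem le_cent_self_of_card_le_four (h4 : Nat.card P ≤ 4) : P ≤ 𝐂 P := by
  have h0 : 0 < Nat.card P := Nat.card_pos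
  have : IsMulCommutative P := by
    haveI : Fact (Nat.Prime 3) := ⟨by norm_num⟩
    obtain h | h | h | h : Nat.card P = 1 ∨ Nat.card P = 2 ∨ Nat.card P = 3 ∨ Nat.card P = 2 ^ 2 := by
      omega
    · haveI := (Nat.card_eq_one_iff_unique.1 h).1; exact ⟨⟨fun _ _ => Subsingleton.elim _ _⟩⟩
    · haveI := isCyclic_of_prime_card h; infer_instance
    · haveI := isCyclic_of_prime_card h; infer_instance
    · exact IsPGroup.isMulCommutative_of_card_eq_prime_sq h
  exact le_centralizer P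

theorem MaxP.nilB_cent_of_card_le (hM : IsPModular p M) {H Q : Subgroup G}
    (hm : MaxP p H β P ε) (hP : P ≤ 𝐂 Q) (h : SLE p H Q φ P ε)
    (hc : Nat.card P ≤ 2 * Nat.card Q) : NilB p (H ⊓ 𝐂 Q) φ := by
  refine (hm.cent_of_comm hM hP h).nilB_of_forall hM fun R ψ hR x hx hr =>
    mem_cent_of_regular_of_comm h.bp.isPGroup hr hx.1.1.2 fun q hq => ?_
  have h1 : ∀ q ∈ Q, x * q * x⁻¹ = q := fun q hq => by
    rw [← mem_centralizer_iff.1 hx.1.1.2 q hq]; simp
  by_cases hqQ : q ∈ Q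
  · rw [h1 q hqQ, inv_mul_cancel]; exact one_mem _
  · refine inv_mul_mem_of_card_le h.le hc (hR.le hq)
      (hR.le ((mem_normalizer_iff.1 hx.1.2 q).1 hq)) hqQ fun e => hqQ ?_
    have := h1 _ e
    rw [mul_left_inj, mul_right_inj] at this
    exact this ▸ e

theorem MaxP.nilB_of_card_le_four (hM : IsPModular p M) (hB : IsPBlock M B)
    (hm : MaxP p ⊤ (eB M B) P ε) (h1 : blockRank p B = 1) (h4 : Nat.card P ≤ 4)
    (h2 : Nat.card P ≤ Nat.card B) : NilB p ⊤ (eB M B) := by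
  have hP : P ≤ 𝐂 P := le_cent_self_of_card_le_four h4
  refine hm.nilB_of_card_le hM hB hP (fun u hu => ?_) h2
  by_cases h : u = 1
  · rw [h, hm.rk_one hM hB, h1]
  have h3 := hm.nilB_cent_of_card_le hM (hP.trans (centralizer_le (zpowers_le.2 hu)))
    (hm.bp.sle_sp hM hu) (by
      have := one_lt_card_iff_ne_bot (zpowers u) |>.2 (by simpa using h)
      omega)
  rw [top_inf_eq] at h3
  exact (h3.blockRank_bset hM).le

theorem NilB.card_eq_of_comm (hM : IsPModular p M) (hB : IsPBlock M B) (hn : NilB p ⊤ (eB M B))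
    (hm : MaxP p ⊤ (eB M B) P ε) (hP : P ≤ 𝐂 P) : Nat.card B = Nat.card P := by
  haveI := Fintype.ofFinite G
  obtain ⟨χ₀, h₀, h0⟩ := exists_height_zero p hB.nonempty
  obtain ⟨Φ, -⟩ := hn.exists_equiv hM hB hm h₀ h0
  letI : CommGroup P := { (inferInstance : Group P) with
    mul_comm := fun a b => Subtype.ext (mem_centralizer_iff.1 (hP b.2) a a.2) }
  rw [← Nat.card_congr Φ, card_irr_eq_card_conjClasses, ← Nat.card_congr ConjClasses.mkEquiv]

end Cfsg.Lib.Block2
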