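import Cfsg.Agent.Lib.Block2.PSol
import Cfsg.Agent.Lib.Block2.AbCov
import Cfsg.Agent.Lib.Clifford.Cover
import Cfsg.Agent.Lib.Core.PSolvable

/-! Fong-Reynolds reductions: heights in `p`-solvable groups and for normal defect groups. -/

set_option autoImplicit false
set_option linter.dupNamespace false
set_option linter.unusedSectionVars false
set_option linter.style.haveILetI false

open Cfsg Cfsg.Lib.Block Cfsg.Lib.Block2 Cfsg.Lib.Char Cfsg.Lib.Amalg MonoidAlgebra Subgroup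
open scoped ComplexConjugate commutatorElement

namespace Cfsg.Lib.Block2

universe u

variable {p : ℕ} {M : Ideal AlgInt} [M.IsMaximal]

section basic
variable {G : Type*} [Group G] [Finite G] {N T P : Subgroup G} {B : Set (IrrCharacter G)}

theorem exists_covered (N : Subgroup G) (hB : IsPBlock M B) :
    ∃ b : Set (IrrCharacter N), IsPBlock M b ∧ eB M B * EB M b ≠ 0 := by
  obtain ⟨ε, hε, h0⟩ := (blk_top_eB hB).exists_covered (le_top : N ≤ ⊤)
  obtain ⟨b, hb, rfl⟩ := hε.exists_eq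
  exact ⟨b, hb, h0⟩

theorem exists_fr [N.Normal] {b : Set (IrrCharacter N)} (hB : IsPBlock M B) (hb : IsPBlock M b)
    (h0 : eB M B * EB M b ≠ 0) : ∃ (T : Subgroup G) (B' : Set (IrrCharacter T)),
      FR N (EB M b) T ⊤ ∧ EB M B' * EB M b ≠ 0 ∧ IsInducedBlock M T B' B := by
  have fr := (blk_EB hb).fr le_top le_normalizer_of_normal
  obtain ⟨β, h0, hi⟩ := fr.exists_ind_of_cover (blk_top_eB hB) h0
  obtain ⟨B', hB', rfl⟩ := hi.blk.exists_eq
  exact ⟨_, B', fr, h0, hi.isInducedBlock hB' hB⟩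

theorem card_lt_of_ne_top (h : T ≠ ⊤) : Nat.card T < Nat.card G :=
  (card_le_card_group T).lt_of_ne fun e => h ((card_eq_iff_eq_top T).1 e)

theorem index_center_congr {A A' : Type*} [Group A] [Group A'] [Finite A] (e : A ≃* A') :
    (center A).index = (center A').index := by
  have := Finite.of_equiv _ e.toEquiv
  refine Nat.eq_of_mul_eq_mul_left (Nat.card_pos (α := center A)) ?_
  rw [card_mul_index, Nat.card_congr (centerCongr e).toEquiv, card_mul_index,
    Nat.card_congr e.toEquiv]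

theorem index_center_eq (P : Subgroup G) : (center P).index = (P ⊓ 𝐂 P).relIndex P := by
  rw [relIndex]
  congr 1
  ext x
  simp only [mem_center_iff, mem_subgroupOf, mem_inf, x.2, true_and, mem_centralizer_comm,
    Subtype.forall, Subtype.ext_iff, coe_mul]

variable [Fact p.Prime]

theorem Over.factorization_eq [N.Normal] (h : ¬ p ∣ N.index) {χ : IrrCharacter G}
    {θ : IrrCharacter N} (ho : Over N.subtype χ.1 θ.1) :
    (charDegree χ.1).factorization p = (charDegree θ.1).factorization p := by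
  obtain ⟨e, he, h1⟩ := Clifford.exists_deg_eq_mul le_top (Clifford.nrm_of_normal ⊤ N)
    (Clifford.irrOn_top.2 χ.2) (Clifford.irrOn_extendByZero.2 θ.2) (over_subtype_iff_dot.1 ho)
  rw [relIndex_top_right] at he
  have h2 : ¬ p ∣ e := fun h' => h (h'.trans he)
  rw [h1, ← Clifford.charDegree_res N, Clifford.res_extendByZero, Nat.factorization_mul
    (fun h0 => h2 (by rw [h0]; exact dvd_zero p)) θ.2.charDegree_pos.ne', Finsupp.add_apply,
    Nat.factorization_eq_zero_of_not_dvd h2, zero_add]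

theorem NilB.comm_iff_height (hM : IsPModular p M) (hB : IsPBlock M B) (hn : NilB p ⊤ (eB M B))
    (hP : DefG p ⊤ (eB M B) P) :
    (∀ a ∈ P, ∀ c ∈ P, a * c = c * a) ↔ ∀ χ ∈ B, blockHeight p B χ.1 = 0 := by
  letI := Fintype.ofFinite G
  obtain ⟨ε, hm⟩ := hP.exists_maxP hM (blk_top_eB hB)
  obtain ⟨χ₀, h₀, h0⟩ := exists_blockHeight_eq_zero (p := p) hB.nonempty
  obtain ⟨Φ, hΦ⟩ := hn.exists_equiv hM hB hm h₀ h0
  refine ⟨fun h χ hχ => ?_, fun h a ha c hc => ?_⟩
  · obtain ⟨θ, e⟩ := Φ.surjective ⟨χ, hχ⟩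
    have := (hΦ θ).2
    rw [e, Clifford.charDegree_of_eq (n := 1) ((θ.2.degree_eq_one_of_comm fun a b =>
      Subtype.ext (h a a.2 b b.2)).trans Nat.cast_one.symm), one_mul] at this
    rwa [blockHeight_eq, this, ← blockHeight_eq]
  · have key : ∀ θ : IrrCharacter P, θ.1 1 = 1 := fun θ => by
      refine degree_eq_one_of_isPGroup hP.isPGroup fun hd => ?_
      have h1 := (blockHeight_eq_zero_iff_eq (Φ θ).2).1 (h _ (Φ θ).2)
      rw [(hΦ θ).2, Nat.factorization_mul θ.2.charDegree_pos.ne' χ₀.2.charDegree_pos.ne',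
        Finsupp.add_apply, (blockHeight_eq_zero_iff_eq h₀).1 h0] at h1
      have := (Fact.out : p.Prime).factorization_pos_of_dvd θ.2.charDegree_pos.ne' hd
      omega
    have : ⁅(⟨a, ha⟩ : P), (⟨c, hc⟩ : P)⁆ = 1 := eq_one_of_forall_irr fun θ hθ =>
      hθ.mem_charKer.1 (hθ.degree_eq_one_iff.1 (key ⟨θ, hθ⟩) (commutator_mem_commutator trivial trivial))
    exact congrArg Subtype.val (commutatorElement_eq_one_iff_mul_comm.1 this)

theorem comm_iff_height_of_stable [P.Normal] (hM : IsPModular p M) (hB : IsPBlock M B)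
    (hP : DefG p ⊤ (eB M B) P) {H : Subgroup G} (hH : H = P ⊔ 𝐂 P) {b : Set (IrrCharacter H)}
    (hb : IsPBlock M b) (h0 : eB M B * EB M b ≠ 0) (hf : IsFixed ⊤ (EB M b)) :
    (∀ a ∈ P, ∀ c ∈ P, a * c = c * a) ↔ ∀ χ ∈ B, blockHeight p B χ.1 = 0 := by
  have hn : H.Normal := hH ▸ inferInstance
  have hPH : P ≤ H := hH ▸ le_sup_left
  have e : eB M B = EB M b := (blk_top_eB hB).eq_of_mul_ne_zero ((blk_EB hb).of_fixed le_top hf
    fun z hz hzz => (hz.supp_centralizer hM hzz hP.isPGroup le_top le_normalizer_of_normal).mono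
      (hH ▸ le_sup_right)) h0
  obtain ⟨h1, h2⟩ := (e ▸ hP).of_blk_normal hM (blk_EB hb) hf le_top le_normalizer_of_normal
  rw [sup_eq_left.2 hPH, relIndex_top_right] at h1
  rw [inf_eq_left.2 hPH] at h2
  have h3 := (isDefectGroup_subgroupOf_iff hM hb hPH).2 h2
  have h4 := NilB.comm_iff_height hM hb ((isNilpotentBlock_iff_top hM hb).1
    ((isNilpotentBlock_iff hM hb).2 (h2.nilB_of_le_sup hM (blk_EB hb) hH.le))) (h3.defG_top hM hb)
  have h5 : Block.minVal p B = Block.minVal p b := by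
    rw [((isDefectGroup_iff_defG_top hM hB).2 hP).minVal_eq hM hB, h3.minVal_eq hM hb,
      ← relIndex_mul_index hPH, relIndex, Nat.factorization_mul FiniteIndex.index_ne_zero
      FiniteIndex.index_ne_zero, Finsupp.add_apply, Nat.factorization_eq_zero_of_not_dvd h1,
      add_zero]
  have h6 : ∀ (χ : IrrCharacter G) (θ : IrrCharacter H), Over H.subtype χ.1 θ.1 →
      blockHeight p B χ.1 = blockHeight p b θ.1 := fun χ θ ho => by
    rw [blockHeight_eq, blockHeight_eq, h5, ho.factorization_eq h1]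
  refine Iff.trans ⟨fun h a ha c hc => Subtype.ext (h a.1 ha c.1 hc), fun h a ha c hc =>
    congrArg Subtype.val (h ⟨a, hPH ha⟩ ha ⟨c, hPH hc⟩ hc)⟩ (h4.trans ⟨fun h χ hχ => ?_,
      fun h θ hθ => ?_⟩)
  · obtain ⟨θ, hθ, ho⟩ := exists_over_of_cover hB hb h0 hχ
    rw [h6 χ θ ho, h θ hθ]
  · obtain ⟨χ, hχ, ho⟩ := exists_over_of_covered hB hb h0 hθ
    rw [← h6 χ θ ho, h χ hχ]

theorem factorization_le_of_constrained (hc : IsPConstrained p G) (hP : Syl p P ⊤)
    {χ : IrrCharacter G} {θ : IrrCharacter (pPrimeCore p G)}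
    (ho : Over (pPrimeCore p G).subtype χ.1 θ.1)
    (h : ∀ g, irrPerm (pPrimeCore p G) g θ = θ) :
    (charDegree χ.1).factorization p ≤ (center P).index.factorization p := by
  have hp : p.Prime := Fact.out
  let f := QuotientGroup.mk' (pPrimeCore p G)
  let U := pCore p (G ⧸ pPrimeCore p G)
  let A := (U ⊓ 𝐂 U).comap f
  have hKA : pPrimeCore p G ≤ A := fun x hx => by
    rw [mem_comap, show f x = 1 from (QuotientGroup.eq_one_iff x).2 hx]; exact one_mem _
  have hN := Clifford.nrm_of_normal A (pPrimeCore p G)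
  have hθ := Clifford.irrOn_extendByZero.2 θ.2
  have hinv : Clifford.InvOn A (pPrimeCore p G) (extendByZero _ θ.1) := fun g _ n hn => by
    rw [Clifford.extendByZero_of_mem _ hn, Clifford.extendByZero_of_mem _ (hN.mono le_rfl g ‹_› n hn)]
    exact irrPerm_eq_self_iff.1 (h g) ⟨n, hn⟩
  have hq : PQuo p (pPrimeCore p G) A := fun x hx =>
    Core.exists_pow_mem_pPrimeCore_of_mem_pPrimePCore hx.1
  obtain ⟨k, hk⟩ := (pquo_iff_relIndex le_normalizer_of_normal).1 hq
  obtain ⟨ξ, hξ, e⟩ := Clifford.exists_ext_of_hall hKA hN hθ hinv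
    (hk ▸ (Core.coprime_card_pPrimeCore p G).symm.pow_left k)
  have hab : ⁅A, A⁆ ≤ pPrimeCore p G := commutator_le.2 fun a ha b hb => by
    rw [← QuotientGroup.eq_one_iff]
    change f _ = 1
    rw [map_commutatorElement, commutatorElement_eq_one_iff_mul_comm]
    exact hb.2 _ ha.1
  have hχ := Clifford.irrOn_top.2 χ.2
  rw [over_subtype_iff_dot, ← Clifford.dot_ind_right hKA (hχ.classOn.mono le_top le_top)] at ho
  obtain ⟨ψ, hψ, h1, h2⟩ := (hχ.classOn.mono le_top le_top).exists_common ho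
  rw [Clifford.dot_ind_left hKA _ (Clifford.irrOn_of_mem hψ).classOn, Ne, Clifford.dot_eq_zero_comm,
    ← Clifford.dot_congr_right ψ e] at h2
  have h3 := Clifford.ext_of_abelian hKA hN hab (Clifford.irrOn_of_mem hξ).charOn
    (hθ.congr fun x hx => (e x hx).symm) (Clifford.irrOn_of_mem hψ) h2 1 (one_mem _)
  have h4 : charDegree ψ ∣ Nat.card (pPrimeCore p G) := by
    rw [Clifford.charDegree_of_eq (h3.trans ((e 1 (one_mem _)).trans hθ.one_eq))]
    exact hθ.deg_dvd_card
  have h5 := Clifford.deg_dvd_relIndex_mul le_top (Clifford.nrm_of_normal ⊤ A) hχ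
    (Clifford.irrOn_of_mem hψ) h1
  have hZ : P ⊓ 𝐂 P ≤ A := fun z hz => by
    obtain ⟨S, rfl⟩ := syl_top_iff.1 hP
    refine ⟨Core.IsPConstrained.centralizer_sylow_le hc S hz.2, ?_⟩
    change f z ∈ 𝐂 (pCore p (G ⧸ pPrimeCore p G))
    rw [← Core.map_mk'_sylow_inf_pPrimePCore S]
    rintro _ ⟨y, hy, rfl⟩
    rw [← map_mul, hz.2 y hy.1, map_mul]
  have h6 : charDegree χ.1 ∣ (center P).index * (P.index * Nat.card (pPrimeCore p G)) := by
    rw [index_center_eq, ← mul_assoc, relIndex_mul_index inf_le_left]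
    exact h5.trans (mul_dvd_mul (relIndex_top_right A ▸ index_dvd_of_le hZ) h4)
  have h7 : ¬ p ∣ P.index * Nat.card (pPrimeCore p G) := fun h =>
    ((Nat.Prime.dvd_mul hp).1 h).elim hP.not_dvd_index (Core.not_dvd_card_pPrimeCore hp)
  have h8 : P.index * Nat.card (pPrimeCore p G) ≠ 0 := fun h0 => h7 (by rw [h0]; exact dvd_zero p)
  have := (Nat.factorization_le_iff_dvd χ.2.charDegree_pos.ne'
    (mul_ne_zero FiniteIndex.index_ne_zero h8)).2 h6 p
  rwa [Nat.factorization_mul FiniteIndex.index_ne_zero h8, Finsupp.add_apply,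
    Nat.factorization_eq_zero_of_not_dvd h7, add_zero] at this

end basic

theorem reynolds [Fact p.Prime] (hM : IsPModular p M) (n : ℕ) : ∀ {G : Type u} [Group G] [Finite G]
    {B : Set (IrrCharacter G)} {P : Subgroup G} [P.Normal], Nat.card G = n → IsPBlock M B →
    IsDefectGroup p M B P →
    ((∀ a ∈ P, ∀ c ∈ P, a * c = c * a) ↔ ∀ χ ∈ B, blockHeight p B χ.1 = 0) := by
  induction n using Nat.strong_induction_on with
  | _ n ih =>
  intro G _ _ B P _ hn hB hP
  letI := Fintype.ofFinite G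
  obtain ⟨b, hb, h0⟩ := exists_covered (P ⊔ 𝐂 P) hB
  obtain ⟨T, B', fr, h1, hi⟩ := exists_fr hB hb h0
  by_cases hT : T = ⊤
  · exact comm_iff_height_of_stable hM hB (hP.defG_top hM hB) rfl hb h0 (hT ▸ fr.fixed)
  obtain ⟨D, hD⟩ := hi.1.exists_isDefectGroup (p := p)
  obtain ⟨x, -, e⟩ := (hP.defG_top hM hB).exists_cj_eq ((fr.isDefectGroup hM h1 hi hD).defG_top hM hB)
  rw [cj_normal] at e
  have e' : D = P.subgroupOf T := by rw [e, map_subtype_subgroupOf]
  subst e'
  have hPT : P ≤ T := le_sup_left.trans fr.le_T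
  refine Iff.trans ⟨fun h a ha c hc => Subtype.ext (h a.1 ha c.1 hc), fun h a ha c hc =>
    congrArg Subtype.val (h ⟨a, hPT ha⟩ ha ⟨c, hPT hc⟩ hc)⟩
    ((ih _ (hn ▸ card_lt_of_ne_top hT) rfl hi.1 hD).trans ⟨fun h χ hχ => ?_, fun h ψ hψ => ?_⟩)
  · obtain ⟨ψ, hψ, e⟩ := (fr.mem_iff_indFun hb h1 hi χ).1 hχ
    rw [fr.blockHeight_eq hM h1 hi hψ hχ e, h ψ hψ]
  · have hχ := (fr.mem_iff_indFun hb h1 hi ⟨_, fr.irr_indFun hb hi.1 h1 hψ⟩).2 ⟨ψ, hψ, rfl⟩
    rw [← fr.blockHeight_eq hM h1 hi hψ hχ rfl, h _ hχ]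

theorem height_le_of_pSolvable [Fact p.Prime] (hM : IsPModular p M) (n : ℕ) :
    ∀ {G : Type u} [Group G] [Finite G] {B : Set (IrrCharacter G)} {P : Subgroup G}
    {χ : IrrCharacter G}, Nat.card G = n → IsPSolvable p G → IsPBlock M B →
    IsDefectGroup p M B P → χ ∈ B → blockHeight p B χ.1 ≤ (center P).index.factorization p := by
  induction n using Nat.strong_induction_on with
  | _ n ih =>
  intro G _ _ B P χ hn hs hB hP hχ
  letI := Fintype.ofFinite G
  obtain ⟨θ, ho⟩ := exists_lying_under' (pPrimeCore p G).subtype χ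
  have hb := isPBlock_singleton_of_not_dvd hM (Core.not_dvd_card_pPrimeCore Fact.out) θ
  have h0 := ho.eB_mul_EB hB.isBlockUnion hb.isBlockUnion hχ rfl
  obtain ⟨T, B', fr, h1, hi⟩ := exists_fr hB hb h0
  by_cases hT : T = ⊤
  · have hc := Core.isPConstrained_of_isPSolvable hs
    have hf : IsFixed ⊤ (EB M {θ}) := hT ▸ fr.fixed
    have e := (blk_top_eB hB).eq_of_mul_ne_zero ((blk_EB hb).top_of_constrained hM hc hf) h0
    obtain ⟨S, hS⟩ := exists_syl p (⊤ : Subgroup G)
    obtain ⟨x, -, rfl⟩ := (e ▸ (blk_EB hb).defG_of_constrained hM hc hf hS).exists_cj_eq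
      (hP.defG_top hM hB)
    exact (blockHeight_eq B _).trans_le ((Nat.sub_le _ _).trans (factorization_le_of_constrained hc
      (hS.conj_top x) ho fun g => irrPerm_mem_of_cjA hb.isBlockUnion (hf.cjA_eq trivial) rfl))
  obtain ⟨D, hD⟩ := hi.1.exists_isDefectGroup (p := p)
  obtain ⟨x, -, rfl⟩ := ((fr.isDefectGroup hM h1 hi hD).defG_top hM hB).exists_cj_eq
    (hP.defG_top hM hB)
  obtain ⟨ψ, hψ, e⟩ := (fr.mem_iff_indFun hb h1 hi χ).1 hχ
  rw [fr.blockHeight_eq hM h1 hi hψ hχ e, ← index_center_congr (cjEquiv x _),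
    ← index_center_congr (D.equivMapOfInjective _ T.subtype_injective)]
  exact ih _ (hn ▸ card_lt_of_ne_top hT) rfl (Core.isPSolvable_subgroup Fact.out hs T) hi.1 hD hψ

end Cfsg.Lib.Block2
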