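import Cfsg.Agent.S0215
import Cfsg.Agent.Lib.Invol.Transfer2
import Cfsg.Agent.Lib.Transfer.Apps
import Cfsg.Agent.Lib.Clifford.Mono

/-! A simple group has no nonabelian Sylow 2-subgroup of order 16 and rank 3. -/

set_option autoImplicit false

namespace Cfsg.Lib.Gg6

open Subgroup Cfsg.Lib.Transfer Cfsg.Lib.Clifford
open scoped commutatorElement

variable {G : Type*} [Group G]

theorem mem_zp2 {s x : G} (h : s * s = 1) (hx : x ∈ zpowers s) : x = 1 ∨ x = s := by
  obtain ⟨k, rfl⟩ := mem_zpowers_iff.1 hx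
  have h2 : s ^ (2 : ℤ) = 1 := by rw [zpow_two, h]
  rcases Int.even_or_odd' k with ⟨j, rfl | rfl⟩
  · left; rw [zpow_mul, h2, one_zpow]
  · right; rw [zpow_add, zpow_mul, h2, one_zpow, one_mul, zpow_one]

theorem two_mul_card_le [Finite G] {H K : Subgroup G} (h : H < K) : 2 * Nat.card H ≤ Nat.card K := by
  have h1 := Transfer.card_mul_relIndex h.le
  have h2 : H.relIndex K ≠ 1 := fun e => h.not_ge (relIndex_eq_one.1 e)
  have h3 : H.relIndex K ≠ 0 := Clifford.relIndex_ne_zero H K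
  rw [← h1, mul_comm 2]
  exact Nat.mul_le_mul_left _ (by omega)

theorem mul_mem_of_idx2 {H K : Subgroup G} (h : H.relIndex K = 2) {a b : G} (ha : a ∈ K) (hb : b ∈ K)
    (h1 : a ∉ H) (h2 : b ∉ H) : a * b ∈ H := by
  have := (mul_mem_iff_of_index_two (H := H.subgroupOf K) h (a := ⟨a, ha⟩) (b := ⟨b, hb⟩)).2
    (by simp only [mem_subgroupOf, h1, h2])
  exact this

theorem idx2_of_card [Finite G] {H K : Subgroup G} (h : H ≤ K) (e : Nat.card K = 2 * Nat.card H) :
    H.relIndex K = 2 := by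
  have h1 := Transfer.card_mul_relIndex h
  rw [e, mul_comm 2] at h1
  exact Nat.eq_of_mul_eq_mul_left Nat.card_pos h1

theorem card_zp2 {s : G} (h : s * s = 1) (h1 : s ≠ 1) : Nat.card (zpowers s) = 2 := by
  rw [Nat.card_zpowers]
  exact orderOf_eq_prime (by rw [pow_two, h]) h1

theorem not_isolated [Finite G] [IsSimpleGroup G] (hG : ¬ IsMulCommutative G) (T : Sylow 2 G) {u : G}
    (hu : u ∈ (T : Subgroup G)) (h2 : u * u = 1) (h1 : u ≠ 1) :
    ∃ x ∈ (T : Subgroup G), x ≠ u ∧ IsConj u x := by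
  by_contra hc
  push Not at hc
  have ho : orderOf u = 2 := orderOf_eq_prime (by rw [pow_two, h2]) h1
  obtain ⟨N, hN, hodd, h⟩ := Cfsg.Agent.S0215.result T u ho hu fun g hg => by
    by_contra hne
    exact hc _ hg hne (isConj_iff.2 ⟨g, rfl⟩)
  rcases hN.eq_bot_or_eq_top with rfl | rfl
  · have hz : u ∈ center G := mem_center_iff.2 fun g => by
      have := mem_bot.1 (h g)
      calc g * u = (u * g * u⁻¹ * g⁻¹) * (g * u) := by rw [this, one_mul]
        _ = u * g := by group
    rcases (inferInstance : (center G).Normal).eq_bot_or_eq_top with e | e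
    · rw [e] at hz; exact h1 (mem_bot.1 hz)
    · exact hG ⟨⟨fun a b => (mem_center_iff.1 (e ▸ mem_top b) a)⟩⟩
  · rw [card_top] at hodd
    exact (Nat.not_even_iff_odd.2 hodd) (even_iff_two_dvd.2 (ho ▸ orderOf_dvd_natCard u))

theorem index_ne_two [Finite G] [IsSimpleGroup G] (hG : ¬ IsMulCommutative G) (K : Subgroup G) :
    K.index ≠ 2 := by
  intro h
  have hn := normal_of_index_eq_two h
  rcases hn.eq_bot_or_eq_top with rfl | rfl
  · rw [index_bot] at h
    haveI : Fact (Nat.Prime 2) := ⟨Nat.prime_two⟩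
    haveI := isCyclic_of_prime_card h
    exact hG inferInstance
  · rw [index_top] at h; omega

/-- The structure of a nonabelian group `T` of order 16 with an elementary abelian subgroup `U` of order 8. -/
structure S16 (T U : Subgroup G) (z c : G) : Prop where
  le : U ≤ T
  comm : ∀ a ∈ U, ∀ b ∈ U, a * b = b * a
  sq : ∀ a ∈ U, a * a = 1
  idx : U.relIndex T = 2
  card : Nat.card T = 16
  zU : z ∈ U
  cU : c ∈ U
  z1 : z ≠ 1
  c1 : c ≠ 1
  cz : c ≠ z
  zc : z ∈ centralizer (T : Set G)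
  cc : c ∈ centralizer (T : Set G)
  cen : ∀ w ∈ T, w ∈ centralizer (T : Set G) → w = 1 ∨ w = z ∨ w = c ∨ w = c * z
  two : ∀ a ∈ U, ∀ b ∈ U, a ∉ centralizer (T : Set G) → b ∉ centralizer (T : Set G) →
    a * b ∈ centralizer (T : Set G)
  act : ∀ a ∈ U, a ∉ centralizer (T : Set G) → ∀ t ∈ T, t ∉ U → t * a * t⁻¹ = a * z
  ex : ∃ a ∈ U, a ∉ centralizer (T : Set G)
  ext : ∃ t ∈ T, t ∉ U

theorem exists_S16 [Finite G] {T U : Subgroup G} (hT : Nat.card T = 16) (hna : ¬ IsMulCommutative T)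
    (hUT : U ≤ T) (hU : IsMulCommutative U) (h2 : ∀ a ∈ U, a ^ 2 = 1) (h8 : Nat.card U = 8) :
    ∃ z c, S16 T U z c := by
  have comm : ∀ a ∈ U, ∀ b ∈ U, a * b = b * a := fun a ha b hb =>
    congrArg Subtype.val (hU.is_comm.comm ⟨a, ha⟩ ⟨b, hb⟩)
  have sq : ∀ a ∈ U, a * a = 1 := fun a ha => by rw [← pow_two, h2 a ha]
  have inv : ∀ a ∈ U, a⁻¹ = a := fun a ha => inv_eq_of_mul_eq_one_right (sq a ha)
  have idx : U.relIndex T = 2 := idx2_of_card hUT (by rw [hT, h8])
  have hn : Nrm T U := nrm_of_normal_subgroupOf hUT (normal_of_index_eq_two idx)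
  obtain ⟨t, ht, htU⟩ : ∃ t ∈ T, t ∉ U := by
    by_contra h; push Not at h
    rw [relIndex_eq_one.2 h] at idx; omega
  have dec : ∀ x ∈ T, x ∉ U → ∃ u ∈ U, x = u * t := fun x hx hxU =>
    ⟨x * t⁻¹, mul_mem_of_idx2 idx hx (inv_mem ht) hxU (by rwa [inv_mem_iff]), by group⟩
  have cenU : ∀ w ∈ U, t * w = w * t → w ∈ centralizer (T : Set G) := fun w hw h => by
    refine mem_centralizer_iff.2 fun x hx => ?_
    by_cases hxU : x ∈ U
    · exact comm x hxU w hw
    · obtain ⟨u, hu, rfl⟩ := dec x hx hxU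
      rw [mul_assoc, h, ← mul_assoc, comm u hu w hw, mul_assoc]
  have tt : t * t ∈ U := mul_mem_of_idx2 idx ht ht htU htU
  let f : U →* U := MonoidHom.mk' (fun u => ⟨u * (t * u * t⁻¹), mul_mem u.2 (hn t ht u u.2)⟩) (by
    intro a b
    refine Subtype.ext ?_
    have h1 := comm b b.2 _ (hn t ht a a.2)
    simp only [coe_mul]
    calc (a : G) * b * (t * (a * b) * t⁻¹) = a * (b * (t * a * t⁻¹)) * (t * b * t⁻¹) := by group
      _ = _ := by rw [h1]; group)
  have fv : ∀ u : U, ((f u : U) : G) = u * (t * u * t⁻¹) := fun u => rfl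
  have kerf : ∀ u : U, u ∈ f.ker ↔ (u : G) ∈ centralizer (T : Set G) := fun u => by
    rw [MonoidHom.mem_ker, ← Subtype.coe_inj, fv, coe_one]
    constructor
    · intro h
      refine cenU u u.2 ?_
      have : t * u * t⁻¹ = u := (eq_inv_of_mul_eq_one_right h).trans (inv u u.2)
      rw [← mul_inv_eq_iff_eq_mul, this]
    · intro h
      rw [mem_centralizer_iff.1 h t ht, mul_inv_cancel_right, sq u u.2]
  have rk : f.range ≤ f.ker := by
    rintro _ ⟨u, rfl⟩
    rw [kerf]
    refine cenU _ (f u).2 ?_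
    rw [fv]
    have h1 := comm _ tt u u.2
    have h2 := comm u u.2 _ (hn t ht u u.2)
    calc t * (u * (t * u * t⁻¹)) = (t * u * t⁻¹) * (t * t * u) * t⁻¹ := by group
      _ = (t * u * t⁻¹) * u * t := by rw [h1]; group
      _ = _ := by rw [← h2]
  obtain ⟨a, ha, haC⟩ : ∃ a ∈ U, a ∉ centralizer (T : Set G) := by
    by_contra h; push Not at h
    refine hna ⟨⟨fun x y => Subtype.ext ?_⟩⟩
    by_cases hx : (x : G) ∈ U
    · exact (mem_centralizer_iff.1 (h x hx) y y.2).symm
    by_cases hy : (y : G) ∈ U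
    · exact mem_centralizer_iff.1 (h y hy) x x.2
    obtain ⟨u, hu, e1⟩ := dec x x.2 hx
    obtain ⟨v, hv, e2⟩ := dec y y.2 hy
    have h1 := mem_centralizer_iff.1 (h u hu) t ht
    have h2 := mem_centralizer_iff.1 (h v hv) t ht
    simp only [coe_mul]
    rw [e1, e2]
    calc u * t * (v * t) = u * (t * v) * t := by group
      _ = (u * v) * t * t := by rw [h2]; group
      _ = v * (u * t) * t := by rw [comm u hu v hv]; group
      _ = _ := by rw [mul_assoc v t, ← mul_assoc t u, h1, mul_assoc v]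
  have hc : Nat.card f.ker * Nat.card f.range = 8 := by
    rw [← h8, ← f.ker.card_mul_index, index_ker]
  have hz1 : f ⟨a, ha⟩ ≠ 1 := fun e => haC ((kerf ⟨a, ha⟩).1 e)
  have hle : Nat.card f.range ≤ Nat.card f.ker := card_le_of_le rk
  have hzz : f ⟨a, ha⟩ * f ⟨a, ha⟩ = 1 := Subtype.ext (sq _ (f _).2)
  have hz2 := card_zp2 hzz hz1
  have hzr : zpowers (f ⟨a, ha⟩) ≤ f.range := zpowers_le_of_mem ⟨_, rfl⟩
  have hr2 : Nat.card f.range = 2 := by
    have := card_le_of_le hzr
    rw [hz2] at this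
    by_contra hne
    have h3 : 3 ≤ Nat.card f.range := by omega
    nlinarith
  have hk4 : Nat.card f.ker = 4 := by rw [hr2] at hc; omega
  have hre : zpowers (f ⟨a, ha⟩) = f.range := eq_of_le_of_card_ge hzr (by rw [hr2, hz2])
  have hzk : zpowers (f ⟨a, ha⟩) ≤ f.ker := hzr.trans rk
  have i1 : (zpowers (f ⟨a, ha⟩)).relIndex f.ker = 2 := idx2_of_card hzk (by rw [hk4, hz2])
  have i2 : f.ker.relIndex ⊤ = 2 := idx2_of_card le_top (by rw [card_top, hk4, h8])
  obtain ⟨c, hck, hcz⟩ : ∃ c ∈ f.ker, c ∉ zpowers (f ⟨a, ha⟩) := by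
    by_contra h; push Not at h
    rw [relIndex_eq_one.2 h] at i1; omega
  have cenT : ∀ w ∈ T, w ∈ centralizer (T : Set G) → w ∈ U := fun w hw hwc => by
    by_contra hwU
    obtain ⟨u, hu, rfl⟩ := dec w hw hwU
    refine haC (cenU a ha ?_)
    have h1 := mem_centralizer_iff.1 hwc a (hUT ha)
    calc t * a = u⁻¹ * (u * t * a) := by group
      _ = u⁻¹ * (a * u) * t := by rw [← h1]; group
      _ = a * t := by rw [comm a ha u hu]; group
  refine ⟨f ⟨a, ha⟩, c, hUT, comm, sq, idx, hT, (f _).2, c.2, fun e => hz1 (Subtype.ext e),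
    fun e => hcz (by rw [show c = 1 from Subtype.ext e]; exact one_mem _),
    fun e => hcz (by rw [show c = f ⟨a, ha⟩ from Subtype.ext e]; exact mem_zpowers _),
    (kerf _).1 (hzk (mem_zpowers _)), (kerf _).1 hck, fun w hw hwc => ?_, fun x hx y hy h1 h2 => ?_,
    fun x hx h1 s hs hsU => ?_, ⟨a, ha, haC⟩, ⟨t, ht, htU⟩⟩
  · have hwU := cenT w hw hwc
    have hwk := (kerf ⟨w, hwU⟩).2 hwc
    by_cases h : (⟨w, hwU⟩ : U) ∈ zpowers (f ⟨a, ha⟩)
    · rcases mem_zp2 hzz h with e | e
      · exact Or.inl (congrArg Subtype.val e)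
      · exact Or.inr (Or.inl (congrArg Subtype.val e))
    · have hcc := sq c c.2
      rcases mem_zp2 hzz (mul_mem_of_idx2 i1 hck hwk hcz h) with e | e
      · have := congrArg Subtype.val e
        simp only [coe_mul, coe_one] at this
        refine Or.inr (Or.inr (Or.inl ?_))
        calc w = (c * c) * w := by rw [hcc, one_mul]
          _ = c := by rw [mul_assoc, this, mul_one]
      · have := congrArg Subtype.val e
        simp only [coe_mul] at this
        refine Or.inr (Or.inr (Or.inr ?_))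
        rw [← this, ← mul_assoc, hcc, one_mul]
  · exact (kerf (⟨x, hx⟩ * ⟨y, hy⟩)).1 (mul_mem_of_idx2 i2 (mem_top _) (mem_top _)
      (mt (kerf ⟨x, hx⟩).1 h1) (mt (kerf ⟨y, hy⟩).1 h2))
  · obtain ⟨u, hu, rfl⟩ := dec s hs hsU
    have h3 : f ⟨x, hx⟩ ∈ zpowers (f ⟨a, ha⟩) := hre ▸ ⟨_, rfl⟩
    rcases mem_zp2 hzz h3 with e | e
    · exact absurd ((kerf ⟨x, hx⟩).1 e) h1
    · rw [← e, fv, ← mul_assoc, sq x hx, one_mul]
      have := comm u hu _ (hn t ht x hx)
      calc u * t * x * (u * t)⁻¹ = u * (t * x * t⁻¹) * u⁻¹ := by group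
        _ = _ := by rw [this]; group

namespace S16

variable [Finite G] {T : Sylow 2 G} {U : Subgroup G} {z c : G} (h : S16 (T : Subgroup G) U z c)
include h

omit [Finite G] in
theorem comm_mem {x y : G} (hx : x ∈ (T : Subgroup G)) (hy : y ∈ (T : Subgroup G)) :
    y * x * y⁻¹ * x⁻¹ = 1 ∨ y * x * y⁻¹ * x⁻¹ = z := by
  have hzz := h.sq z h.zU
  have key : ∀ u ∈ U, ∀ s ∈ (T : Subgroup G), s * u * s⁻¹ * u⁻¹ = 1 ∨ s * u * s⁻¹ * u⁻¹ = z := by
    intro u hu s hs
    by_cases hsU : s ∈ U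
    · left; rw [h.comm s hsU u hu]; group
    by_cases huc : u ∈ centralizer ((T : Subgroup G) : Set G)
    · left; rw [mem_centralizer_iff.1 huc s hs]; group
    · right; rw [h.act u hu huc s hs hsU, h.comm u hu z h.zU]; group
  by_cases hxU : x ∈ U
  · exact key x hxU y hy
  by_cases hyU : y ∈ U
  · have e : y * x * y⁻¹ * x⁻¹ = (x * y * x⁻¹ * y⁻¹)⁻¹ := by group
    rw [e]
    rcases key y hyU x hx with e | e
    · left; rw [e, inv_one]
    · right; rw [e]; exact inv_eq_of_mul_eq_one_right hzz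
  · have hu := mul_mem_of_idx2 h.idx hy (inv_mem hx) hyU (by rwa [inv_mem_iff])
    have e : y * x * y⁻¹ * x⁻¹ = (x * (y * x⁻¹) * x⁻¹ * (y * x⁻¹)⁻¹)⁻¹ := by group
    rw [e]
    rcases key _ hu x hx with e | e
    · left; rw [e, inv_one]
    · right; rw [e]; exact inv_eq_of_mul_eq_one_right hzz

theorem norm_fix {n w : G} (hn : n ∈ normalizer ((T : Subgroup G) : Set G)) (hw : w ∈ (T : Subgroup G))
    (hc : w ∈ centralizer ((T : Subgroup G) : Set G)) : n * w * n⁻¹ = w := by
  have hzz := h.sq z h.zU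
  have hT : ∀ x ∈ (T : Subgroup G), n * x * n⁻¹ ∈ (T : Subgroup G) := fun x hx =>
    conj_mem_of_mem_normalizer hn hx
  have hz : n * z * n⁻¹ = z := by
    obtain ⟨a, ha, hac⟩ := h.ex
    obtain ⟨t, ht, htU⟩ := h.ext
    have e : z = t * a * t⁻¹ * a⁻¹ := by rw [h.act a ha hac t ht htU, h.comm a ha z h.zU]; group
    have e2 : n * z * n⁻¹ = (n * t * n⁻¹) * (n * a * n⁻¹) * (n * t * n⁻¹)⁻¹ * (n * a * n⁻¹)⁻¹ := by
      rw [e]; group
    rcases h.comm_mem (hT a (h.le ha)) (hT t ht) with e3 | e3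
    · rw [← e2] at e3
      exact absurd (by rw [← mul_inv_cancel n] at e3; simpa using e3) h.z1
    · rw [e2, e3]
  have hcn : n * c * n⁻¹ = c := by
    have h1 : n * c * n⁻¹ ∈ centralizer ((T : Subgroup G) : Set G) := mem_centralizer_iff.2 fun x hx => by
      have := mem_centralizer_iff.1 h.cc _ (conj_mem_of_mem_normalizer (inv_mem hn) hx)
      calc x * (n * c * n⁻¹) = n * (n⁻¹ * x * n⁻¹⁻¹ * c) * n⁻¹ := by group
        _ = _ := by rw [this]; group
    rcases h.cen _ (hT c (h.le h.cU)) h1 with e | e | e | e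
    · exact absurd (by rw [← mul_inv_cancel n] at e; simpa using e) h.c1
    · rw [← hz] at e; exact absurd (by simpa using e) h.cz
    · exact e
    · exfalso
      have hk : ∀ k : ℕ, n ^ (2 * k + 1) * c * (n ^ (2 * k + 1))⁻¹ = c * z := by
        intro k
        induction k with
        | zero => simpa using e
        | succ k ih =>
          calc n ^ (2 * (k + 1) + 1) * c * (n ^ (2 * (k + 1) + 1))⁻¹
              = n * (n * (n ^ (2 * k + 1) * c * (n ^ (2 * k + 1))⁻¹) * n⁻¹) * n⁻¹ := by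
                rw [show 2 * (k + 1) + 1 = 2 * k + 1 + 1 + 1 by ring, pow_succ', pow_succ']; group
            _ = n * ((n * c * n⁻¹) * (n * z * n⁻¹)) * n⁻¹ := by rw [ih]; group
            _ = c * z := by rw [e, hz, mul_assoc c, hzz, mul_one, e]
      have hnr : Nrm (normalizer ((T : Subgroup G) : Set G)) (T : Subgroup G) := nrm_of_le_normalizer le_rfl
      have hm := pow_relIndex_mem hnr hn
      have hodd := (sylowIn_of_le T (le_normalizer (H := (T : Subgroup G)))).not_dvd
      obtain ⟨k, hk'⟩ := Nat.odd_iff.2 (Nat.two_dvd_ne_zero.1 hodd)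
      rw [hk'] at hm
      have := hk k
      rw [mem_centralizer_iff.1 h.cc _ hm, mul_inv_cancel_right] at this
      exact h.z1 (by simpa using this)
  rcases h.cen w hw hc with rfl | rfl | rfl | rfl
  · simp
  · exact hz
  · exact hcn
  · calc n * (c * z) * n⁻¹ = (n * c * n⁻¹) * (n * z * n⁻¹) := by group
      _ = _ := by rw [hcn, hz]

theorem eq_of_isConj {v w : G} (hv : v ∈ (T : Subgroup G)) (hvc : v ∈ centralizer ((T : Subgroup G) : Set G))
    (hwc : w ∈ centralizer ((T : Subgroup G) : Set G)) (e : IsConj v w) : v = w := by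
  obtain ⟨g, rfl⟩ := isConj_iff.1 e
  obtain ⟨n, hn, e⟩ := (sylowIn_top T).exists_normalizer_conj_eq (mem_top g) hvc hwc
  rw [← e, h.norm_fix hn.2 hv hvc]

theorem dlem (hG : ∀ K : Subgroup G, K.index ≠ 2) {b s w : G} (hb : b ∈ U)
    (hbc : b ∉ centralizer ((T : Subgroup G) : Set G)) (hs : s ∈ (T : Subgroup G)) (hsU : s ∉ U)
    (hss : s * s = 1) (hw : w ∈ U) (hwc : w ∈ centralizer ((T : Subgroup G) : Set G)) (h1 : w ≠ 1)
    (h2 : w ≠ z) : IsConj w b ∨ IsConj w s := by
  have hzz := h.sq z h.zU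
  have hbb := h.sq b hb
  have hact := h.act b hb hbc s hs hsU
  have hzs : s * z = z * s := mem_centralizer_iff.1 h.zc s hs
  have hzb : b * z = z * b := h.comm b hb z h.zU
  have n1 : Nrm (zpowers b) (zpowers z) := fun g hg n hn => by
    rcases mem_zp2 hbb hg with rfl | rfl
    · simpa using hn
    · rcases mem_zp2 hzz hn with rfl | rfl
      · simp
      · rw [hzb, mul_inv_cancel_right]; exact mem_zpowers _
  have memV : ∀ x ∈ zpowers b ⊔ zpowers z, x = 1 ∨ x = z ∨ x = b ∨ x = b * z := fun x hx => by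
    obtain ⟨u, hu, v, hv, rfl⟩ := exists_mul_of_mem_sup_nrm n1 hx
    rcases mem_zp2 hbb hu with rfl | rfl <;> rcases mem_zp2 hzz hv with rfl | rfl <;> simp
  have hbV : b ∈ zpowers b ⊔ zpowers z := mem_sup_left (mem_zpowers _)
  have hzV : z ∈ zpowers b ⊔ zpowers z := mem_sup_right (mem_zpowers _)
  have hVU : zpowers b ⊔ zpowers z ≤ U := sup_le (zpowers_le_of_mem hb) (zpowers_le_of_mem h.zU)
  have n2 : Nrm (zpowers s) (zpowers b ⊔ zpowers z) := fun g hg n hn => by
    rcases mem_zp2 hss hg with rfl | rfl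
    · simpa using hn
    · rcases memV n hn with rfl | rfl | rfl | rfl
      · simp
      · rw [hzs, mul_inv_cancel_right]; exact hzV
      · rw [hact]; exact mul_mem hbV hzV
      · have : g * (b * z) * g⁻¹ = (g * b * g⁻¹) * (g * z * g⁻¹) := by group
        rw [this, hact, hzs, mul_inv_cancel_right]
        exact mul_mem (mul_mem hbV hzV) hzV
  have memD : ∀ x ∈ zpowers s ⊔ (zpowers b ⊔ zpowers z), x ∈ zpowers b ⊔ zpowers z ∨
      ∃ v ∈ zpowers b ⊔ zpowers z, x = s * v := fun x hx => by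
    obtain ⟨u, hu, v, hv, rfl⟩ := exists_mul_of_mem_sup_nrm n2 hx
    rcases mem_zp2 hss hu with rfl | rfl
    · left; simpa using hv
    · exact Or.inr ⟨v, hv, rfl⟩
  have hDT : zpowers s ⊔ (zpowers b ⊔ zpowers z) ≤ (T : Subgroup G) :=
    sup_le (zpowers_le_of_mem hs) (hVU.trans h.le)
  have l1 : zpowers z < zpowers b ⊔ zpowers z := lt_of_le_of_ne le_sup_right fun e => by
    rw [← e] at hbV
    rcases mem_zp2 hzz hbV with rfl | rfl
    · exact hbc (one_mem _)
    · exact hbc h.zc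
  have l2 : zpowers b ⊔ zpowers z < zpowers s ⊔ (zpowers b ⊔ zpowers z) :=
    lt_of_le_of_ne le_sup_right fun e => hsU (hVU (e ▸ mem_sup_left (mem_zpowers s)))
  have l3 : zpowers s ⊔ (zpowers b ⊔ zpowers z) < (T : Subgroup G) := lt_of_le_of_ne hDT fun e => by
    rcases memD w (e ▸ h.le hw) with hv | ⟨v, hv, e⟩
    · rcases memV w hv with e | e | e | e
      · exact h1 e
      · exact h2 e
      · exact hbc (e ▸ hwc)
      · exact hbc ((mul_mem_cancel_right h.zc).1 (e ▸ hwc))
    · exact hsU ((mul_mem_cancel_right (hVU hv)).1 (e ▸ hw))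
  have c1 := two_mul_card_le l1
  have c2 := two_mul_card_le l2
  have c3 := two_mul_card_le l3
  rw [card_zp2 hzz h.z1] at c1
  rw [h.card] at c3
  have hi : (zpowers s ⊔ (zpowers b ⊔ zpowers z)).relIndex T = 2 := idx2_of_card hDT (by rw [h.card]; omega)
  have hww := h.sq w hw
  obtain ⟨g, hg⟩ := Invol.thompson_transfer' hG (H := T) (Nat.odd_iff.2 (Nat.two_dvd_ne_zero.1 T.not_dvd_index))
    hi (orderOf_eq_prime (x := w) (by rw [pow_two, hww]) h1)
  have hc : IsConj w (g * w * g⁻¹) := isConj_iff.2 ⟨g, rfl⟩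
  have hsq : (g * w * g⁻¹) * (g * w * g⁻¹) = 1 := by
    calc _ = g * (w * w) * g⁻¹ := by group
      _ = 1 := by rw [hww]; group
  have cb : IsConj (b * z) b := (isConj_iff.2 ⟨s, hact⟩).symm
  have hbs : b * s = s * b * z := by
    calc b * s = (b * z) * (z * s) := by rw [mul_assoc, ← mul_assoc z, hzz, one_mul]
      _ = s * b * z := by rw [← hact, ← hzs]; group
  have cs : IsConj (s * z) s := (isConj_iff.2 ⟨b, by
    rw [hbs, mul_assoc s b z, hzb]; group⟩).symm
  have hbad : (s * b) * (s * b) = z := by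
    calc (s * b) * (s * b) = s * (b * s) * b := by group
      _ = (s * s) * (b * z * b) := by rw [hbs]; group
      _ = z := by rw [hss, one_mul, hzb, mul_assoc, hbb, mul_one]
  rcases memD _ hg with hv | ⟨v, hv, e⟩
  · rcases memV _ hv with e | e | e | e <;> rw [e] at hc
    · exact absurd (isConj_one_left.1 hc) h1
    · exact absurd (h.eq_of_isConj (h.le hw) hwc h.zc hc) h2
    · exact Or.inl hc
    · exact Or.inl (hc.trans cb)
  · rw [e] at hc hsq
    rcases memV _ hv with rfl | rfl | rfl | rfl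
    · exact Or.inr (by simpa using hc)
    · exact Or.inr (hc.trans cs)
    · exact absurd (hbad.symm.trans hsq) h.z1
    · exfalso
      refine h.z1 (hbad.symm.trans ?_)
      rw [← hsq]
      calc s * b * (s * b) = s * b * (z * z) * (s * b) := by rw [hzz, mul_one]
        _ = s * b * z * (z * s) * b := by group
        _ = s * b * z * s * (z * b) := by rw [← hzs]; group
        _ = _ := by rw [← hzb]; group

theorem false [IsSimpleGroup G] (hG : ¬ IsMulCommutative G) : False := by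
  have hzz := h.sq z h.zU
  have hcc := h.sq c h.cU
  have czU := mul_mem h.cU h.zU
  have czc := mul_mem h.cc h.zc
  have cz1 : c * z ≠ 1 := fun e => h.cz (by
    calc c = c * (z * z) := by rw [hzz, mul_one]
      _ = z := by rw [← mul_assoc, e, one_mul])
  have czz : c * z ≠ z := fun e => h.c1 (by simpa using e)
  have ccz : c ≠ c * z := fun e => h.z1 (by simpa using e)
  have n1 : ¬ IsConj c z := fun e => h.cz (h.eq_of_isConj (h.le h.cU) h.cc h.zc e)
  have n2 : ¬ IsConj (c * z) z := fun e => czz (h.eq_of_isConj (h.le czU) czc h.zc e)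
  have n3 : ¬ IsConj c (c * z) := fun e => ccz (h.eq_of_isConj (h.le h.cU) h.cc czc e)
  obtain ⟨a, ha, hac⟩ := h.ex
  have sqc : ∀ {u x : G}, u * u = 1 → IsConj u x → x * x = 1 := fun {u x} hu e => by
    obtain ⟨g, rfl⟩ := isConj_iff.1 e
    calc _ = g * (u * u) * g⁻¹ := by group
      _ = 1 := by rw [hu]; group
  by_cases hA : ∃ t ∈ (T : Subgroup G), t ∉ U ∧ t * t = 1
  · obtain ⟨t, ht, htU, htt⟩ := hA
    obtain ⟨x, hx, hxz, e⟩ := not_isolated hG T (h.le h.zU) hzz h.z1
    have hxc : x ∉ centralizer ((T : Subgroup G) : Set G) := fun hc =>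
      hxz (h.eq_of_isConj (h.le h.zU) h.zc hc e).symm
    by_cases hxU : x ∈ U
    · rcases h.dlem (index_ne_two hG) hxU hxc ht htU htt h.cU h.cc h.c1 h.cz with e1 | e1
      · exact n1 (e1.trans e.symm)
      rcases h.dlem (index_ne_two hG) hxU hxc ht htU htt czU czc cz1 czz with e2 | e2
      · exact n2 (e2.trans e.symm)
      · exact n3 (e1.trans e2.symm)
    · rcases h.dlem (index_ne_two hG) ha hac hx hxU (sqc hzz e) h.cU h.cc h.c1 h.cz with e1 | e1
      swap
      · exact n1 (e1.trans e.symm)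
      rcases h.dlem (index_ne_two hG) ha hac hx hxU (sqc hzz e) czU czc cz1 czz with e2 | e2
      · exact n3 (e1.trans e2.symm)
      · exact n2 (e2.trans e.symm)
  · push Not at hA
    obtain ⟨t, ht, htU⟩ := h.ext
    have haa := h.sq a ha
    have key : ∀ w ∈ U, w ∈ centralizer ((T : Subgroup G) : Set G) → w ≠ 1 → IsConj w a ∨ IsConj w (a * c) := by
      intro w hw hwc h1
      obtain ⟨x, hx, hxw, e⟩ := not_isolated hG T (h.le hw) (h.sq w hw) h1
      have hxc : x ∉ centralizer ((T : Subgroup G) : Set G) := fun hc =>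
        hxw (h.eq_of_isConj (h.le hw) hwc hc e).symm
      have hxU : x ∈ U := by
        by_contra hxU
        exact hA x hx hxU (sqc (h.sq w hw) e)
      have hacc : a * c ∉ centralizer ((T : Subgroup G) : Set G) := fun hc =>
        hac ((mul_mem_cancel_right h.cc).1 hc)
      have hx' : x = a * (a * x) := by rw [← mul_assoc, haa, one_mul]
      rcases h.cen _ (mul_mem (h.le ha) hx) (h.two a ha x hxU hac hxc) with e1 | e1 | e1 | e1 <;>
        rw [e1] at hx' <;> rw [hx'] at e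
      · exact Or.inl (by simpa using e)
      · exact Or.inl (e.trans (isConj_iff.2 ⟨t, h.act a ha hac t ht htU⟩).symm)
      · exact Or.inr e
      · refine Or.inr (e.trans (isConj_iff.2 ⟨t, ?_⟩).symm)
        rw [h.act _ (mul_mem ha h.cU) hacc t ht htU, mul_assoc]
    rcases key z h.zU h.zc h.z1 with e1 | e1 <;> rcases key c h.cU h.cc h.c1 with e2 | e2 <;>
      rcases key _ czU czc cz1 with e3 | e3
    all_goals first
      | exact n1 (e2.trans e1.symm)
      | exact n2 (e3.trans e1.symm)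
      | exact n3 (e2.trans e3.symm)

end S16

theorem no16 [Finite G] [IsSimpleGroup G] (hG : ¬ IsMulCommutative G) (T : Sylow 2 G)
    (hT : Nat.card T = 16) (hna : ¬ IsMulCommutative (T : Subgroup G)) {U : Subgroup G}
    (hUT : U ≤ T) (hU : IsMulCommutative U) (h2 : ∀ a ∈ U, a ^ 2 = 1) (h8 : Nat.card U = 8) : False := by
  obtain ⟨z, c, h⟩ := exists_S16 hT hna hUT hU h2 h8
  exact h.false hG

end Cfsg.Lib.Gg6
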