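import Cfsg.Agent.Lib.Block2.Gg6A
import Cfsg.Agent.S0506
import Cfsg.Agent.S0516
import Cfsg.Agent.S0483
import Cfsg.Agent.S1248
import Cfsg.Agent.Lib.Linear.SL2Sub
import Cfsg.Agent.Lib.Small.Order
import Cfsg.Agent.Lib.Core.PCore

/-! Simple groups with small or abelian Sylow 2-subgroups have a cyclic Sylow subgroup (up to order 8). -/

set_option autoImplicit false

namespace Cfsg.Lib.Gg6

open Subgroup Cfsg.Lib.Transfer Cfsg.Lib.Clifford
open scoped commutatorElement

variable {S : Type*} [Group S] [Finite S]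

/-- No nontrivial Sylow subgroup is cyclic. -/
def NC (S : Type*) [Group S] : Prop :=
  ∀ p : ℕ, p.Prime → p ∣ Nat.card S → ∀ P : Sylow p S, ¬ IsCyclic (P : Subgroup S)

theorem NC.sq_dvd (h : NC S) {p : ℕ} (hp : p.Prime) (hd : p ∣ Nat.card S) : p ^ 2 ∣ Nat.card S := by
  haveI : Fact p.Prime := ⟨hp⟩
  obtain ⟨P⟩ : Nonempty (Sylow p S) := inferInstance
  by_contra hc
  refine h p hp hd P ?_
  have h1 := (sylowIn_top P).card_eq_pow
  rw [card_top] at h1
  have h2 : (Nat.card S).factorization p = 1 := by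
    have a1 := (hp.pow_dvd_iff_le_factorization (Nat.card_pos (α := S)).ne').1 (show p ^ 1 ∣ _ by rwa [pow_one])
    have a2 := mt (hp.pow_dvd_iff_le_factorization (Nat.card_pos (α := S)).ne').2 hc
    omega
  rw [h2, pow_one] at h1
  exact isCyclic_of_prime_card h1

theorem NC.not_psl [IsSimpleGroup S] (h : NC S) (hS : ¬ IsMulCommutative S) {F : Type*} [Field F] [Fintype F]
    (e : S ≃* Matrix.ProjectiveSpecialLinearGroup (Fin 2) F) : False := by
  obtain ⟨p, hc, hp⟩ : ∃ p : ℕ, CharP F p ∧ p.Prime :=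
    ⟨ringChar F, inferInstance, CharP.char_is_prime F _⟩
  by_cases hr : ∃ r : ℕ, r.Prime ∧ r ∣ Nat.card S ∧ r ≠ 2 ∧ r ≠ p
  · obtain ⟨r, hr, hd, h2, hrp⟩ := hr
    haveI : Fact r.Prime := ⟨hr⟩
    obtain ⟨P⟩ : Nonempty (Sylow r S) := inferInstance
    refine h r hr hd P ?_
    have hrF : (r : F) ≠ 0 := fun e => hrp ((Nat.prime_dvd_prime_iff_eq hp hr).1
      ((CharP.cast_eq_zero_iff F p r).1 e)).symm
    have hP := P.isPGroup'.map e.toMonoidHom
    obtain ⟨Q, hQ⟩ := hP.exists_le_sylow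
    obtain ⟨R, rfl⟩ := Sylow.mapSurjective_surjective
      (QuotientGroup.mk'_surjective (center (Matrix.SpecialLinearGroup (Fin 2) F))) r Q
    have := Linear.sl2_isCyclic_of_isPGroup hrF h2 R.isPGroup'
    have : IsCyclic ((R : Subgroup (Matrix.SpecialLinearGroup (Fin 2) F)).map (QuotientGroup.mk' (center _))) :=
      isCyclic_of_surjective _ ((QuotientGroup.mk' _).subgroupMap_surjective _)
    have : IsCyclic (map (e : S →* _) (P : Subgroup S)) := Subgroup.isCyclic_of_le (H' := (R : Subgroup (Matrix.SpecialLinearGroup (Fin 2) F)).map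
      (QuotientGroup.mk' (center _))) hQ
    exact isCyclic_of_surjective _ (e.subgroupMap (P : Subgroup S)).symm.surjective
  · push Not at hr
    have h0 := (Nat.card_pos (α := S)).ne'
    obtain ⟨a, m, hm, e1⟩ := Nat.exists_eq_pow_mul_and_not_dvd h0 2 (by norm_num)
    have hm0 : m ≠ 0 := fun e => hm (e ▸ dvd_zero 2)
    have h3 : m = p ^ m.primeFactorsList.length := Nat.eq_prime_pow_of_unique_prime_dvd hm0 fun {d} hd hdm =>
      hr d hd (e1 ▸ hdm.mul_left _) fun e => hm (e ▸ hdm)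
    exact Small.card_ne_of_simple hS Nat.prime_two hp a _ (e1.trans (by rw [← h3]))

theorem card_syl_eq (T : Sylow 2 S) {k m : ℕ} (h : Nat.card S = 2 ^ k * m) (hm : Odd m) :
    Nat.card T = 2 ^ k := by
  have h1 := (sylowIn_top T).card_eq_pow
  rw [card_top, h, Nat.factorization_mul (by positivity) hm.pos.ne', Finsupp.add_apply,
    Nat.prime_two.factorization_pow, Finsupp.single_eq_same,
    Nat.factorization_eq_zero_of_not_dvd (Nat.two_dvd_ne_zero.2 (Nat.odd_iff.1 hm)), add_zero] at h1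
  exact h1

theorem NC.card_eight [IsSimpleGroup S] (h : NC S) (hS : ¬ IsMulCommutative S) (T : Sylow 2 S)
    (hT : IsMulCommutative (T : Subgroup S)) : Nat.card T = 8 := by
  rcases Cfsg.Agent.S0506.result hS T hT with ⟨a, -, F, _, _, -, ⟨e⟩⟩ | ⟨F, _, _, -, ⟨e⟩⟩ | ⟨-, m, -, e⟩ | ⟨-, e⟩
  · exact (h.not_psl hS e).elim
  · exact (h.not_psl hS e).elim
  · obtain ⟨k, hk⟩ : ∃ k, 3 ^ (2 * m + 1) = 8 * k + 3 := by
      refine ⟨3 ^ (2 * m + 1) / 8, ?_⟩
      have : 3 ^ (2 * m + 1) % 8 = 3 := by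
        rw [pow_succ, pow_mul, Nat.mul_mod, Nat.pow_mod]; norm_num
      omega
    rw [hk] at e
    refine card_syl_eq T (k := 3) (m := (8 * k + 3) ^ 3 * ((2 * k + 1) * (2 * (32 * k ^ 2 + 20 * k + 3) + 1) *
      (2 * (2 * k) + 1))) ?_ ?_
    · rw [e, show 8 * k + 3 - 1 = 8 * k + 2 by omega]; ring
    · exact (Odd.pow ⟨4 * k + 1, by ring⟩).mul (((odd_two_mul_add_one _).mul (odd_two_mul_add_one _)).mul
        (odd_two_mul_add_one _))
  · have := h.sq_dvd Nat.prime_three (by rw [e]; norm_num)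
    rw [e] at this; norm_num at this

theorem simple_contra [IsSimpleGroup S] (hS : ¬ IsMulCommutative S) (h1 : NC S)
    (h2 : ∀ T : Sylow 2 S, IsMulCommutative (T : Subgroup S) → Nat.card T ≠ 8)
    (h3 : ∀ T : Sylow 2 S, ¬ IsMulCommutative (T : Subgroup S) → Nat.card T ≤ 16 ∧
      (Nat.card T = 16 → ∀ x ∈ (T : Subgroup S), x ≠ 1 → ∃ y ∈ (T : Subgroup S), y * x = x * y ∧
        y ∉ zpowers x)) : False := by
  have hna : ∀ T : Sylow 2 S, ¬ IsMulCommutative (T : Subgroup S) := fun T hT =>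
    h2 T hT (h1.card_eight hS T hT)
  by_cases hr : PRankLE 2 2 S
  · obtain ⟨T⟩ : Nonempty (Sylow 2 S) := inferInstance
    obtain ⟨hle, hst⟩ := h3 T (hna T)
    letI : Fintype (GaloisField 2 4) := Fintype.ofFinite _
    have hF : Fintype.card (GaloisField 2 4) = 16 := by
      rw [← Nat.card_eq_fintype_card, GaloisField.card 2 4 (by norm_num)]; norm_num
    obtain ⟨P⟩ : Nonempty (Sylow 2 (PSU 3 (GaloisField 2 4) 4)) := inferInstance
    rcases Cfsg.Agent.S0516.result hS hr T hF P with ⟨n, hn, e⟩ | ⟨n, hn, hc, x, y, hx, -, -⟩ |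
      ⟨n, hn, hc, -⟩ | ⟨⟨e⟩⟩
    · haveI : Group.IsPerfect S := by
        refine ⟨?_⟩
        rcases (inferInstance : (commutator S).Normal).eq_bot_or_eq_top with h | h
        · exact absurd ⟨⟨fun a b => commutatorElement_eq_one_iff_mul_comm.1
            (mem_bot.1 (h ▸ commutator_mem_commutator (mem_top a) (mem_top b)))⟩⟩ hS
        · exact h
      have hO : oddCore S = ⊥ := by
        rcases (inferInstance : (oddCore S).Normal).eq_bot_or_eq_top with h | h
        · exact h
        · have := Core.odd_card_oddCore S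
          rw [h, card_top] at this
          exact absurd this (Nat.not_odd_iff_even.2 (Small.even_card_of_simple hS))
      have e0 : S ≃* S ⧸ oddCore S :=
        (QuotientGroup.quotientBot.symm).trans (QuotientGroup.quotientMulEquivOfEq hO.symm)
      rcases Cfsg.Agent.S0483.result T n hn e with ⟨F, _, _, -, -, ⟨e1⟩⟩ | ⟨⟨e1⟩⟩
      · exact h1.not_psl hS (e0.trans e1)
      · have hc : Nat.card S = 2520 := by
          rw [Nat.card_congr (e0.trans e1).toEquiv, nat_card_alternatingGroup]; simp [Nat.factorial]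
        have := h1.sq_dvd (p := 7) (by norm_num) (by rw [hc]; norm_num)
        rw [hc] at this; norm_num at this
    · have hn3 : n = 3 := by
        rw [hc] at hle
        have := (Nat.pow_le_pow_iff_right (by norm_num : 1 < 2)).1 (hle.trans (by norm_num : 16 ≤ 2 ^ 4))
        omega
      subst hn3
      have hx1 : (x : S) ≠ 1 := fun e => by
        rw [show x = 1 from Subtype.ext e, orderOf_one] at hx; norm_num at hx
      obtain ⟨w, hw, hwx, hwn⟩ := hst (by rw [hc]; norm_num) x x.2 hx1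
      have i2 : (zpowers (x : S)).relIndex T = 2 := idx2_of_card (zpowers_le_of_mem x.2) (by
        rw [hc, Nat.card_zpowers, Subgroup.orderOf_coe, hx]; norm_num)
      have hcw : Commute w x := hwx
      have dec : ∀ a ∈ (T : Subgroup S), (∃ i : ℤ, a = x ^ i) ∨ ∃ i : ℤ, a = x ^ i * w := fun a ha => by
        by_cases h : a ∈ zpowers (x : S)
        · obtain ⟨i, hi⟩ := mem_zpowers_iff.1 h
          exact Or.inl ⟨i, hi.symm⟩
        · obtain ⟨i, hi⟩ := mem_zpowers_iff.1 (mul_mem_of_idx2 i2 ha (inv_mem hw) h (by rwa [inv_mem_iff]))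
          exact Or.inr ⟨i, by rw [hi]; group⟩
      refine hna T ⟨⟨fun a b => Subtype.ext ?_⟩⟩
      have c0 : ∀ i j : ℤ, Commute ((x : S) ^ i) (x ^ j) := fun i j => Commute.zpow_zpow_self _ i j
      show Commute (a : S) b
      rcases dec a a.2 with ⟨i, e1⟩ | ⟨i, e1⟩ <;> rcases dec b b.2 with ⟨j, e2⟩ | ⟨j, e2⟩ <;> rw [e1, e2]
      · exact c0 i j
      · exact (c0 i j).mul_right (hcw.zpow_right i).symm
      · exact (c0 i j).mul_left (hcw.zpow_right j)
      · exact ((c0 i j).mul_right (hcw.zpow_right i).symm).mul_left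
          ((hcw.zpow_right j).mul_right (Commute.refl w))
    · rw [hc] at hle
      have := (Nat.pow_le_pow_iff_right (by norm_num : 1 < 2)).1 (hle.trans (by norm_num : 16 ≤ 2 ^ 4))
      omega
    · have := (Cfsg.Agent.S1248.result hF P).1
      rw [← Nat.card_congr e.toEquiv] at this
      have h64 : Nat.card T = 64 := this
      omega
  · unfold PRankLE at hr
    push Not at hr
    obtain ⟨A, hA, hA2, hc⟩ := hr
    have hAp : IsPGroup 2 A := fun a => ⟨1, Subtype.ext (by simpa using hA2 a a.2)⟩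
    obtain ⟨T, hT⟩ := hAp.exists_le_sylow
    obtain ⟨hle, -⟩ := h3 T (hna T)
    have hlt : A < T := lt_of_le_of_ne hT fun e => hna T (e ▸ hA)
    have h4 := two_mul_card_le hlt
    obtain ⟨k, hk⟩ := hAp.exists_card_eq
    have hk3 : k = 3 := by
      rw [hk] at hc h4
      have a1 := (Nat.pow_lt_pow_iff_right (by norm_num : 1 < 2)).1 hc
      have a2 := (Nat.pow_le_pow_iff_right (by norm_num : 1 < 2)).1 (show 2 ^ k ≤ 2 ^ 3 by
        have : (2 : ℕ) ^ 3 = 8 := by norm_num
        omega)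
      omega
    rw [hk3] at hk
    have h8 : Nat.card A = 8 := hk
    exact no16 hS T (by omega) (hna T) hT hA hA2 h8

end Cfsg.Lib.Gg6
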