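import Cfsg.Agent.Lib.Block2.Gg6B
import Cfsg.Agent.Lib.Clifford.FRam
import Cfsg.Agent.Lib.Clifford.Berger
import Cfsg.Agent.Lib.Clifford.Frobenius
import Cfsg.Agent.Lib.Clifford.Column
import Cfsg.Agent.Lib.Clifford.TI
import Cfsg.Agent.Lib.Layer.FStar
import Cfsg.Agent.Lib.Core.Nilpotent

/-! Groups of central type: the case of a component. -/

set_option autoImplicit false

namespace Cfsg.Lib.Gg6

open Subgroup Cfsg.Lib.Transfer Cfsg.Lib.Clifford Finset
open scoped commutatorElement ComplexConjugate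

variable {G : Type*} [Group G] [Finite G] {Z S M : Subgroup G} {ν φ ξ : G → ℂ}

omit [Finite G] in
theorem nrm_cen (hZ : Z ≤ center G) (K : Subgroup G) : Nrm K Z := fun g _ n hn => by
  rwa [mem_center_iff.1 (hZ hn) g, mul_inv_cancel_right]

omit [Finite G] in
theorem inv_cen (hZ : Z ≤ center G) (K : Subgroup G) (ν : G → ℂ) : InvOn K Z ν := fun g _ n hn => by
  rw [mem_center_iff.1 (hZ hn) g, mul_inv_cancel_right]

theorem over_mul (hZ : Z ≤ center G) (hl : LinOn Z ν) (hZM : Z ≤ M) (hφ : φ ∈ IrrOver M Z ν) {y n : G}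
    (hy : y ∈ M) (hn : n ∈ Z) : φ (y * n) = φ y * ν n := by
  obtain ⟨h1, h2⟩ := mem_IrrOver.1 hφ
  have h3 := fun n hn => clifford_invOn hZM (nrm_cen hZ M) (irrOn_of_mem h1) hl.irrOn (inv_cen hZ M ν) h2
    (n := n) hn
  refine (irrOn_of_mem h1).charOn.mul_of_lin hZM hl (fun x hx => ?_) hn hy
  rw [h3 x hx, h3 1 Z.one_mem, hl.2, mul_one]

theorem sq_nondeg (hZ : Z ≤ center G) (hl : LinOn Z ν) (hf : ∀ z ∈ Z, ν z = 1 → z = 1) (hZM : Z ≤ M)
    (h : ∀ x ∈ M, x ∉ Z → ∃ y ∈ M, y * x * y⁻¹ * x⁻¹ ∈ Z ∧ y * x * y⁻¹ * x⁻¹ ≠ 1) :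
    IsSquare (Z.relIndex M) := by
  obtain ⟨φ, hφ⟩ := hl.irrOn.IrrOver_nonempty hZM
  obtain ⟨h1, h2⟩ := mem_IrrOver.1 hφ
  have := (mult_sq_eq_iff_vanish hZM (nrm_cen hZ M) (irrOn_of_mem h1) hl.irrOn (inv_cen hZ M ν) h2).2
    fun x hx hxZ => by
      obtain ⟨y, hy, h3, h4⟩ := h x hx hxZ
      have e1 := (irrOn_of_mem h1).classOn y hy x hx
      have e2 : y * x * y⁻¹ = x * (y * x * y⁻¹ * x⁻¹) := by
        rw [mem_center_iff.1 (hZ h3) x]; group
      rw [e2, over_mul hZ hl hZM hφ hx h3] at e1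
      by_contra h0
      exact h4 (hf _ h3 (mul_left_cancel₀ h0 (e1.trans (mul_one _).symm)))
  exact ⟨_, by rw [← this, pow_two]⟩

theorem star_of_uniq (hZ : Z ≤ center G) (hl : LinOn Z ν) (hZS : Z ≤ S) (h : IrrOver S Z ν = {ξ}) {x : G}
    (hx : x ∈ S) (hxZ : x ∉ Z) : ∃ y ∈ S, y * x * y⁻¹ * x⁻¹ ∈ Z ∧ y * x * y⁻¹ * x⁻¹ ≠ 1 := by
  classical
  by_contra hc
  push Not at hc
  have hξ : ξ ∈ IrrOver S Z ν := h ▸ mem_singleton_self ξ
  obtain ⟨h1, h2⟩ := mem_IrrOver.1 hξ
  have hv := (mult_sq_eq_iff_vanish hZS (nrm_cen hZ S) (irrOn_of_mem h1) hl.irrOn (inv_cen hZ S ν) h2).1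
    ((mult_sq_eq_iff_unique hZS (nrm_cen hZ S) (irrOn_of_mem h1) hl.irrOn (inv_cen hZ S ν) h2).2
      (by rw [cut_of_mem_Irr h1, h])) x hx hxZ
  have e1 : ∑ n ∈ elems Z, ν n * (conjCount S x (n⁻¹ * x) : ℂ) = 0 := by
    simp only [← sum_irr_mul_conj hx, mul_sum]
    rw [sum_comm]
    refine sum_eq_zero fun φ hφ => ?_
    simp only [← mul_assoc]
    rw [← sum_mul, (irrOn_of_mem hφ).sum_coset hZS (nrm_cen hZ S) (inv_cen hZ S ν) hx]
    by_cases hd : dot Z φ ν = 0
    · rw [dot_eq_zero_comm.1 hd]; simp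
    · rw [mem_singleton.1 (h.le (mem_IrrOver.2 ⟨hφ, hd⟩)), hv]; simp
  rw [sum_eq_single_of_mem 1 (mem_elems.2 Z.one_mem) fun n hn h1 => ?_, hl.2, inv_one, one_mul, one_mul,
    conjCount_self] at e1
  · exact Clifford.card_ne_zero _ e1
  · rw [conjCount_eq_zero fun g hg e => h1 ?_]; simp
    have e2 : g * x * g⁻¹ * x⁻¹ = n⁻¹ := by rw [e]; group
    have := hc g hg (e2 ▸ inv_mem (mem_elems.1 hn))
    rwa [e2, inv_eq_one] at this

omit [Finite G] in
theorem card_map_mk (Z T : Subgroup G) [Z.Normal] :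
    Nat.card (T.map (QuotientGroup.mk' Z)) = Z.relIndex T := by
  rw [← relIndex_ker, QuotientGroup.ker_mk']

omit [Finite G] in
theorem comm_map_iff (Z T : Subgroup G) [Z.Normal] :
    IsMulCommutative (T.map (QuotientGroup.mk' Z)) ↔ ⁅T, T⁆ ≤ Z := by
  rw [← le_centralizer_iff_isMulCommutative, ← commutator_eq_bot_iff_le_centralizer, ← map_commutator,
    Subgroup.map_eq_bot_iff, QuotientGroup.ker_mk']

theorem four_le_of_nc {M : Subgroup G} (h : ¬ IsMulCommutative M) :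
    4 * Nat.card ↥(M ⊓ centralizer (M : Set G)) ≤ Nat.card M := by
  obtain ⟨a, ha, b, hb, hab⟩ : ∃ a ∈ M, ∃ b ∈ M, a * b ≠ b * a := by
    by_contra hc; push Not at hc
    exact h ⟨⟨fun a b => Subtype.ext (hc a a.2 b b.2)⟩⟩
  have l1 : M ⊓ centralizer (M : Set G) < M ⊓ centralizer {a} := by
    refine lt_of_le_of_ne (inf_le_inf_left _ (centralizer_le (Set.singleton_subset_iff.2 ha))) fun e => ?_
    have : a ∈ M ⊓ centralizer {a} := ⟨ha, mem_centralizer_singleton_iff.2 rfl⟩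
    rw [← e] at this
    exact hab (mem_centralizer_iff.1 this.2 b hb).symm
  have l2 : M ⊓ centralizer {a} < M := lt_of_le_of_ne inf_le_left fun e => by
    have : b ∈ M ⊓ centralizer {a} := e.symm ▸ hb
    exact hab (mem_centralizer_singleton_iff.1 this.2).symm
  have := two_mul_card_le l1
  have := two_mul_card_le l2
  omega

theorem qs_contra {L : Type*} [Group L] [Finite L] (hL : IsQuasisimple L) {ν : L → ℂ}
    (hl : LinOn (center L) ν) (hf : ∀ z ∈ center L, ν z = 1 → z = 1)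
    (f1 : ∀ p : ℕ, p.Prime → ∀ Q : Sylow p L, ¬ (Q : Subgroup L) ≤ center L →
      ¬ IsMulCommutative (Q : Subgroup L))
    (f3 : ∀ T : Sylow 2 L, ⁅(T : Subgroup L), (T : Subgroup L)⁆ ≤ center L ∨ ((center L).relIndex T ≤ 16 ∧
      ((center L).relIndex T = 16 → ∀ x ∈ (T : Subgroup L), x ∉ center L → ∃ y ∈ (T : Subgroup L),
        y * x * y⁻¹ * x⁻¹ ∈ center L ∧ y * x * y⁻¹ * x⁻¹ ≠ 1))) : False := by
  haveI := hL.2
  haveI := hL.1
  have hs := QuotientGroup.mk'_surjective (center L)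
  have hper : commutator (L ⧸ center L) = ⊤ := by
    have := map_commutator (⊤ : Subgroup L) ⊤ (QuotientGroup.mk' (center L))
    rw [map_top_of_surjective _ hs, ← commutator_def, ← commutator_def, Group.IsPerfect.commutator_eq_top,
      map_top_of_surjective _ hs] at this
    exact this.symm
  have hS : ¬ IsMulCommutative (L ⧸ center L) := fun h => by
    have : commutator (L ⧸ center L) = ⊥ := by
      rw [commutator_def, commutator_eq_bot_iff_le_centralizer]
      exact fun a _ => mem_centralizer_iff.2 fun b _ => h.is_comm.comm b a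
    rw [hper] at this
    exact top_ne_bot this
  have hcm : ∀ {x y : L}, (∃ k : ℤ, (y : L ⧸ center L) = (x : L ⧸ center L) ^ k) → y * x = x * y := by
    rintro x y ⟨k, hk⟩
    rw [← QuotientGroup.mk_zpow, eq_comm, QuotientGroup.eq] at hk
    have := mem_center_iff.1 hk x
    calc y * x = x ^ k * ((x ^ k)⁻¹ * y * x) := by group
      _ = x * y := by rw [← this]; group
  refine simple_contra hS (fun p hp hd P hP => ?_) (fun T hT h8 => ?_) fun T hT => ?_
  · haveI : Fact p.Prime := ⟨hp⟩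
    obtain ⟨Q, rfl⟩ := Sylow.mapSurjective_surjective hs p P
    rw [Sylow.coe_mapSurjective] at hP
    refine f1 p hp Q (fun hle => ?_) ?_
    · have h1 := (sylowIn_top (Q.mapSurjective hs)).eq_bot_iff.1 (by
        rw [Sylow.coe_mapSurjective, Subgroup.map_eq_bot_iff, QuotientGroup.ker_mk']; exact hle)
      rw [card_top] at h1
      exact h1 hd
    · refine MonoidHom.isMulCommutative_of_isCyclic_of_ker_le_center
        ((QuotientGroup.mk' (center L)).subgroupMap (Q : Subgroup L)) fun x hx => ?_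
      have h1 : (x : L) ∈ center L := (QuotientGroup.eq_one_iff _).1 (congrArg Subtype.val hx)
      exact mem_center_iff.2 fun y => Subtype.ext (mem_center_iff.1 h1 y)
  · obtain ⟨Q, rfl⟩ := Sylow.mapSurjective_surjective hs 2 T
    have hT' := hT
    rw [Sylow.coe_mapSurjective, comm_map_iff] at hT
    have h8' : (center L).relIndex Q = 8 := by rw [← card_map_mk]; exact h8
    have hQ : ¬ IsMulCommutative (Q : Subgroup L) := f1 2 Nat.prime_two Q fun hle => by
      rw [relIndex_eq_one.2 hle] at h8'; omega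
    obtain ⟨M, hM⟩ : ∃ M, M = (Q : Subgroup L) ⊔ center L := ⟨_, rfl⟩
    have hZM : center L ≤ M := hM ▸ le_sup_right
    have hMc : M = ((Q : Subgroup L).map (QuotientGroup.mk' (center L))).comap (QuotientGroup.mk' (center L)) := by
      rw [comap_map_eq, QuotientGroup.ker_mk', hM]
    have hM8 : (center L).relIndex M = 8 := by rw [hM, relIndex_sup_right, h8']
    have hMM : ⁅M, M⁆ ≤ center L := hM ▸ (commutator_sup_le le_top (nrm_of_normal _ _)).trans (sup_le hT le_rfl)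
    have hMn : ¬ IsMulCommutative M := fun h => hQ ⟨⟨fun a b => Subtype.ext (congrArg (fun x : M => (x : L))
      (h.is_comm.comm ⟨a, hM ▸ mem_sup_left a.2⟩ ⟨b, hM ▸ mem_sup_left b.2⟩))⟩⟩
    have hZR : center L ≤ M ⊓ centralizer (M : Set L) := le_inf hZM (center_le_centralizer _)
    obtain ⟨r, hr, hrZ⟩ : ∃ r ∈ M ⊓ centralizer (M : Set L), r ∉ center L := by
      by_contra hc; push Not at hc
      obtain ⟨k, hk⟩ := sq_nondeg le_rfl hl hf hZM fun x hx hxZ => by
        by_contra h2; push Not at h2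
        refine hxZ (hc x ⟨hx, mem_centralizer_iff.2 fun y hy => ?_⟩)
        have := h2 y hy (hMM (commutator_mem_commutator hy hx))
        calc y * x = (y * x * y⁻¹ * x⁻¹) * (x * y) := by group
          _ = x * y := by rw [this, one_mul]
      rw [hM8] at hk
      have : k ≤ 3 := by nlinarith
      interval_cases k <;> omega
    have i2 : (center L).relIndex (M ⊓ centralizer (M : Set L)) = 2 := by
      have a1 := four_le_of_nc hMn
      have a2 := Transfer.card_mul_relIndex hZM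
      have a3 := two_mul_card_le (lt_of_le_of_ne hZR fun e => hrZ (e ▸ hr))
      rw [hM8] at a2
      exact idx2_of_card hZR (by omega)
    have hsy := sylowIn_top (Q.mapSurjective hs)
    have d1 := (hsy.fitting_decomp hT').1
    rw [← hsy.commutator_inf_of_comm hT', ← _root_.commutator_def, hper, top_inf_eq, top_inf_eq] at d1
    have hrQ : (r : L ⧸ center L) ∈ ((Q.mapSurjective hs : Sylow 2 _) : Subgroup (L ⧸ center L)) := by
      have := hr.1
      rw [hMc] at this; exact this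
    refine hrZ ((QuotientGroup.eq_one_iff r).1 (mem_bot.1 (d1.le ⟨⟨hrQ, mem_centralizer_iff.2 fun m hm => ?_⟩, hrQ⟩)))
    obtain ⟨n, rfl⟩ := QuotientGroup.mk_surjective m
    have hnM : ∀ x ∈ M, n * x * n⁻¹ ∈ M := fun x hx => by
      rw [hMc] at hx ⊢
      exact conj_mem_of_mem_normalizer (x := (x : L ⧸ center L)) hm hx
    have hnM' : ∀ x ∈ M, n⁻¹ * x * n⁻¹⁻¹ ∈ M := fun x hx => by
      rw [hMc] at hx ⊢
      exact conj_mem_of_mem_normalizer (x := (x : L ⧸ center L)) (inv_mem hm) hx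
    have h1 : n * r * n⁻¹ ∈ M ⊓ centralizer (M : Set L) := ⟨hnM r hr.1, mem_centralizer_iff.2 fun x hx => by
      have := mem_centralizer_iff.1 hr.2 _ (hnM' x hx)
      calc x * (n * r * n⁻¹) = n * (n⁻¹ * x * n⁻¹⁻¹ * r) * n⁻¹ := by group
        _ = _ := by rw [this]; group⟩
    have h2 := mul_mem_of_idx2 i2 (inv_mem hr) h1 (by rwa [inv_mem_iff])
      (fun h => hrZ (((nrm_of_normal ⊤ (center L)).mem_iff (mem_top n) r).1 h))
    rw [← QuotientGroup.eq] at h2
    rw [← mul_inv_eq_iff_eq_mul]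
    exact h2.symm
  · obtain ⟨Q, rfl⟩ := Sylow.mapSurjective_surjective hs 2 T
    rw [Sylow.coe_mapSurjective, comm_map_iff] at hT
    obtain ⟨h1, h2⟩ := (f3 Q).resolve_left hT
    rw [← card_map_mk] at h1 h2
    refine ⟨h1, fun h16 x hx hx1 => ?_⟩
    obtain ⟨x, hxQ, rfl⟩ := hx
    obtain ⟨y, hy, h3, h4⟩ := h2 h16 x hxQ fun h => hx1 ((QuotientGroup.eq_one_iff x).2 h)
    refine ⟨y, mem_map_of_mem _ hy, ?_, fun h => h4 ?_⟩
    · have := (QuotientGroup.eq_one_iff _).2 h3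
      simp only [QuotientGroup.mk_mul, QuotientGroup.mk_inv] at this
      rw [QuotientGroup.mk'_apply]
      calc (y : L ⧸ center L) * x = ((y : L ⧸ center L) * x * (y : L ⧸ center L)⁻¹ * (x : L ⧸ center L)⁻¹) * (x * y) := by
            group
        _ = _ := by rw [this, one_mul]
    · obtain ⟨k, hk⟩ := mem_zpowers_iff.1 h
      rw [hcm ⟨k, hk.symm⟩]; group

/-- Central type data: `ν` is a faithful linear character of the central subgroup `Z` with a single
irreducible character above it. -/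
structure LD {G : Type*} [Group G] [Finite G] (Z : Subgroup G) (ν : G → ℂ) : Prop where
  cen : Z ≤ center G
  lin : LinOn Z ν
  fth : ∀ z ∈ Z, ν z = 1 → z = 1
  uniq : ∃ χ, IrrOver ⊤ Z ν = {χ}
  hyp : ∀ p : ℕ, p.Prime → p ^ 6 ∣ Z.index → ∀ P : Subgroup G, IsPGroup p P → ⁅P, P⁆ ≤ Z

namespace LD

variable (h : LD Z ν)
include h

theorem normal : Z.Normal := (nrm_cen h.cen ⊤).normal

theorem sylow {p : ℕ} [hp : Fact p.Prime] (P : Sylow p G) : (∃ a, Z.relIndex ((P : Subgroup G) ⊔ Z) = p ^ a) ∧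
    ∃ ξ, IrrOver ((P : Subgroup G) ⊔ Z) Z ν = {ξ} := by
  haveI := h.normal
  obtain ⟨χ, hχ⟩ := h.uniq
  obtain ⟨m, hm⟩ := P.isPGroup'.exists_card_eq
  obtain ⟨a, -, ha⟩ := (Nat.dvd_prime_pow hp.out).1 (hm ▸ relIndex_dvd_card Z (P : Subgroup G))
  rw [← relIndex_sup_right] at ha
  refine ⟨⟨a, ha⟩, fram_sylow hp.out le_sup_right le_top (nrm_cen h.cen _) h.lin.irrOn (inv_cen h.cen _ ν) hχ ha
    fun hd => P.not_dvd_index ?_⟩
  rw [relIndex_top_right] at hd
  exact hd.trans (index_dvd_of_le le_sup_left)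

theorem star {p : ℕ} [Fact p.Prime] (P : Sylow p G) {x : G} (hx : x ∈ (P : Subgroup G) ⊔ Z) (hxZ : x ∉ Z) :
    ∃ y ∈ (P : Subgroup G), y * x * y⁻¹ * x⁻¹ ∈ Z ∧ y * x * y⁻¹ * x⁻¹ ≠ 1 := by
  obtain ⟨ξ, hξ⟩ := (h.sylow P).2
  obtain ⟨y, hy, h1⟩ := star_of_uniq h.cen h.lin le_sup_right hξ hx hxZ
  obtain ⟨u, hu, z, hz, rfl⟩ := exists_mul_of_mem_sup_nrm (nrm_cen h.cen _) hy
  refine ⟨u, hu, ?_⟩
  have : u * z * x * (u * z)⁻¹ * x⁻¹ = u * x * u⁻¹ * x⁻¹ := by
    rw [mul_assoc u z, ← mem_center_iff.1 (h.cen hz) x]; group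
  rwa [this] at h1

theorem two (P : Sylow 2 G) : ⁅(P : Subgroup G), (P : Subgroup G)⁆ ≤ Z ∨ Z.relIndex P ≤ 16 := by
  haveI := h.normal
  by_cases h6 : 2 ^ 6 ∣ Z.index
  · exact Or.inl (h.hyp 2 Nat.prime_two h6 P P.isPGroup')
  right
  obtain ⟨a, ha⟩ := (h.sylow P).1
  obtain ⟨k, hk⟩ := sq_nondeg h.cen h.lin h.fth (le_sup_right : Z ≤ (P : Subgroup G) ⊔ Z) fun x hx hxZ => by
    obtain ⟨y, hy, h1⟩ := h.star P hx hxZ
    exact ⟨y, mem_sup_left hy, h1⟩
  have h1 : 2 ^ a ∣ Z.index := ha ▸ relIndex_dvd_index_of_le le_sup_right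
  have h2 : a ≤ 5 := by
    by_contra hc
    exact h6 ((pow_dvd_pow 2 (by omega)).trans h1)
  rw [← relIndex_sup_right, ha]
  rw [ha] at hk
  have h3 : a ≠ 5 := by
    rintro rfl
    have : k ≤ 6 := by nlinarith
    interval_cases k <;> omega
  exact (Nat.pow_le_pow_right (by norm_num) (show a ≤ 4 by omega))

theorem no_comp (hF : fittingSubgroup G ≤ Z) {L : Subgroup G} (hL : IsComponent L) : False := by
  haveI := h.normal
  have hZL : center L = Z.comap L.subtype := by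
    refine le_antisymm (fun x hx => hF ?_) fun x hx =>
      mem_center_iff.2 fun y => Subtype.ext (mem_center_iff.1 (h.cen hx) y)
    exact Layer.fitOf_le_of_isSubnormal hL.1 (mem_map_of_mem _ (Layer.center_le_fit hx))
  refine qs_contra hL.2 (ν := ν ∘ L.subtype) (h.lin.comp _ fun x hx => by rwa [hZL] at hx)
    (fun z hz e => Subtype.ext (h.fth _ (by rwa [hZL] at hz) e)) (fun p hp Q hQ hc => ?_) fun T => ?_
  · haveI : Fact p.Prime := ⟨hp⟩
    haveI := hL.2.1
    have h1 := inf_commutator_inf_center_le (Q : Subgroup L) (coprime_relIndex_commutator Q.card_coprime_index)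
    rw [commutator_self_eq_bot hc, Group.IsPerfect.commutator_eq_top, inf_top_eq] at h1
    have hQ' := sylowIn_map_subtype Q
    obtain ⟨P, hP⟩ := hQ'.isPGroup.exists_le_sylow
    have e : (P : Subgroup G) ⊓ L = (Q : Subgroup L).map L.subtype :=
      hQ'.eq_of_le (P.isPGroup'.to_inf_left) (le_inf hP hQ'.le) inf_le_right
    have hne : (Q : Subgroup L).map L.subtype ≠ ⊥ := fun e => hQ (by
      rw [(map_eq_bot_iff_of_injective _ L.subtype_injective).1 e]; exact bot_le)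
    have hn : (P : Subgroup G) ⊓ normalizer (L : Set G) ≤
        normalizer (((Q : Subgroup L).map L.subtype : Subgroup G) : Set G) := by
      rw [← e]
      exact Nrm.le_normalizer fun g hg x hx => ⟨nrm_self (P : Subgroup G) g hg.1 x hx.1,
        conj_mem_of_mem_normalizer hg.2 hx.2⟩
    obtain ⟨⟨x, hxQ, hxc⟩, hx1⟩ := ne_bot_iff_exists_ne_one.1 (Core.inf_centralizer_ne_bot_of_isPGroup
      hQ'.isPGroup (P.isPGroup'.to_inf_left) hn hne)
    have hx1' : x ≠ 1 := fun e => hx1 (Subtype.ext e)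
    obtain ⟨x, hxQ', rfl⟩ := hxQ
    have hxZ : x ∉ center L := fun hx => hx1' (by rw [mem_bot.1 (h1 ⟨hxQ', hx⟩)]; rfl)
    have hxP : L.subtype x ∈ (P : Subgroup G) := hP (mem_map_of_mem _ hxQ')
    obtain ⟨y, hy, h2, h3⟩ := h.star P (mem_sup_left hxP) (by rw [hZL] at hxZ; exact hxZ)
    by_cases hyN : y ∈ normalizer (L : Set G)
    · refine h3 ?_
      rw [mem_centralizer_iff.1 hxc y ⟨hy, hyN⟩]; group
    · have h4 := Layer.IsComponent.commutator_eq_bot_of_ne hL (Layer.IsComponent.conj hL y)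
        fun e => hyN (cj_eq_iff.1 e.symm)
      refine hxZ (mem_center_iff.2 fun l => Subtype.ext ?_)
      have h5 : y * x * y⁻¹ ∈ L.map (MulAut.conj y).toMonoidHom := mem_map_of_mem _ x.2
      have h6 := commutatorElement_eq_one_iff_mul_comm.1 (mem_bot.1 (h4 ▸ commutator_mem_commutator l.2 h5))
      have h7 := mem_center_iff.1 (h.cen h2) l
      simp only [coe_subtype] at h7
      simp only [Subgroup.coe_mul]
      calc (l : G) * x = (y * x * y⁻¹ * (x : G)⁻¹)⁻¹ * ((y * x * y⁻¹ * (x : G)⁻¹) * l) * x := by group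
        _ = (y * x * y⁻¹ * (x : G)⁻¹)⁻¹ * (l * (y * x * y⁻¹)) := by rw [← h7]; group
        _ = _ := by rw [h6]; group
  · have hT' := sylowIn_map_subtype T
    obtain ⟨P, hP⟩ := hT'.isPGroup.exists_le_sylow
    rcases h.two P with h1 | h1
    · left
      rw [hZL, ← map_le_iff_le_comap, map_commutator]
      exact (commutator_mono hP hP).trans h1
    right
    rw [hZL, relIndex_comap]
    have h2 := relIndex_le_of_le_right hP (Clifford.relIndex_ne_zero Z P)
    refine ⟨h2.trans h1, fun h16 x hx hxZ => ?_⟩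
    have h3 : (P : Subgroup G) ≤ (T : Subgroup L).map L.subtype ⊔ Z := by
      have a1 := relIndex_mul_relIndex Z ((T : Subgroup L).map L.subtype ⊔ Z) ((P : Subgroup G) ⊔ Z)
        le_sup_right (sup_le_sup_right hP _)
      rw [relIndex_sup_right, relIndex_sup_right, h16] at a1
      have a2 := Clifford.relIndex_ne_zero ((T : Subgroup L).map L.subtype ⊔ Z) ((P : Subgroup G) ⊔ Z)
      exact le_sup_left.trans ((relIndex_eq_one (K := (P : Subgroup G) ⊔ Z)).1 (by omega))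
    obtain ⟨y, hy, h4⟩ := h.star P (mem_sup_left (hP (mem_map_of_mem _ hx))) hxZ
    obtain ⟨u, hu, z, hz, rfl⟩ := exists_mul_of_mem_sup_nrm (nrm_cen h.cen _) (h3 hy)
    obtain ⟨u, hu', rfl⟩ := hu
    have : L.subtype u * z * L.subtype x * (L.subtype u * z)⁻¹ * (L.subtype x)⁻¹ =
        L.subtype (u * x * u⁻¹ * x⁻¹) := by
      rw [mul_assoc _ z, ← mem_center_iff.1 (h.cen hz) (L.subtype x)]
      simp only [map_mul, map_inv]; group
    rw [this] at h4
    exact ⟨u, hu', h4.1, fun e => h4.2 (by rw [e, map_one])⟩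

end LD

end Cfsg.Lib.Gg6
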