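import Cfsg.Agent.Lib.Block2.Gg6C
import Cfsg.Agent.Lib.Amalg.Inv3

/-! Groups of central type with small nonabelian Sylow subgroups are solvable (Gagola). -/

set_option autoImplicit false

namespace Cfsg.Lib.Gg6

open Subgroup Cfsg.Lib.Clifford Finset
open scoped commutatorElement ComplexConjugate

universe u

section Solv

variable {G : Type*} [Group G] {K M N T C : Subgroup G}

theorem sm_trans (h1 : SolvMod K M) (h2 : SolvMod M N) : SolvMod K N := by
  obtain ⟨a, ha⟩ := h1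
  obtain ⟨b, hb⟩ := h2
  exact ⟨b + a, by rw [Function.iterate_add_apply]; exact (iterate_commutator_mono ha b).trans hb⟩

theorem sm_ab (h : ⁅K, K⁆ ≤ N) : SolvMod K N := ⟨1, h⟩

theorem sm_sup [C.Normal] (h : SolvMod T C) : SolvMod (T ⊔ C) C := by
  obtain ⟨a, ha⟩ := h
  have key : ∀ n, (fun X : Subgroup G => ⁅X, X⁆)^[n] (T ⊔ C) ≤ (fun X : Subgroup G => ⁅X, X⁆)^[n] T ⊔ C := by
    intro n
    induction n with
    | zero => exact le_rfl
    | succ n ih =>
      rw [Function.iterate_succ_apply', Function.iterate_succ_apply']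
      exact (commutator_mono ih ih).trans (commutator_sup_le le_top (nrm_of_normal ⊤ C))
  exact ⟨a, (key a).trans (sup_le ha le_rfl)⟩

theorem sm_map {G' : Type*} [Group G'] (h : SolvMod K N) (f : G →* G') : SolvMod (K.map f) (N.map f) := by
  obtain ⟨a, ha⟩ := h
  have key : ∀ n, (fun X : Subgroup G' => ⁅X, X⁆)^[n] (K.map f) =
      ((fun X : Subgroup G => ⁅X, X⁆)^[n] K).map f := by
    intro n
    induction n with
    | zero => rfl
    | succ n ih => rw [Function.iterate_succ_apply', Function.iterate_succ_apply', ih, map_commutator]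
  exact ⟨a, by rw [key]; exact map_mono ha⟩

theorem solvable_of_sm [N.Normal] (h : SolvMod ⊤ N) : Group.IsSolvable (G ⧸ N) := by
  obtain ⟨a, ha⟩ := sm_map h (QuotientGroup.mk' N)
  rw [map_top_of_surjective _ (QuotientGroup.mk'_surjective N), iterate_commutator_top,
    (Subgroup.map_eq_bot_iff N).2 (QuotientGroup.ker_mk' N).ge] at ha
  exact ⟨⟨a, le_bot_iff.1 ha⟩⟩

end Solv

variable {G : Type*} [Group G] [Finite G] {Z A : Subgroup G} {ν ψ : G → ℂ}

theorem cent_idx {p : ℕ} [hp : Fact p.Prime] {P A : Subgroup G} (hP : IsPGroup p P) (hAP : A ≤ P)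
    (hn : Nrm P A) (hA : A ≠ ⊥) (hc : Nat.card A ∣ p ^ 2) :
    (centralizer (A : Set G)).relIndex P * p ≤ Nat.card A := by
  obtain ⟨⟨z, hzA, hzc⟩, hz1⟩ := ne_bot_iff_exists_ne_one.1 (Core.inf_centralizer_ne_bot_of_isPGroup
    (hP.to_le hAP) hP hn.le_normalizer hA)
  have hz1' : z ≠ 1 := fun e => hz1 (Subtype.ext e)
  have hzl : zpowers z ≤ A := zpowers_le_of_mem hzA
  have hpd : ∀ B ≤ A, B ≠ ⊥ → p ∣ Nat.card B := fun B hB h1 =>
    ((hP.to_le (hB.trans hAP)).card_eq_or_dvd).resolve_left fun e => h1 (card_eq_one.1 e)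
  have hp1 := hpd _ hzl (by rwa [Ne, zpowers_eq_bot])
  by_cases e : A ≤ zpowers z
  · have : P ≤ centralizer (A : Set G) := fun x hx => mem_centralizer_iff.2 fun a ha => by
      obtain ⟨k, rfl⟩ := mem_zpowers_iff.1 (e ha)
      exact (Commute.zpow_right (mem_centralizer_iff.1 hzc x hx) k).symm
    rw [relIndex_eq_one.2 this, one_mul]
    exact Nat.le_of_dvd Nat.card_pos (hpd A le_rfl hA)
  obtain ⟨a, ha, haz⟩ := SetLike.not_le_iff_exists.1 e
  have l1 : zpowers z < zpowers z ⊔ zpowers a :=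
    lt_of_le_of_ne le_sup_left fun h => haz (h ▸ mem_sup_right (mem_zpowers a))
  have l2 : zpowers z ⊔ zpowers a ≤ A := sup_le hzl (zpowers_le_of_mem ha)
  have c1 := Transfer.card_lt_of_lt l1
  have c0 := Nat.le_of_dvd Nat.card_pos hp1
  have hsq : ∀ B ≤ A, p < Nat.card B → Nat.card B = p ^ 2 := fun B hB h => by
    obtain ⟨i, hi, e⟩ := (Nat.dvd_prime_pow hp.out).1 ((card_dvd_of_le hB).trans hc)
    rw [e] at h ⊢
    have : 1 < i := (Nat.pow_lt_pow_iff_right hp.out.one_lt).1 (by rwa [pow_one])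
    rw [show i = 2 by omega]
  have c2 := hsq _ l2 (by omega)
  have c3 := hsq A le_rfl (lt_of_lt_of_le (by omega) (card_le_of_le l2))
  have e2 : zpowers z ⊔ zpowers a = A := eq_of_le_of_card_ge l2 (by rw [c2, c3])
  have e3 : (centralizer (A : Set G)).relIndex P = (centralizer ({a} : Set G)).relIndex P := by
    rw [← inf_relIndex_right, ← inf_relIndex_right (centralizer {a})]
    congr 1
    refine le_antisymm (inf_le_inf_right _ (centralizer_le (Set.singleton_subset_iff.2 ha))) fun x hx => ⟨?_, hx.2⟩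
    have : A ≤ centralizer {x} := e2 ▸ sup_le
      (zpowers_le_of_mem (mem_centralizer_singleton_iff.2 (mem_centralizer_iff.1 hzc x hx.2).symm))
      (zpowers_le_of_mem (mem_centralizer_singleton_iff.2 (mem_centralizer_singleton_iff.1 hx.1).symm))
    exact mem_centralizer_iff.2 fun b hb => mem_centralizer_singleton_iff.1 (this hb)
  have ha1 : a ≠ 1 := fun h => haz (h ▸ one_mem _)
  have b1 := Amalg.Inv3.relIndex_le (W := P) (x := a) (Z := (A : Set G) \ {1}) fun w hw =>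
    ⟨hn w hw a ha, fun h => ha1 (by simpa using h)⟩
  have b2 : ((A : Set G) \ {1}).ncard < Nat.card A :=
    Set.ncard_sdiff_singleton_lt_of_mem A.one_mem (Set.toFinite _)
  obtain ⟨m, hm⟩ := hP.exists_card_eq
  obtain ⟨j, -, hj⟩ := (Nat.dvd_prime_pow hp.out).1 (hm ▸ relIndex_dvd_card (centralizer ({a} : Set G)) P)
  rw [e3, hj, c3, ← pow_succ]
  rw [hj] at b1
  have : j < 2 := (Nat.pow_lt_pow_iff_right hp.out.one_lt).1 (c3 ▸ lt_of_le_of_lt b1 b2)
  exact Nat.pow_le_pow_right hp.out.pos (by omega)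

omit [Finite G] in
theorem mem_cm [Z.Normal] {k : G} :
    k ∈ (centralizer ((A.map (QuotientGroup.mk' Z) : Subgroup (G ⧸ Z)) : Set (G ⧸ Z))).comap (QuotientGroup.mk' Z) ↔
      ∀ a ∈ A, a⁻¹ * (k * a * k⁻¹) ∈ Z := by
  rw [mem_comap, mem_centralizer_iff]
  constructor
  · intro h a ha
    rw [← QuotientGroup.eq]
    have := h _ (mem_map_of_mem (QuotientGroup.mk' Z) ha)
    simp only [QuotientGroup.mk'_apply] at this
    simp only [QuotientGroup.mk_mul, QuotientGroup.mk_inv]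
    rw [← this]; group
  · rintro h _ ⟨a, ha, rfl⟩
    have := h a ha
    rw [← QuotientGroup.eq] at this
    simp only [QuotientGroup.mk_mul, QuotientGroup.mk_inv] at this
    simp only [QuotientGroup.mk'_apply]
    exact (mul_inv_eq_iff_eq_mul.1 this.symm).symm

theorem LD.case_one (h : LD Z ν) (hA : Chief ⊤ A Z) (hab : ⁅A, A⁆ ≤ Z) (hψ : ψ ∈ IrrOver A Z ν)
    (hs : SolvMod (inertia ⊤ A ψ) A) : SolvMod ⊤ Z := by
  classical
  haveI := h.normal
  haveI : A.Normal := hA.nK.normal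
  have hZA := hA.lt.le
  obtain ⟨C, hC⟩ : ∃ C, C = (centralizer ((A.map (QuotientGroup.mk' Z) : Subgroup (G ⧸ Z)) : Set (G ⧸ Z))).comap
    (QuotientGroup.mk' Z) := ⟨_, rfl⟩
  haveI : C.Normal := by rw [hC]; infer_instance
  have mC : ∀ {k}, k ∈ C ↔ ∀ a ∈ A, a⁻¹ * (k * a * k⁻¹) ∈ Z := fun {k} => by rw [hC, mem_cm]
  have hAC : A ≤ C := fun k hk => mC.2 fun a ha => by
    have := hab (commutator_mem_commutator (inv_mem ha) hk)
    rw [commutatorElement_def] at this
    convert this using 1; group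
  obtain ⟨hψ1, hψ2⟩ := mem_IrrOver.1 hψ
  have hcT : ∀ S : Subgroup G, ∀ x ∈ S, x ∈ centralizer (A : Set G) → x ∈ inertia S A ψ := fun S x hx hc =>
    (mem_inertia (nrm_of_normal S A)).2 ⟨hx, fun n hn => by
      rw [← mem_centralizer_iff.1 hc n hn, mul_inv_cancel_right]⟩
  rcases hA.max (A ⊓ centralizer (C : Set G)) (le_inf hZA (h.cen.trans (center_le_centralizer _))) inf_le_left
    (nrm_of_normal _ _) with e | e
  · have hsum : ∀ a ∈ A, (∑ c ∈ elems C, cj c ψ) a = ψ a * ∑ c ∈ elems C, ν (a⁻¹ * (c * a * c⁻¹)) := by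
      intro a ha
      rw [Finset.sum_apply, mul_sum]
      refine sum_congr rfl fun c hc => ?_
      rw [← over_mul h.cen h.lin hZA hψ ha (mC.1 (mem_elems.1 hc) a ha), cj_apply]
      congr 1; group
    have hv : ∀ a ∈ A, a ∉ Z → (∑ c ∈ elems C, cj c ψ) a = 0 := fun a ha haZ => by
      obtain ⟨c, hc, hca⟩ : ∃ c ∈ C, c * a ≠ a * c := by
        by_contra hc; push Not at hc
        exact haZ (e.le ⟨ha, mem_centralizer_iff.2 hc⟩)
      have h1 : ν (a⁻¹ * (c * a * c⁻¹)) ≠ 1 := fun h1 => hca (by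
        have := h.fth _ (mC.1 hc a ha) h1
        calc c * a = a * (a⁻¹ * (c * a * c⁻¹)) * c := by group
          _ = a * c := by rw [this, mul_one])
      have h2 := sum_elems_mul_left hc fun d => ν (a⁻¹ * (d * a * d⁻¹))
      have h3 : ∑ d ∈ elems C, ν (a⁻¹ * (c * d * a * (c * d)⁻¹)) =
          ν (a⁻¹ * (c * a * c⁻¹)) * ∑ d ∈ elems C, ν (a⁻¹ * (d * a * d⁻¹)) := by
        rw [mul_sum]
        refine sum_congr rfl fun d hd => ?_
        have hd' := mC.1 (mem_elems.1 hd) a ha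
        rw [← h.lin.map_mul (mC.1 hc a ha) hd']
        congr 1
        have := mem_center_iff.1 (h.cen hd') c⁻¹
        calc a⁻¹ * (c * d * a * (c * d)⁻¹) = a⁻¹ * (c * a) * (a⁻¹ * (d * a * d⁻¹) * c⁻¹) := by group
          _ = _ := by rw [← this]; group
      rw [h3] at h2
      rw [hsum a ha, eq_zero_of_mul_eq_self_left h1 h2, mul_zero]
    have tr : ∀ φ ∈ IrrOver A Z ν, ∃ c ∈ C, cj c ψ = φ := fun φ hφ => by
      by_contra hc; push Not at hc
      obtain ⟨hφ1, hφ2⟩ := mem_IrrOver.1 hφ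
      have d1 : dot A (∑ c ∈ elems C, cj c ψ) φ = 0 := by
        rw [dot_sum_left]
        exact sum_eq_zero fun c hc' => dot_irr_of_ne (cj_mem_Irr (nrm_of_normal ⊤ A) hψ1 (mem_top c)) hφ1
          (hc c (mem_elems.1 hc'))
      have d2 := dot_of_supp hZA hv φ
      rw [d1, mul_zero, dot_congr_left (φ' := (Nat.card C : ℂ) • ψ) fun z hz => ?_, dot_smul_left,
        dot_congr (φ' := ψ 1 • ν) (ψ' := φ 1 • ν) (fun z hz => ?_) (fun z hz => ?_), dot_smul_left, dot_smul_right,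
        h.lin.irrOn.dot_self] at d2
      · have := Clifford.card_ne_zero C
        have := (irrOn_of_mem hψ1).one_ne_zero
        have := (irrOn_of_mem hφ1).one_ne_zero
        simp_all
      · rw [Pi.smul_apply, smul_eq_mul, ← over_mul h.cen h.lin hZA hψ A.one_mem hz, one_mul]
      · rw [Pi.smul_apply, smul_eq_mul, ← over_mul h.cen h.lin hZA hφ A.one_mem hz, one_mul]
      · rw [Finset.sum_apply, sum_congr rfl (f := fun c => cj c ψ z) (g := fun _ => ψ z) fun c _ => inv_cen h.cen ⊤ ψ c (mem_top c) z hz,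
          sum_const, card_elems]
        simp
    have hTC : inertia ⊤ A ψ ⊔ C = ⊤ := eq_top_iff.2 fun g _ => by
      obtain ⟨c, hc, e1⟩ := tr (cj g ψ) (mem_IrrOver.2 ⟨cj_mem_Irr (nrm_of_normal ⊤ A) hψ1 (mem_top g), by
        rwa [dot_congr_left (φ := cj g ψ) (φ' := ψ) fun z hz => inv_cen h.cen ⊤ ψ g (mem_top g) z hz]⟩)
      have : c * g⁻¹ ∈ inertia ⊤ A ψ := mem_inertia'.2 ⟨mem_top _, by
        rw [cut_of_mem_Irr hψ1, ← cj_cj, e1, cj_cj, mul_inv_cancel, cj_one]⟩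
      have e2 : g = (c * g⁻¹)⁻¹ * c := by group
      rw [e2]
      exact mul_mem (mem_sup_left (inv_mem this)) (mem_sup_right hc)
    have hAZ : ⁅A, C⁆ ≤ center G := commutator_le.2 fun a ha c hc => h.cen (by
      have := mC.1 hc _ (inv_mem ha)
      rw [commutatorElement_def]
      convert this using 1; group)
    have hCC : ⁅⁅C, C⁆, A⁆ = ⊥ := commutator_commutator_eq_bot_of_rotate
      (by rw [commutator_comm C A]
          exact commutator_eq_bot_iff_le_centralizer.2 (hAZ.trans (center_le_centralizer _)))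
      (commutator_eq_bot_iff_le_centralizer.2 (hAZ.trans (center_le_centralizer _)))
    have hCT : ⁅C, C⁆ ≤ inertia ⊤ A ψ := fun x hx =>
      hcT ⊤ x (mem_top x) (commutator_eq_bot_iff_le_centralizer.1 hCC hx)
    rw [← hTC]
    exact sm_trans (sm_sup (hs.mono le_rfl hAC)) (sm_trans (sm_ab hCT) (sm_trans hs (sm_ab hab)))
  exfalso
  have hCA : C ≤ centralizer (A : Set G) := le_centralizer_iff.1 (e.ge.trans inf_le_right)
  have hcm : ∀ a ∈ A, ∀ b ∈ A, a * b = b * a := fun a ha b hb => mem_centralizer_iff.1 (hCA (hAC hb)) a ha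
  obtain ⟨p, hp, hpw, k, hk0, hk⟩ := hA.exists_prime hab
  haveI : Fact p.Prime := ⟨hp⟩
  have hΩ : (IrrOver A Z ν).card = p ^ k := by
    rw [← hk, ← sum_mult_sq_over hZA (nrm_cen h.cen A) h.lin.irrOn (inv_cen h.cen A ν), card_eq_sum_ones]
    refine sum_congr rfl fun φ hφ => ?_
    obtain ⟨h1, h2⟩ := mem_IrrOver.1 hφ
    have := clifford_invOn_deg hZA (nrm_cen h.cen A) (irrOn_of_mem h1) h.lin.irrOn (inv_cen h.cen A ν) h2
    rw [((irrOn_of_mem h1).linOn_of_comm hcm).deg, h.lin.deg, mul_one] at this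
    rw [← this, one_pow]
  obtain ⟨P⟩ : Nonempty (Sylow p G) := inferInstance
  have hAp : IsPGroup p (A.map (QuotientGroup.mk' Z)) := by
    rintro ⟨_, a, ha, rfl⟩
    exact ⟨1, Subtype.ext (by
      rw [pow_one, SubgroupClass.coe_pow, ← map_pow]
      exact (QuotientGroup.eq_one_iff _).2 (hpw a ha))⟩
  have hAP : A.map (QuotientGroup.mk' Z) ≤ (P : Subgroup G).map (QuotientGroup.mk' Z) :=
    (Transfer.sylowIn_top (P.mapSurjective (QuotientGroup.mk'_surjective Z))).le_of_le_normalizer hAp le_top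
      (le_top.trans (normalizer_eq_top _).ge)
  have hAS : A ≤ (P : Subgroup G) ⊔ Z := by
    have := map_le_iff_le_comap.1 hAP
    rwa [comap_map_eq, QuotientGroup.ker_mk'] at this
  obtain ⟨⟨a, ha⟩, ξ, hξ⟩ := h.sylow P
  have ho := orb_eq_IrrOver hZA hAS le_rfl (nrm_of_normal _ A) (nrm_cen h.cen _) h.lin.irrOn (inv_cen h.cen _ ν) hξ hψ
  have hi := card_orb ((P : Subgroup G) ⊔ Z) A ψ
  rw [ho, hΩ] at hi
  have hle : p ^ k ≤ C.relIndex ((P : Subgroup G) ⊔ Z) := by
    rw [hi, ← inf_relIndex_right C]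
    exact relIndex_le_of_le_left (fun x hx => hcT _ x hx.2 (hCA hx.1)) (Clifford.relIndex_ne_zero _ _)
  have hp1 : 1 < p ^ k := Nat.one_lt_pow hk0.ne' hp.one_lt
  by_cases h6 : p ^ 6 ∣ Z.index
  · have h1 := (commutator_sup_le le_top (nrm_of_normal ⊤ Z)).trans (sup_le (h.hyp p hp h6 P P.isPGroup') le_rfl)
    have : (P : Subgroup G) ⊔ Z ≤ C := fun x hx => mC.2 fun b hb => by
      have := h1 (commutator_mem_commutator (inv_mem (hAS hb)) hx)
      rw [commutatorElement_def] at this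
      convert this using 1; group
    rw [relIndex_eq_one.2 this] at hle
    omega
  have h1 : p ^ a ∣ Z.index := ha ▸ relIndex_dvd_index_of_le le_sup_right
  have h2 : a ≤ 5 := by
    by_contra hc
    exact h6 ((pow_dvd_pow p (by omega)).trans h1)
  have hAT : A ≤ inertia ((P : Subgroup G) ⊔ Z) A ψ := le_inertia hAS (nrm_of_normal _ A) (irrOn_of_mem hψ1).classOn
  have h3 : p ^ (k + k) ∣ p ^ a := by
    rw [← ha, ← relIndex_mul_relIndex Z A _ hZA hAS, ← relIndex_mul_relIndex A _ _ hAT inertia_le, ← hi, hk, pow_add]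
    exact Nat.mul_dvd_mul_left _ (dvd_mul_left _ _)
  have h4 := (Nat.pow_dvd_pow_iff_le_right hp.one_lt).1 h3
  have h5 := cent_idx (P.isPGroup'.map (QuotientGroup.mk' Z)) hAP (nrm_of_normal _ _)
    (fun e => hA.lt.not_ge (by rwa [Subgroup.map_eq_bot_iff, QuotientGroup.ker_mk'] at e))
    (by rw [card_map_mk, hk]; exact pow_dvd_pow p (by omega))
  rw [card_map_mk, hk] at h5
  rw [hC, relIndex_comap, Subgroup.map_sup, (Subgroup.map_eq_bot_iff Z).2 (QuotientGroup.ker_mk' Z).ge,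
    sup_bot_eq] at hle
  have := hp.two_le
  nlinarith

/-- The hypotheses of the induction. -/
structure FD {Γ : Type*} [Group Γ] [Finite Γ] (K N : Subgroup Γ) (θ : Γ → ℂ) : Prop where
  le : N ≤ K
  nrm : Nrm K N
  irr : IrrOn N θ
  inv : InvOn K N θ
  uniq : ∃ χ, IrrOver K N θ = {χ}
  hyp : ∀ p : ℕ, p.Prime → p ^ 6 ∣ N.relIndex K → ∀ P ≤ K, IsPGroup p P → ⁅P, P⁆ ≤ N

theorem uniq_of {α : Type*} {s : Finset α} (h1 : s.Nonempty) (h2 : ∀ a ∈ s, ∀ b ∈ s, a = b) : ∃ a, s = {a} := by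
  obtain ⟨a, ha⟩ := h1
  exact ⟨a, eq_singleton_iff_unique_mem.2 ⟨ha, fun b hb => h2 b hb a ha⟩⟩

theorem FD.reduce {Γ : Type u} [Group Γ] [Finite Γ] {K N : Subgroup Γ} {θ : Γ → ℂ} (h : FD K N θ) :
    ∃ (G : Type u) (_ : Group G) (_ : Finite G) (Z : Subgroup G) (ν : G → ℂ), LD Z ν ∧
      Z.index = N.relIndex K ∧ (SolvMod ⊤ Z → SolvMod K N) := by
  obtain ⟨Δ, _, _, π, τ, ν, c⟩ := exists_cover h.le h.nrm h.irr h.inv
  obtain ⟨χ, hχ⟩ := h.uniq
  have hn : Nrm ⊤ (N.comap π) := c.nrm_comap ⊤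
  have u1 : ∀ β ∈ IrrOver ⊤ (N.comap π) ν, ∀ γ ∈ IrrOver ⊤ (N.comap π) ν, β = γ := fun β hβ γ hγ => by
    obtain ⟨b1, b2⟩ := mem_IrrOver.1 hβ
    obtain ⟨g1, g2⟩ := mem_IrrOver.1 hγ
    obtain ⟨χ1, e1, f1⟩ := c.exists_of_over' h.le le_rfl (c.comap_self ▸ irrOn_of_mem b1) b2
    obtain ⟨χ2, e2, f2⟩ := c.exists_of_over' h.le le_rfl (c.comap_self ▸ irrOn_of_mem g1) g2
    rw [hχ, mem_singleton] at e1 e2
    rw [e1, c.comap_self] at f1
    rw [e2, c.comap_self] at f2
    exact eq_of_mem_Irr b1 g1 (gallagher_inj le_top hn c.char c.lin.irrOn c.inv c.irr_mul (irrOn_of_mem b1)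
      (irrOn_of_mem g1) b2 g2 fun x hx => (f1 x hx).symm.trans (f2 x hx))
  haveI : (kerOn (N.comap π) ν).Normal := (nrm_kerOn hn c.inv).normal
  obtain ⟨f, hf⟩ : ∃ f : Δ →* Δ ⧸ kerOn (N.comap π) ν, f = QuotientGroup.mk' _ := ⟨_, rfl⟩
  have hfs : Function.Surjective f := hf ▸ QuotientGroup.mk'_surjective _
  have hfk : f.ker = kerOn (N.comap π) ν := hf ▸ QuotientGroup.ker_mk' _
  have mk : ∀ x, f x = 1 ↔ x ∈ N.comap π ∧ ν x = 1 := fun x => by
    rw [← MonoidHom.mem_ker, hfk, c.lin.mem_kerOn]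
  have hcm : ((N.comap π).map f).comap f = N.comap π := comap_map_eq_self (hfk.le.trans kerOn_le)
  obtain ⟨μ, m1, -, m3⟩ := c.lin.charOn.exists_comp f fun x hx => by rw [((mk x).1 hx.2).2, c.lin.2]
  have ml : LinOn ((N.comap π).map f) μ := ⟨m1, by rw [← map_one f, ← m3 1 (one_mem _), c.lin.2]⟩
  have hidx : ((N.comap π).map f).index = N.relIndex K := by
    rw [← index_comap_of_surjective _ hfs, hcm, ← c.relIndex_comap N le_rfl, c.comap_self, relIndex_top_right]
  refine ⟨Δ ⧸ kerOn (N.comap π) ν, inferInstance, inferInstance, (N.comap π).map f, μ, ⟨?_, ml, ?_, ?_, ?_⟩, hidx,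
    fun hs => ?_⟩
  · rintro _ ⟨n, hn', rfl⟩
    refine mem_center_iff.2 fun g => ?_
    obtain ⟨g, rfl⟩ := hfs g
    have h1 := hn g (mem_top g) n hn'
    have := (mk (g * n * g⁻¹ * n⁻¹)).2 ⟨mul_mem h1 (inv_mem hn'), by
      rw [c.lin.map_mul h1 (inv_mem hn'), c.inv g (mem_top g) n hn', c.lin.map_inv hn',
        mul_inv_cancel₀ (c.lin.ne_zero hn')]⟩
    simp only [map_mul, map_inv] at this
    calc f g * f n = (f g * f n * (f g)⁻¹ * (f n)⁻¹) * (f n * f g) := by group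
      _ = _ := by rw [this, one_mul]
  · rintro _ ⟨n, hn', rfl⟩ e
    exact (mk n).2 ⟨hn', (m3 n hn').trans e⟩
  · have lift : ∀ β ∈ IrrOver ⊤ ((N.comap π).map f) μ, β ∘ f ∈ IrrOver ⊤ (N.comap π) ν := fun β hβ => by
      obtain ⟨b1, b2⟩ := mem_IrrOver.1 hβ
      refine mem_IrrOver.2 ⟨mem_Irr.2 ⟨IrrOn.comp (by
        rw [map_top_of_surjective _ hfs]; exact irrOn_of_mem b1), fun x hx => absurd (mem_top x) hx⟩, ?_⟩
      rwa [dot_congr_right _ (ψ' := μ ∘ f) m3, dot_comp]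
    refine uniq_of (ml.irrOn.IrrOver_nonempty le_top) fun β hβ γ hγ => funext fun x => ?_
    obtain ⟨x, rfl⟩ := hfs x
    exact congrFun (u1 _ (lift β hβ) _ (lift γ hγ)) x
  · intro p hp h6 P hP
    haveI : Fact p.Prime := ⟨hp⟩
    obtain ⟨Q, hQ⟩ := hP.exists_le_sylow
    obtain ⟨R, rfl⟩ := Sylow.mapSurjective_surjective hfs p Q
    have h1 := h.hyp p hp (hidx ▸ h6) ((R : Subgroup Δ).map π) (c.range ▸ map_le_range π _) (R.isPGroup'.map π)
    rw [← map_commutator, map_le_iff_le_comap] at h1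
    refine (commutator_mono hQ hQ).trans ?_
    rw [Sylow.coe_mapSurjective, ← map_commutator]
    exact map_mono h1
  · have h1 := sm_map (hs.comap f) π
    rwa [hcm, c.map_comap h.le, comap_top, ← MonoidHom.range_eq_map, c.range] at h1

theorem FD.solvMod (n : ℕ) : ∀ {Γ : Type u} [Group Γ] [Finite Γ] {K N : Subgroup Γ} {θ : Γ → ℂ},
    FD K N θ → N.relIndex K = n → SolvMod K N := by
  induction n using Nat.strong_induction_on with
  | _ n ih =>
  intro Γ _ _ K N θ h hn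
  obtain ⟨G, _, _, Z, ν, hL, hi, hs⟩ := h.reduce
  refine hs ?_
  haveI := hL.normal
  by_cases hF : fittingSubgroup G ≤ Z
  · by_cases hZ : Z = ⊤
    · exact ⟨0, hZ.ge⟩
    exfalso
    rcases Layer.exists_component_or_nilpotent (Z := Z) (C := ⊤) Subgroup.IsSubnormal.top (lt_top_iff_ne_top.2 hZ)
      (by rw [commutator_comm]
          exact commutator_eq_bot_iff_le_centralizer.2 (hL.cen.trans (center_le_centralizer _))) with
      ⟨L, hc, -⟩ | ⟨S, h1, h2, -, h3⟩
    · exact hL.no_comp hF hc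
    · exact h2.not_ge ((Layer.le_fit_of_isSubnormal h1 h3).trans hF)
  haveI := Layer.fit_normal (G := G)
  haveI := Layer.fit_solvable (G := G)
  obtain ⟨A, hAF, hA⟩ := exists_chief_above (H := ⊤)
    (lt_of_le_of_ne (hL.cen.trans Layer.center_le_fit) fun e => hF e.ge) le_top (nrm_of_normal _ _) (nrm_of_normal _ _)
  have hab := hA.abelian ((solvMod_of_isSolvable_subgroup (K := fittingSubgroup G) Z).mono hAF le_rfl)
  have hZA := hA.lt.le
  obtain ⟨ψ, hψ⟩ := hL.lin.irrOn.IrrOver_nonempty hZA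
  obtain ⟨h1, h2⟩ := mem_IrrOver.1 hψ
  have hAT : A ≤ inertia ⊤ A ψ := le_inertia le_top hA.nK (irrOn_of_mem h1).classOn
  have hdv : A.relIndex (inertia ⊤ A ψ) ∣ A.index := relIndex_dvd_index_of_le hAT
  have hlt : A.index < Z.index := by
    rw [← relIndex_mul_index hZA]
    have a1 : Z.relIndex A ≠ 1 := fun e => hA.lt.not_ge (relIndex_eq_one.1 e)
    have a2 := Clifford.relIndex_ne_zero Z A
    have a3 := Nat.pos_of_ne_zero (index_ne_zero_of_finite (H := A))
    exact lt_mul_of_one_lt_left a3 (by omega)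
  refine hL.case_one hA hab hψ (ih _ ?_ (θ := ψ) ⟨hAT, hA.nK.mono le_top, irrOn_of_mem h1, invOn_inertia hA.nK, ?_,
    fun p hp h6 P _ hP => (hL.hyp p hp (h6.trans (hdv.trans (index_dvd_of_le hZA))) P hP).trans hZA⟩ rfl)
  · rw [← hn, ← hi]
    exact lt_of_le_of_lt (Nat.le_of_dvd (Nat.pos_of_ne_zero index_ne_zero_of_finite) hdv) hlt
  · obtain ⟨χ, hχ⟩ := hL.uniq
    rw [← Finset.card_eq_one, ← card_IrrOver_inertia le_top hA.nK (irrOn_of_mem h1), Finset.card_eq_one]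
    have hsub := IrrOver_subset_of_mem hZA le_top hL.lin.irrOn hψ
    rw [hχ] at hsub
    exact uniq_of ((irrOn_of_mem h1).IrrOver_nonempty le_top) fun a ha b hb =>
      (mem_singleton.1 (hsub ha)).trans (mem_singleton.1 (hsub hb)).symm

end Cfsg.Lib.Gg6
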