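import Cfsg.Agent.Lib.Block2.Proj
import Cfsg.Agent.Lib.Block2.Quot
import Cfsg.Agent.Lib.Block2.FRChar
import Cfsg.Agent.Lib.FG.ExtraChar
import Cfsg.Agent.Lib.Core.PSolvable

/-! Central idempotents supported on regular elements. -/

set_option autoImplicit false
set_option linter.dupNamespace false
set_option linter.unusedSectionVars false
set_option linter.style.haveILetI false

open Cfsg Cfsg.Lib.Block Cfsg.Lib.Block2 Cfsg.Lib.Char Cfsg.Lib.Amalg MonoidAlgebra Subgroup
open Cfsg.Lib.Clifford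
open scoped ComplexConjugate

namespace Cfsg.Lib.Block2

universe u

variable {G : Type*} [Group G] [Finite G] {p : ℕ} [Fact p.Prime] {M : Ideal AlgInt} [M.IsMaximal]
variable {K : Type*} [Group K] [Finite K] {f : G →* K}

theorem ord_cj (c x : G) : orderOf (c * x * c⁻¹) = orderOf x := (MulAut.conj c).orderOf_eq x

theorem isInt_push (f : G →* K) {a : MonoidAlgebra ℂ G} (ha : IsInt M a) : IsInt M (push f a) :=
  fun k => by
  classical
  haveI := Fintype.ofFinite G
  rw [coeff_push]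
  exact memLocalRing_sum fun g _ => by split_ifs; exacts [ha g, memLocalRing_zero]

theorem push_surjective {S : Type*} [CommRing S] (hf : Function.Surjective f) :
    Function.Surjective (push (S := S) f) := fun x => by
  induction x using MonoidAlgebra.induction_linear with
  | zero => exact ⟨0, map_zero _⟩
  | add a b ha hb => obtain ⟨a, rfl⟩ := ha; obtain ⟨b, rfl⟩ := hb; exact ⟨a + b, map_add _ _ _⟩
  | single k c => obtain ⟨g, rfl⟩ := hf k; exact ⟨_, push_single g c⟩

theorem isConj_of_regular_of_map (hf : Function.Surjective f) (hk : IsPGroup p f.ker) {x y : G}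
    (hx : ¬ p ∣ orderOf x) (hy : ¬ p ∣ orderOf y) (e : IsConj (f x) (f y)) : IsConj x y := by
  obtain ⟨c, e⟩ := isConj_iff.1 e
  obtain ⟨c, rfl⟩ := hf c
  refine (isConj_iff.2 ⟨c, rfl⟩).trans ?_
  rw [← map_inv, ← map_mul, ← map_mul] at e
  rw [← ord_cj c x] at hx
  generalize c * x * c⁻¹ = x at hx e
  obtain ⟨n, hn⟩ := hk.exists_card_eq
  obtain ⟨k, hk', h⟩ := Coprime.glauberman_exists_fixed (A := zpowers y) (K := f.ker)
    (by rw [normalizer_eq_top]; exact le_top) (by
      rw [Nat.card_zpowers, hn]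
      exact (((Fact.out : p.Prime).coprime_iff_not_dvd.2 hy).pow_left n).symm)
    (Or.inl inferInstance) ((1 : G) : G ⧸ zpowers x) fun _ ⟨i, hi⟩ => ⟨y ^ i * (x ^ i)⁻¹, by
      simp [MonoidHom.mem_ker, e], by
      rw [← hi, MulAction.Quotient.smul_mk, MulAction.Quotient.smul_mk, QuotientGroup.eq]
      simp⟩
  have h1 := h y (mem_zpowers y)
  rw [MulAction.Quotient.smul_mk, MulAction.Quotient.smul_mk, eq_comm, QuotientGroup.eq] at h1
  simp only [smul_eq_mul, mul_one] at h1
  have h2 : k⁻¹ * (y * k) * x⁻¹ ∈ zpowers x := mul_mem h1 (inv_mem (mem_zpowers x))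
  obtain ⟨j, hj⟩ := hk ⟨k⁻¹ * (y * k) * x⁻¹, by simp [MonoidHom.mem_ker, e, MonoidHom.mem_ker.1 hk']⟩
  have h3 := orderOf_eq_one_iff.1 (Nat.eq_one_of_dvd_coprimes
    (((Fact.out : p.Prime).coprime_iff_not_dvd.2 hx).pow_left j)
    (orderOf_dvd_of_pow_eq_one (congrArg Subtype.val hj)) (orderOf_dvd_of_mem_zpowers h2))
  exact isConj_iff.2 ⟨k, by rw [← mul_inv_eq_one.1 h3]; group⟩

theorem exists_idem_push (hf : Function.Surjective f) {w : MonoidAlgebra ℂ K} (hc : IsCen w)
    (hi : IsInt M w) (hw : w * w = w) : ∃ F, IsInt M F ∧ F * F = F ∧ push f F = w := by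
  obtain ⟨F, a1, -, -, a4⟩ := exists_idem_lift (O := locRing M) splits_loc
    (((push f).restrictScalars (locRing M)).comp
      { toK G M with commutes' := fun c => by simp [toK] }) (fun x => by
        obtain ⟨y, rfl⟩ := push_surjective hf x
        exact ⟨liftA M (secA M y), congrArg (push f) ((toK_liftA _).trans (redA_secA y))⟩)
    (fun a ha => by
      rw [IsScalarTower.algebraMap_apply _ (resField M), IsLocalRing.ResidueField.algebraMap_eq,
        (IsLocalRing.residue_eq_zero_iff _).2 ha, map_zero])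
    (E := 1) (mul_one 1) (f := redA M w) (by rw [← redA_mul hi hi, hw]) (by simp) (by simp)
  have h1 : toC G M F * toC G M F = toC G M F := by rw [← map_mul, a1]
  exact ⟨_, isInt_toC F, h1, idem_eq_of_redA (isInt_push f (isInt_toC F)) hi (by rw [← map_mul, h1]) hw
    (hc.comm _).symm (by rw [redA_push f (isInt_toC F), redA_toC]; exact a4)⟩

/-- Central idempotents supported on regular elements are integral. -/
def Har (p : ℕ) (M : Ideal AlgInt) (G : Type*) [Group G] [Finite G] : Prop :=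
  ∀ U : Set (IrrCharacter G), (∀ g, p ∣ orderOf g → blockCoeff U g = 0) → IsInt M (idem U)

theorem Har.of_quot (hM : IsPModular p M) (h : Har p M K) (hf : Function.Surjective f)
    (hk : IsPGroup p f.ker) : Har p M G := fun U hU => by
  classical
  haveI := Fintype.ofFinite G
  obtain ⟨F, h1, h2, h3⟩ := exists_idem_push hf (isCen_idem _) (h (infl f hf ⁻¹' U) fun k hk => by
    by_contra h0
    rw [← coeff_idem, ← push_idem] at h0
    obtain ⟨g, rfl, hg⟩ := exists_of_coeff_push_ne_zero h0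
    exact hg (hU g (hk.trans (orderOf_map_dvd f g)))) (idem_mul_self _)
  have h4 : ∀ g, p ∣ orderOf g → pchar (F - idem U) g = 0 := fun g hg => by
    rw [map_sub, Pi.sub_apply, pchar_eq_zero hM h1 h2 hg, pchar_apply, Finset.sum_eq_zero fun x _ =>
      (coeff_idem _ _).trans (hU _ (by rwa [ord_cj, orderOf_inv])), sub_zero]
  have h5 : pchar (F - idem U) = 0 := funext fun x => by
    by_cases hx : p ∣ orderOf x
    · exact h4 x hx
    have h6 := sum_mul_pchar (θ := fun g => if IsConj (f x) (f g)⁻¹ then 1 else 0)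
      (fun a b => by
        simp only [map_mul, map_inv, mul_inv_rev, inv_inv, ← mul_assoc]
        exact if_congr ⟨fun h => h.trans (isConj_iff.2 ⟨_, rfl⟩).symm,
          fun h => h.trans (isConj_iff.2 ⟨_, rfl⟩)⟩ rfl rfl) (F - idem U)
    rw [← charExt_mapDomain (fun k => if IsConj (f x) k⁻¹ then (1 : ℂ) else 0), map_sub (push f), h3, push_idem hf,
      sub_self, map_zero, mul_zero, Finset.sum_congr rfl
      (g := fun g => if IsConj x g then pchar (F - idem U) x else 0) fun g _ => by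
        rw [map_inv, inv_inv]
        split_ifs with a b b
        · obtain ⟨c, rfl⟩ := isConj_iff.1 b
          rw [one_mul, (isClassFunction_pchar _).conj_eq]
        · rw [h4 g (by_contra fun hg => b (isConj_of_regular_of_map hf hk hx hg a)), mul_zero]
        · exact absurd (f.map_isConj b) a
        · rw [zero_mul], ← Finset.sum_filter, Finset.sum_const, smul_eq_zero] at h6
    exact h6.resolve_left (Finset.card_ne_zero.2 ⟨x, by simpa using ⟨1, by simp⟩⟩)
  have h6 : ∀ χ : IrrCharacter G, charExt χ.1 F = charExt χ.1 (idem U) := fun χ => by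
    rw [← sub_eq_zero, ← map_sub, ← classInner_pchar χ.2.isGeneralizedCharacter, h5, classInner_def]; simp
  have h7 := fun χ : IrrCharacter G => charExt_idem_mul U χ 1
  rwa [← eq_idem_of_charExt h2 (fun χ hχ => by simpa [h6, hχ, charExt_one] using h7 χ)
    fun χ hχ => by simpa [h6, hχ] using h7 χ]

theorem har_of_not_dvd (hM : IsPModular p M) (h : ¬ p ∣ Nat.card G) : Har p M G := fun U _ g => by
  rw [coeff_idem, blockCoeff, finsum_mem_eq_finite_toFinset_sum _ (Set.toFinite _)]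
  exact (memLocalRing_inv_natCast hM h).mul (memLocalRing_sum fun χ _ =>
    (χ.2.isCharacter.memLocalRing 1).mul (χ.2.isCharacter.conj.memLocalRing g))

theorem exists_eq_idem_of_cen {z : MonoidAlgebra ℂ G} (hz : IsCen z) (hzz : z * z = z) :
    ∃ U, z = idem U := by
  classical
  refine ⟨{χ | omega χ.1 z = 1}, hz.ext_omega (isCen_idem _) fun ξ => ?_⟩
  have := ξ.2.omega_mul hz z
  rw [hzz] at this
  rw [omega_idem]
  split_ifs with e
  · exact e
  · exact (IsIdempotentElem.iff_eq_zero_or_one.1 this.symm).resolve_right e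

theorem Har.isInt {H : Subgroup G} (hH : Har p M H) {z : MonoidAlgebra ℂ G}
    (hz : CenIn H z) (hzz : z * z = z) (h0 : ∀ g, p ∣ orderOf g → z.coeff g = 0) : IsInt M z := by
  obtain ⟨U, e⟩ := exists_eq_idem_of_cen hz.res (by rw [← hz.supp.res_mul, hzz])
  rw [← hz.incl_res, e]
  refine (hH _ fun g hg => ?_).incl
  rw [← coeff_idem, ← e]
  exact h0 g (by rwa [orderOf_coe])

variable {N : Subgroup G} [N.Normal]

theorem coeff_mul_eq_zero_of_regular (hN : ¬ p ∣ Nat.card N) {z e : MonoidAlgebra ℂ G}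
    (h0 : ∀ g, p ∣ orderOf g → z.coeff g = 0) (he : Supp N e) {g : G} (hg : p ∣ orderOf g) :
    (z * e).coeff g = 0 := by
  haveI := Fintype.ofFinite G
  rw [coeff_mul_sum']
  refine Finset.sum_eq_zero fun n _ => ?_
  by_cases hn : n ∈ N
  · rw [h0, zero_mul]
    by_contra h
    refine ((Fact.out : p.Prime).dvd_mul.not.2 (not_or.2 ⟨h, hN⟩))
      (hg.trans (orderOf_dvd_of_pow_eq_one ?_))
    have h1 : g ^ orderOf (g * n⁻¹) ∈ N := by
      rw [← QuotientGroup.eq_one_iff, QuotientGroup.mk_pow, show (g : G ⧸ N) = (g * n⁻¹ : G) by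
        simp [(QuotientGroup.eq_one_iff n).2 hn], ← QuotientGroup.mk_pow, pow_orderOf_eq_one]
      rfl
    rw [pow_mul]
    exact congrArg Subtype.val (pow_card_eq_one' (x := (⟨_, h1⟩ : N)))
  · rw [he n hn, mul_zero]

theorem cenIn_mul_IB (θ : IrrCharacter N) {z : MonoidAlgebra ℂ G} (hz : IsCen z) :
    CenIn (stabA (IB {θ})) (z * IB {θ}) := by
  classical
  haveI := Fintype.ofFinite G
  refine ⟨?_, (hz.isFixed _).mul (isFixed_stabA _)⟩
  have h1 : z * IB {θ} = ∑ g, z.coeff g • (IB {θ} * single g 1 * IB {θ}) := by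
    conv_lhs => rw [← IB_mul_self, ← mul_assoc, hz.comm, eq_sum_single z]
    simp only [Finset.mul_sum, Finset.sum_mul, mul_smul_comm, smul_mul_assoc]
  have h2 : N ≤ stabA (IB {θ}) := le_stabA_iff.2 (cenIn_IB _).fixed
  rw [h1]
  refine supp_sum fun g _ => Supp.smul ?_ _
  by_cases hg : g ∈ stabA (IB {θ})
  · exact (((cenIn_IB _).supp.mono h2).mul (supp_single hg _)).mul ((cenIn_IB _).supp.mono h2)
  have h3 : single g (1 : ℂ) * IB {θ} = cjA g (IB {θ}) * single g 1 := by
    rw [cjA_eq_mul, mul_assoc, single_mul_single, inv_mul_cancel, mul_one, ← one_def, mul_one]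
  have h4 := IB_conjSet (cj_normal g N) {θ}
  rw [conjSet_eq_image_irrPerm, Set.image_singleton] at h4
  rw [mul_assoc, h3, ← mul_assoc, ← h4, IB_mul_IB, Set.singleton_inter_of_notMem
    fun e => hg (by rw [mem_stabA, ← h4, ← Set.mem_singleton_iff.1 e]), IB_empty, zero_mul]
  exact supp_zero

theorem isInt_of_cover {G : Type u} [Group G] [Finite G] {N : Subgroup G} [N.Normal]
    (hM : IsPModular p M) (hN : ¬ p ∣ Nat.card N) {θ : IrrCharacter N}
    (hinv : InvOn ⊤ N (extendByZero N θ.1))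
    (H : ∀ (Δ : Type u) [Group Δ] [Finite Δ] (σ : Δ →* G ⧸ N), Function.Surjective σ →
      σ.ker ≤ center Δ → ¬ p ∣ Nat.card σ.ker → Har p M Δ)
    {U : Set (IrrCharacter G)} (hU : ∀ χ ∈ U, Over N.subtype χ.1 θ.1)
    (h0 : ∀ g, p ∣ orderOf g → blockCoeff U g = 0) : IsInt M (idem U) := by
  have hθ := irrOn_extendByZero.2 θ.2
  obtain ⟨Δ, _, _, π, τ, ν, c⟩ := exists_cover le_top (nrm_of_normal _ N) hθ hinv
  have hπ : Function.Surjective π := fun g => c.exists_eq trivial
  obtain ⟨k, m, hm, e⟩ := Nat.exists_eq_pow_mul_and_not_dvd (Nat.card_pos (α := Δ)).ne' p hM.1.ne_one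
  have hd : ¬ p ∣ charDegree (extendByZero N θ.1) := fun h => hN (h.trans hθ.deg_dvd_card)
  obtain ⟨s, -, hs⟩ := Nat.exists_mul_mod_eq_of_coprime (k := p ^ k) 1
    ((hM.1.coprime_iff_not_dvd.2 hd).pow_left k).symm (pow_ne_zero _ hM.1.ne_zero)
  have hμ := (linOn_detOn ⊤ τ).pow s
  have hν := c.lin.mul (hμ.mono le_top)
  have h1 : ∀ x ∈ N.comap π, (ν * detOn ⊤ τ ^ s) x ^
      (charDegree (extendByZero N θ.1) * m * Nat.card N) = 1 := fun x hx => by
    have h2 := (linOn_detOn ⊤ τ).pow_card (mem_top x)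
    rw [card_top, e] at h2
    rw [pow_mul, Pi.mul_apply, Pi.pow_apply, mul_pow, ← pow_mul, ← mul_assoc, mul_comm s,
      pow_eq_pow_mod _ h2, (Nat.ModEq.mul_right' m hs :), ← pow_eq_pow_mod _ h2, one_mul, pow_mul,
      ← mul_pow, c.det_eq hx, ← pow_mul, mul_comm, pow_mul, (linOn_detOn N _).pow_card hx, one_pow]
  have hi : InvOn ⊤ (N.comap π) (ν * detOn ⊤ τ ^ s) := c.inv.mul (hμ.classOn.mono le_rfl le_top)
  generalize detOn ⊤ τ ^ s = μ at hμ hν h1 hi
  haveI := (nrm_kerOn (c.nrm_comap ⊤) hi).normal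
  set q := QuotientGroup.mk' (kerOn (N.comap π) (ν * μ)) with hq
  have hq' : Function.Surjective q := QuotientGroup.mk'_surjective _
  set σ := QuotientGroup.lift (kerOn (N.comap π) (ν * μ)) ((QuotientGroup.mk' N).comp π)
    fun x hx => (QuotientGroup.eq_one_iff (π x)).2 (kerOn_le (K := N.comap π) hx)
  have s1 : ∀ x, q x ∈ σ.ker ↔ π x ∈ N := fun x => QuotientGroup.eq_one_iff (π x)
  have s2 : σ.ker ≤ center _ := fun z hz => mem_center_iff.2 fun g => by
    obtain ⟨z, rfl⟩ := hq' z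
    obtain ⟨g, rfl⟩ := hq' g
    rw [← mul_inv_eq_one, mul_inv_rev, ← mul_assoc, ← map_inv, ← map_inv, ← map_mul, ← map_mul,
      ← map_mul]
    exact (QuotientGroup.eq_one_iff _).2
      (hν.commutator_mem (c.nrm_comap ⊤) hi trivial ((s1 z).1 hz))
  have s3 : ∀ x ∈ N.comap π, ¬ p ∣ orderOf (q x) := fun x hx h =>
    hM.1.dvd_mul.not.2 (not_or.2 ⟨hM.1.dvd_mul.not.2 (not_or.2 ⟨hd, hm⟩), hN⟩)
      (h.trans (orderOf_dvd_of_pow_eq_one (by
        rw [← map_pow]
        exact (QuotientGroup.eq_one_iff _).2 (hν.mem_kerOn.2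
          ⟨pow_mem hx _, by rw [hν.map_pow hx, h1 x hx]⟩))))
  have s4 : ¬ p ∣ Nat.card σ.ker := fun h => by
    obtain ⟨⟨z, hz⟩, h⟩ := exists_prime_orderOf_dvd_card' p h
    obtain ⟨z, rfl⟩ := hq' z
    exact s3 z ((s1 z).1 hz) (by rw [← h, ← orderOf_coe])
  have s5 : Function.Surjective σ := fun y => by
    obtain ⟨g, rfl⟩ := QuotientGroup.mk_surjective y
    obtain ⟨x, rfl⟩ := hπ g
    exact ⟨q x, rfl⟩
  have h2 : ∀ χ : U, ∃ b : IrrCharacter _, (∀ x, χ.1.1 (π x) = b.1 (q x) * (star μ * τ) x) ∧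
      ∀ x ∈ N.comap π, ∀ y, b.1 (q x * y) = (ν * μ) x * b.1 y := fun χ => by
    obtain ⟨β, b1, b2, -, b3⟩ := c.exists_of_over le_top le_rfl (irrOn_top.2 χ.1.2)
      (over_subtype_iff_dot.1 (hU _ χ.2))
    rw [comap_top] at b1 b2
    have b4 := (irrOn_of_mem (mem_IrrOver.1 b1).1).mul_lin hμ
    have b5 : ∀ x ∈ N.comap π, (β * μ) x = (ν * μ) x * (β * μ) 1 := fun x hx => by
      simp only [Pi.mul_apply, b3 x hx, hμ.2, (irrOn_of_mem (mem_IrrOver.1 b1).1).one_eq]; ring
    obtain ⟨b, hb⟩ := exists_infl hq' (χ := ⟨_, irrOn_top.1 b4⟩) fun x hx => by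
      rw [hq, QuotientGroup.ker_mk', hν.mem_kerOn] at hx
      exact (irrOn_top.1 b4).isCharacter.mem_charKer.2 (by rw [b5 x hx.1, hx.2, one_mul])
    have b6 : ∀ x, b.1 (q x) = (β * μ) x := fun x => congrFun (congrArg Subtype.val hb) x
    refine ⟨b, fun x => ?_, fun x hx y => ?_⟩
    · rw [b2 x trivial, b6, Pi.mul_apply, Pi.mul_apply, mul_assoc, ← mul_assoc (μ x), Pi.star_apply,
        RCLike.star_def, hμ.mul_conj trivial, one_mul]
    · obtain ⟨a, -, ha⟩ := FG.irr_central (irrOn_top.2 b.2) (mem_top (q x))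
        fun g _ => mem_center_iff.1 (s2 ((s1 x).2 hx)) g
      have b7 := ha 1 trivial
      rw [mul_one, b6, b5 x hx, ← b6, map_one, mul_left_inj' b.2.apply_one_ne_zero] at b7
      rw [ha y trivial, b7]
  choose b b1 b2 using h2
  have b3 : Function.Injective b := fun χ ψ h => Subtype.ext (Subtype.ext (funext fun g => by
    obtain ⟨x, rfl⟩ := hπ g
    rw [b1, b1, h]))
  have hτ := (c.irr_res.lin_mul (hμ.star.mono le_top))
  have hτ' := hμ.star.charOn.mul c.char
  generalize star μ * τ = τ' at b1 hτ hτ'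
  have h3 : ∀ x, blockCoeff U (π x) = (Nat.card N : ℂ)⁻¹ * Nat.card σ.ker * (τ' 1 * conj (τ' x)) *
      blockCoeff (Set.range b) (q x) := fun x => by
    haveI := Fintype.ofFinite U
    have h4 : (Nat.card σ.ker : ℂ) ≠ 0 := Nat.cast_ne_zero.2 Nat.card_pos.ne'
    rw [blockCoeff, blockCoeff, finsum_mem_range b3, ← finsum_set_coe_eq_finsum_mem,
      finsum_eq_sum_of_fintype, finsum_eq_sum_of_fintype, ← N.card_mul_index,
      ← σ.ker.card_mul_index, index_ker, MonoidHom.range_eq_top.2 s5, card_top, ← index_eq_card]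
    simp only [Finset.mul_sum]
    refine Finset.sum_congr rfl fun χ _ => ?_
    rw [← π.map_one, b1, b1, map_one, map_mul]
    push_cast
    field_simp
  intro g
  obtain ⟨x, rfl⟩ := hπ g
  rw [coeff_idem, h3]
  refine (((memLocalRing_inv_natCast hM hN).mul (memLocalRing_natCast _)).mul
    (((charOn_top.1 hτ').memLocalRing 1).mul ((charOn_top.1 hτ').conj.memLocalRing x))).mul
    (H _ σ s5 s2 s4 _ (fun y hy => ?_) _)
  obtain ⟨y, rfl⟩ := hq' y
  obtain ⟨n, hn, h4⟩ : ∃ n ∈ N.comap π, τ' (n * y) ≠ 0 := by_contra fun h => by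
    have := FG.sum_coset_normSq le_top (c.nrm_comap ⊤) hτ' hτ (mem_top y)
    rw [Finset.sum_eq_zero fun n hn => by
      simp [by_contra fun h' => h ⟨n, mem_elems.1 hn, h'⟩]] at this
    exact Nat.card_pos.ne' (Nat.cast_eq_zero.1 this.symm)
  have h5 := h3 (n * y)
  rw [h0 _ (by_contra fun h => hM.1.dvd_mul.not.2 (not_or.2 ⟨h, s4⟩)
    (hy.trans (orderOf_dvd_of_pow_eq_one ?_))), eq_comm, mul_eq_zero_iff_left (mul_ne_zero
      (mul_ne_zero (inv_ne_zero (Nat.cast_ne_zero.2 Nat.card_pos.ne'))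
      (Nat.cast_ne_zero.2 Nat.card_pos.ne')) (mul_ne_zero hτ.one_ne_zero
      ((map_ne_zero _).2 h4))), blockCoeff] at h5
  · haveI := Fintype.ofFinite U
    rw [finsum_mem_range b3, finsum_eq_sum_of_fintype] at h5
    rw [blockCoeff, finsum_mem_range b3, finsum_eq_sum_of_fintype]
    simp only [map_mul, b2 _ n hn, mul_left_comm _ (conj _), ← Finset.mul_sum] at h5
    exact (mul_eq_zero_iff_left ((map_ne_zero _).2 (hν.ne_zero hn))).1 h5
  · have h6 : q y ^ orderOf (π (n * y)) ∈ σ.ker := by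
      rw [MonoidHom.mem_ker, map_pow, show σ (q y) = (π (n * y) : G) by
        rw [map_mul, QuotientGroup.mk_mul, (QuotientGroup.eq_one_iff (π n)).2 hn, one_mul]; rfl,
        ← QuotientGroup.mk_pow, pow_orderOf_eq_one]
      rfl
    rw [pow_mul]
    exact congrArg Subtype.val (pow_card_eq_one' (x := (⟨_, h6⟩ : σ.ker)))

theorem har_of_pSolvable (hM : IsPModular p M) (n : ℕ) : ∀ (G : Type u) [Group G] [Finite G]
    (N : Subgroup G) [N.Normal], IsPSolvable p G → ¬ p ∣ Nat.card N → N.index = n → Har p M G := by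
  induction n using Nat.strong_induction_on with
  | h n ih =>
  intro G _ _ N _ hG hN hn U hU
  have h1 : idem U = ∑ θ : IrrCharacter N, idem U * IB {θ} := by
    have := congrArg (incl N) (isCen_one (S := ℂ) (G := N)).eq_sum_idem
    simp only [map_one, map_sum, fun χ : IrrCharacter N => omega_one χ.2.apply_one_ne_zero, one_smul] at this
    rw [← Finset.mul_sum]
    exact (mul_one _).symm.trans (congrArg _ this)
  rw [h1]
  refine isInt_sum fun θ _ => ?_
  have h2 := cenIn_mul_IB θ (isCen_idem U)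
  have h3 : idem U * IB {θ} * (idem U * IB {θ}) = idem U * IB {θ} := by
    rw [mul_assoc, ← mul_assoc (IB _), ← (isCen_idem U).comm, mul_assoc, IB_mul_self, ← mul_assoc,
      idem_mul_self]
  have h4 := fun g => coeff_mul_eq_zero_of_regular hN (z := idem U) hU (cenIn_IB {θ}).supp (g := g)
  have h5 : N ≤ stabA (IB {θ}) := le_stabA_iff.2 (cenIn_IB _).fixed
  by_cases hT : stabA (IB {θ}) = ⊤
  swap
  · refine Har.isInt (ih _ ?_ _ (N.subgroupOf _) (Core.isPSolvable_subgroup hM.1 hG _)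
      (by rwa [Nat.card_congr (subgroupOfEquivOfLe h5).toEquiv]) rfl) h2 h3 h4
    rw [← hn, ← relIndex_mul_index h5]
    exact lt_mul_of_one_lt_right (Nat.pos_of_ne_zero index_ne_zero_of_finite) (one_lt_index_of_ne_top hT)
  rw [hT] at h2
  obtain ⟨V, e⟩ := exists_eq_idem_of_cen (fun x => h2.fixed x trivial) h3
  rw [e] at h4 ⊢
  refine isInt_of_cover hM hN (θ := θ) (fun g _ x hx => ?_) (fun Δ _ _ σ s1 s2 s3 => ?_)
    (fun χ hχ => ?_) h4
  · have h6 := IB_conjSet (cj_normal g N) {θ}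
    rw [conjSet_eq_image_irrPerm, Set.image_singleton, mem_stabA.1 (hT ▸ mem_top g)] at h6
    rw [Clifford.extendByZero_of_mem _ hx,
      Clifford.extendByZero_of_mem _ (Normal.conj_mem inferInstance x hx g)]
    exact irrPerm_eq_self_iff.1 (Set.singleton_injective (IB_inj h6)) ⟨x, hx⟩
  · have h6 : IsPSolvable p Δ := Core.isPSolvable_of_normal_of_quotient hM.1 σ.ker
      (Core.isPSolvable_of_coprime hM.1 (hM.1.coprime_iff_not_dvd.2 s3).symm)
      ((Core.isPSolvable_congr hM.1 (QuotientGroup.quotientKerEquivOfSurjective σ s1)).2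
        (Core.isPSolvable_quotient hM.1 hG N))
    have h7 : σ.ker.index = n := by
      rw [index_ker, MonoidHom.range_eq_top.2 s1, card_top, ← hn, index_eq_card]
    by_cases h8 : pCore p Δ = ⊥
    · have h9 := Core.le_pPrimeCore (hM.1.coprime_iff_not_dvd.2 s3).symm
      rcases h9.eq_or_lt with h9 | h9
      · refine har_of_not_dvd hM fun h => s3 ?_
        rwa [h9, eq_top_iff.2 (le_trans (fun x _ y hy => mem_center_iff.1 (s2 (h9 ▸ hy)) x |>.symm)
          (Core.centralizer_pPrimeCore_le_of_isPSolvable hM.1 h6 h8)), card_top]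
      · exact ih _ (h7 ▸ index_strictAnti h9) _ _ h6 (Core.not_dvd_card_pPrimeCore hM.1) rfl
    have h9 := QuotientGroup.mk'_surjective (pCore p Δ)
    haveI := Normal.map (H := σ.ker) inferInstance _ h9
    refine Har.of_quot hM (ih _ ?_ _ (σ.ker.map (QuotientGroup.mk' _))
      (Core.isPSolvable_quotient hM.1 h6 _) (fun h => s3 (h.trans (card_map_dvd _ _))) rfl) h9
      (by rw [QuotientGroup.ker_mk']; exact Core.isPGroup_pCore p Δ)
    rw [index_map, MonoidHom.range_eq_top.2 h9, index_top, mul_one, QuotientGroup.ker_mk', ← h7]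
    refine index_strictAnti (left_lt_sup.2 fun h => h8 ?_)
    obtain ⟨k, hk⟩ := (Core.isPGroup_pCore p Δ).exists_card_eq
    exact card_eq_one.1 (Nat.eq_one_of_dvd_coprimes ((hM.1.coprime_iff_not_dvd.2 s3).pow_left k)
      (dvd_of_eq hk) (card_dvd_of_le h))
  · obtain ⟨_, rfl, _, rfl, h⟩ := (idem_mul_push_ne_zero_iff N.subtype {χ} {θ}).1 fun h => by
      have h6 := congrArg (fun z => omega χ.1 (idem {χ} * z)) e
      rw [← mul_assoc, ← (isCen_idem U).comm, mul_assoc, IB, ← push_subtype, h, mul_zero, map_zero,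
        idem_mul_idem, omega_idem_of_mem (Set.mem_inter (Set.mem_singleton χ) hχ)] at h6
      exact zero_ne_one h6
    exact h

end Cfsg.Lib.Block2
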