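import Cfsg.Agent.Lib.Small.PIM
import Cfsg.Agent.Lib.Block2.Cover2
import Cfsg.Agent.Lib.Block2.FRChar

/-! Characters and blocks of subgroups of index two. -/

set_option autoImplicit false
set_option linter.dupNamespace false
set_option linter.unusedSectionVars false
set_option linter.style.haveILetI false

open Finset Cfsg Cfsg.Lib.Amalg Cfsg.Lib.Char Cfsg.Lib.Block Cfsg.Lib.Small
open scoped ComplexConjugate

namespace Cfsg.Lib.Block2

variable {G : Type*} [Group G] [Fintype G] {p : ℕ} [hp : Fact p.Prime] {M : Ideal AlgInt}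
  [M.IsMaximal]

theorem reg_comp (α : G ≃* G) (θ : G → ℂ) : (fun g => reg p θ (α g)) = reg p fun g => θ (α g) := by
  ext g
  by_cases h : p ∣ orderOf g
  · rw [reg_of_dvd _ h, reg_of_dvd _ (by rwa [α.orderOf_eq])]
  · rw [reg_of_not_dvd _ h, reg_of_not_dvd _ (by rwa [α.orderOf_eq])]

theorem reg_add (θ η : G → ℂ) : reg p (θ + η) = reg p θ + reg p η := Set.indicator_add' _ _ _

theorem rank_le_two_mul (hM : IsPModular p M) {U : Set (IrrCharacter G)} (hU : IsBlockUnion M U)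
    (α : G ≃* G) (h1 : ∀ ξ ∈ U, irrCongr α.symm ξ ∈ U) (h2 : ∀ ξ ∈ U, ∀ g, ξ.1 (α (α g)) = ξ.1 g)
    {V : Submodule ℂ (G → ℂ)} (hV : ∀ ξ ∈ U, reg p (ξ.1 + fun g => ξ.1 (α g)) ∈ V) :
    blockRank p U ≤ 2 * Module.finrank ℂ V := by
  classical
  let f : IrrCharacter G → G → ℂ := fun ξ => (2 : ℂ)⁻¹ • reg p (ξ.1 + fun g => ξ.1 (α g))
  have h3 : ∀ η ∈ Submodule.span ℂ (f '' U), η ∈ VB p U ∧ (fun g => η (α g)) = η := by
    intro η hη
    induction hη using Submodule.span_induction with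
    | mem _ h =>
      obtain ⟨ξ, hξ, rfl⟩ := h
      refine ⟨Submodule.smul_mem _ _ ?_, ?_⟩
      · rw [reg_add]
        exact add_mem (reg_mem_VB hξ) (reg_mem_VB (h1 ξ hξ))
      · ext g
        simp only [f, Pi.smul_apply, congrFun (reg_comp α _) g, Pi.add_apply, h2 ξ hξ]
        rw [add_comm ξ.1]
        rfl
    | zero => exact ⟨zero_mem _, rfl⟩
    | add _ _ _ _ h h' => exact ⟨add_mem h.1 h'.1, by ext g; simp [congrFun h.2 g, congrFun h'.2 g]⟩
    | smul c _ _ h => exact ⟨Submodule.smul_mem _ _ h.1, by ext g; simp [congrFun h.2 g]⟩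
  have h4 : ∀ η ∈ Submodule.span ℂ (f '' U), ∀ ξ, classInner η (f ξ) = classInner η ξ.1 := by
    intro η hη ξ
    obtain ⟨a, b⟩ := h3 η hη
    rw [classInner_smul_right, classInner_reg_right, (VB_spec hM hU a).1, classInner_add_right,
      ← b, classInner_comp_equiv, b]
    simp only [map_inv₀, map_ofNat]
    ring
  have h5 := sum_inner_self_eq_finrank (univ.filter (· ∈ U)) (Submodule.span ℂ (f '' U)) f
    (fun ξ h => Submodule.subset_span ⟨ξ, by simpa using h, rfl⟩) fun η h η' h' => by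
      rw [← parseval_of_kernel hM hU (univ.filter (· ∈ U)) (fun ξ => ξ.1) subset_rfl
        (fun c c' _ _ => by rw [Block2.finsum_mem_irr]) (h3 η h).1 (h3 η' h').1]
      refine sum_congr rfl fun ξ _ => ?_
      rw [h4 η h, ← conj_classInner η', h4 η' h', conj_classInner]
  obtain ⟨N, hN⟩ := exists_trace hM hU α
  rw [sum_congr rfl fun ξ h => (h4 _ (Submodule.subset_span ⟨ξ, by simpa using h, rfl⟩) ξ).trans
    (show _ = (2 : ℂ)⁻¹ * (classInner (reg p ξ.1) ξ.1 + classInner (reg p ξ.1) fun g => ξ.1 (α g)) by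
      rw [classInner_smul_left, reg_add, classInner_add_left,
        ← classInner_comp_equiv α (reg p fun g => ξ.1 (α g)), reg_comp]
      simp only [h2 ξ (by simpa using h)]), ← mul_sum, sum_add_distrib, hN,
    sum_inner_reg_eq_rank hM hU] at h5
  have h6 : blockRank p U + N = 2 * Module.finrank ℂ (Submodule.span ℂ (f '' U)) := by
    have : (blockRank p U + N : ℂ) = 2 * Module.finrank ℂ (Submodule.span ℂ (f '' U)) := by
      rw [← h5]; ring
    exact_mod_cast this
  have h7 := Submodule.finrank_mono (R := ℂ) (s := Submodule.span ℂ (f '' U)) (t := V)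
    (Submodule.span_le.2 (by rintro _ ⟨ξ, h, rfl⟩; exact Submodule.smul_mem _ _ (hV ξ h)))
  omega

variable {N : Subgroup G} [hN : N.Normal] {t : G} {χ : IrrCharacter G} {θ : IrrCharacter N}

theorem irrPerm_of_mem {g : G} (hg : g ∈ N) : irrPerm N g θ = θ :=
  irrPerm_eq_self_iff.2 fun n => θ.2.isClassFunction n ⟨g, hg⟩

theorem Over.irrPerm (ho : Over N.subtype χ.1 θ.1) (g : G) : Over N.subtype χ.1 (irrPerm N g θ).1 :=
  irrPerm_eq_irrCongr g θ ▸ ho.cjEq (cj_normal g N) χ.2.isClassFunction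

theorem Over.res_two (h2 : N.index = 2) (ht : t ∉ N) (ho : Over N.subtype χ.1 θ.1) :
    (Block2.irrPerm N t θ = θ ∧ ∀ n : N, χ.1 n = θ.1 n) ∨ (Block2.irrPerm N t θ ≠ θ ∧
      (∀ n : N, χ.1 n = θ.1 n + (Block2.irrPerm N t θ).1 n) ∧ ∀ g ∉ N, χ.1 g = 0) := by
  classical
  haveI := Fintype.ofFinite N
  obtain ⟨a, ha, hb⟩ := (χ.2.isCharacter.comp N.subtype).exists_nat_coeffs
  have h1 : ∀ ψ, a ψ ≠ 0 → ψ = θ ∨ ψ = Block2.irrPerm N t θ := fun ψ h => by
    obtain ⟨g, rfl⟩ := ho.exists_conj (θ' := ψ) (over_iff.2 (by rw [ha]; exact_mod_cast h))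
    rw [← irrPerm_eq_irrCongr]
    by_cases hg : g ∈ N
    · exact Or.inl (irrPerm_of_mem hg)
    · rw [← mul_inv_cancel_left t g, map_mul, Equiv.Perm.mul_apply, irrPerm_of_mem
        ((N.mul_mem_iff_of_index_two h2).2 (by simp [hg, ht]))]
      exact Or.inr rfl
  have h3 : a θ ≠ 0 := by have := over_iff.1 ho; rw [ha] at this; exact_mod_cast this
  have h4 : a (Block2.irrPerm N t θ) = a θ := by
    refine Nat.cast_injective (R := ℂ) ?_
    rw [← ha, ← ha, ← classInner_comp_equiv (MulAut.conjNormal t)]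
    congr 1
    · exact funext fun n => χ.2.isClassFunction _ _
    · exact funext fun n => irrPerm_apply_conj t θ n
  have h5 : (Nat.card N : ℝ) * ∑ ψ, (a ψ : ℝ) ^ 2 + ∑ g with g ∉ N, Complex.normSq (χ.1 g) =
      Nat.card N * 2 := by
    have h6 := card_mul_classInner χ.1 χ.1
    have h7 := card_mul_classInner (fun n : N => χ.1 n) (fun n : N => χ.1 n)
    rw [χ.2.classInner_self, ← sum_filter_add_sum_filter_not _ (· ∈ N),
      sum_subtype (p := (· ∈ N)) (F := inferInstance) _ (by simp), ← h7, ← N.card_mul_index, h2] at h6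
    replace hb : (fun n : N => χ.1 n) = _ := hb
    rw [hb, classInner_sum_irr_sum_irr] at h6
    simp only [Complex.mul_conj, map_natCast, ← sq, mul_one] at h6
    exact_mod_cast h6.symm
  have h8 : 0 ≤ ∑ g with g ∉ N, Complex.normSq (χ.1 g) :=
    sum_nonneg fun _ _ => Complex.normSq_nonneg _
  have h9 : (0 : ℝ) < Nat.card N := by exact_mod_cast Nat.card_pos
  have h10 : ∑ ψ, a ψ ^ 2 ≤ 2 := by
    have : ∑ ψ, (a ψ : ℝ) ^ 2 ≤ 2 := le_of_mul_le_mul_left (by linarith) h9
    exact_mod_cast this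
  have h11 : a θ = 1 := by
    have := (single_le_sum (fun _ _ => Nat.zero_le _) (mem_univ θ)).trans h10
    have : a θ < 2 := by nlinarith
    omega
  by_cases h : Block2.irrPerm N t θ = θ
  · refine Or.inl ⟨h, fun n => (congrFun hb n).trans ?_⟩
    rw [sum_eq_single θ (fun ψ _ e => by
      rw [show a ψ = 0 from not_not.1 fun h' => e (by simpa [h] using h1 ψ h')]; simp) (by simp), h11]
    simp
  have h12 : ∀ {V : Type} [AddCommMonoid V] (f : IrrCharacter N → V), (∀ ψ, a ψ = 0 → f ψ = 0) →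
      ∑ ψ, f ψ = f θ + f (Block2.irrPerm N t θ) := fun f hf =>
    sum_eq_add _ _ (Ne.symm h) (fun ψ _ e => hf ψ (not_not.1 fun h' => by have := h1 ψ h'; tauto))
      (by simp) (by simp)
  refine Or.inr ⟨h, fun n => (congrFun hb n).trans ?_, fun g hg => ?_⟩
  · rw [Finset.sum_apply, h12 _ fun ψ e => by simp [e], h4, h11]
    simp
  · rw [h12 _ fun ψ e => by simp [e], h4, h11] at h5
    exact Complex.normSq_eq_zero.1 ((sum_eq_zero_iff_of_nonneg fun _ _ => Complex.normSq_nonneg _).1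
      (by norm_num at h5; linarith) g (by simpa using hg))

variable {B : Set (IrrCharacter G)} {b : Set (IrrCharacter N)}

theorem isBlockUnion_over (hB : IsPBlock M B) :
    IsBlockUnion M {θ : IrrCharacter N | ∃ χ ∈ B, Over N.subtype χ.1 θ.1} :=
  fun θ ⟨_, h1, h2⟩ _ h => exists_over_of_covered hB (isPBlock_blockOf θ) (h2.eB_mul_EB
    hB.isBlockUnion (isPBlock_blockOf θ).isBlockUnion h1 (mem_blockOf_self θ)) h

theorem rank_le_of_cover (hM : IsPModular p M) (h2 : N.index = 2) (hB : IsPBlock M B)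
    (hb : IsPBlock M b) (h0 : eB M B * EB M b ≠ 0) {W : Submodule ℂ (G → ℂ)}
    (hW : ∀ χ ∈ B, reg p χ.1 ∈ W) : blockRank p b ≤ 2 * Module.finrank ℂ W ∧
      ((∀ χ ∈ B, ∃ g ∉ N, χ.1 g ≠ 0) → blockRank p b ≤ Module.finrank ℂ W) := by
  haveI := Fintype.ofFinite N
  obtain ⟨t, ht⟩ : ∃ t, t ∉ N := not_forall.1 fun h => by
    simp [(Subgroup.eq_top_iff' N).2 h] at h2
  have h1 : ∀ χ ∈ B, ∀ η : N → ℂ, (∀ n : N, χ.1 n = η n) →
      reg p η ∈ W.map (LinearMap.funLeft ℂ ℂ ((↑) : N → G)) := fun χ hχ η h =>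
    ⟨_, hW χ hχ, funext fun n => by
      by_cases e : p ∣ orderOf n
      · exact (reg_of_dvd _ (by rwa [Subgroup.orderOf_coe])).trans (reg_of_dvd _ e).symm
      · exact (reg_of_not_dvd _ (by rwa [Subgroup.orderOf_coe])).trans
          ((h n).trans (reg_of_not_dvd _ e).symm)⟩
  have h3 := Submodule.finrank_map_le (LinearMap.funLeft ℂ ℂ ((↑) : N → G)) W
  constructor
  · refine le_trans (Submodule.finrank_mono (Submodule.span_mono (Set.image_mono fun θ h =>
      exists_over_of_covered hB hb h0 h))) ((rank_le_two_mul hM (isBlockUnion_over hB)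
      (MulAut.conjNormal t).symm (fun ξ ⟨χ, h, h'⟩ => ⟨χ, h, h'.irrPerm t⟩) (fun ξ _ g => ?_)
      fun ξ ⟨χ, h, h'⟩ => ?_).trans (Nat.mul_le_mul_left _ h3))
    · refine congrFun (congrArg Subtype.val ((congrArg (· ξ) (map_mul (irrPerm N) t t)).symm.trans
        (irrPerm_of_mem ((N.mul_mem_iff_of_index_two h2).2 Iff.rfl)))) g
    · rcases h'.res_two h2 ht with ⟨e, e'⟩ | ⟨-, e, -⟩
      · rw [show (fun g => ξ.1 ((MulAut.conjNormal t).symm g)) = ξ.1 from congrArg Subtype.val e,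
          reg_add]
        exact add_mem (h1 χ h _ e') (h1 χ h _ e')
      · exact h1 χ h _ e
  · refine fun h => le_trans (Submodule.finrank_mono (Submodule.span_le.2 ?_)) h3
    rintro _ ⟨θ, hθ, rfl⟩
    obtain ⟨χ, h4, h5⟩ := exists_over_of_covered hB hb h0 hθ
    obtain ⟨g, hg, h6⟩ := h χ h4
    exact h1 χ h4 _ ((h5.res_two h2 ht).resolve_right fun e => h6 (e.2.2 g hg)).2

theorem exists_cover (hM : IsPModular p M) (hb : IsPBlock M b) {D : Subgroup N}
    (hD : IsDefectGroup p M b D) : ∃ (B : Set (IrrCharacter G)) (P : Subgroup G), IsPBlock M B ∧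
      eB M B * EB M b ≠ 0 ∧ IsDefectGroup p M B P ∧ P ⊓ N = D.map N.subtype := by
  obtain ⟨θ, hθ⟩ := hb.nonempty
  obtain ⟨χ, h⟩ := exists_lying_over' θ
  have hB := isPBlock_blockOf (M := M) χ
  have h0 := h.eB_mul_EB hB.isBlockUnion hb.isBlockUnion (mem_blockOf_self χ) hθ
  obtain ⟨P, h1, h2⟩ := (Block2.Cfsg.IsDefectGroup.defG hM hb hD).exists_inf_eq hM (blk_top_eB hB) (blk_EB hb) le_top
    (by simp [Subgroup.normalizer_eq_top]) h0
  exact ⟨_, P, hB, h0, (isDefectGroup_iff_defG_top hM hB).2 h1, h2⟩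

end Cfsg.Lib.Block2
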