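import Cfsg.Agent.Lib.Hall.Orbital3
import Cfsg.Agent.Lib.Hall.FC5
import Cfsg.Agent.Lib.Perm.Basic
import Cfsg.Agent.S0547

/-! Groups with a dihedral normalizer of order `2p` and a rational character of degree `p - 1`. -/

set_option autoImplicit false
set_option linter.dupNamespace false
set_option linter.unusedSectionVars false
set_option linter.style.haveILetI false

open Cfsg Cfsg.Lib.Char Subgroup
open scoped ComplexConjugate

namespace Cfsg.Lib.Block2.Ito

variable {G : Type*} [Group G] [Fintype G] {p : ℕ} {P : Subgroup G} {t : G}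

theorem exists_lin {P : Type*} [Group P] [Finite P] (hc : ∀ a b : P, a * b = b * a) {y : P} (hy : y ≠ 1) :
    ∃ l : P →* ℂˣ, l y ≠ 1 := by
  obtain ⟨χ, h1, h2⟩ := exists_irr_notMem_charKer hy
  obtain ⟨l, rfl⟩ := h1.exists_linear_of_comm hc
  rw [charKer_linear] at h2
  exact ⟨l, h2⟩

theorem comm_of_prime [Fact p.Prime] (h : Nat.card P = p) (a b : P) : a * b = b * a := by
  haveI := isCyclic_of_prime_card h
  letI := IsCyclic.commGroup (α := P)
  exact mul_comm a b

theorem mem_zpowers_of_card [Fact p.Prime] (h : Nat.card P = p) {y w : G} (hy : y ∈ P) (h1 : y ≠ 1)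
    (hw : w ∈ P) : w ∈ zpowers y := by
  obtain ⟨k, hk⟩ := mem_zpowers_iff.1 (mem_zpowers_of_prime_card h (g := ⟨y, hy⟩)
    (fun e => h1 (congrArg Subtype.val e)) (g' := ⟨w, hw⟩))
  exact ⟨k, by simpa using congrArg Subtype.val hk⟩

theorem exists_vals [Fact p.Prime] (h : Nat.card P = p) {χ : G → ℂ} (hχ : IsCharacter G χ)
    (hi : ∀ g, ∃ n : ℤ, χ g = n) :
    ∃ n m : ℕ, χ 1 = n + (p - 1) * m ∧ ∀ y ∈ P, y ≠ 1 → χ y = n - m := by
  classical
  have hp : p.Prime := Fact.out
  haveI := Fintype.ofFinite P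
  haveI : Nontrivial P := Finite.one_lt_card_iff_nontrivial.1 (h ▸ hp.one_lt)
  obtain ⟨y, hy⟩ := exists_ne (1 : P)
  have h1 : ∀ w : P, w ≠ 1 → χ w = χ y := fun w hw => by
    obtain ⟨k, hk⟩ := (mem_powers_iff_mem_zpowers.2 (mem_zpowers_of_prime_card h hy (g' := w)))
    have e : y ^ p = 1 := h ▸ pow_card_eq_one'
    have hk' : k.Coprime p := ((Nat.Prime.coprime_iff_not_dvd hp).2 fun ⟨c, hc⟩ => hw (by
      rw [← hk]; simp only [hc, pow_mul, e, one_pow])).symm
    obtain ⟨σ, hσ⟩ := exists_ringEquiv_pow hp.ne_zero hk'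
    have := hχ.isGeneralizedCharacter.map_eq_apply_pow σ.toRingHom hσ (g := y)
      (by simpa using congrArg Subtype.val e)
    obtain ⟨n, hn⟩ := hi y
    rw [← hk]
    simp only [SubgroupClass.coe_pow]
    rw [← this, hn, map_intCast]
  have hp0 : (p : ℂ) ≠ 0 := by exact_mod_cast hp.ne_zero
  have h2 : (fun w : P => χ w) = χ y • (fun _ => 1) + ((χ 1 - χ y) / p) • regChar P := by
    ext w
    by_cases hw : w = 1
    · subst hw; simp [regChar_one, -Nat.card_eq_fintype_card, h, hp0]
    · simp [regChar_of_ne hw, h1 w hw]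
  obtain ⟨l, hl⟩ := exists_lin (comm_of_prime h) hy
  obtain ⟨n, hn⟩ := (hχ.restrict P).classInner_nat isCharacter_one
  obtain ⟨m, hm⟩ := (hχ.restrict P).classInner_nat (isCharacter_linear l)
  rw [h2, classInner_add_left, classInner_smul_left, classInner_smul_left, classInner_regChar_left] at hn hm
  rw [isIrrCharacter_one.classInner_self] at hn
  rw [isIrrCharacter_one.classInner_of_ne (isIrrCharacter_linear l)
    fun e => hl (Units.ext (congrFun e y).symm)] at hm
  simp only [map_one, mul_one, mul_zero, zero_add, Units.val_one] at hn hm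
  refine ⟨n, m, ?_, fun w hw hw1 => ?_⟩
  · rw [← hn, ← hm]; field_simp; ring
  · rw [← hn, ← hm, h1 ⟨w, hw⟩ fun e => hw1 (congrArg Subtype.val e)]; ring

structure Dih (p : ℕ) (P : Subgroup G) (t : G) : Prop where
  odd : p ≠ 2
  card : Nat.card P = p
  inv : ∀ y ∈ P, t⁻¹ * y * t = y⁻¹
  nm : t ∉ P
  mem : ∀ x ∈ normalizer (P : Set G), x ∈ P ∨ t⁻¹ * x ∈ P

variable [Fact p.Prime]

theorem Dih.ind (h : Dih p P t) {f : P → ℂ} (h1 : f 1 = 0) (y : P) : indFun P f y = f y + f y⁻¹ := by
  classical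
  by_cases hy : y = 1
  · subst hy; simp [indFun_one, h1]
  have hp0 : (Nat.card P : ℂ) ≠ 0 := by exact_mod_cast Nat.card_pos.ne'
  have hc : ∀ z ∈ P, ∀ w ∈ P, z⁻¹ * w * z = w := fun z hz w hw => by
    have := congrArg Subtype.val (comm_of_prime h.card ⟨w, hw⟩ ⟨z, hz⟩)
    simp only [coe_mul] at this
    rw [mul_assoc, this, inv_mul_cancel_left]
  have key : ∀ x : G, extendByZero P f (x⁻¹ * y * x) =
      (if x ∈ P then f y else 0) + if t⁻¹ * x ∈ P then f y⁻¹ else 0 := fun x => by
    by_cases h2 : x ∈ P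
    · rw [hc x h2 y y.2, extendByZero_coe, if_pos h2, if_neg, add_zero]
      exact fun h3 => h.nm (inv_mem_iff.1 ((mul_mem_cancel_right h2).1 h3))
    by_cases h3 : t⁻¹ * x ∈ P
    · rw [if_neg h2, if_pos h3, zero_add, show x⁻¹ * y * x = (t⁻¹ * x)⁻¹ * (t⁻¹ * y * t) * (t⁻¹ * x) by group,
        h.inv y y.2, hc _ h3 _ (inv_mem y.2)]
      exact extendByZero_coe f y⁻¹
    · rw [if_neg h2, if_neg h3, add_zero, extendByZero_of_notMem]
      intro h4
      refine (h.mem x (inv_mem_iff.1 (mem_normalizer_fintype fun n hn => ?_))).elim h2 h3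
      obtain ⟨k, rfl⟩ := mem_zpowers_of_card h.card y.2 (fun e => hy (Subtype.ext e)) hn
      have := zpow_mem h4 k
      rw [show x⁻¹ * y * x = x⁻¹ * y * x⁻¹⁻¹ by rw [inv_inv], conj_zpow] at this
      exact this
  have hs : ∀ c : ℂ, ∑ x : G, (if x ∈ P then c else 0) = Nat.card P * c := fun c => by
    rw [← Finset.sum_filter, Finset.sum_const, nsmul_eq_mul, Nat.card_eq_fintype_card, Fintype.card_subtype]
  apply mul_left_cancel₀ hp0
  rw [card_mul_indFun, Finset.sum_congr rfl fun x _ => key x, Finset.sum_add_distrib, hs,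
    Fintype.sum_equiv (Equiv.mulLeft t⁻¹) (fun x => if t⁻¹ * x ∈ P then f y⁻¹ else 0)
      (fun x => if x ∈ P then f y⁻¹ else 0) fun _ => rfl, hs, mul_add]

theorem Dih.card_eq (h : Dih p P t) {a : G → ℤ} (hα : IsIrrCharacter G fun g => a g) (h1 : a 1 = p - 1)
    (hP : ∀ y ∈ P, y ≠ 1 → a y = -1) (hf : ∀ g, a g = a 1 → g = 1) :
    (Nat.card G : ℤ) = p * (p - 1) * (p - 2) := by
  classical
  have hp : p.Prime := Fact.out
  have hp3 : 3 ≤ p := by have := hp.two_le; have := h.odd; omega
  haveI := Fintype.ofFinite P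
  haveI : Nontrivial P := Finite.one_lt_card_iff_nontrivial.1 (h.card ▸ hp.one_lt)
  obtain ⟨y, hy⟩ := exists_ne (1 : P)
  have hy2 : y * y ≠ 1 := fun e => h.odd <| (Nat.prime_dvd_prime_iff_eq hp Nat.prime_two).1 <| by
    rw [← h.card, ← orderOf_eq_card_of_forall_mem_zpowers fun w => mem_zpowers_of_prime_card h.card hy]
    exact orderOf_dvd_of_pow_eq_one (by rwa [sq])
  obtain ⟨l, hl⟩ := exists_lin (comm_of_prime h.card) hy2
  set α : G → ℂ := fun g => a g with hα'
  set L : P → ℂ := fun w => l w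
  set L' : P → ℂ := fun w => (l⁻¹ w : ℂˣ)
  have hL : IsIrrCharacter P L := isIrrCharacter_linear l
  have hL' : IsIrrCharacter P L' := isIrrCharacter_linear l⁻¹
  have n1 : (fun _ => 1) ≠ L := fun e => hl (Units.ext (congrFun e _).symm)
  have n2 : (fun _ => 1) ≠ L' := fun e => hl (inv_eq_one.1 (Units.ext (congrFun e _).symm))
  have n3 : L ≠ L' := fun e => hl (by
    rw [map_mul]; exact mul_eq_one_iff_eq_inv.2 (Units.ext (congrFun e y)))
  set θ := indFun P ((fun _ => 1) - L) with hθ'
  set e := indFun P fun w => if w = 1 then 0 else (2 : ℂ)⁻¹ with he'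
  have hθ : IsGeneralizedCharacter G θ :=
    (isGeneralizedCharacter_one.sub hL.isGeneralizedCharacter).indFun
  have t1 : (fun w : P => θ w) = ((fun _ => 1) - L) + ((fun _ => 1) - L') := funext fun w => by
    rw [hθ', h.ind (by simp [L])]; simp [L, L']
  set b : G → ℤ := fun g => if ∃ w : P, w ≠ 1 ∧ IsConj g w then 1 else 0
  have t2 : ∀ g, (θ g = 0 ∧ b g = 0 ∧ e g = 0) ∨ (a g = -1 ∧ b g = 1 ∧ e g = 1) := fun g => by
    by_cases hg : ∃ w : P, w ≠ 1 ∧ IsConj g w
    · refine .inr ⟨?_, if_pos hg, ?_⟩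
      · obtain ⟨w, h2, h3⟩ := hg
        have := hα.isClassFunction.eq_of_isConj h3
        rw [← hP w w.2 fun e => h2 (Subtype.ext e)]
        exact Int.cast_injective (α := ℂ) this
      · obtain ⟨w, h2, h3⟩ := hg
        rw [he', (isClassFunction_indFun _).eq_of_isConj h3, h.ind (if_pos rfl), if_neg h2,
          if_neg (inv_ne_one.2 h2)]
        norm_num
    · have : ∀ w : P, IsConj g w → w = 1 := fun w hw => by_contra fun h2 => hg ⟨w, h2, hw⟩
      exact .inl ⟨indFun_eq_zero_of_isConj _ fun w hw => by simp [this w hw, L], if_neg hg,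
        indFun_eq_zero_of_isConj _ fun w hw => if_pos (this w hw)⟩
  have hne : α ≠ fun _ => 1 := fun e => by
    have : (a 1 : ℂ) = 1 := congrFun e 1
    have : a 1 = 1 := by exact_mod_cast this
    have h2 : (a y : ℂ) = 1 := congrFun e y
    rw [hP y y.2 fun e => hy (Subtype.ext e)] at h2
    norm_num at h2
  have i1 : classInner θ (fun _ => 1) = 1 := by
    rw [classInner_indFun_left _ (isClassFunction_const 1), classInner_sub_left,
      isIrrCharacter_one.classInner_self, hL.classInner_of_ne isIrrCharacter_one n1.symm, sub_zero]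
  have i2 : classInner θ θ = 3 := by
    rw [classInner_indFun_left _ hθ.isClassFunction, t1]
    simp only [classInner_add_right, classInner_sub_left, classInner_sub_right,
      isIrrCharacter_one.classInner_self, hL.classInner_self, hL.classInner_of_ne isIrrCharacter_one n1.symm,
      isIrrCharacter_one.classInner_of_ne hL n1, isIrrCharacter_one.classInner_of_ne hL' n2,
      hL.classInner_of_ne hL' n3]
    norm_num
  have i3 : classInner θ α = -1 := by
    rw [← i1, ← classInner_neg_right, classInner_def, classInner_def]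
    refine congrArg _ (Finset.sum_congr rfl fun g _ => ?_)
    rcases t2 g with h2 | h2
    · simp [h2.1]
    · simp [hα', h2.1]
  have i4 : classInner α (fun _ => 1) = 0 := hα.classInner_of_ne isIrrCharacter_one hne
  set ζ := θ - (fun _ => 1) + α with hζ'
  have hζ : IsIrrCharacter G ζ := by
    refine ((hθ.sub isGeneralizedCharacter_one).add hα.isGeneralizedCharacter).isIrrCharacter_of_norm_one ?_ ?_
    · simp only [classInner_add_left, classInner_add_right, classInner_sub_left, classInner_sub_right, i1, i2,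
        i3, i4, hα.classInner_self, isIrrCharacter_one.classInner_self,
        isGeneralizedCharacter_one.classInner_comm hθ, hα.isGeneralizedCharacter.classInner_comm hθ,
        isGeneralizedCharacter_one.classInner_comm hα.isGeneralizedCharacter]
      norm_num
    · have : θ 1 = 0 := by simp [θ, indFun_one, L]
      simp only [Pi.add_apply, Pi.sub_apply, this, hα', h1]
      have : (3 : ℝ) ≤ p := by exact_mod_cast hp3
      simp; linarith
  obtain ⟨n, hn⟩ := (hζ.isCharacter.mul hζ.isCharacter.conj).classInner_nat hα.isCharacter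
  have s1 : ∑ g, a g = 0 := by
    have : ∑ g, (a g : ℂ) = 0 := hα.sum_eq_zero hne
    exact_mod_cast this
  have s2 : ∑ g, a g ^ 2 = Nat.card G := by
    have := card_mul_classInner α α
    rw [hα.classInner_self, mul_one] at this
    apply Int.cast_injective (α := ℂ)
    push_cast
    rw [this]
    exact Finset.sum_congr rfl fun g _ => by simp [hα', sq]
  have s3 : 2 * p * ∑ g, b g = (p - 1) * Nat.card G := by
    have i5 := card_mul_classInner e fun _ => 1
    rw [classInner_indFun_left _ (isClassFunction_const 1), classInner_one_right,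
      ← Finset.add_sum_erase _ _ (Finset.mem_univ 1), if_pos rfl,
      Finset.sum_congr rfl fun w hw => if_neg (Finset.ne_of_mem_erase hw), Finset.sum_const,
      Finset.card_erase_of_mem (Finset.mem_univ _), Finset.card_univ, ← Nat.card_eq_fintype_card, h.card,
      nsmul_eq_mul, Nat.cast_sub hp.one_le] at i5
    apply Int.cast_injective (α := ℂ)
    push_cast
    rw [Finset.sum_congr rfl (g := fun g => e g * conj 1) fun g _ => by
      rcases t2 g with h2 | h2 <;> simp [h2.2.1, h2.2.2], ← i5]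
    have hp0 : (p : ℂ) ≠ 0 := by exact_mod_cast hp.ne_zero
    field_simp
    simp
  have s4 : ∑ g, a g ^ 3 = (n + 1) * Nat.card G := by
    have j1 := card_mul_classInner θ fun _ => 1
    have j2 := card_mul_classInner θ θ
    have j3 := card_mul_classInner (fun _ => 1) θ
    have j4 := card_mul_classInner (ζ * fun g => conj (ζ g)) α
    rw [isGeneralizedCharacter_one.classInner_comm hθ, i1] at j3
    rw [i1] at j1
    rw [i2] at j2
    rw [hn, Finset.sum_congr rfl (g := fun g => -(θ g * conj (θ g)) + 2 * (θ g * conj 1) + 2 * (1 * conj (θ g))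
      + ((a g ^ 3 : ℤ) - 2 * (a g ^ 2 : ℤ) + a g : ℂ)) fun g _ => by
        rcases t2 g with h2 | h2 <;> simp [hζ', hα', h2.1] <;> ring] at j4
    simp only [Finset.sum_add_distrib, Finset.sum_sub_distrib, Finset.sum_neg_distrib, ← Finset.mul_sum,
      ← j1, ← j2, ← j3, ← Int.cast_sum, s1, s2] at j4
    apply Int.cast_injective (α := ℂ)
    push_cast at j4 ⊢
    linear_combination -j4
  have hle : ∀ g, a g ≤ a 1 := fun g => by
    have := hα.isCharacter.norm_le g
    simp only [hα', Complex.norm_intCast] at this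
    have h2 : |a g| ≤ |a 1| := by exact_mod_cast this
    rw [abs_of_nonneg (a := a 1) (by omega)] at h2
    exact (le_abs_self _).trans h2
  have hq : ∀ g, 0 ≤ (1 - b g) * (a g * (a g - 1)) := fun g => by
    rcases t2 g with h2 | h2
    · rw [h2.2.1]; nlinarith [sq_nonneg (2 * a g - 1), show a g ≤ 0 ∨ 1 ≤ a g by omega,
        show 0 ≤ a g * (a g - 1) by rcases (show a g ≤ 0 ∨ 1 ≤ a g by omega) with h3 | h3 <;> nlinarith]
    · simp [h2.2.1]
  have s5 : ∑ g, (1 - b g) * (a g * (a g - 1)) * (a 1 - a g) = -(n * Nat.card G) := by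
    rw [Finset.sum_congr rfl (g := fun g => p * a g ^ 2 - a g ^ 3 - (p - 1) * a g - 2 * p * b g) fun g _ => by
      rcases t2 g with h2 | h2 <;> simp only [h1, h2.1, h2.2.1] <;> ring]
    simp only [Finset.sum_sub_distrib, ← Finset.mul_sum, s1, s2, s3, s4]
    ring
  have s6 := (Finset.sum_eq_zero_iff_of_nonneg fun g _ => mul_nonneg (hq g) (sub_nonneg.2 (hle g))).1
    (le_antisymm (s5.le.trans (by simp; positivity))
      (Finset.sum_nonneg fun g _ => mul_nonneg (hq g) (sub_nonneg.2 (hle g))))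
  have s7 : ∑ g, (1 - b g) * (a g * (a g - 1)) = (p - 1) * (p - 2) := by
    rw [Finset.sum_eq_single 1 (fun g _ hg => (mul_eq_zero.1 (s6 g (Finset.mem_univ _))).resolve_right
      fun e => hg (hf g (by omega))) (by simp)]
    rcases t2 1 with h2 | h2
    · rw [h2.2.1, h1]; ring
    · omega
  rw [Finset.sum_congr rfl (g := fun g => a g ^ 2 - a g - 2 * b g) fun g _ => by
      rcases t2 g with h2 | h2 <;> simp only [h2.1, h2.2.1] <;> ring] at s7
  simp only [Finset.sum_sub_distrib, ← Finset.mul_sum, s1, s2] at s7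
  linear_combination p * s7 + s3

open MulAction Cfsg.Lib.Hall

variable {Ω : Type*} [Fintype Ω] [MulAction G Ω]

omit [Fact p.Prime] in
theorem exists_rank_three [IsPretransitive G Ω] (a : Ω)
    (h : Nat.card (orbitRel.Quotient (stabilizer G a) Ω) = 3) :
    ∃ α β : G → ℂ, IsIrrCharacter G α ∧ IsIrrCharacter G β ∧ (α ≠ fun _ => 1) ∧ (β ≠ fun _ => 1) ∧
      pch G Ω = (fun _ => 1) + α + β := by
  classical
  obtain ⟨s, m, hs, hm, h1, h2⟩ := exists_mult (G := G) a
  rw [h] at h2
  have h3 : ∀ χ ∈ s, m χ ≤ 1 := fun χ hχ => by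
    have := Finset.single_le_sum (f := fun χ => m χ ^ 2) (fun _ _ => Nat.zero_le _) hχ
    nlinarith
  have h5 : (s.filter fun χ => m χ = 1).card = 2 := by
    rw [Finset.sum_congr rfl (g := fun χ => if m χ = 1 then 1 else 0) fun χ hχ => by
      have := h3 χ hχ
      split_ifs with h
      · rw [h, one_pow]
      · rw [show m χ = 0 by omega]; rfl, ← Finset.card_filter] at h2
    omega
  obtain ⟨α, β, h6, h7⟩ := Finset.card_eq_two.1 h5
  have h8 : ∀ χ, χ ∈ ({α, β} : Finset _) → χ.1 ≠ fun _ => 1 := fun χ hχ =>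
    (hs χ).1 (Finset.mem_filter.1 (h7 ▸ hχ)).1
  refine ⟨α, β, α.2, β.2, h8 α (by simp), h8 β (by simp), ?_⟩
  rw [h1, add_assoc, ← Finset.sum_pair (f := fun χ : IrrCharacter G => χ.1) h6, ← h7, Finset.sum_filter]
  refine congrArg _ (Finset.sum_congr rfl fun χ hχ => ?_)
  have := h3 χ hχ
  split_ifs with h
  · simp [h]
  · simp [show m χ = 0 by omega]

omit [Fact p.Prime] in
theorem faithful_of_prim [FaithfulSMul G Ω] [IsPreprimitive G Ω] (a : Ω) {α β : G → ℂ}
    (hα : IsIrrCharacter G α) (hβ : IsCharacter G β) (h : pch G Ω = (fun _ => 1) + α + β) {g : G}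
    (hg : α g = α 1) : g = 1 := by
  by_contra h1
  haveI := hα.charKer_normal
  haveI := Perm.isPretransitive_of_normal (α := Ω) (charKer α) fun e =>
    h1 (mem_bot.1 (e ▸ hα.mem_charKer.2 hg))
  haveI := Fintype.ofFinite (charKer α)
  have h2 := pch_inner_one (G := charKer α) a
  obtain ⟨n, hn⟩ := (hβ.restrict (charKer α)).classInner_nat isCharacter_one
  obtain ⟨d, hd, hd'⟩ := hα.exists_pos_degree
  have : pch (charKer α) Ω = (1 + d : ℂ) • (fun _ => 1) + fun w : charKer α => β w := funext fun w => by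
    have := congrFun h w
    simp only [Pi.add_apply, apply_eq_of_mem_charKer w.2, hd'] at this
    exact Eq.trans this (by simp)
  rw [this, classInner_add_left, classInner_smul_left, isIrrCharacter_one.classInner_self, hn] at h2
  have : 1 + d + n = 1 := by exact_mod_cast (by simpa using h2 : (1 + d + n : ℂ) = 1)
  omega

omit [Fact p.Prime] in
theorem int_of_rank {α β : G → ℂ} (hα : IsIrrCharacter G α) (hβ : IsIrrCharacter G β)
    (h0 : α ≠ fun _ => 1) (h : pch G Ω = (fun _ => 1) + α + β) (hd : α 1 ≠ β 1) (g : G) :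
    ∃ n : ℤ, α g = n := by
  refine exists_int_of_forall_ringEquiv (hα.isCharacter.isIntegral g) fun σ => ?_
  have h1 := pch_inner_map (Ω := Ω) hα.isCharacter σ
  have h2 := hα.map_ringEquiv σ
  obtain ⟨d, -, hd'⟩ := hα.exists_pos_degree
  have h3 : β ≠ α := fun e => hd (e ▸ rfl)
  rw [h, classInner_add_left, classInner_add_left, classInner_add_left, classInner_add_left,
    hα.classInner_self, isIrrCharacter_one.classInner_of_ne hα h0.symm, hβ.classInner_of_ne hα h3,
    isIrrCharacter_one.classInner_of_ne h2 fun e => h0 (funext fun g => σ.injective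
      ((congrFun e g).symm.trans (map_one σ).symm)),
    hβ.classInner_of_ne h2 fun e => hd (by rw [congrFun e 1, hd', map_natCast])] at h1
  exact (congrFun (hα.eq_of_classInner_ne_zero h2 (by rw [zero_add, add_zero] at h1; simp [h1])) g).symm

theorem exists_dih [FaithfulSMul G Ω] [IsPreprimitive G Ω] (hp : p ≠ 2) (hΩ : Fintype.card Ω = 2 * p)
    (P : Sylow p G) (hN : Nat.card (normalizer ((P : Subgroup G) : Set G)) = 2 * p) :
    ∃ t, Dih p (P : Subgroup G) t := by
  have hp' : p.Prime := Fact.out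
  haveI : Nonempty Ω := Fintype.card_pos_iff.1 (by have := hp'.pos; omega)
  obtain ⟨a⟩ : Nonempty Ω := inferInstance
  have hd : ∀ K : Subgroup G, K.Normal → K ≠ ⊥ → 2 * p ∣ Nat.card K := fun K _ hK => by
    haveI := Perm.isPretransitive_of_normal (α := Ω) K hK
    rw [← hΩ, ← Nat.card_eq_fintype_card, ← index_stabilizer_of_transitive K a]
    exact index_dvd_card _
  have h1 : 2 * p ∣ Nat.card G := hN ▸ card_subgroup_dvd_card _
  have hc : Nat.card P = p := by
    obtain ⟨k, hk⟩ := P.isPGroup'.exists_card_eq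
    have h2 : p ^ k ∣ 2 * p := hk ▸ hN ▸ card_dvd_of_le le_normalizer
    have h3 : p ^ k ∣ p ^ 1 := by
      rw [pow_one]
      exact (Nat.Coprime.pow_left k ((Nat.coprime_primes hp' Nat.prime_two).2 hp)).dvd_of_dvd_mul_left h2
    have h4 := (Nat.pow_dvd_pow_iff_le_right hp'.one_lt).1 h3
    have h5 : k ≠ 0 := by
      rintro rfl
      refine P.not_dvd_index ?_
      have := (P : Subgroup G).card_mul_index
      rw [hk, pow_zero, one_mul] at this
      exact this ▸ (dvd_mul_left _ _).trans h1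
    rw [hk, show k = 1 by omega, pow_one]
  have hm := comm_of_prime hc
  have hnc : ¬ normalizer ((P : Subgroup G) : Set G) ≤ centralizer ((P : Subgroup G) : Set G) := fun h => by
    have h2 := MonoidHom.ker_transferSylow_isComplement' P h
    by_cases h3 : (MonoidHom.transferSylow P h).ker = ⊥
    · have := h2.card_mul
      rw [h3, card_bot, hc, one_mul] at this
      have := Nat.le_of_dvd Nat.card_pos h1
      have := hp'.pos
      omega
    · exact MonoidHom.not_dvd_card_ker_transferSylow P h ((dvd_mul_left _ _).trans (hd _ inferInstance h3))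
  obtain ⟨t, ht, ht'⟩ := SetLike.not_le_iff_exists.1 hnc
  have hPC : (P : Subgroup G) ≤ centralizer ((P : Subgroup G) : Set G) := fun x hx =>
    mem_centralizer_iff.2 fun y hy => congrArg Subtype.val (hm ⟨y, hy⟩ ⟨x, hx⟩)
  have htP : t ∉ (P : Subgroup G) := fun h => ht' (hPC h)
  have hi : ((P : Subgroup G).subgroupOf (normalizer ((P : Subgroup G) : Set G))).index = 2 := by
    have := ((P : Subgroup G).subgroupOf (normalizer ((P : Subgroup G) : Set G))).card_mul_index
    rw [Core.card_subgroupOf_of_le le_normalizer, hc, hN, mul_comm] at this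
    exact Nat.eq_of_mul_eq_mul_right hp'.pos this
  have hm2 : ∀ x ∈ normalizer ((P : Subgroup G) : Set G), x ∈ (P : Subgroup G) ∨ t⁻¹ * x ∈ (P : Subgroup G) :=
    fun x hx => or_iff_not_imp_left.2 fun h => by
      have := (mul_mem_iff_of_index_two hi (a := ⟨t, ht⟩⁻¹) (b := ⟨x, hx⟩)).2
        (by simp only [mem_subgroupOf, inv_mem_iff]; exact iff_of_false htP h)
      exact this
  refine ⟨t, hp, hc, fun y hy => ?_, htP, hm2⟩
  have h2 : t⁻¹ * y * t ∈ (P : Subgroup G) := by
    simpa using (mem_normalizer_iff.1 (inv_mem ht) y).1 hy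
  have h3 : t * t ∈ (P : Subgroup G) := by
    refine (hm2 t⁻¹ (inv_mem ht)).elim (fun h => absurd (inv_mem_iff.1 h) htP) fun h => ?_
    simpa using inv_mem h
  have h4 := mem_centralizer_iff.1 (hPC h3) y hy
  have h5 := mem_centralizer_iff.1 (hPC h2) y hy
  by_contra h6
  refine ht' (mem_centralizer_iff.2 fun w hw => ?_)
  obtain ⟨k, rfl⟩ := mem_zpowers_of_card hc (mul_mem hy h2) (fun e => h6 (eq_inv_of_mul_eq_one_right e)) hw
  refine (Commute.zpow_left ?_ k).eq
  change y * (t⁻¹ * y * t) * t = t * (y * (t⁻¹ * y * t))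
  rw [show t * (y * (t⁻¹ * y * t)) = t * (t⁻¹ * y * t * y) by rw [h5]]
  calc y * (t⁻¹ * y * t) * t = y * t⁻¹ * (y * (t * t)) := by group
    _ = _ := by rw [h4]; group

theorem card_of_rank [FaithfulSMul G Ω] [IsPreprimitive G Ω] (hΩ : Fintype.card Ω = 2 * p) {P : Sylow p G}
    (h : Dih p (P : Subgroup G) t) (a : Ω) (hr : Nat.card (orbitRel.Quotient (stabilizer G a) Ω) = 3) :
    (Nat.card G : ℤ) = p * (p - 1) * (p - 2) := by
  have hp : p.Prime := Fact.out
  have hfix : ∀ y ∈ (P : Subgroup G), y ≠ 1 → pch G Ω y = 0 := fun y hy h1 => by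
    refine Nat.cast_eq_zero.2 (Nat.card_eq_zero.2 (.inl ⟨fun z => ?_⟩))
    have h2 : (P : Subgroup G) ≤ stabilizer G z.1 := fun w hw =>
      zpowers_le.2 (show y ∈ stabilizer G z.1 from z.2) (mem_zpowers_of_card h.card hy h1 hw)
    refine P.not_dvd_index (dvd_trans ?_ (index_dvd_of_le h2))
    rw [index_stabilizer_of_transitive, Nat.card_eq_fintype_card, hΩ]
    exact dvd_mul_left _ _
  haveI : Nontrivial (P : Subgroup G) := Finite.one_lt_card_iff_nontrivial.1 (by rw [h.card]; exact hp.one_lt)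
  obtain ⟨y, hy⟩ := exists_ne (1 : (P : Subgroup G))
  have hy' : (y : G) ≠ 1 := fun e => hy (Subtype.ext e)
  have key : ∀ α β : G → ℂ, IsIrrCharacter G α → IsIrrCharacter G β → pch G Ω = (fun _ => 1) + α + β →
      (∀ g, ∃ n : ℤ, α g = n) → ∀ n m n' m' : ℕ, α 1 = n + (p - 1) * m → β 1 = n' + (p - 1) * m' →
      (∀ y ∈ (P : Subgroup G), y ≠ 1 → α y = n - m) → β y = n' - m' → n = 0 → n' = 1 → m + m' = 2 →
      (Nat.card G : ℤ) = p * (p - 1) * (p - 2) := by
    rintro α β hα hβ e hi n m n' m' a1 b1 a2 b2 rfl rfl hm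
    obtain rfl | rfl | rfl : m = 0 ∨ m = 1 ∨ m' = 0 := by omega
    · exact absurd (by simpa using a1) hα.apply_one_ne_zero
    · choose f hf using hi
      obtain rfl : α = fun g => (f g : ℂ) := funext hf
      refine h.card_eq hα (Int.cast_injective (α := ℂ) (by simpa using a1))
        (fun y hy h1 => Int.cast_injective (α := ℂ) (by simpa using a2 y hy h1)) fun g hg =>
        faithful_of_prim a hα hβ.isCharacter e (congrArg Int.cast hg)
    · exact absurd (faithful_of_prim a hβ hα.isCharacter (e.trans (add_right_comm _ _ _))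
        (b2.trans (by simp [b1]))) hy'
  obtain ⟨α, β, hα, hβ, h1, h2, e⟩ := exists_rank_three a hr
  have e1 := congrFun e 1
  have e2 := congrFun e y
  rw [pch_one, hΩ] at e1
  rw [hfix y y.2 hy'] at e2
  have hd : α 1 ≠ β 1 := fun e' => by
    obtain ⟨d, -, hd⟩ := hβ.exists_pos_degree
    simp only [Pi.add_apply, e', hd] at e1
    have : 2 * p = 1 + d + d := by exact_mod_cast e1
    omega
  have i1 := int_of_rank hα hβ h1 e hd
  have i2 := int_of_rank hβ hα h2 (e.trans (add_right_comm _ _ _)) hd.symm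
  obtain ⟨n, m, a1, a2⟩ := exists_vals h.card hα.isCharacter i1
  obtain ⟨n', m', b1, b2⟩ := exists_vals h.card hβ.isCharacter i2
  simp only [Pi.add_apply, a1, b1, a2 y y.2 hy', b2 y y.2 hy'] at e1 e2
  have e3 : (2 * p : ℤ) = 1 + (n + (p - 1) * m) + (n' + (p - 1) * m') := by exact_mod_cast e1
  have e4 : (0 : ℤ) = 1 + (n - m) + (n' - m') := by exact_mod_cast e2
  have e5 : (m + m' : ℤ) = 2 := mul_left_cancel₀ (a := (p : ℤ)) (by exact_mod_cast hp.ne_zero)
    (by linear_combination e4 - e3)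
  obtain h3 | h3 : (n = 0 ∧ n' = 1) ∨ (n' = 0 ∧ n = 1) := by omega
  · exact key α β hα hβ e i1 n m n' m' a1 b1 a2 (b2 y y.2 hy') h3.1 h3.2 (by omega)
  · exact key β α hβ hα (e.trans (add_right_comm _ _ _)) i2 n' m' n m b1 a1 b2 (a2 y y.2 hy') h3.1 h3.2
      (by omega)

theorem main {α : Type*} [Fintype α] [DecidableEq α] (hp : 3 < p) (hα : Fintype.card α = 2 * p)
    (G : Subgroup (Equiv.Perm α)) (hprim : IsPreprimitive G α) (hnot2 : ¬ IsMultiplyPretransitive G α 2)
    (P : Sylow p G) (hN : Nat.card (normalizer ((P : Subgroup G) : Set G)) = 2 * p) :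
    p = 5 ∧ Nonempty (G ≃* alternatingGroup (Fin 5)) := by
  haveI := Fintype.ofFinite G
  haveI : Nontrivial α := Fintype.one_lt_card_iff_nontrivial.1 (by omega)
  obtain ⟨a⟩ : Nonempty α := inferInstance
  obtain ⟨h1, c, h2, h3, h4⟩ := (wielandt_two_p Fact.out hα G hprim a).resolve_left hnot2
  obtain ⟨t, ht⟩ := exists_dih (by omega) hα P hN
  have h5 := card_of_rank hα ht a h1
  obtain ⟨b, hb⟩ := exists_ne a
  have h6 : 2 * c + 1 ∣ Nat.card (stabilizer G a) := by
    have : Nat.card (MulAction.orbit (stabilizer G a) b) ∣ Nat.card (stabilizer G a) := by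
      rw [Nat.card_coe_set_eq, ← index_stabilizer]; exact index_dvd_card _
    rcases h4 b hb with h | h <;> exact (dvd_mul_left _ _).trans (h ▸ this)
  have h7 := (stabilizer G a).card_mul_index
  rw [index_stabilizer_of_transitive, Nat.card_eq_fintype_card (α := α), hα] at h7
  obtain ⟨k, hk⟩ := h6
  have h8 : (2 * c + 1 : ℤ) * k * 2 = (p - 1) * (p - 2) :=
    mul_left_cancel₀ (a := (p : ℤ)) (by omega) (by
      rw [hk] at h7
      have : ((2 * c + 1) * k * (2 * p) : ℤ) = Nat.card G := by exact_mod_cast h7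
      linear_combination this + h5)
  have h9 : (2 * c + 1 : ℤ) ∣ 3 := ⟨8 * k - (2 * c + 1) ^ 3 + 4 * (2 * c + 1), by
    have : (p : ℤ) = 2 * c ^ 2 + 2 * c + 1 := by exact_mod_cast h3
    rw [this] at h8
    linear_combination -4 * h8⟩
  have h10 := Int.le_of_dvd (by norm_num) h9
  obtain rfl : c = 1 := by omega
  obtain rfl : p = 5 := h3
  have h11 : Nat.card G = 60 := by exact_mod_cast (h5.trans (by norm_num) : (Nat.card G : ℤ) = 60)
  refine ⟨rfl, equiv_A5_of_not_solvable h11 fun hs => ?_⟩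
  haveI : Nontrivial G := Finite.one_lt_card_iff_nontrivial.1 (by omega)
  obtain ⟨M, m1, m2, -, m3⟩ := Core.exists_minimal_normal_le (⊤ : Subgroup G) top_ne_bot
  obtain ⟨-, -, q, d, hq, -, m4, -⟩ := Cfsg.Agent.S0547.result hprim M m2 m3
  rw [Nat.card_eq_fintype_card, hα] at m4
  have a1 := (Nat.prime_dvd_prime_iff_eq Nat.prime_two hq).1 (Nat.prime_two.dvd_of_dvd_pow (n := d) (by rw [← m4]; norm_num))
  have a2 := (Nat.prime_dvd_prime_iff_eq Nat.prime_five hq).1 (Nat.prime_five.dvd_of_dvd_pow (n := d) (by rw [← m4]; norm_num))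
  omega

end Cfsg.Lib.Block2.Ito
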