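import Cfsg.Agent.Lib.MatB.F2

/-! The group `11^(1+2) : (5 × GL(2,3))` from word equations. -/

set_option autoImplicit false
set_option maxRecDepth 100000

namespace Cfsg.Lib.JE

open Subgroup Cfsg.Lib.Comp Cfsg.Lib.MatB

def eL : List (List ℕ × List ℕ) := ([([2,1],[1,2,3]),([1,3],[3,1]),([2,3],[3,2]),([1,1,1,1,1,1,1,1,1,1,1],[]),([2,2,2,2,2,2,2,2,2,2,2],[]),([3,3,3,3,3,3,3,3,3,3,3],[]),([6,6,6,6,6],[]),([7,8],[9,8,7]),([10],[]),([4,1],[1,1,1,1,1,1,2,2,2,3,3,3,3,3,3,3,3,3,4]),([4,2],[1,1,1,1,2,2,2,2,3,3,3,3,3,3,3,3,4]),([4,3],[3,4]),([5,1],[1,1,1,1,1,1,1,1,1,1,2,2,2,2,2,2,2,2,3,3,3,3,3,3,3,5]),([5,2],[2,5]),([5,3],[3,3,3,3,3,3,3,3,3,3,5]),([6,1],[1,1,1,6]),([6,2],[2,2,2,6]),([6,3],[3,3,3,3,3,3,3,3,3,6]),([7,1],[2,2,2,2,2,2,2,2,2,2,7]),([7,2],[1,7]),([7,3],[3,7]),([8,1],[1,1,1,1,1,1,1,1,1,1,2,2,2,2,2,2,2,2,3,3,3,3,3,3,3,8]),([8,2],[1,1,1,1,1,1,1,1,2,3,3,3,3,8]),([8,3],[3,8]),([9,1],[1,1,1,1,1,1,1,1,1,1,9]),([9,2],[2,2,2,2,2,2,2,2,2,2,9]),([9,3],[3,9]),([45,4],[38]),([45,5],[34]),([36,4],[47]),([36,5],[28]),([16,4],[20]),([16,5],[13]),([34,4],[44]),([34,5],[45]),([28,4],[35]),([28,5],[36]),([13,4],[10]),([13,5],[16]),([42,4],[26])]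 ++
 ([([42,5],[50]),([52,4],[56]),([52,5],[40]),([23,4],[29]),([23,5],[18]),([50,4],[46]),([50,5],[42]),([40,4],[51]),([40,5],[52]),([18,4],[12]),([18,5],[23]),([10,4],[11]),([10,5],[12]),([47,4],[55]),([47,5],[56]),([44,4],[27]),([44,5],[51]),([20,4],[25]),([20,5],[26]),([35,4],[22]),([35,5],[46]),([38,4],[49]),([38,5],[29]),([33,4],[42]),([33,5],[43]),([39,4],[50]),([39,5],[30]),([15,4],[18]),([15,5],[19]),([37,4],[23]),([37,5],[48]),([57,4],[52]),([57,5],[54]),([31,4],[40]),([31,5],[24]),([41,4],[53]),([41,5],[49]),([21,4],[14]),([21,5],[27]),([53,4],[32])] ++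
 ([([53,5],[55]),([17,4],[21]),([17,5],[22]),([14,4],[17]),([14,5],[11]),([32,4],[41]),([32,5],[25]),([12,4],[15]),([12,5],[10]),([56,4],[57]),([56,5],[47]),([46,4],[39]),([46,5],[35]),([29,4],[37]),([29,5],[38]),([51,4],[31]),([51,5],[44]),([26,4],[33]),([26,5],[20]),([43,4],[54]),([43,5],[33]),([30,4],[19]),([30,5],[39]),([54,4],[48]),([54,5],[57]),([24,4],[30]),([24,5],[31]),([19,4],[24]),([19,5],[15]),([48,4],[43]),([48,5],[37]),([49,4],[45]),([49,5],[41]),([27,4],[34]),([27,5],[21]),([11,4],[13]),([11,5],[14]),([25,4],[16]),([25,5],[32]),([55,4],[36])] ++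
 [([55,5],[53]),([22,4],[28]),([22,5],[17])])))

def tb : List ℕ := [0,0,0,0,0,0,0,0,0,0,0,0,45,36,16,34,28,13,0,0,0,42,52,23,50,40,18,0,10,47,0,44,20,0,35,38,0,33,39,15,0,37,57,31,0,0,41,21,53,17,0,14,0,32,0,12,56,0,46,29,0,51,26,0,43,30,54,24,0,19,0,48,0,49,27,11,0,25,55,22,0]

def wd : List (List ℕ) := ([[],[],[],[],[],[],[],[],[],[],[],[],[4,5,4,4,5,4,5],[4,5,4,5,4,5],[4,4,5],[4,5,4,4,5,4],[4,5,4,5,4],[4,4],[],[],[],[4,4,5,4,5,4,4],[5,4,5,4,5,4,5],[5,4,4,5],[5,4,5,4,4,5,4],[5,4,5,4,5,4],[5,4,4],[],[],[4,5,4,5,4,5,4],[],[4,5,4,4,5,4,4],[4,4,5,4],[],[4,5,4,5,4,4],[5,4,4,5,4,5],[],[4,4,5,4,5,4],[5,4,5,4,4,5],[5,4]] ++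
 ([[],[5,4,4,5,4,4],[4,4,5,4,5,4,5,4,5],[5,4,5,4,5],[],[],[4,4,5,4,4,5,4],[4,5,4,4],[4,4,5,4,4,5,4,4],[4,5,4],[],[4,5],[],[4,4,5,4,4,5],[],[5],[4,5,4,5,4,5,4,5],[],[4,5,4,5,4,4,5],[5,4,4,5,4],[],[5,4,5,4,5,4,4],[4,4,5,4,5],[],[4,4,5,4,5,4,5],[5,4,5,4,4],[4,4,5,4,5,4,5,4],[5,4,5,4],[],[5,4,5],[],[5,4,4,5,4,4,5],[],[5,4,4,5,4,5,4],[4,5,4,4,5],[4],[],[4,4,5,4,4],[4,5,4,5,4,5,4,4],[4,5,4,5]] ++
 [[]]))

def w1 : List (List ℕ) := ([[],[],[6,6,4,5,4,5,4,5,4],[6],[6,6,6,6],[6,6,6],[6,6,6,4,5,4,5,4,5,4],[6,6,6,6,4,5,4,5,4,5,4],[6,4,5,4,5,4,5,4],[6,6],[4,5,4,5,4,5,4],[5,4,4,5,4,4],[6,4],[6,4,4,5,4,4,5,4,4],[5,4,5,4],[6,5,4,5,4,5,4],[6,6,6,6,4,4,5,4,5,4],[6,6,4,4,5,4],[6,6,6,6,4,4,5,4,5,4,4],[6,6,4,5,4,5,4,4],[6,6,6,6,5,4,5,4,4],[6,5,4,4],[6,6,4,5,4],[6,6,6,6,4,5,4,4,5,4,4],[6,6,6,4,4,5,4,5,4,5,4],[6,4,5,4,4,5,4],[6,6,6,5,4],[6,6,6,6,5,4,4,5,4],[6,6,4,4,5,4,4],[6,4,4,5,4,4,5,4],[6,6,6,4,4],[6,6,6,4,5,4,5,4],[6,4,5,4,4],[6,5,4,4,5,4,4],[6,6,5,4,5,4,5,4],[6,6,6,4,5,4,5,4,4],[6,6,4],[4,4,5,4,5,4],[5,4,5,4,4],[6,6,4,4,5,4,4,5,4,4]]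 ++
 ([[6,6,6,4,4,5,4],[6,6,5,4,4],[6,5,4,5,4],[4,4,5,4,5,4,4],[6,6,6,6,5,4,4,5,4,4],[6,6,6,6,5,4,5,4],[6,4,4,5,4],[6,6,6,5,4,5,4,4],[4],[5,4,5,4,5,4],[6,6,6,4,4,5,4,5,4,4],[5,4,4],[4,4,5,4,4,5,4,4],[6,6,6,4,4,5,4,5,4],[6,4,5,4,5,4,4],[6,6,6,5,4,4,5,4,4],[6,6,5,4,5,4,4],[6,6,4,4,5,4,5,4,4],[6,6,4,4,5,4,5,4],[6,6,6,5,4,5,4],[6,6,6,6,4],[6,6,6,6,5,4,4],[4,5,4,5,4,4],[4,4,5,4],[6,6,6,6,5,4,5,4,5,4],[6,6,6,6,4,4,5,4,4,5,4,4],[6,6,6,4,5,4],[6,6,6,6,5,4],[6,6,6,6,4,4],[4,5,4,4,5,4,4],[5,4,4,5,4],[6,6,6,6,4,5,4,5,4],[6,6,6,6,4,4,5,4,5,4,5,4],[6,6,6,4,4,5,4,4],[6,6,4,5,4,4],[6,6,4,5,4,4,5,4],[6,6,4,4,5,4,4,5,4],[6,6,6,6,4,5,4],[6,5,4,4,5,4],[6,6,6,4,5,4,4]] ++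
 ([[5,4],[4,5,4,5,4],[6,6,6,4,5,4,4,5,4],[4,4],[4,4,5,4,5,4,5,4],[6,6,6,4,4,5,4,4,5,4],[6,4,5,4,4,5,4,4],[6,6,6,6,4,4,5,4,4],[6,4,5,4],[4,5,4,4,5,4],[6,4,4,5,4,4],[6,6,4,5,4,5,4],[6,6,6,4,5,4,4,5,4,4],[6,6,5,4],[4,4,5,4,4,5,4],[4,5,4,4],[6,6,4,4,5,4,5,4,5,4],[6,6,6,5,4,4,5,4],[6,6,4,4],[6,6,5,4,4,5,4,4],[6,4,4,5,4,5,4],[6,6,6,5,4,4],[6,6,6,5,4,5,4,5,4],[6,5,4,5,4,4],[6,6,5,4,5,4],[6,6,6,6,4,5,4,5,4,4],[6,6,6,4,4,5,4,4,5,4,4],[6,4,4,5,4,5,4,4],[6,6,6,4],[6,6,6,6,4,4,5,4],[4,5,4],[6,4,5,4,5,4],[6,6,6,6,4,4,5,4,4,5,4],[6,6,5,4,4,5,4],[6,6,6,6,4,5,4,4,5,4],[6,6,4,5,4,4,5,4,4],[6,6,6,6,4,5,4,4],[6,4,4],[4,4,5,4,4],[6,5,4]] ++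
 [[6,4,4,5,4,5,4,5,4]])))

def w2 : List (List ℕ) := [[],[],[6,5],[6,6,6],[6,6],[6,6,6,6],[6,6,6,6,5],[6,6,5],[6,6,6,5],[6],[5]]

def acL : List (List (He 11)) := [[⟨6,3,9⟩, ⟨4,4,8⟩, ⟨0,0,1⟩], [⟨10,8,7⟩, ⟨0,1,0⟩, ⟨0,0,10⟩], [⟨3,0,0⟩, ⟨0,3,0⟩, ⟨0,0,9⟩], [⟨0,10,0⟩, ⟨1,0,0⟩, ⟨0,0,1⟩], [⟨10,8,7⟩, ⟨8,1,4⟩, ⟨0,0,1⟩], [⟨10,0,0⟩, ⟨0,10,0⟩, ⟨0,0,1⟩]]

def ac (g x : ℕ) : He 11 := (acL.getD (g - 4) []).getD (x - 1) 1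

def tau (g : ℕ) (u : He 11) : He 11 := ac g 1 ^ u.i.val * ac g 2 ^ u.j.val * ac g 3 ^ u.k.val

def app (w : List ℕ) (u : He 11) : He 11 := w.foldr tau u

abbrev M3 := Matrix (Fin 2) (Fin 2) (ZMod 3)

def cd (A : M3) : ℕ := (A 0 0).val + 3 * (A 0 1).val + 9 * (A 1 0).val + 27 * (A 1 1).val

def sg (x : ℕ) : GL (Fin 2) (ZMod 3) :=
  if x = 4 then ⟨!![0, 1; 2, 2], !![2, 2; 1, 0], by decide, by decide⟩
  else ⟨!![1, 0; 0, 2], !![1, 0; 0, 2], by decide, by decide⟩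

theorem f1 : ∀ a b c d : ZMod 3, a * d - b * c ≠ 0 → ∀ s ∈ [4, 5],
    ([tb.getD (cd !![a, b; c, d]) 0, s], [tb.getD (cd (!![a, b; c, d] * (sg s : M3))) 0]) ∈ eL := by decide +kernel

theorem f2 : ∀ a b c d : ZMod 3, a * d - b * c ≠ 0 →
    ev (fun x => (sg x : M3)) (wd.getD (cd !![a, b; c, d]) []) = !![a, b; c, d] ∧
    (∀ x ∈ wd.getD (cd !![a, b; c, d]) [], x ∈ [4, 5]) ∧
    (!![a, b; c, d] = 1 ∨ tb.getD (cd !![a, b; c, d]) 0 ∈ List.range' 11 47) := by decide +kernel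

theorem f3 : ∀ g ∈ [4, 5, 6, 7, 8, 9], ∀ x ∈ [1, 2, 3], ([g, x], apd (hw [1] [2] [3] (ac g x)) [g]) ∈ eL := by
  decide +kernel

theorem f4 : ∀ i j : ZMod 11, ¬ (i = 0 ∧ j = 0) → (app (w1.getD (11 * i.val + j.val) []) ⟨0, 1, 0⟩).i = i ∧
    (app (w1.getD (11 * i.val + j.val) []) ⟨0, 1, 0⟩).j = j ∧ ∀ x ∈ w1.getD (11 * i.val + j.val) [], x ∈ [4, 5, 6] := by
  decide +kernel

theorem f5 : ∀ k : ZMod 11, k ≠ 0 → app (w2.getD k.val []) ⟨0, 0, 1⟩ = ⟨0, 0, k⟩ ∧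
    ∀ x ∈ w2.getD k.val [], x ∈ [4, 5, 6] := by decide +kernel

theorem f6 : ∀ u : He 11, u ^ 11 = 1 := by decide +kernel

theorem f7 : (Finset.univ.filter fun u : He 11 => ¬ (u.i = 0 ∧ u.j = 0)).card = 1320 ∧
    (Finset.univ.filter fun u : He 11 => u.i ≠ 0).card = 1210 := by decide +kernel

theorem f8 : ∀ i j k l : ZMod 11, ¬ (i = 0 ∧ j = 0) → ∃ c : He 11, c * ⟨i, j, k⟩ * c⁻¹ = ⟨i, j, l⟩ := by
  have : Fact (Nat.Prime 11) := ⟨by norm_num⟩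
  intro i j k l h
  by_cases hi : i = 0
  · have hj : j ≠ 0 := fun e => h ⟨hi, e⟩
    refine ⟨⟨(k - l) / j, 0, 0⟩, ?_⟩
    simp only [He.mul_def, He.inv_def, hi]
    ext <;> simp
    field_simp
    ring
  · refine ⟨⟨0, (l - k) / i, 0⟩, ?_⟩
    simp only [He.mul_def, He.inv_def]
    ext <;> simp
    field_simp
    ring

variable {G : Type*} [Group G]

structure EQ (γ : ℕ → G) : Prop where
  e : ∀ r ∈ eL, ev γ r.1 = ev γ r.2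
  n : ∀ k ∈ 6 :: List.range' 11 47, γ k ≠ 1
  c : ¬ IsConj (γ 3) (γ 2)
  w : γ 3 ≠ 1

theorem EQ.map {H : Type*} [Group H] {γ : ℕ → G} (h : EQ γ) (f : G ≃* H) : EQ fun x => f (γ x) where
  e r hr := by
    have := congrArg f.toMonoidHom (h.e r hr)
    rwa [ev_map, ev_map] at this
  n k hk := by simpa using h.n k hk
  c e := h.c (by simpa using f.symm.toMonoidHom.map_isConj e)
  w := by simpa using h.w

namespace EQ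
variable {γ : ℕ → G} (h : EQ γ)
include h

theorem r1 : γ 2 * γ 1 = γ 1 * γ 2 * γ 3 := by simpa [ev, mul_assoc] using h.e ([2, 1], [1, 2, 3]) (by decide)
theorem r2 : Commute (γ 1) (γ 3) := by simpa [ev, Commute, SemiconjBy] using h.e ([1, 3], [3, 1]) (by decide)
theorem r3 : Commute (γ 2) (γ 3) := by simpa [ev, Commute, SemiconjBy] using h.e ([2, 3], [3, 2]) (by decide)
theorem pw {x n : ℕ} (hx : (List.replicate n x, []) ∈ eL) : γ x ^ n = 1 := by simpa [ev] using h.e _ hx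
theorem r7 : γ 7 * γ 8 = γ 9 * (γ 8 * γ 7) := by simpa [ev] using h.e ([7, 8], [9, 8, 7]) (by decide)

/-- the Heisenberg group -/
def φ : He 11 →* G := He.hom h.r1 h.r2 h.r3 (h.pw (by decide)) (h.pw (by decide)) (h.pw (by decide))

theorem φ_def (u : He 11) : h.φ u = γ 1 ^ u.i.val * γ 2 ^ u.j.val * γ 3 ^ u.k.val := rfl

theorem φa : h.φ ⟨1, 0, 0⟩ = γ 1 := by simp [φ_def, show (1 : ZMod 11).val = 1 from rfl]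
theorem φb : h.φ ⟨0, 1, 0⟩ = γ 2 := by simp [φ_def, show (1 : ZMod 11).val = 1 from rfl]
theorem φw : h.φ ⟨0, 0, 1⟩ = γ 3 := by simp [φ_def, show (1 : ZMod 11).val = 1 from rfl]

theorem act1 {g x : ℕ} (hg : g ∈ [4, 5, 6, 7, 8, 9]) (hx : x ∈ [1, 2, 3]) : γ g * γ x * (γ g)⁻¹ = h.φ (ac g x) := by
  have := h.e _ (f3 g hg x hx)
  simp only [hw, ev_apd, ev_rp, ev_cons, ev_nil, mul_one] at this
  rw [this, mul_inv_cancel_right]; rfl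

theorem act {g : ℕ} (hg : g ∈ [4, 5, 6, 7, 8, 9]) (u : He 11) : γ g * h.φ u * (γ g)⁻¹ = h.φ (tau g u) := by
  rw [tau, map_mul, map_mul, map_pow, map_pow, map_pow, ← h.act1 hg (by simp), ← h.act1 hg (by simp),
    ← h.act1 hg (by simp), conj_pow, conj_pow, conj_pow, φ_def]
  group

theorem nor [Finite G] {g : ℕ} (hg : g ∈ [4, 5, 6, 7, 8, 9]) : γ g ∈ normalizer (h.φ.range : Set G) :=
  mem_normalizer_fintype (by rintro _ ⟨u, rfl⟩; exact ⟨_, (h.act hg u).symm⟩)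

theorem actw [Finite G] {w : List ℕ} (hw : ∀ x ∈ w, x ∈ [4, 5, 6]) (u : He 11) :
    ∃ n ∈ normalizer (h.φ.range : Set G), n * h.φ u * n⁻¹ = h.φ (app w u) := by
  induction w with
  | nil => exact ⟨1, one_mem _, by simp [app]⟩
  | cons x t ih =>
    obtain ⟨n, hn, e⟩ := ih fun y hy => hw y (by simp [hy])
    have hx : x ∈ [4, 5, 6, 7, 8, 9] := by have := hw x (by simp); simp at this ⊢; omega
    exact ⟨γ x * n, mul_mem (h.nor hx) hn, by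
      rw [show app (x :: t) u = tau x (app t u) from rfl, ← h.act hx, ← e]; group⟩

theorem tr1 [Finite G] (u : He 11) (hu : ¬ (u.i = 0 ∧ u.j = 0)) :
    ∃ n ∈ normalizer (h.φ.range : Set G), n * γ 2 * n⁻¹ = h.φ u := by
  obtain ⟨a, b, c⟩ := f4 _ _ hu
  obtain ⟨n, hn, e⟩ := h.actw c ⟨0, 1, 0⟩
  generalize app (w1.getD (11 * u.i.val + u.j.val) []) ⟨0, 1, 0⟩ = v at a b e
  obtain ⟨d, e2⟩ := f8 u.i u.j v.k u.k hu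
  refine ⟨h.φ d * n, mul_mem (le_normalizer ⟨d, rfl⟩) hn, ?_⟩
  have e3 : d * v * d⁻¹ = u := by
    rw [show v = ⟨u.i, u.j, v.k⟩ from He.ext a b rfl]; exact e2
  rw [← e3, map_mul, map_mul, map_inv, ← e, h.φb]
  group

theorem tr2 [Finite G] (u : He 11) (hu : u.i = 0 ∧ u.j = 0) (h1 : u ≠ 1) : IsConj (γ 3) (h.φ u) := by
  obtain ⟨a, b⟩ := f5 u.k fun e => h1 (He.ext hu.1 hu.2 e)
  obtain ⟨n, -, e⟩ := h.actw b ⟨0, 0, 1⟩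
  rw [a, h.φw, show (⟨0, 0, u.k⟩ : He 11) = u from He.ext hu.1.symm hu.2.symm rfl] at e
  exact isConj_iff.2 ⟨n, e⟩

theorem b1 : γ 2 ≠ 1 := fun e => h.w (by simpa [e] using h.r1)

theorem inj [Finite G] : Function.Injective h.φ := (injective_iff_map_eq_one _).2 fun u e => by_contra fun h1 => by
  by_cases hu : u.i = 0 ∧ u.j = 0
  · exact h.w (isConj_one_left.1 (e ▸ h.tr2 u hu h1))
  · obtain ⟨n, -, e2⟩ := h.tr1 u hu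
    exact h.b1 (by simpa [e] using e2)

omit h [Group G] in
theorem det (g : GL (Fin 2) (ZMod 3)) : g.1 0 0 * g.1 1 1 - g.1 0 1 * g.1 1 0 ≠ 0 := by
  rw [← Matrix.det_fin_two]; exact ((Matrix.isUnit_iff_isUnit_det _).1 g.isUnit).ne_zero

theorem gl [Finite G] : ∃ κ : GL (Fin 2) (ZMod 3) →* G, Function.Injective κ ∧
    κ.range ≤ normalizer (h.φ.range : Set G) := by
  let k : GL (Fin 2) (ZMod 3) → G := fun g => γ (tb.getD (cd g.1) 0)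
  have k1 : k 1 = 1 := by
    have := h.e ([10], []) (by decide)
    rw [ev_single, ev_nil] at this
    exact this
  have k2 : ∀ (g : GL (Fin 2) (ZMod 3)), ∀ s ∈ [4, 5], k (g * sg s) = k g * γ s := fun g s hs => by
    have := h.e _ (f1 _ _ _ _ (det g) s hs)
    rw [← Matrix.eta_fin_two] at this
    rw [ev_single, ev_cons, ev_single] at this
    exact this.symm
  have k3 : ∀ w : List ℕ, (∀ x ∈ w, x ∈ [4, 5]) → ∀ g, k (g * ev sg w) = k g * ev γ w := fun w hw => by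
    induction w with
    | nil => simp [ev]
    | cons x t ih =>
      intro g
      rw [ev_cons, ← mul_assoc, ih (fun y hy => hw y (by simp [hy])), k2 g x (hw x (by simp)), ev_cons, mul_assoc]
  have k4 : ∀ g : GL (Fin 2) (ZMod 3), ∃ w : List ℕ, (∀ x ∈ w, x ∈ [4, 5]) ∧ ev sg w = g := fun g => by
    obtain ⟨a, b, -⟩ := f2 _ _ _ _ (det g)
    rw [← Matrix.eta_fin_two] at a b
    exact ⟨_, b, Units.ext ((ev_map sg (Units.coeHom M3) _).trans a)⟩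
  have k5 : ∀ w : List ℕ, (∀ x ∈ w, x ∈ [4, 5]) → k (ev sg w) = ev γ w := fun w hw => by
    simpa [k1] using k3 w hw 1
  refine ⟨MonoidHom.mk' k fun a b => ?_, (injective_iff_map_eq_one _).2 fun g e => ?_, ?_⟩
  · obtain ⟨w, hw, rfl⟩ := k4 b
    rw [k3 w hw, k5 w hw]
  · obtain ⟨-, -, c⟩ := f2 _ _ _ _ (det g)
    rw [← Matrix.eta_fin_two] at c
    exact Units.ext (c.resolve_right fun c => h.n _ (List.mem_cons_of_mem _ c) e)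
  · rintro _ ⟨g, rfl⟩
    obtain ⟨w, hw, rfl⟩ := k4 g
    change k _ ∈ _
    rw [k5 w hw]
    refine Subgroup.list_prod_mem _ fun y hy => ?_
    obtain ⟨x, hx, rfl⟩ := List.mem_map.1 hy
    exact h.nor (by have := hw x hx; simp at this ⊢; omega)

end EQ

end Cfsg.Lib.JE
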