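import Cfsg.Agent.Lib.Block2.JE0
import Cfsg.Agent.Lib.Comp.J4.Low

/-! The normaliser of a Sylow 11-subgroup inside the presented `J₄`. -/

set_option autoImplicit false
set_option maxRecDepth 100000

namespace Cfsg.Lib.JE

open Subgroup Cfsg.Lib.Comp Cfsg.Lib.MatB Cfsg.Lib.MatB.F2 Cfsg.Lib.Comp.J4

noncomputable def eD2 : List (ℕ × ℕ) := apd eD (apd [(128,304),(0,306),(0,309),(307,126),(310,0),(312,0),(20,0),(0,21),(0,5),(0,0),(0,0),(0,2),(9,0),(145,320),(0,319),(0,319),(323,286),(323,0),(322,0),(33,0),(0,34),(0,5),(0,0),(0,0),(0,2),(9,0),(13,0),(0,0),(0,0),(0,2),(0,0),(0,4),(32,0),(0,0),(0,1),(0,0),(0,0),(37,37),(144,38),(0,0),(3,0),(4,4),(2,2),(1,0),(3,0),(3,8),(3,6),(1,0),(3,0),(3,12),(3,10),(1,0),(3,0),(3,16),(3,14),(1,0),(3,0),(21,18),(1,0),(23,22)]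
 (apd [(0,166),(2,0),(2,25),(169,23),(1,0),(3,0),(3,29),(0,29),(2,0),(2,32),(0,70),(2,0),(86,0),(39,39),(0,41),(0,0),(0,43),(0,0),(5,0),(0,7),(54,54),(0,0),(0,0),(0,57),(71,0),(0,72),(0,2),(394,392),(0,395),(0,395),(0,394),(397,398),(399,0),(398,0),(398,0),(109,0),(0,110),(0,6),(0,0),(0,0),(0,2),(10,0),(15,0),(0,90),(0,2),(0,105),(4,4),(0,0),(0,6),(0,0),(0,8),(0,0),(0,10),(100,100),(0,101),(0,0),(0,103),(91,0),(1,0),(93,0)]
 (apd [(7,0),(4,0),(9,0),(17,0),(0,60),(1,1),(0,71),(2,0),(2,4),(0,86),(2,0),(2,7),(0,132),(2,0),(2,10),(0,241),(2,0),(2,13),(0,87),(2,0),(2,16),(0,101),(2,0),(2,19),(0,106),(2,0),(2,22),(0,108),(2,0),(2,25),(0,103),(2,0),(166,0),(0,48),(0,0),(262,262),(0,76),(1,264),(1,78),(2,266),(2,80),(2,268),(2,82),(2,83),(3,271),(3,85),(3,86),(4,274),(4,275),(4,89),(4,90),(5,278),(5,279),(5,93),(5,94),(5,95),(6,283),(6,284),(6,98),(6,99)]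
 (apd [(6,100),(7,288),(7,102),(8,290),(8,291),(8,105),(8,106),(8,107),(9,295),(9,109),(10,297),(10,298),(10,112),(10,300),(10,114),(10,115),(10,116),(11,304),(11,118),(10,119),(7,120),(8,308),(2,309),(123,123),(124,217),(0,1),(3,9999),(5,9999),(7,9999),(9,9999),(11,9999),(13,9999),(15,9999),(17,9999),(19,9999),(21,9999),(23,9999),(25,9999),(27,9999),(29,9999),(31,9999),(33,9999),(35,9999),(37,9999),(39,9999),(41,9999),(43,9999),(45,9999),(47,9999),(49,9999),(51,9999),(53,9999),(55,9999),(57,9999),(59,9999),(61,9999),(63,9999),(65,9999),(67,9999),(69,9999)]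
 [(71,9999),(73,9999),(75,9999),(77,9999),(79,9999),(81,9999),(83,9999),(85,9999),(87,9999),(89,9999),(91,9999),(93,9999),(95,9999),(97,9999),(268,9999),(49,9999),(269,9999),(102,9999),(365,9999),(179,9999),(260,9999),(418,9999),(273,9999),(107,9999)]))))

noncomputable def chk (l : List ℕ) : Bool :=
  cnd (allL eL fun r => cnd (small r.1) (cnd (small r.2)
    (Nat.beq (evM 112 mR mI (nth mI l) r.1) (evM 112 mR mI (nth mI l) r.2)) false) false)
  (cnd (allL (3 :: 6 :: List.range' 11 47) fun k =>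
      cnd (Nat.beq (look (nth mI l k) 112 0) (look mI 112 0)) false true)
    (decide (∑ i : Fin 112, bt (nth mI l 3) (i * 112 + i) ≠ ∑ i : Fin 112, bt (nth mI l 2) (i * 112 + i))) false) false

theorem eD2_ok : slpM 112 mR mI eD2 [m1, m2, m3, m4] chk = true := by decide +kernel

theorem j4_EQ (hi : Function.Injective rho) : ∃ γ : ℕ → Spor.J4, EQ γ := by
  obtain ⟨l, h, hl⟩ := cx.slp in_acc eD2_ok
  choose γ _ hγ using hl
  unfold chk at h
  rw [cnd_tt, cnd_tt, decide_eq_true_eq] at h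
  have n : ∀ k ∈ 3 :: 6 :: List.range' 11 47, γ k ≠ 1 := fun k hk e =>
    (hγ k).ne cx.one (i := 0) (by norm_num) (cnd_ff.1 (allL_iff.1 h.2.1 k hk)).1 (by rw [e, map_one])
  refine ⟨γ, fun r hr => ?_, fun k hk => n k (List.mem_cons_of_mem _ hk), fun e => h.2.2 ?_, n 3 (by simp)⟩
  · have := allL_iff.1 h.1 r hr
    rw [cnd_tt, cnd_tt] at this
    apply hi
    rw [ev_map, ev_map]
    exact (cx.ev (fun x _ => hγ x) this.1).eq (cx.ev (fun x _ => hγ x) this.2.1) this.2.2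
  · obtain ⟨c, e⟩ := isConj_iff.1 e
    have e2 := congrArg (fun g => Matrix.trace (rho g : Matrix (Fin 112) (Fin 112) (ZMod 2))) e
    simp only [map_mul, map_inv, Units.val_mul] at e2
    rw [Matrix.trace_units_conj, hγ 3, hγ 2] at e2
    exact e2

end Cfsg.Lib.JE
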