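import Cfsg.Agent.Lib.Block2.JF1
import Cfsg.Agent.Lib.Known2.LE
import Cfsg.Agent.Lib.Transfer.Apps

/-! Groups `2^{1+12}.3.M22.2`: the action of `C(p)` on the extraspecial group. -/

set_option autoImplicit false

namespace Cfsg.Lib.JF

open Subgroup Cfsg.Lib.Amalg Cfsg.Lib.Core Cfsg.Lib.Known2

variable {G Γ : Type*} [Group G] [Group Γ]

theorem card_orb (K : Subgroup G) (x : G) :
    Nat.card K = {y | ∃ g ∈ K, g * x * g⁻¹ = y}.ncard * Nat.card ↥(K ⊓ centralizer {x}) := by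
  let _ : MulAction G G := MulAction.compHom G (MulAut.conj : G →* MulAut G)
  have h1 : (centralizer {x} : Subgroup G).subgroupOf K = MulAction.stabilizer K x := by
    ext g
    rw [mem_subgroupOf, mem_centralizer_singleton_iff, MulAction.mem_stabilizer_iff]
    exact (mul_inv_eq_iff_eq_mul (a := (g : G) * x)).symm
  have h2 : MulAction.orbit K x = {y | ∃ g ∈ K, g * x * g⁻¹ = y} := by
    ext y
    exact ⟨fun ⟨g, e⟩ => ⟨g, g.2, e⟩, fun ⟨g, hg, e⟩ => ⟨⟨g, hg⟩, e⟩⟩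
  rw [← card_inf_mul_relIndex (centralizer {x}) K, relIndex, h1, MulAction.index_stabilizer, h2, mul_comm, inf_comm]

theorem dvd_ncard [Finite G] {P : Subgroup G} {k : ℕ} (Ω : Set G) (hΩ : ∀ g ∈ P, ∀ c ∈ Ω, g * c * g⁻¹ ∈ Ω)
    (h : ∀ c ∈ Ω, k ∣ (centralizer {c}).relIndex P) : k ∣ Ω.ncard := by
  induction hn : Ω.ncard using Nat.strong_induction_on generalizing Ω with | _ n ih
  rcases Ω.eq_empty_or_nonempty with rfl | ⟨c, hc⟩
  · simp [← hn]
  have s : {y | ∃ g ∈ P, g * c * g⁻¹ = y} ⊆ Ω := by rintro _ ⟨g, hg, rfl⟩; exact hΩ g hg c hc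
  have e : {y | ∃ g ∈ P, g * c * g⁻¹ = y}.ncard = (centralizer {c}).relIndex P := by
    have h3 := relIndex_mul_relIndex ⊥ (centralizer {c} ⊓ P) P bot_le inf_le_right
    rw [relIndex_bot_left, relIndex_bot_left, inf_relIndex_right, card_orb P c, inf_comm, mul_comm] at h3
    exact (Nat.eq_of_mul_eq_mul_right Nat.card_pos h3).symm
  have := Set.ncard_sdiff_add_ncard_of_subset s
  have p := (Set.ncard_pos (s := {y | ∃ g ∈ P, g * c * g⁻¹ = y})).2 ⟨c, 1, one_mem _, by simp⟩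
  rw [← hn, ← this]
  refine dvd_add (ih _ (by omega) _ (fun g hg a ha => (Set.mem_sdiff _).2 ⟨hΩ g hg a ha.1, ?_⟩) (fun a ha => h a ha.1) rfl) (e ▸ h c hc)
  rintro ⟨b, hb, e⟩
  exact ha.2 ⟨g⁻¹ * b, mul_mem (inv_mem hg) hb, by rw [show g⁻¹ * b * c * (g⁻¹ * b)⁻¹ = g⁻¹ * (b * c * b⁻¹) * g by group, e]; group⟩

theorem es_two [Finite G] {Q R : Subgroup G} {z a y : G} (h : ES Q z) (hR : R ≤ Q) (ha : a ∈ Q) (hy : y ∈ R)
    (n : a * y ≠ y * a) : Nat.card R = 2 * Nat.card ↥(R ⊓ centralizer {a}) := by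
  have : (centralizer {a}).relIndex R = 2 := index_eq_two_iff.2 ⟨⟨y, hy⟩, fun b => by
    simp only [mem_subgroupOf, mem_centralizer_singleton_iff, coe_mul, eq_comm (b := a * _), h.mul_comm_iff ha (hR b.2) (hR hy), n]
    by_cases a * b = b * a <;> simp [*]⟩
  have h3 := relIndex_mul_relIndex ⊥ (centralizer {a} ⊓ R) R bot_le inf_le_right
  rw [relIndex_bot_left, relIndex_bot_left, inf_relIndex_right, this, inf_comm] at h3
  omega

theorem es_cent [Finite G] {Q : Subgroup G} {z : G} (h : ES Q z) {A : Subgroup G} (hA : A ≤ Q) (hz : z ∈ A) :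
    Nat.card A * Nat.card ↥(Q ⊓ centralizer (A : Set G)) = 2 * Nat.card Q := by
  induction hn : Nat.card A using Nat.strong_induction_on generalizing A with | _ n ih
  by_cases c : A ≤ zpowers z
  · rw [← hn, le_antisymm c (zpowers_le.2 hz), card_zpowers_invol h.sq h.ne, inf_eq_left.2 fun g hg => mem_cent_zpowers.2 (h.cen g hg)]
  obtain ⟨a, ha, n1⟩ := SetLike.not_le_iff_exists.1 c
  rw [h.mem_zp, not_or] at n1
  obtain ⟨g, hg, n2⟩ := h.exists_anti (hA ha) n1.1 n1.2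
  have c1 := es_two h hA hg ha (Ne.symm n2)
  have z1 : z ∈ A ⊓ centralizer {g} := ⟨hz, mem_cent_single.2 (h.cen g hg).symm⟩
  obtain ⟨y, hy, k1, k2⟩ := h.exists_sep (inf_le_left.trans hA) z1 (hA ha) fun e => n2 (mem_cent_single.1 e.2)
  have c2 := es_two h (R := Q ⊓ centralizer (A ⊓ centralizer {g} : Subgroup G)) inf_le_left (hA ha)
    ⟨hy, fun b hb => (k1 b hb).symm⟩ (Ne.symm k2)
  have p := Nat.card_pos (α := ↥(A ⊓ centralizer {g}))
  have := ih _ (by omega) (inf_le_left.trans hA) z1 rfl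
  rw [← this, ← hn, c1, c2, show Q ⊓ centralizer (A ⊓ centralizer {g} : Subgroup G) ⊓ centralizer {a} = Q ⊓ centralizer (A : Set G) from
    le_antisymm (fun u hu => ⟨hu.1.1, fun b hb => ?_⟩) fun u hu => ⟨⟨hu.1, fun b hb => hu.2 b hb.1⟩, mem_cent_single.2 (hu.2 a ha).symm⟩]
  · ring
  have k := (mem_cent_single.1 hu.2).symm
  by_cases e : g * b = b * g
  · exact hu.1.2 b ⟨hb, mem_cent_single.2 e.symm⟩
  have := hu.1.2 (a * b) ⟨mul_mem ha hb, mem_cent_single.2 ((h.mul_comm_iff hg (hA ha) (hA hb)).2 (iff_of_false (Ne.symm n2) e)).symm⟩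
  exact (((h.mul_comm_iff hu.1.1 (hA ha) (hA hb)).1 this.symm).1 k.symm).symm

theorem es_ab [Finite G] {Q A : Subgroup G} {z : G} (h : ES Q z) (hQ : Nat.card Q = 2 ^ 13) (hA : A ≤ Q)
    (hz : z ∈ A) (hc : ∀ x ∈ A, ∀ y ∈ A, x * y = y * x) : Nat.card A ≤ 128 := by
  have := es_cent h hA hz
  have := card_le_of_le (show A ≤ Q ⊓ centralizer (A : Set G) from fun x hx => ⟨hA hx, fun y hy => hc y hy x hx⟩)
  nlinarith

/-- the centraliser of `z` and `p`. -/
abbrev KK (z p : G) : Subgroup G := centralizer {z} ⊓ centralizer {p}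

structure JS (E : Subgroup G) (z p : G) (M : Subgroup Γ) (φ : KK z p →* Γ) : Prop where
  ls : LS E z
  card : Nat.card E = 2 ^ 13
  pz : p * z = z * p
  p3 : p ^ 3 = 1
  p1 : p ≠ 1
  fp : ∀ c ∈ E, p * c = c * p → c = 1 ∨ c = z
  rng : φ.range = M
  ker : ∀ k, φ k = 1 ↔ ∃ c ∈ zpowers p, (k : G) = c ∨ (k : G) = c * z
  cK : Nat.card (KK z p) = 2661120
  com : p ∈ ⁅KK z p, KK z p⁆
  dec : ∀ g, g * z = z * g → ∃ e ∈ E, ∃ l, g = e * l ∧ l * z = z * l ∧ (l * p * l⁻¹ = p ∨ l * p * l⁻¹ = p⁻¹)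

variable {E : Subgroup G} {z p : G} {M : Subgroup Γ} {φ : KK z p →* Γ}

/-- `k` is a lift of `m`. -/
def L (φ : KK z p →* Γ) (k : G) (m : Γ) : Prop := ∃ h : k ∈ KK z p, φ ⟨k, h⟩ = m

theorem mem_KK {k : G} : k ∈ KK z p ↔ k * z = z * k ∧ k * p = p * k := by
  rw [mem_inf, mem_cent_single, mem_cent_single]

namespace L
variable {k k' : G} {m m' : Γ}
theorem mul (h : L φ k m) (h' : L φ k' m') : L φ (k * k') (m * m') := by
  obtain ⟨a, rfl⟩ := h; obtain ⟨b, rfl⟩ := h'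
  exact ⟨mul_mem a b, by rw [← map_mul]; rfl⟩
theorem inv (h : L φ k m) : L φ k⁻¹ m⁻¹ := by
  obtain ⟨a, rfl⟩ := h
  exact ⟨inv_mem a, by rw [← map_inv]; rfl⟩
theorem one : L φ 1 1 := ⟨one_mem _, map_one φ⟩
theorem pow (h : L φ k m) (n : ℕ) : L φ (k ^ n) (m ^ n) := by
  induction n with
  | zero => simpa using one
  | succ n ih => rw [pow_succ, pow_succ]; exact ih.mul h
theorem cnj (h : L φ k m) (h' : L φ k' m') : L φ (k * k' * k⁻¹) (m * m' * m⁻¹) := (h.mul h').mul h.inv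
theorem kz (h : L φ k m) : k * z = z * k := (mem_KK.1 h.1).1
theorem kp (h : L φ k m) : k * p = p * k := (mem_KK.1 h.1).2
theorem of_eq (h : L φ k m) (e : m = m') : L φ k m' := e ▸ h
theorem uniq (h : L φ k m) (h' : L φ k m') : m = m' := h.2.symm.trans h'.2
end L

/-- involution lifts of the elements of `B`. -/
def hat (φ : KK z p →* Γ) (B : Set Γ) : Set G := {k | (∃ m ∈ B, L φ k m) ∧ k * k = 1}

/-- the centraliser in `E` of the involution lifts of `B`. -/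
def Cm (E : Subgroup G) (φ : KK z p →* Γ) (B : Set Γ) : Subgroup G := E ⊓ centralizer (hat φ B)

theorem mem_Cm {B : Set Γ} {x : G} : x ∈ Cm E φ B ↔ x ∈ E ∧ ∀ k m, m ∈ B → L φ k m → k * k = 1 → k * x = x * k :=
  ⟨fun h => ⟨h.1, fun k m hm l e => h.2 k ⟨⟨m, hm, l⟩, e⟩⟩, fun h => ⟨h.1, fun k ⟨⟨m, hm, l⟩, e⟩ => h.2 k m hm l e⟩⟩

theorem Cm_le {B : Set Γ} : Cm E φ B ≤ E := inf_le_left

theorem Cm_anti {B B' : Set Γ} (h : B ⊆ B') : Cm E φ B' ≤ Cm E φ B := fun _ hx =>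
  mem_Cm.2 ⟨hx.1, fun k m hm => (mem_Cm.1 hx).2 k m (h hm)⟩

/-- the image of `J ∩ K`. -/
def img (φ : KK z p →* Γ) (J : Subgroup G) : Subgroup Γ := (J.subgroupOf _).map φ

theorem mem_img {J : Subgroup G} {m : Γ} : m ∈ img φ J ↔ ∃ k ∈ J, L φ k m :=
  ⟨fun ⟨k, hk, e⟩ => ⟨k, hk, k.2, e⟩, fun ⟨k, hk, h, e⟩ => ⟨⟨k, h⟩, hk, e⟩⟩

namespace JS
variable (h : JS E z p M φ)
include h

theorem es : ES E z := h.ls.toES
theorem nm {k : G} {m : Γ} (l : L φ k m) {x : G} (hx : x ∈ E) : k * x * k⁻¹ ∈ E := h.ls.norm k l.kz x hx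
theorem ex {m : Γ} (hm : m ∈ M) : ∃ k, L φ k m := by
  rw [← h.rng] at hm
  obtain ⟨k, e⟩ := hm
  exact ⟨k, k.2, e⟩
theorem mem {k : G} {m : Γ} (l : L φ k m) : m ∈ M := by
  rw [← h.rng]; exact ⟨_, l.2⟩
theorem tot {k : G} (hk : k ∈ KK z p) : ∃ m, L φ k m := ⟨_, hk, rfl⟩
theorem Lz : L φ z 1 := ⟨mem_KK.2 ⟨rfl, h.pz.symm⟩, (h.ker _).2 ⟨1, one_mem _, Or.inr (one_mul _).symm⟩⟩
theorem Lp : L φ p 1 := ⟨mem_KK.2 ⟨h.pz, rfl⟩, (h.ker _).2 ⟨p, mem_zpowers _, Or.inl rfl⟩⟩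
theorem zp {c : G} (hc : c ∈ zpowers p) : c = 1 ∨ c = p ∨ c = p⁻¹ := by
  obtain ⟨n, rfl⟩ := hc
  have h3 : p ^ (3 : ℤ) = 1 := by exact_mod_cast h.p3
  have : ∀ r : ℤ, p ^ (3 * (n / 3) + r) = p ^ r := fun r => by rw [zpow_add, zpow_mul, h3, one_zpow, one_mul]
  have k : n = 3 * (n / 3) + 0 ∨ n = 3 * (n / 3) + 1 ∨ n = 3 * (n / 3 + 1) + -1 := by omega
  rcases k with k | k | k
  · left; change p ^ n = 1; rw [k, this, zpow_zero]
  · right; left; change p ^ n = p; rw [k, this, zpow_one]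
  · right; right; change p ^ n = p⁻¹; rw [k, zpow_add, zpow_mul, h3, one_zpow, one_mul, zpow_neg_one]
theorem Lker {c : G} (l : L φ c 1) : ∃ d ∈ zpowers p, c = d ∨ c = d * z := (h.ker _).1 l.2
theorem ker_comm {c k : G} {m : Γ} (l : L φ c 1) (l' : L φ k m) : c * k = k * c := by
  obtain ⟨d, ⟨n, rfl⟩, e⟩ := h.Lker l
  have a : Commute (p ^ n) k := (show Commute p k from l'.kp.symm).zpow_left n
  rcases e with rfl | rfl
  · exact a
  · exact a.mul_left l'.kz.symm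
theorem ker_six {c : G} (l : L φ c 1) : c ^ 6 = 1 := by
  obtain ⟨d, hd, e⟩ := h.Lker l
  have a : d ^ 6 = 1 := by
    have : p ^ 6 = 1 := by rw [show 6 = 3 * 2 from rfl, pow_mul, h.p3, one_pow]
    rcases h.zp hd with rfl | rfl | rfl
    · exact one_pow _
    · exact this
    · rw [inv_pow, this, inv_one]
  have b : z ^ 6 = 1 := by rw [show 6 = 2 * 3 from rfl, pow_mul, pow_two, h.es.sq, one_pow]
  rcases e with rfl | rfl
  · exact a
  · obtain ⟨n, rfl⟩ := hd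
    rw [((show Commute p z from h.pz).zpow_left n).mul_pow, a, b, mul_one]
theorem p2 : p * p ≠ 1 := fun e => h.p1 (by have := h.p3; rwa [pow_succ, pow_two, e, one_mul] at this)
theorem ker_two {c : G} (l : L φ c 1) (e : c * c = 1) : c = 1 ∨ c = z := by
  obtain ⟨d, hd, k⟩ := h.Lker l
  have a : d * d = 1 := by
    rcases k with rfl | rfl
    · exact e
    · obtain ⟨n, rfl⟩ := hd
      have c := ((show Commute p z from h.pz).zpow_left n).eq
      rw [mul_assoc, ← mul_assoc z, ← c, mul_assoc, h.es.sq, mul_one] at e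
      exact e
  have : d = 1 := by
    rcases h.zp hd with rfl | rfl | rfl
    · rfl
    · exact absurd a h.p2
    · rw [← mul_inv_rev, inv_eq_one] at a; exact absurd a h.p2
  subst this
  simpa using k

omit h in
theorem cjz {g : G} (e : g * z = z * g) (y : G) : g * (y * z) * g⁻¹ = g * y * g⁻¹ * z := by
  rw [← conj_mul, conj_eq_of_comm e]

theorem fpz {x : G} (hx : x ∈ E) (e : p * x * p⁻¹ = x ∨ p * x * p⁻¹ = x * z) : x = 1 ∨ x = z := by
  rcases e with e | e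
  · exact h.fp x hx (comm_of_conj_eq e)
  · exfalso
    have : p ^ 3 * x * (p ^ 3)⁻¹ = x * z := by
      calc _ = p * (p * (p * x * p⁻¹) * p⁻¹) * p⁻¹ := by simp only [pow_succ, pow_zero]; group
        _ = _ := by rw [e, cjz h.pz, e, mul_assoc x, h.es.sq, mul_one, e]
    rw [h.p3] at this
    exact h.es.ne (by simpa using this.symm)

theorem tri {a : G} (ha : a ∈ E) : a * (p * a * p⁻¹) * (p * (p * a * p⁻¹) * p⁻¹) = 1 ∨
    a * (p * a * p⁻¹) * (p * (p * a * p⁻¹) * p⁻¹) = z := by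
  have h1 := h.nm h.Lp ha
  have h2 := h.nm h.Lp h1
  have m := mul_mem (mul_mem ha h1) h2
  refine h.fpz m ?_
  have := h.es.conj_eq (inv_mem ha) m
  have k : p * (p * (p * a * p⁻¹) * p⁻¹) * p⁻¹ = a := by
    calc _ = p ^ 3 * a * (p ^ 3)⁻¹ := by simp only [pow_succ, pow_zero]; group
      _ = _ := by rw [h.p3]; group
  rwa [← conj_mul, ← conj_mul, k, show p * a * p⁻¹ * (p * (p * a * p⁻¹) * p⁻¹) * a =
    a⁻¹ * (a * (p * a * p⁻¹) * (p * (p * a * p⁻¹) * p⁻¹)) * a⁻¹⁻¹ by group]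

theorem fix {k x : G} {m : Γ} (l : L φ k m) (hx : x ∈ E) (e : k * x * k⁻¹ = x ∨ k * x * k⁻¹ = x * z) :
    k * x = x * k := by
  rcases e with e | e
  · exact comm_of_conj_eq e
  exfalso
  have st : ∀ y, k * y * k⁻¹ = y * z → k * (p * y * p⁻¹) * k⁻¹ = p * y * p⁻¹ * z := fun y hy => by
    calc _ = (k * p) * y * (k * p)⁻¹ := by group
      _ = p * (k * y * k⁻¹) * p⁻¹ := by rw [l.kp]; group
      _ = _ := by rw [hy, ← conj_mul, conj_eq_of_comm h.pz]
  have e1 := st _ e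
  have e2 := st _ e1
  have h1 := h.nm h.Lp hx
  have h2 := h.nm h.Lp h1
  have t := h.tri hx
  generalize p * (p * x * p⁻¹) * p⁻¹ = w at *
  generalize p * x * p⁻¹ = v at *
  have a : k * (x * v * w) * k⁻¹ = x * v * w * z := by
    rw [← conj_mul, ← conj_mul, e, e1, e2]
    calc x * z * (v * z) * (w * z) = x * (z * v) * z * (w * z) := by group
      _ = x * v * (z * z) * (w * z) := by rw [← h.es.cen v h1]; group
      _ = _ := by rw [h.es.sq]; group
  rcases t with t | t <;> rw [t] at a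
  · exact h.es.ne (by simpa using a.symm)
  · rw [conj_eq_of_comm l.kz] at a
    exact h.es.ne (by simpa using a)

/-- an invariant abelian subgroup is elementary -/
theorem elem {X : Subgroup G} (hX : X ≤ E) (hp : ∀ x ∈ X, p * x * p⁻¹ ∈ X) (hc : ∀ x ∈ X, ∀ y ∈ X, x * y = y * x)
    {x : G} (hx : x ∈ X) : x * x = 1 := by
  refine (h.es.sq_mem x (hX hx)).resolve_right fun e => ?_
  have st : ∀ y, y * y = z → (p * y * p⁻¹) * (p * y * p⁻¹) = z := fun y hy => by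
    rw [conj_mul, hy, conj_eq_of_comm h.pz]
  have e1 := st _ e
  have e2 := st _ e1
  have h1 := hp _ hx
  have h2 := hp _ h1
  have t := h.tri (hX hx)
  generalize p * (p * x * p⁻¹) * p⁻¹ = w at *
  generalize p * x * p⁻¹ = v at *
  have a : (x * v * w) ^ 2 = z := by
    rw [Commute.mul_pow (hc _ (mul_mem hx h1) _ h2), Commute.mul_pow (hc _ hx _ h1), pow_two, pow_two, pow_two, e, e1, e2,
      h.es.sq, one_mul]
  rcases t with t | t <;> rw [t] at a
  · exact h.es.ne (by simpa using a.symm)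
  · rw [pow_two, h.es.sq] at a
    exact h.es.ne a.symm

theorem step {X : Subgroup G} (hX : X ≤ E) {k : G} {m : Γ} (l : L φ k m) (kk : k * k = 1)
    (hn : ∀ x ∈ X, k * x * k⁻¹ ∈ X) (hx : ∃ x ∈ X, x ≠ 1 ∧ x ≠ z) : ∃ x ∈ X ⊓ centralizer {k}, x ≠ 1 ∧ x ≠ z := by
  obtain ⟨x, hx, n⟩ := hx
  have h1 := hn x hx
  have k2 : k * (k * x * k⁻¹) * k⁻¹ = x := by
    calc _ = (k * k) * x * (k * k)⁻¹ := by group
      _ = x := by rw [kk]; group
  by_cases c : x * (k * x * k⁻¹) = 1 ∨ x * (k * x * k⁻¹) = z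
  · refine ⟨x, ⟨hx, mem_cent_single.2 (h.fix l (hX hx) ?_).symm⟩, n⟩
    have i : x⁻¹ = x ∨ x⁻¹ = x * z := by
      rcases h.es.sq_mem x (hX hx) with e | e
      · exact Or.inl (inv_eq_of_mul_eq_one_right e)
      · exact Or.inr (inv_eq_of_mul_eq_one_right (by rw [← mul_assoc, e, h.es.sq]))
    rcases c with c | c
    · rwa [eq_inv_of_mul_eq_one_right c]
    · rw [show k * x * k⁻¹ = x⁻¹ * z by rw [← c]; group]
      rcases i with i | i <;> rw [i]
      · exact Or.inr rfl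
      · left; rw [mul_assoc, h.es.sq, mul_one]
  · push Not at c
    refine ⟨_, ⟨mul_mem hx h1, mem_cent_single.2 (h.fix l (hX (mul_mem hx h1)) ?_).symm⟩, c⟩
    rw [← conj_mul, k2]
    exact h.es.comm _ (hX h1) _ (hX hx)

variable [Finite G]

theorem card_pow {X : Subgroup G} (hX : X ≤ E) : ∃ n ≤ 13, Nat.card X = 2 ^ n :=
  (Nat.dvd_prime_pow Nat.prime_two).1 (h.card ▸ card_dvd_of_le hX)

theorem card_mod {X P : Subgroup G} (hz : z ∈ X) (hP : ∀ g ∈ P, ∀ x ∈ X, g * x * g⁻¹ ∈ X)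
    (hPz : ∀ g ∈ P, g * z = z * g) {n : ℕ} (hn : ∀ x ∈ X, x ≠ 1 → x ≠ z → n ∣ (centralizer {x}).relIndex P) :
    ∃ r, Nat.card X = 2 + n * r := by
  have s : ({1, z} : Set G) ⊆ X := by rintro _ (rfl | rfl); exacts [one_mem _, hz]
  obtain ⟨r, e⟩ := dvd_ncard (P := P) (k := n) ((X : Set G) \ {1, z}) (fun g hg c hc => ⟨hP g hg c hc.1, fun e => hc.2 (by
    rcases e with e | e
    · left; simpa using e
    · right
      have e : g * c * g⁻¹ = g * z * g⁻¹ := by rw [conj_eq_of_comm (hPz g hg)]; exact e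
      simpa using e)⟩) fun c hc => hn c hc.1 (fun e => hc.2 (Or.inl e)) fun e => hc.2 (Or.inr e)
  have := Set.ncard_sdiff_add_ncard_of_subset s
  rw [Set.ncard_pair h.es.ne.symm, e, ← Nat.card_coe_set_eq] at this
  exact ⟨r, by change _ = Nat.card X at this; omega⟩

theorem card_p : Nat.card (zpowers p) = 3 := by
  have : Fact (Nat.Prime 3) := ⟨Nat.prime_three⟩
  rw [Nat.card_zpowers, orderOf_eq_prime h.p3 h.p1]

theorem ne_256 {X : Subgroup G} (hX : X ≤ E) (hz : z ∈ X) (hp : ∀ x ∈ X, p * x * p⁻¹ ∈ X) : Nat.card X ≠ 256 := by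
  have hp' : ∀ g ∈ zpowers p, ∀ x ∈ X, g * x * g⁻¹ ∈ X := fun g hg x hx => by
    rcases h.zp hg with rfl | rfl | rfl
    · simpa using hx
    · exact hp x hx
    · have : p⁻¹ = p * p := by rw [inv_eq_iff_mul_eq_one, ← h.p3]; simp [pow_succ, mul_assoc]
      rw [this, show p * p * x * (p * p)⁻¹ = p * (p * x * p⁻¹) * p⁻¹ by group]
      exact hp _ (hp x hx)
  obtain ⟨r, e⟩ := h.card_mod (P := zpowers p) (n := 3) hz hp' (fun g hg => by
    obtain ⟨n, rfl⟩ := hg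
    exact ((show Commute p z from h.pz).zpow_left n).eq) fun x hx n1 n2 => by
      have d := relIndex_dvd_card (centralizer {x}) (zpowers p)
      rw [h.card_p] at d
      rcases (Nat.dvd_prime Nat.prime_three).1 d with k | k
      · rcases h.fp x (hX hx) (mem_cent_single.1 (relIndex_eq_one.1 k (mem_zpowers p))) with e | e <;> contradiction
      · rw [k]
  omega

end JS

end Cfsg.Lib.JF
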