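import Cfsg.Agent.Lib.Block2.JE0
import Cfsg.Agent.Lib.Block2.JF2
import Cfsg.Agent.Lib.PGrp.Extra


/-! The 11-local structure from the word equations and the orders of small centralisers. -/

set_option autoImplicit false
set_option linter.unusedSectionVars false

namespace Cfsg.Lib.JE

open Subgroup Cfsg.Lib.Comp Cfsg.Lib.MatB Cfsg.Lib.JF
open scoped commutatorElement

variable {G : Type*} [Group G] [Finite G]

theorem syl1 {C : Subgroup G} {s : ℕ} (hs : s.Prime) (h2 : ¬ s * s ∣ Nat.card C) {x y : G} (hx : x ∈ C) (hy : y ∈ C)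
    (ox : orderOf x = s) (oy : orderOf y = s) : ∃ c ∈ C, ∃ k : ℤ, c * y * c⁻¹ = x ^ k := by
  have := Fact.mk hs
  have k : ∀ v : C, orderOf (v : G) = s → ∃ P : Sylow s C, (P : Subgroup C) = zpowers v := fun v hv => by
    have c : Nat.card (zpowers v) = s := by rw [Nat.card_zpowers, ← hv, Subgroup.orderOf_coe]
    refine ⟨(IsPGroup.of_card (G := zpowers v) (n := 1) (c.trans (pow_one s).symm)).toSylow fun d => h2 ?_, rfl⟩
    rw [← (zpowers v).card_mul_index, c]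
    exact Nat.mul_dvd_mul_left s d
  obtain ⟨P, hP⟩ := k ⟨x, hx⟩ ox
  obtain ⟨Q, hQ⟩ := k ⟨y, hy⟩ oy
  obtain ⟨c, e⟩ := MulAction.exists_smul_eq C Q P
  have m : c * ⟨y, hy⟩ * c⁻¹ ∈ (P : Subgroup C) := by
    rw [← e, Sylow.coe_subgroup_smul, hQ]
    exact Subgroup.smul_mem_pointwise_smul _ (MulAut.conj c) _ (mem_zpowers _)
  rw [hP] at m
  obtain ⟨j, hj⟩ := mem_zpowers_iff.1 m
  exact ⟨c, c.2, j, by simpa using (congrArg Subtype.val hj).symm⟩

structure LOC (G : Type*) [Group G] : Prop where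
  o : Nat.card G = 86775571046077562880
  i : ∀ i : G, orderOf i = 2 → Nat.card (centralizer ({i} : Set G)) ∣ 21799895040
  p : ∀ x : G, orderOf x = 3 ∨ orderOf x = 5 ∨ orderOf x = 7 → ¬ 121 ∣ Nat.card (centralizer ({x} : Set G))

namespace EQ
variable {γ : ℕ → G} (h : EQ γ)
include h

theorem cU : Nat.card h.φ.range = 11 ^ 3 := by
  rw [← Nat.card_congr (MonoidHom.ofInjective h.inj).toEquiv, Nat.card_eq_fintype_card, He.card]

theorem p11 {x : G} (hx : x ∈ h.φ.range) : x ^ 11 = 1 := by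
  obtain ⟨u, rfl⟩ := hx
  rw [← map_pow, f6, map_one]

theorem o11 {x : G} (hx : x ∈ h.φ.range) (n : x ≠ 1) : orderOf x = 11 :=
  have : Fact (Nat.Prime 11) := ⟨by norm_num⟩
  orderOf_eq_prime (h.p11 hx) n

theorem mA : γ 1 ∈ h.φ.range := ⟨_, h.φa⟩
theorem mB : γ 2 ∈ h.φ.range := ⟨_, h.φb⟩
theorem mW : γ 3 ∈ h.φ.range := ⟨_, h.φw⟩

theorem syl (L : LOC G) : ∃ P : Sylow 11 G, (P : Subgroup G) = h.φ.range := by
  have : Fact (Nat.Prime 11) := ⟨by norm_num⟩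
  refine ⟨(IsPGroup.of_card h.cU).toSylow fun d => ?_, rfl⟩
  have c := h.φ.range.card_mul_index
  rw [h.cU, L.o] at c
  omega

theorem big (L : LOC G) {s : ℕ} (hs : s.Prime) (h2 : ¬ s * s ∣ 86775571046077562880) (h3 : ¬ s ∣ 21799895040)
    {x : G} (hx : x ∈ centralizer (h.φ.range : Set G)) (ox : orderOf x = s) : False := by
  have k : ∀ n ∈ normalizer (h.φ.range : Set G), ∃ y : G, (∃ k : ℤ, y * x * y⁻¹ = x ^ k) ∧
      ∀ u ∈ h.φ.range, y * u * y⁻¹ = n * u * n⁻¹ := fun n hn => by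
    have m : n * x * n⁻¹ ∈ centralizer (h.φ.range : Set G) := fun u hu => by
      have := hx _ ((mem_normalizer_iff.1 (inv_mem hn) u).1 hu)
      rw [inv_inv] at this
      calc u * (n * x * n⁻¹) = n * (n⁻¹ * u * n * x) * n⁻¹ := by group
        _ = _ := by rw [this]; group
    obtain ⟨c, hc, j, e⟩ := syl1 hs (fun d => h2 (L.o ▸ d.trans (card_subgroup_dvd_card _))) hx m ox
      (by rw [← ox]; exact (MulAut.conj n).orderOf_eq x)
    refine ⟨c * n, ⟨j, by rw [← e]; group⟩, fun u hu => ?_⟩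
    have := hc _ ((mem_normalizer_iff.1 hn u).1 hu)
    calc c * n * u * (c * n)⁻¹ = c * (n * u * n⁻¹) * c⁻¹ := by group
      _ = _ := by rw [← this]; group
  have n7 := h.nor (g := 7) (by simp)
  have n8 := h.nor (g := 8) (by simp)
  obtain ⟨y1, ⟨k1, e1⟩, a1⟩ := k _ n7
  obtain ⟨y2, ⟨k2, e2⟩, a2⟩ := k _ n8
  have c1 : y1 * y2 * x * (y1 * y2)⁻¹ = x ^ (k1 * k2) := by
    rw [show y1 * y2 * x * (y1 * y2)⁻¹ = y1 * (y2 * x * y2⁻¹) * y1⁻¹ by group, e2, ← conj_zpow, e1, ← zpow_mul]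
  have c2 : y2 * y1 * x * (y2 * y1)⁻¹ = x ^ (k1 * k2) := by
    rw [show y2 * y1 * x * (y2 * y1)⁻¹ = y2 * (y1 * x * y1⁻¹) * y2⁻¹ by group, e1, ← conj_zpow, e2, ← zpow_mul, mul_comm]
  have m := (mem_normalizer_iff.1 (inv_mem (mul_mem n8 n7)) _).1 h.mA
  rw [inv_inv] at m
  have d2 : y2 * y1 * ((γ 8 * γ 7)⁻¹ * γ 1 * (γ 8 * γ 7)) * (y2 * y1)⁻¹ = γ 1 := by
    rw [show ∀ u, y2 * y1 * u * (y2 * y1)⁻¹ = y2 * (y1 * u * y1⁻¹) * y2⁻¹ from fun u => by group, a1 _ m,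
      a2 _ ((mem_normalizer_iff.1 n7 _).1 m)]
    group
  have d1 : y1 * y2 * ((γ 8 * γ 7)⁻¹ * γ 1 * (γ 8 * γ 7)) * (y1 * y2)⁻¹ = (γ 1)⁻¹ := by
    rw [show ∀ u, y1 * y2 * u * (y1 * y2)⁻¹ = y1 * (y2 * u * y2⁻¹) * y1⁻¹ from fun u => by group, a2 _ m,
      a1 _ ((mem_normalizer_iff.1 n8 _).1 m),
      show ∀ u, γ 7 * (γ 8 * u * (γ 8)⁻¹) * (γ 7)⁻¹ = γ 7 * γ 8 * u * (γ 7 * γ 8)⁻¹ from fun u => by group, h.r7,
      show γ 9 * (γ 8 * γ 7) * ((γ 8 * γ 7)⁻¹ * γ 1 * (γ 8 * γ 7)) * (γ 9 * (γ 8 * γ 7))⁻¹ = γ 9 * γ 1 * (γ 9)⁻¹ by group,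
      h.act1 (by simp) (by simp), ← h.φa, ← map_inv]
    rfl
  obtain ⟨y, hy⟩ : ∃ y, y = y1 * y2 * (y2 * y1)⁻¹ := ⟨_, rfl⟩
  obtain ⟨v, hv⟩ : ∃ v, v = y2 * y1 * x * (y2 * y1)⁻¹ := ⟨_, rfl⟩
  have ov : orderOf v = s := by rw [hv, ← ox]; exact (MulAut.conj (y2 * y1)).orderOf_eq x
  have yv : Commute y v := by
    have : y * v * y⁻¹ = v := by
      calc y * v * y⁻¹ = y1 * y2 * x * (y1 * y2)⁻¹ := by rw [hy, hv]; group
        _ = v := by rw [c1, hv, c2]
    exact mul_inv_eq_iff_eq_mul.1 this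
  have ya : y * γ 1 * y⁻¹ = (γ 1)⁻¹ := by
    rw [hy]; nth_rewrite 1 [← d2]; rw [← d1]; group
  have ev2 : 2 ∣ orderOf y := by
    by_contra d
    have c : Commute (y ^ 2) (γ 1) := by
      have : y ^ 2 * γ 1 * (y ^ 2)⁻¹ = γ 1 := by
        rw [show y ^ 2 * γ 1 * (y ^ 2)⁻¹ = y * (y * γ 1 * y⁻¹) * y⁻¹ by rw [sq]; group, ya, ← conj_inv, ya, inv_inv]
      exact mul_inv_eq_iff_eq_mul.1 this
    obtain ⟨j, hj⟩ := mem_zpowers_iff.1 (mem_zpowers_pow_iff.2
      (((Nat.Prime.coprime_iff_not_dvd Nat.prime_two).2 d)) : y ∈ zpowers (y ^ 2))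
    have c2 : Commute y (γ 1) := hj ▸ c.zpow_left j
    rw [c2.eq, mul_inv_cancel_right, ← h.φa, ← map_inv] at ya
    exact absurd (h.inj ya) (by decide)
  have oi := orderOf_pow_orderOf_div (orderOf_pos y).ne' ev2
  refine h3 (Dvd.dvd.trans ?_ (L.i _ oi))
  rw [← ov]
  exact orderOf_dvd_natCard _ (mem_centralizer_singleton_iff.2 (yv.pow_left _).symm.eq)

omit h [Group G] [Finite G] in
theorem prs {s : ℕ} (hs : s.Prime) (d : s ∣ 86775571046077562880) :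
    s = 2 ∨ s = 3 ∨ s = 5 ∨ s = 7 ∨ s = 11 ∨ (¬ s * s ∣ 86775571046077562880 ∧ ¬ s ∣ 21799895040) := by
  have q : ∀ {r : ℕ}, r.Prime → s ∣ r → s = r := fun hr d => (Nat.prime_dvd_prime_iff_eq hs hr).1 d
  have d2 : s ∣ 2 ^ 21 * 3 ^ 3 * 5 * 7 * 11 ^ 3 * 23 * 29 * 31 * 37 * 43 := by norm_num; exact d
  iterate 9 rw [hs.dvd_mul] at d2
  rcases d2 with (((((((((d2 | d2) | d2) | d2) | d2) | d2) | d2) | d2) | d2) | d2)
  · simp [q Nat.prime_two (hs.dvd_of_dvd_pow d2)]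
  · simp [q Nat.prime_three (hs.dvd_of_dvd_pow d2)]
  · simp [q (by norm_num) d2]
  · simp [q (by norm_num) d2]
  · simp [q (r := 11) (by norm_num) (hs.dvd_of_dvd_pow d2)]
  all_goals
    rw [q (by norm_num) d2]
    norm_num

theorem cen1 (L : LOC G) {s : ℕ} (hs : s.Prime) (d : s ∣ Nat.card (centralizer (h.φ.range : Set G))) : s = 11 := by
    have := Fact.mk hs
    obtain ⟨x, ox⟩ := exists_prime_orderOf_dvd_card' s d
    rw [← Subgroup.orderOf_coe] at ox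
    have c : 11 ^ 3 ∣ Nat.card (centralizer ({(x : G)} : Set G)) := (dvd_of_eq h.cU.symm).trans (card_dvd_of_le fun u hu =>
      mem_centralizer_singleton_iff.2 (x.2 u hu))
    have c2 : 121 ∣ Nat.card (centralizer ({(x : G)} : Set G)) := Dvd.dvd.trans (by norm_num) c
    rcases prs hs ((d.trans (card_subgroup_dvd_card _)).trans (dvd_of_eq L.o)) with d2 | d2 | d2 | d2 | d2 | d2
    · exact absurd (c2.trans (L.i _ (ox.trans d2))) (by norm_num)
    · exact absurd c2 (L.p _ (Or.inl (ox.trans d2)))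
    · exact absurd c2 (L.p _ (Or.inr (Or.inl (ox.trans d2))))
    · exact absurd c2 (L.p _ (Or.inr (Or.inr (ox.trans d2))))
    · exact d2
    · exact (h.big L hs d2.1 d2.2 x.2 ox).elim

theorem cen (L : LOC G) : centralizer (h.φ.range : Set G) ≤ h.φ.range := by
  have : Fact (Nat.Prime 11) := ⟨by norm_num⟩
  have pC : IsPGroup 11 (centralizer (h.φ.range : Set G)) :=
    IsPGroup.of_card (Nat.eq_prime_pow_of_unique_prime_dvd Nat.card_pos.ne' (h.cen1 L))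
  obtain ⟨P, hP⟩ := h.syl L
  rw [← hP] at pC ⊢
  exact le_sup_right.trans
    (P.is_maximal' (IsPGroup.to_sup_of_normal_left' P.isPGroup' pC (centralizer_le_normalizer _)) le_sup_left).le

theorem cen3 (L : LOC G) : centralizer (h.φ.range : Set G) ≤ zpowers (γ 3) := fun x hx => by
  obtain ⟨u, rfl⟩ := h.cen L hx
  have a := hx _ h.mA
  have b := hx _ h.mB
  rw [← h.φa, ← map_mul, ← map_mul] at a
  rw [← h.φb, ← map_mul, ← map_mul] at b
  have a2 := congrArg He.k (h.inj a)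
  have b2 := congrArg He.k (h.inj b)
  simp [He.mul_def] at a2 b2
  rw [φ_def, a2, b2]
  simp

theorem cen2 (L : LOC G) : Nat.card (centralizer (h.φ.range : Set G)) ∣ 11 :=
  (card_dvd_of_le (h.cen3 L)).trans (dvd_of_eq ((Nat.card_zpowers _).trans (h.o11 h.mW h.w)))

theorem ncj {u : He 11} (e : IsConj (γ 2) (h.φ u)) : ¬ (u.i = 0 ∧ u.j = 0) := fun hu => by
  by_cases h1 : u = 1
  · rw [h1, map_one] at e; exact h.b1 (isConj_one_left.1 e)
  · exact h.c ((h.tr2 u hu h1).trans e.symm)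

theorem cN (L : LOC G) : Nat.card (normalizer (h.φ.range : Set G)) = 2 ^ 4 * 3 * 5 * 11 ^ 3 := by
  have c1 := card_orb (normalizer (h.φ.range : Set G)) (γ 2)
  have nc : ∀ P : He 11 → Prop, [DecidablePred P] → (h.φ '' {u | P u}).ncard = (Finset.univ.filter P).card := fun P _ => by
    rw [Set.ncard_image_of_injective _ h.inj, ← Set.ncard_coe_finset]; congr 1; ext; simp
  have o1 : {y | ∃ g ∈ normalizer (h.φ.range : Set G), g * γ 2 * g⁻¹ = y} = h.φ '' {u | ¬ (u.i = 0 ∧ u.j = 0)} := by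
    ext y
    constructor
    · rintro ⟨g, hg, rfl⟩
      obtain ⟨u, hu⟩ := (mem_normalizer_iff.1 hg _).1 h.mB
      exact ⟨u, h.ncj (isConj_iff.2 ⟨g, hu.symm⟩), hu⟩
    · rintro ⟨u, hu, rfl⟩
      exact h.tr1 u hu
  rw [o1, nc, f7.1] at c1
  have cm : ∀ u : He 11, h.φ u * γ 2 = γ 2 * h.φ u ↔ u.i = 0 := fun u => by
    rw [← h.φb, ← map_mul, ← map_mul, h.inj.eq_iff]
    simp [He.mul_def, He.ext_iff, add_comm]
  have c2 := dvd_ncard (P := normalizer (h.φ.range : Set G) ⊓ centralizer {γ 2})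
    (k := (centralizer (h.φ.range : Set G)).relIndex (normalizer (h.φ.range : Set G) ⊓ centralizer {γ 2}))
    (h.φ '' {u | u.i ≠ 0}) (by
      rintro g hg _ ⟨u, hu, rfl⟩
      obtain ⟨v, hv⟩ := (mem_normalizer_iff.1 hg.1 _).1 (⟨u, rfl⟩ : h.φ u ∈ h.φ.range)
      refine ⟨v, fun e => hu ((cm u).1 ?_), hv⟩
      have e2 := (cm v).2 e
      have e3 := mem_centralizer_singleton_iff.1 hg.2
      rw [hv] at e2
      calc h.φ u * γ 2 = g⁻¹ * (g * h.φ u * g⁻¹ * (g * γ 2 * g⁻¹)) * g := by group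
        _ = g⁻¹ * ((g * γ 2 * g⁻¹) * (g * h.φ u * g⁻¹)) * g := by rw [e3, mul_inv_cancel_right, e2]
        _ = _ := by group) (by
      rintro _ ⟨u, hu, rfl⟩
      rw [← inf_relIndex_right (centralizer {h.φ u})]
      refine relIndex_dvd_of_le_left _ fun g hg v hv => ?_
      have t : (centralizer {g}).comap h.φ = ⊤ := by
        refine eq_top_of_card_eq _ (Nat.dvd_antisymm (card_subgroup_dvd_card _) ?_)
        rw [Nat.card_eq_fintype_card (α := He 11), He.card]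
        refine F2.cube_dvd (by norm_num) (a := u) (b := ⟨0, 1, 0⟩) (z := ⟨0, 0, u.i⟩) ?_ ?_ ?_ (f6 _) (f6 _) (f6 _)
          (fun e => hu (congrArg He.k e)) ?_ ?_
        · simp [He.mul_def, add_comm]
        · simp [Commute, SemiconjBy, He.mul_def, add_comm]
        · simp [Commute, SemiconjBy, He.mul_def, add_comm]
        · exact mem_centralizer_singleton_iff.2 (mem_centralizer_singleton_iff.1 hg.1).symm
        · rw [mem_comap, h.φb]
          exact mem_centralizer_singleton_iff.2 (mem_centralizer_singleton_iff.1 hg.2.2).symm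
      obtain ⟨w, rfl⟩ := hv
      exact mem_centralizer_singleton_iff.1 (show w ∈ (centralizer {g}).comap h.φ from t ▸ mem_top w))
  rw [nc, f7.2] at c2
  have c3 := Core.card_inf_mul_relIndex (centralizer (h.φ.range : Set G))
    (normalizer (h.φ.range : Set G) ⊓ centralizer {γ 2})
  have c4 := (card_dvd_of_le (inf_le_left (a := centralizer (h.φ.range : Set G))
    (b := normalizer (h.φ.range : Set G) ⊓ centralizer {γ 2}))).trans (h.cen2 L)
  have u1 : Nat.card (normalizer (h.φ.range : Set G)) ∣ 1320 * (11 * 1210) := by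
    rw [c1, ← c3]; exact Nat.mul_dvd_mul_left _ (Nat.mul_dvd_mul c4 c2)
  have u2 := Nat.dvd_gcd u1 (L.o ▸ card_subgroup_dvd_card _)
  have l1 : 11 ^ 3 ∣ Nat.card (normalizer (h.φ.range : Set G)) := h.cU ▸ card_dvd_of_le le_normalizer
  have l2 : 5 ∣ Nat.card (normalizer (h.φ.range : Set G)) := by
    have : Fact (Nat.Prime 5) := ⟨by norm_num⟩
    rw [← orderOf_eq_prime (h.pw (x := 6) (n := 5) (by decide)) (h.n 6 (by simp))]
    exact orderOf_dvd_natCard _ (h.nor (by simp))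
  have l3 : 48 ∣ Nat.card (normalizer (h.φ.range : Set G)) := by
    obtain ⟨κ, a, b⟩ := h.gl
    refine Dvd.dvd.trans (dvd_of_eq ?_) (card_dvd_of_le b)
    rw [← Nat.card_congr (MonoidHom.ofInjective a).toEquiv, Matrix.card_GL_field]
    simp [Fin.prod_univ_two]
  exact Nat.dvd_antisymm (by norm_num at u2 ⊢; exact u2) (by
    have := Nat.lcm_dvd (Nat.lcm_dvd l1 l2) l3
    norm_num at this ⊢; exact this)

theorem two (L : LOC G) : ∃ x y : G, orderOf x = 11 ∧ orderOf y = 11 ∧ ¬ IsConj x y ∧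
    ∀ w : G, orderOf w = 11 → IsConj w x ∨ IsConj w y := by
  have : Fact (Nat.Prime 11) := ⟨by norm_num⟩
  refine ⟨γ 3, γ 2, h.o11 h.mW h.w, h.o11 h.mB h.b1, h.c, fun w hw => ?_⟩
  obtain ⟨P, hP⟩ := h.syl L
  obtain ⟨Q, hQ⟩ := (IsPGroup.of_card (n := 1) (by rw [Nat.card_zpowers, hw, pow_one]) :
    IsPGroup 11 (zpowers w)).exists_le_sylow
  obtain ⟨c, e⟩ := MulAction.exists_smul_eq G Q P
  have m : c * w * c⁻¹ ∈ (P : Subgroup G) := by
    rw [← e, Sylow.coe_subgroup_smul]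
    exact Subgroup.smul_mem_pointwise_smul _ (MulAut.conj c) _ (hQ (mem_zpowers _))
  obtain ⟨u, hu⟩ := hP ▸ m
  have cw : IsConj w (h.φ u) := isConj_iff.2 ⟨c, hu.symm⟩
  by_cases h0 : u.i = 0 ∧ u.j = 0
  · refine Or.inl (cw.trans (h.tr2 u h0 fun e1 => ?_).symm)
    rw [e1, map_one, isConj_one_left] at cw
    rw [cw, orderOf_one] at hw
    exact absurd hw (by norm_num)
  · obtain ⟨n, -, e2⟩ := h.tr1 u h0
    exact Or.inr (cw.trans (isConj_iff.2 ⟨n, e2⟩).symm)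

theorem main0 (L : LOC G) {U : Subgroup G} (hU : U = h.φ.range) :
    IsExtraspecial 11 U ∧ Nat.card U = 11 ^ 3 ∧ Monoid.exponent U = 11 ∧
    Nat.card (normalizer (U : Set G)) = 2 ^ 4 * 3 * 5 * 11 ^ 3 ∧
    ∃ K : Subgroup G, K ≤ normalizer (U : Set G) ∧ Nonempty (K ≃* GL (Fin 2) (ZMod 3)) := by
  have : Fact (Nat.Prime 11) := ⟨by norm_num⟩
  subst hU
  obtain ⟨κ, a, b⟩ := h.gl
  refine ⟨PGrp.isExtraspecial_of_le_zpowers (h.o11 h.mW h.w) h.mW (le_antisymm (inf_le_right.trans (h.cen3 L))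
    (zpowers_le.2 ⟨h.mW, ?_⟩)) ?_ (fun x hx => by rw [h.p11 hx]; exact one_mem _) fun e => ?_, h.cU, ?_, h.cN L, _, b,
    ⟨(MonoidHom.ofInjective a).symm⟩⟩
  · rintro _ ⟨u, rfl⟩
    rw [← h.φw, ← map_mul, ← map_mul]
    congr 1
    simp [He.mul_def, add_comm]
  · rintro _ ⟨u, rfl⟩ _ ⟨v, rfl⟩
    rw [← map_commutatorElement, φ_def, show ⁅u, v⁆.i = 0 by simp [commutatorElement_def, He.mul_def, He.inv_def],
      show ⁅u, v⁆.j = 0 by simp [commutatorElement_def, He.mul_def, He.inv_def]]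
    simp
  · have := h.cU
    rw [e, Nat.card_zpowers, h.o11 h.mW h.w] at this
    exact absurd this (by norm_num)
  · have : Nontrivial h.φ.range := ⟨⟨_, h.mW⟩, 1, fun e => h.w (congrArg Subtype.val e)⟩
    exact (Monoid.exponent_eq_prime_iff (by norm_num)).2 fun g hg => by
      rw [← Subgroup.orderOf_coe]; exact h.o11 g.2 fun e => hg (Subtype.ext e)

theorem main (L : LOC G) (U : Sylow 11 G) :
    IsExtraspecial 11 (U : Subgroup G) ∧ Nat.card (U : Subgroup G) = 11 ^ 3 ∧ Monoid.exponent (U : Subgroup G) = 11 ∧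
    Nat.card (normalizer ((U : Subgroup G) : Set G)) = 2 ^ 4 * 3 * 5 * 11 ^ 3 ∧
    ∃ K : Subgroup G, K ≤ normalizer ((U : Subgroup G) : Set G) ∧ Nonempty (K ≃* GL (Fin 2) (ZMod 3)) := by
  have : Fact (Nat.Prime 11) := ⟨by norm_num⟩
  obtain ⟨P, hP⟩ := h.syl L
  obtain ⟨c, e⟩ := MulAction.exists_smul_eq G P U
  refine (h.map (MulAut.conj c)).main0 L ?_
  have e2 : (h.map (MulAut.conj c)).φ = (MulAut.conj c).toMonoidHom.comp h.φ := by
    ext u
    rw [φ_def, MonoidHom.comp_apply, φ_def, map_mul, map_mul, map_pow, map_pow, map_pow]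
    rfl
  rw [e2, MonoidHom.range_comp, ← hP, ← e]
  rfl

end EQ

end Cfsg.Lib.JE
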