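import Cfsg.Agent.Lib.Block2.JH4

/-! The counting data `OC`. -/

set_option autoImplicit false

namespace Cfsg.Lib.JF

open Subgroup Cfsg.Lib.Amalg Cfsg.Lib.Core Cfsg.Lib.Known2

variable {G Γ : Type*} [Group G] [Group Γ] {E : Subgroup G} {z p : G} {M : Subgroup Γ} {φ : KK z p →* Γ}
  {A1 A2 : Subgroup Γ} {t1 t2 t3 t4 a b i g f q : Γ}

theorem five_dvd [Finite G] {y : G} (y5 : y ^ 5 = 1) (Ω : Set G) (hΩ : ∀ c ∈ Ω, y * c * y⁻¹ ∈ Ω) :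
    ∃ r, Ω.ncard = {c | c ∈ Ω ∧ y * c = c * y}.ncard + 5 * r := by
  have : Fact (Nat.Prime 5) := ⟨Nat.prime_five⟩
  have hi : ∀ g ∈ zpowers y, ∀ c ∈ Ω, g * c * g⁻¹ ∈ Ω := fun g hg c hc => by
    obtain ⟨n, rfl⟩ := (Submonoid.mem_powers_iff _ _).1 (mem_powers_iff_mem_zpowers.2 hg)
    induction n with
    | zero => simpa using hc
    | succ n ih =>
      rw [show y ^ (n + 1) * c * (y ^ (n + 1))⁻¹ = y * (y ^ n * c * (y ^ n)⁻¹) * y⁻¹ by group]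
      exact hΩ _ (ih (pow_mem (mem_zpowers y) n))
  obtain ⟨r, e⟩ := dvd_ncard (P := zpowers y) (k := 5) (Ω \ {c | c ∈ Ω ∧ y * c = c * y}) (fun g hg c hc => ⟨hi g hg c hc.1, fun k =>
    hc.2 ⟨hc.1, by
      obtain ⟨n, rfl⟩ := hg
      have := k.2
      calc y * c = (y ^ n)⁻¹ * (y * (y ^ n * c * (y ^ n)⁻¹)) * y ^ n := by group
        _ = _ := by rw [this]; group⟩⟩) fun c hc => by
      have d := (relIndex_dvd_card (centralizer {c}) (zpowers y)).trans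
        (show Nat.card (zpowers y) ∣ 5 by rw [Nat.card_zpowers]; exact orderOf_dvd_of_pow_eq_one y5)
      rcases (Nat.dvd_prime Nat.prime_five).1 d with k | k
      · exact absurd ⟨hc.1, mem_cent_single.1 (relIndex_eq_one.1 k (mem_zpowers y))⟩ hc.2
      · rw [k]
  have := Set.ncard_sdiff_add_ncard_of_subset (show {c | c ∈ Ω ∧ y * c = c * y} ⊆ Ω from fun _ r => r.1)
  exact ⟨r, by omega⟩

theorem split_ncard [Finite G] (U : Subgroup G) (P : G → Prop) :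
    {u | u ∈ U ∧ P u}.ncard + {u | u ∈ U ∧ ¬ P u}.ncard = Nat.card U := by
  rw [← Set.ncard_union_eq (Set.disjoint_left.2 fun _ r r' => r'.2 r.2), ← Nat.card_coe_set_eq]
  congr 2; ext u
  exact ⟨fun r => r.elim And.left And.left, fun r => by by_cases c : P u; exacts [Or.inl ⟨r, c⟩, Or.inr ⟨r, c⟩]⟩

namespace JS
variable (h : JS E z p M φ) (F : MF M A1 A2 t1 t2 t3 t4 a b i g f) [Finite G] (F2 : MF2 M A1 t1 a b q)
include h F F2

theorem exX : ∃ y, L φ y q ∧ y ^ 5 = 1 ∧ y ≠ 1 ∧ y ∈ 𝐍 (V0 E φ A1) ∧ Nat.card ↥(Cm E φ A1 ⊓ centralizer {y}) = 8 ∧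
    (∀ v ∈ V0 E φ A1, y * v = v * y → v ∈ Cm E φ A1) ∧
    ∀ x ∈ Cm E φ A1 ⊓ centralizer {y}, x ≠ 1 → x ≠ z → ∀ x' ∈ Cm E φ A1 ⊓ centralizer {y}, x' ≠ 1 → x' ≠ z → IsConj x x' := by
  have : Finite A1 := Nat.finite_of_card_ne_zero (by rw [F.c1]; norm_num)
  obtain ⟨k, lk⟩ := h.ex F2.qM
  obtain ⟨y, l, y5⟩ : ∃ y, L φ y q ∧ y ^ 5 = 1 := ⟨k ^ 6, (lk.pow 6).of_eq (by rw [pow_succ, F2.q5, one_mul]), by
    rw [← pow_mul, mul_comm, pow_mul]; exact h.ker_six ((lk.pow 5).of_eq F2.q5)⟩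
  have y1 : y ≠ 1 := by rintro rfl; exact F2.q1 (l.uniq L.one)
  have yN := (h.KN F l).2 (mem_normalizer_of_cj_le (cj_le_iff'.2 F2.nq))
  have yU : ∀ u ∈ Cm E φ A1, y * u * y⁻¹ ∈ Cm E φ A1 := fun u hu =>
    h.VE F ((mem_normalizer_iff.1 yN u).1 (mem_sup_left hu)) (h.nm l hu.1)
  obtain ⟨X, hX⟩ : ∃ X, X = Cm E φ A1 ⊓ centralizer {y} := ⟨_, rfl⟩
  have mX : ∀ x, x ∈ X ↔ x ∈ Cm E φ A1 ∧ y * x = x * y := fun x => by rw [hX, mem_inf, mem_cent_single, eq_comm]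
  have XU : X ≤ Cm E φ A1 := hX ▸ inf_le_left
  have c8 : Nat.card X = 8 := by
    obtain ⟨r, e⟩ := five_dvd y5 (Cm E φ A1 : Set G) yU
    rw [show {c | c ∈ (Cm E φ A1 : Set G) ∧ y * c = c * y} = (X : Set G) from Set.ext fun x => (mX x).symm,
      ← Nat.card_coe_set_eq, ← Nat.card_coe_set_eq] at e
    change Nat.card (Cm E φ A1) = Nat.card X + _ at e
    rw [h.cardU F] at e
    have n128 : Nat.card X ≠ 128 := fun c => by
      have eq := eq_of_le_of_card_ge XU (by rw [c, h.cardU F]; norm_num)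
      have s := h.sqC F l.kz fun u hu => ((mX u).1 (eq.ge hu)).2
      have s4 : y * y * (y * y) = 1 := by
        rcases s with s | s <;> rw [s]
        exacts [one_mul _, h.es.sq]
      exact y1 (by rw [← y5, show y ^ 5 = y * y * (y * y) * y by simp [pow_succ, mul_assoc], s4, one_mul])
    obtain ⟨n, hn, e2⟩ := h.card_pow (XU.trans Cm_le)
    rw [e2] at e n128 ⊢
    interval_cases n <;> omega
  refine ⟨y, l, y5, y1, yN, hX ▸ c8, fun v hv c => ?_, fun x hx n1 n2 x' hx' n1' n2' => ?_⟩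
  · obtain ⟨w, hw, u, hu, rfl⟩ := (h.memV F v).1 hv
    obtain ⟨⟨m, hm, lw⟩, -⟩ := id hw
    have lc := lw.inv.mul (l.cnj lw)
    have e : w⁻¹ * (y * w * y⁻¹) = u * (y * u * y⁻¹)⁻¹ := by
      rw [show w⁻¹ * (y * w * y⁻¹) = w⁻¹ * (y * (w * u)) * y⁻¹ * (y * u * y⁻¹)⁻¹ by group, c]; group
    have l1 : L φ (w⁻¹ * (y * w * y⁻¹)) 1 := by
      rcases h.fp _ (e ▸ E.mul_mem hu.1 (E.inv_mem (h.nm l hu.1))) lc.kp.symm with r | r <;> rw [r]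
      exacts [L.one, h.Lz]
    have m1 := F2.fp m hm (comm_of_conj_eq (inv_mul_eq_one.1 (lc.uniq l1)).symm)
    rcases h.ker_two (lw.of_eq m1) hw.2 with rfl | rfl
    exacts [by rwa [one_mul], mul_mem h.z_Cm hu]
  · rw [← hX] at hx hx'
    have pX : ∀ x ∈ X, p * x * p⁻¹ ∈ X := fun x hx => (mX _).2 ⟨h.Cm_p (XU hx), by
      calc y * (p * x * p⁻¹) = p * (y * x) * p⁻¹ := by rw [← mul_assoc, ← mul_assoc, l.kp]; group
        _ = p * x * (y * p⁻¹) := by rw [((mX x).1 hx).2]; group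
        _ = _ := by rw [show y * p⁻¹ = p⁻¹ * y by rw [mul_inv_eq_iff_eq_mul, mul_assoc, l.kp]; group]; group⟩
    have sX : ∀ x ∈ X, x * x = 1 := fun x hx => h.sqU F (XU hx)
    have key : ∀ w ∈ X, IsConj x w → x' * w ∈ zpowers z → IsConj x x' := fun w hw c r => by
      obtain ⟨e, he, ne⟩ := h.es.exists_anti (XU hx').1 n1' n2'
      rcases h.es.mem_zp.1 r with r | r
      · rwa [show x' = w by rw [← mul_left_inj w, r, sX w hw]]
      · refine c.trans (isConj_iff.2 ⟨e⁻¹, ?_⟩)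
        have q := h.es.conj_anti he (XU hx').1 (Ne.symm ne)
        rw [show w = e * x' * e⁻¹ by rw [q, ← r, ← mul_assoc, sX x' hx', one_mul]]; group
    rcases h.three (W := zpowers z) (zpowers_le.2 ((mX z).2 ⟨h.z_Cm, l.kz⟩)) (XU.trans Cm_le) sX (mem_zpowers z)
      (fun w hw => by
        rcases h.es.mem_zp.1 hw with rfl | rfl
        · simp
        · rw [conj_eq_of_comm h.pz]; exact hw) pX (by rw [c8, card_zpowers_invol h.es.sq h.es.ne]) hx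
      (fun r => (h.es.mem_zp.1 r).elim n1 n2) hx' (fun r => (h.es.mem_zp.1 r).elim n1' n2') with r | r | r
    · exact key _ hx (IsConj.refl _) r
    · exact key _ (pX _ hx) (ic_cj p |>.2 (IsConj.refl _)) r
    · exact key _ (pX _ (pX _ hx)) (ic_cj p |>.2 (ic_cj p |>.2 (IsConj.refl _))) r

theorem const {v : G} (hv : v ∈ V0 E φ A1) (nv : v ∉ Cm E φ A1) {k : G} (lk : L φ k t1) (kk : k * k = 1) :
    {u | u ∈ Cm E φ A1 ∧ IsConj z (v * u)}.ncard = {u | u ∈ Cm E φ A1 ∧ IsConj z (k * u)}.ncard := by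
  have tr : ∀ w, ∀ u0 ∈ Cm E φ A1, {u | u ∈ Cm E φ A1 ∧ IsConj z (w * u0 * u)}.ncard =
      {u | u ∈ Cm E φ A1 ∧ IsConj z (w * u)}.ncard := fun w u0 h0 => by
    rw [← Set.ncard_image_of_injective _ (mul_right_injective u0)]
    congr 1; ext x
    exact ⟨by rintro ⟨u, hu, rfl⟩; exact ⟨mul_mem h0 hu.1, by simpa [mul_assoc] using hu.2⟩,
      fun r => ⟨u0⁻¹ * x, ⟨mul_mem (inv_mem h0) r.1, by simpa [mul_assoc] using r.2⟩, by simp⟩⟩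
  obtain ⟨w, hw, u0, h0, rfl⟩ := (h.memV F v).1 hv
  obtain ⟨⟨m, hm, lw⟩, ww⟩ := id hw
  have m1 : m ≠ 1 := by
    rintro rfl
    rcases h.ker_two lw ww with rfl | rfl
    exacts [nv (by rwa [one_mul]), nv (mul_mem h.z_Cm h0)]
  obtain ⟨c, hc, cN, r⟩ := F2.tr m hm m1
  obtain ⟨d, ld⟩ := h.ex hc
  have dU : cj d (Cm E φ A1) = Cm E φ A1 := h.cj_Cm ld fun y => mem_normalizer_iff''.1 cN y
  have e : {u | u ∈ Cm E φ A1 ∧ IsConj z (d * k * d⁻¹ * u)}.ncard = {u | u ∈ Cm E φ A1 ∧ IsConj z (k * u)}.ncard := by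
    rw [← Set.ncard_image_of_injective {u | u ∈ Cm E φ A1 ∧ IsConj z (k * u)} (MulAut.conj d).injective]
    congr 1; ext x
    constructor
    · rintro ⟨hx, c⟩
      rw [← dU] at hx
      obtain ⟨u, hu, rfl⟩ := mem_cj'.1 hx
      exact ⟨u, ⟨hu, by rwa [conj_mul, ic_cj] at c⟩, rfl⟩
    · rintro ⟨u, hu, rfl⟩
      exact ⟨dU ▸ conj_mem_cj d hu.1, by
        change IsConj z (d * k * d⁻¹ * (d * u * d⁻¹)); rw [conj_mul, ic_cj]; exact hu.2⟩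
  rw [tr w u0 h0, ← e]
  rcases h.lift_eq ((ld.cnj lk).of_eq r) lw (by rw [conj_mul, kk]; group) ww with s | s <;> rw [s]
  exact tr _ z h.z_Cm

theorem oc (hH : Nat.card (centralizer ({z} : Set G)) = 21799895040) (sA : ∃ y ∈ V0 E φ A1, y ≠ z ∧ IsConj z y) :
    OC E φ A1 q := by
  have : Fact (Nat.Prime 5) := ⟨Nat.prime_five⟩
  have N1 := h.cN1 F F2 hH
  obtain ⟨y, l, y5, y1, yN, c8, yV, cX⟩ := h.exX F F2
  obtain ⟨k, lk, kk⟩ := h.lift2 F (F.le1 F.m1) (F.sq1 _ F.m1)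
  have n1 : ¬ IsConj z 1 := fun c => h.es.ne (isConj_one_left.1 c)
  have UV : Cm E φ A1 ≤ V0 E φ A1 := le_sup_left
  obtain ⟨kn, hk, hkn, -⟩ := h.coset F (k := k) ⟨⟨_, F.m1, lk⟩, kk⟩ (by rintro rfl; exact F.ne.1 (lk.uniq L.one))
    (by rintro rfl; exact F.ne.1 (lk.uniq h.Lz))
  have fb := fib UV (IsConj z) kn fun v hv nv => (h.const F F2 hv nv lk kk).trans hk
  have ri := card_inf_mul_relIndex (Cm E φ A1) (V0 E φ A1)
  rw [inf_of_le_left UV, h.cardU F, h.cardV F] at ri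
  rw [show (Cm E φ A1).relIndex (V0 E φ A1) = 16 by omega] at fb
  have orb : {v | ∃ g ∈ 𝐍 (V0 E φ A1), g * z * g⁻¹ = v} = {v | v ∈ V0 E φ A1 ∧ IsConj z v} := Set.ext fun v =>
    ⟨by rintro ⟨g, hg, rfl⟩; exact ⟨(mem_normalizer_iff.1 hg z).1 h.zV, isConj_iff.2 ⟨g, rfl⟩⟩, fun r => h.fus F h.zV r.1 r.2⟩
  have cM := card_orb (𝐍 (V0 E φ A1)) z
  rw [orb, inf_comm, N1] at cM
  obtain ⟨r, hr, e⟩ := (Nat.dvd_prime_pow Nat.prime_two).1 (h.cardV F ▸ (frattini (V0 E φ A1)).index_dvd_card)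
  have dv := (orb ▸ orb_dvd_aut (h.zV (B := A1))).trans (Coprime.card_mulAut_dvd (h.cardV F) e)
  have UN : ∀ g, g * z = z * g → g ∈ 𝐍 (V0 E φ A1) → ∀ u ∈ Cm E φ A1, g * u * g⁻¹ ∈ Cm E φ A1 := fun g gz hg u hu =>
    h.VE F ((mem_normalizer_iff.1 hg u).1 (UV hu)) (h.ls.norm g gz u hu.1)
  have d18 := h.n9 F ({u | u ∈ Cm E φ A1 ∧ IsConj z u} \ {z}) (fun _ r => r.1.1) (fun r => n1 r.1.2) (fun r => r.2 rfl)
    fun g gz hg x hx => ⟨⟨UN g gz hg x hx.1.1, (ic_cj g).2 hx.1.2⟩, fun r => hx.2 (by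
      have r : g * x * g⁻¹ = g * z * g⁻¹ := by rw [conj_eq_of_comm gz]; exact r
      simpa using r)⟩
  have m1 := Set.ncard_sdiff_singleton_add_one (s := {u | u ∈ Cm E φ A1 ∧ IsConj z u}) ⟨h.z_Cm, IsConj.refl z⟩
  have sp := split_ncard (Cm E φ A1) (IsConj z)
  have p1 : 0 < {u | u ∈ Cm E φ A1 ∧ ¬ IsConj z u}.ncard := (Set.ncard_pos (Set.toFinite _)).2 ⟨1, one_mem _, n1⟩
  rw [h.cardU F] at sp
  obtain ⟨r5, e5⟩ := five_dvd y5 {u | u ∈ Cm E φ A1 ∧ IsConj z u} fun c hc => ⟨UN y l.kz yN c hc.1, (ic_cj y).2 hc.2⟩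
  obtain ⟨Ω, hΩ⟩ : ∃ Ω, Ω = {c | c ∈ {u | u ∈ Cm E φ A1 ∧ IsConj z u} ∧ y * c = c * y} := ⟨_, rfl⟩
  have mΩ : ∀ c, c ∈ Ω ↔ c ∈ Cm E φ A1 ⊓ centralizer {y} ∧ IsConj z c := fun c => by
    rw [hΩ, mem_inf, mem_cent_single]
    exact ⟨fun r => ⟨⟨r.1.1, r.2.symm⟩, r.1.2⟩, fun r => ⟨⟨r.1.1, r.2⟩, r.1.2.symm⟩⟩
  rw [← hΩ] at e5
  have zX : z ∈ Cm E φ A1 ⊓ centralizer {y} := ⟨h.z_Cm, mem_cent_single.2 l.kz.symm⟩
  -- Witt's lemma
  have dΩ : Ω.ncard ∣ Nat.card (𝐍 (V0 E φ A1)) := by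
    have c := card_orb (𝐍 (V0 E φ A1) ⊓ 𝐍 (zpowers y)) z
    have c5 : Nat.card (zpowers y) = 5 := by rw [Nat.card_zpowers, orderOf_eq_prime y5 y1]
    have eo : {x | ∃ g ∈ 𝐍 (V0 E φ A1) ⊓ 𝐍 (zpowers y), g * z * g⁻¹ = x} = Ω := Set.ext fun x => ⟨by
      rintro ⟨g, hg, rfl⟩
      have cy : y * (g * z * g⁻¹) = g * z * g⁻¹ * y := by
        obtain ⟨n, r⟩ := (mem_normalizer_iff''.1 hg.2 y).1 (mem_zpowers y)
        have : g⁻¹ * y * g * z = z * (g⁻¹ * y * g) := r ▸ ((show Commute y z from l.kz).zpow_left n).eq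
        calc y * (g * z * g⁻¹) = g * (g⁻¹ * y * g * z) * g⁻¹ := by group
          _ = _ := by rw [this]; group
      exact (mΩ _).2 ⟨⟨yV _ ((mem_normalizer_iff.1 hg.1 z).1 h.zV) cy, mem_cent_single.2 cy.symm⟩, isConj_iff.2 ⟨g, rfl⟩⟩, fun hx => by
      obtain ⟨⟨xU, xy⟩, cx⟩ := (mΩ x).1 hx
      obtain ⟨g, hg, rfl⟩ := h.fus F h.zV (UV xU) cx
      have yl : zpowers y ≤ centralizer {z} ⊓ 𝐍 (V0 E φ A1) := zpowers_le.2 ⟨mem_cent_single.2 l.kz, yN⟩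
      have s1 : Syl 5 (zpowers y) (centralizer {z} ⊓ 𝐍 (V0 E φ A1)) :=
        syl_of_not_dvd yl (IsPGroup.of_card (n := 1) c5) (by
          have := card_inf_mul_relIndex (zpowers y) (centralizer {z} ⊓ 𝐍 (V0 E φ A1))
          rw [inf_of_le_left yl, c5, N1] at this
          omega)
      obtain ⟨d, hd, r⟩ := s1.exists_conj_le (P := cj g⁻¹ (zpowers y)) (IsPGroup.of_card (n := 1) (by rw [card_cj, c5]; norm_num))
        (cj_le_iff'.2 fun w hw => by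
          obtain ⟨n, rfl⟩ := hw
          refine mem_inf.2 ⟨mem_cent_single.2 ?_, mul_mem (mul_mem (inv_mem hg) (zpow_mem yN n)) (inv_mem (inv_mem hg))⟩
          have := ((show Commute y (g * z * g⁻¹) from (mem_cent_single.1 xy).symm).zpow_left n).eq
          calc g⁻¹ * y ^ n * g⁻¹⁻¹ * z = g⁻¹ * (y ^ n * (g * z * g⁻¹)) * g := by group
            _ = _ := by rw [this]; group)
      rw [← cj_mul] at r
      refine ⟨(d * g⁻¹)⁻¹, inv_mem (mem_inf.2 ⟨mul_mem (mem_inf.1 hd).2 (inv_mem hg), mem_normalizer_of_cj_le r⟩), ?_⟩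
      conv_lhs => rw [← conj_eq_of_comm (mem_cent_single.1 hd.1)]
      group⟩
    rw [eo] at c
    exact (Dvd.intro _ c.symm).trans (card_dvd_of_le inf_le_left)
  have cΩ : (Ω.ncard = 1 ∧ ∀ x ∈ Cm E φ A1 ⊓ centralizer {y}, x ≠ 1 → x ≠ z → ¬ IsConj z x) ∨ Ω.ncard = 7 := by
    by_cases c : ∀ x ∈ Cm E φ A1 ⊓ centralizer {y}, x ≠ 1 → x ≠ z → ¬ IsConj z x
    · refine Or.inl ⟨Set.ncard_eq_one.2 ⟨z, Set.ext fun x => ⟨fun hx => ?_, ?_⟩⟩, c⟩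
      · by_contra n
        exact c x ((mΩ x).1 hx).1 (fun r => n1 (r ▸ ((mΩ x).1 hx).2)) n ((mΩ x).1 hx).2
      · rintro rfl; exact (mΩ _).2 ⟨zX, IsConj.refl _⟩
    · right
      push Not at c
      obtain ⟨x, hx, a1, a2, a3⟩ := c
      have := Set.ncard_sdiff_singleton_add_one (s := ((Cm E φ A1 ⊓ centralizer {y} : Subgroup G) : Set G)) (one_mem _)
      rw [← Nat.card_coe_set_eq ((Cm E φ A1 ⊓ centralizer {y} : Subgroup G) : Set G)] at this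
      change _ = Nat.card ↥(Cm E φ A1 ⊓ centralizer {y}) at this
      rw [show Ω = ((Cm E φ A1 ⊓ centralizer {y} : Subgroup G) : Set G) \ {1} from Set.ext fun w => ⟨fun hw =>
        ⟨((mΩ w).1 hw).1, fun r => n1 (r ▸ ((mΩ w).1 hw).2)⟩, fun hw => (mΩ w).2 ⟨hw.1, by
          by_cases s : w = z
          · rw [s]
          · exact a3.trans (cX x hx a1 a2 w hw.1 hw.2 s)⟩⟩]
      omega
  obtain ⟨m, hm⟩ : ∃ m, m = ({u | u ∈ Cm E φ A1 ∧ IsConj z u} \ {z}).ncard := ⟨_, rfl⟩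
  rw [← hm] at d18 m1
  have en : {v | v ∈ V0 E φ A1 ∧ IsConj z v}.ncard = 1 + m + 15 * kn := by omega
  rw [en] at dv cM
  obtain ⟨m90, k112⟩ := arith (m := m) (k := kn) (by
    rcases cΩ with c | c
    · omega
    · rw [c, cM] at dΩ
      have := Nat.Coprime.dvd_of_dvd_mul_right (show Nat.Coprime 7 (2 ^ 21 * 135) by norm_num) dΩ
      clear dΩ cM N1 hH dv
      omega) hkn (fun c => by
      obtain ⟨w, hw, a1, a2⟩ := sA
      obtain ⟨x, hx⟩ := Set.ncard_eq_one.1 (en.trans c)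
      exact a1 ((hx.le ⟨hw, a2⟩).trans (hx.le ⟨h.zV, IsConj.refl z⟩).symm)) hr dv
  have co : ∀ a ∈ hat φ A1, a ≠ 1 → a ≠ z → {u | u ∈ Cm E φ A1 ∧ IsConj z (a * u)}.ncard = 112 ∧
      (IsConj z a ↔ ¬ IsConj z (a * z)) ∧
      ∀ u ∈ Cm E φ A1, ¬ IsConj z (a * u) → ∃ e ∈ E, e * a * e⁻¹ = a * u ∨ e * (a * z) * e⁻¹ = a * u := fun a ha a1 a2 => by
    obtain ⟨n, e1, -, e2⟩ := h.coset F ha a1 a2
    have := (h.const F F2 (h.hatV F ha) (fun r => (h.hatE ha r.1).elim a1 a2) lk kk).trans (hk.trans k112)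
    exact ⟨this, e2 (e1.symm.trans this)⟩
  have dd : ∀ a ∈ hat φ A1, a ≠ 1 → a ≠ z → ∀ u ∈ Cm E φ A1, (a * u ∈ DD (V0 E φ A1) z ↔ ¬ IsConj z (a * u)) :=
    fun a ha a1 a2 u hu => ⟨fun r => r.2.2, fun r => ⟨mul_mem (h.hatV F ha) (UV hu), fun s => (h.hatE ha (by
      rw [eq_inv_of_mul_eq_one_left s]; exact E.inv_mem hu.1)).elim a1 a2, r⟩⟩
  refine ⟨by omega, ?_, fun a ha a1 a2 => ?_, fun a ha a1 a2 => ?_, fun t ht nt => ?_, ⟨y, l, y5, c8, fun x hx a1 a2 => ?_⟩,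
    h.n9 F, N1⟩
  · have := Set.ncard_sdiff_singleton_add_one (s := {u | u ∈ Cm E φ A1 ∧ ¬ IsConj z u}) ⟨one_mem _, n1⟩
    rw [show {u | u ∈ Cm E φ A1 ∧ u ∈ DD (V0 E φ A1) z} = {u | u ∈ Cm E φ A1 ∧ ¬ IsConj z u} \ {1} from Set.ext fun u =>
      ⟨fun r => ⟨⟨r.1, r.2.2.2⟩, r.2.2.1⟩, fun r => ⟨r.1.1, UV r.1.1, r.2, r.1.2⟩⟩]
    omega
  · have := split_ncard (Cm E φ A1) fun u => IsConj z (a * u)
    rw [(co a ha a1 a2).1, h.cardU F] at this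
    rw [show {u | u ∈ Cm E φ A1 ∧ a * u ∈ DD (V0 E φ A1) z} = {u | u ∈ Cm E φ A1 ∧ ¬ IsConj z (a * u)} from Set.ext fun u =>
      and_congr_right fun hu => dd a ha a1 a2 u hu]
    omega
  · have := dd a ha a1 a2 1 (one_mem _)
    rw [mul_one] at this
    rw [this, dd a ha a1 a2 z h.z_Cm, (co a ha a1 a2).2.1]
  · obtain ⟨a, ha, u, hu, rfl⟩ := (h.memV F t).1 ht.1
    have a1 : a ≠ 1 := by rintro rfl; exact nt (by rwa [one_mul])
    have a2 : a ≠ z := by rintro rfl; exact nt (mul_mem h.z_Cm hu)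
    obtain ⟨e, he, r | r⟩ := (co a ha a1 a2).2.2 u hu ht.2.2
    · exact ⟨e, he, a, ha, a1, a2, r.symm⟩
    · exact ⟨e, he, a * z, h.hat_mul F ha h.z_hat, fun s => a2 (by rw [eq_inv_of_mul_eq_one_left s, h.es.inv_z]),
        fun s => a1 (by simpa using s), r.symm⟩
  · exact ⟨UV hx.1, a1, (cΩ.resolve_right (by omega)).2 x hx a1 a2⟩

end JS

end Cfsg.Lib.JF
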