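import Cfsg.Agent.Lib.Block2.JHx
import Cfsg.Agent.Lib.Block2.JH5

/-! The package `AllD` exists in every simple group of Janko-four type. -/

set_option autoImplicit false

namespace Cfsg.Lib.JF

open Subgroup Cfsg.Lib.Amalg Cfsg.Lib.Golay Cfsg.Spor

theorem exists_allD {G : Type*} [Group G] [Finite G] [IsSimpleGroup G] (hG : ¬ IsMulCommutative G) {z : G}
    {P : Subgroup G} (hJ : IsOfJankoFourTypeWith z P) :
    ∃ p φ q, P = zpowers p ∧ IsConj p p⁻¹ ∧ AllD (twoCoreOfCentralizer z) z p φ q :=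
  exists_allD_of hG hJ fun _ _ _ h F2 hH sA => h.oc mf F2 hH sA

end Cfsg.Lib.JF
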