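import Cfsg.Agent.Lib.Block2.JI3
import Cfsg.Agent.Lib.Block2.JHy

/-! Two classes of involutions, packaged. -/

set_option autoImplicit false

namespace Cfsg.Lib.JF

open Subgroup Cfsg.Lib.Amalg Spor

theorem AllD.two {G : Type*} [Group G] [Finite G] {E : Subgroup G} {z p : G} {φ : KK z p →* Equiv.Perm GolayPt}
    {q : Equiv.Perm GolayPt} (A : AllD E z p φ q) :
    ∀ t : G, orderOf t = 2 → ¬ IsConj z t → ∃ d ∈ DD (V0 E φ (Golay.gc.gen gA)) z, IsConj t d := by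
  obtain ⟨ε, θ, T⟩ := A.gd.exists_TM
  obtain ⟨K, k1, k2, k3, -⟩ := A.split
  exact A.js.two_cls mf A.ob.nDU T A.cenD k1 k2 k3

end Cfsg.Lib.JF
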