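import Cfsg.Agent.Lib.Block2.JGt
import Cfsg.Agent.Lib.Golay.Coset

/-! Involutions of `2^11 : M24` outside `2^11`. -/

set_option autoImplicit false
set_option maxRecDepth 100000

namespace Cfsg.Lib.JF

open Subgroup Cfsg.Lib.Amalg Cfsg.Lib.Core Cfsg.Lib.Golay Cfsg.Lib.Known2 Spor
open scoped Pointwise symmDiff

variable {G : Type*} [Group G] {V : Subgroup G} {D : Set G} {ε : Finset GolayPt → G}
  {θ : 𝐍 V →* Equiv.Perm GolayPt}

def jiA (i : ℕ) : ℕ := [0, 17, 65, 80, 257, 272, 320, 513, 528].getD i 0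
def jiB (i : ℕ) : ℕ := [0, 5, 9, 12, 17, 20, 24, 48, 65, 68, 72, 80, 96, 144, 257, 260, 264].getD i 0
def jiM (i : ℕ) : ℕ := [0, 3, 6, 10, 131074, 34, 8388610, 16386].getD i 0
def jiC : List ℕ := [11163650, 11100169, 12222476]
def jiT : List ℕ := [0x17161514131211100f0e0d0c0b0a09080706050403020100, 0xe0a1506130c0512070008140f100d0b0416170911030102,
  0x1015161314170c04020b060712080f090a0e0d05110103, 0x212150a13060e1409030f16040c0b070d10000817050111,
  0x30c1510131600060d11070a09140f040812020b0e170105, 0x11141512130a0216080504100d0607090b0c030f000e0117,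
  0x506150c1310030a0b1709120816040d0f1411070200010e]

def JUB (z n : ℕ) (f : ℕ → ℕ) : Prop := ∀ i < n, pop24 (f i) % 2 = 0 ∧ ∀ j < n,
  (f i ^^^ imgT z (f i)) ^^^ (f j ^^^ imgT z (f j)) < 2 ^ 24 ∧
    (isCw ((f i ^^^ imgT z (f i)) ^^^ (f j ^^^ imgT z (f j))) = true → i = j)

theorem jubA : JUB z2A 9 jiA := by unfold JUB; decide +kernel
theorem jubB : JUB z2B 17 jiB := by unfold JUB; decide +kernel
theorem jiM1 : ∀ i < 8, pop24 (jiM i) % 2 = 0 ∧ imgT z2A (jiM i) = jiM i ∧ ∀ j < 8, i = j ∨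
    ∃ c ∈ jiC, isCw c = true ∧ imgT z2A c = c ∧ pop24 (Nat.land (jiM i ^^^ jiM j) c) % 2 = 1 := by decide +kernel
theorem jiM2 : ∀ i < 8, ∀ j < 8, i = 0 ∨ j = 0 ∨ ∃ g ∈ jiT, imgT g (jiM i) = jiM j := by decide +kernel
theorem jiT1 : ∀ g ∈ jiT, gc.InH (M24 ⊓ Subgroup.centralizer {gc.dec z2A}) g :=
  inH_inf_cent (inH_of_allL (by decide +kernel)) inH_z2A.1 (by decide +kernel)

theorem ji_both {B : Subgroup (Equiv.Perm GolayPt)} (hB : B ≤ M24) (c : Nat.card B = 64) (e : ∀ x ∈ B, x * x = 1) :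
    (∃ x ∈ B, ∃ k ∈ M24, x = k * gc.dec z2A * k⁻¹) ∧ ∃ x ∈ B, ∃ k ∈ M24, x = k * gc.dec z2B * k⁻¹ := by
  classical
  have := Fact.mk Nat.prime_two
  have := Fintype.ofFinite B
  have key : ∀ n, (∀ x ∈ B, x ≠ 1 → (Finset.univ.filter fun p => x p = p).card = n) → 64 ∣ 24 + 63 * n := fun n hn => by
    have := Fintype.ofFinite (Quotient (MulAction.orbitRel B GolayPt))
    have s := MulAction.sum_card_fixedBy_eq_card_orbits_mul_card_group B GolayPt
    have f : ∀ x : B, Fintype.card (MulAction.fixedBy GolayPt x) = (Finset.univ.filter fun p => (x : Equiv.Perm GolayPt) p = p).card :=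
      fun x => Fintype.card_subtype _
    rw [Finset.sum_congr rfl fun x _ => f x, ← Finset.add_sum_erase _ _ (Finset.mem_univ 1),
      Finset.sum_congr rfl (g := fun _ => n) fun (x : B) hx => hn x x.2 fun k => (Finset.mem_erase.1 hx).1 (Subtype.ext k),
      Finset.sum_const, Finset.card_erase_of_mem (Finset.mem_univ _), Finset.card_univ, ← Nat.card_eq_fintype_card (α := B), c] at s
    simp only [coe_one, Equiv.Perm.coe_one, id, Finset.filter_true, Finset.card_univ, card_golayPt, smul_eq_mul] at s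
    exact ⟨_, s.trans (mul_comm _ _)⟩
  have cl := fun x hx n => M24_invol (hB hx) (orderOf_eq_prime (by rw [pow_two, e x hx]) n)
  constructor <;> by_contra k <;> push Not at k
  · have := key (pop24 0) fun x hx n => by
      obtain ⟨a, -, rfl⟩ := (cl x hx n).resolve_left fun ⟨a, ha, e⟩ => k x hx a ha e
      exact card_fix_conj a fix_z2B
    exact absurd this (by decide)
  · have := key (pop24 0x82402f) fun x hx n => by
      obtain ⟨a, -, rfl⟩ := (cl x hx n).resolve_right fun ⟨a, ha, e⟩ => k x hx a ha e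
      exact card_fix_conj a fix_z2A
    exact absurd this (by decide +kernel)

namespace TM
variable (h : TM V D ε θ)
include h

theorem ubd [Finite G] (g : 𝐍 V) {z n : ℕ} {f : ℕ → ℕ} (hz : gc.Valid z) (L : JUB z n f) {k : Equiv.Perm GolayPt}
    (hk : k ∈ M24) (e : θ g = k * gc.dec z * k⁻¹) : n ≤ {y | ∃ v ∈ V, v * (g * v * (g : G)⁻¹) = y}.ncard := by
  have ev : ∀ i < n, Even (k • om (f i)).card := fun i hi => by
    rw [Finset.card_smul_finset, card_om, Nat.even_iff]; exact (L i hi).1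
  have val : ∀ i < n, ε (k • om (f i)) * (g * ε (k • om (f i)) * (g : G)⁻¹) = ε (k • om (f i ^^^ imgT z (f i))) := fun i hi => by
    rw [h.act g _ (ev i hi), e, smul_smul, inv_mul_cancel_right, mul_smul, hz.smul_om, ← h.mul, ← smul_symmDiff, om_xor]
  have ev' : ∀ i < n, Even (k • om (f i ^^^ imgT z (f i))).card := fun i hi => by
    have := ev i hi
    rw [Finset.card_smul_finset] at this ⊢
    rw [om_xor]; exact even_sd this (by rwa [← hz.smul_om, Finset.card_smul_finset])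
  let F : Fin n → {y | ∃ v ∈ V, v * (g * v * (g : G)⁻¹) = y} := fun i => ⟨_, _, h.emem (ev i i.2), rfl⟩
  have hF : Function.Injective F := fun i j c => by
    have a := h.cw_of (ev' i i.2) (ev' j j.2) (by rw [← val i i.2, ← val j j.2]; exact congrArg Subtype.val c)
    rw [← smul_symmDiff, smul_mem_cw_iff hk] at a
    have b := (L i i.2).2 j j.2
    exact Fin.ext (b.2 ((om_mem_cw_iff b.1).1 (by rw [← om_xor] at a; exact a)))
  simpa using Nat.card_le_card_of_injective F hF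

theorem orbc [Finite G] (g : 𝐍 V) :
    Nat.card V = {y | ∃ v ∈ V, v * (g * v * (g : G)⁻¹) = y}.ncard * Nat.card ↥(V ⊓ centralizer {(g : G)}) := by
  rw [card_orb V g, ← Set.ncard_image_of_injective {y | ∃ v ∈ V, v * (g * v * (g : G)⁻¹) = y} (mul_left_injective (g : G))]
  congr 2
  ext y
  have i : ∀ v ∈ V, v * (g * v * (g : G)⁻¹) * g = v * g * v⁻¹ := fun v hv => by
    rw [inv_eq_of_mul_eq_one_right (h.sq hv)]; group
  exact ⟨fun ⟨v, hv, e⟩ => ⟨_, ⟨v, hv, rfl⟩, (i v hv).trans e⟩, fun ⟨_, ⟨v, hv, rfl⟩, e⟩ => ⟨v, hv, (i v hv).symm.trans e⟩⟩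

theorem fuse [Finite G] (cV : Nat.card V = 2 ^ 11) (k : 𝐍 V) (k2 : (k : G) * k = 1) (k1 : θ k ≠ 1) {W : Subgroup G}
    (hW : W ≤ V ⊓ centralizer {(k : G)}) (cW : 64 ≤ Nat.card W) (nW : ∀ v ∈ V, v * (k * v * (k : G)⁻¹) ∈ W)
    (lift : ∀ σ ∈ M24, σ * θ k = θ k * σ → ∃ g : 𝐍 V, θ g = σ ∧ (g : G) * k = k * g) {v : G}
    (hv : v ∈ V ⊓ centralizer {(k : G)}) : ∃ g : G, g * k = k * g ∧ g * v * g⁻¹ ∈ W := by
  have oc := h.orbc k
  have le := card_le_of_le hW
  obtain ⟨n, hn, cC⟩ := (Nat.dvd_prime_pow Nat.prime_two).1 (cV ▸ card_dvd_of_le (inf_le_left : V ⊓ centralizer {(k : G)} ≤ V))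
  rw [cV, cC] at oc
  rcases M24_invol (h.mM k) (ord2 k k2 k1) with ⟨κ, hκ, e⟩ | ⟨κ, hκ, e⟩
  swap
  · have := h.ubd k inH_z2B.1 jubB hκ e
    refine ⟨1, by simp, ?_⟩
    rw [eq_of_le_of_card_ge hW (by rw [cC]; interval_cases n <;> omega)]
    simpa using hv
  have ub := h.ubd k inH_z2A.1 jubA hκ e
  set N := {y | ∃ v ∈ V, v * (k * v * (k : G)⁻¹) = y} with hN
  have NW : ∀ y ∈ N, y ∈ W := by rintro _ ⟨v, hv, rfl⟩; exact nW v hv
  let c : ℕ → G := fun i => ε (κ • om (jiM i))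
  have ev : ∀ i < 8, Even (κ • om (jiM i)).card := fun i hi => by
    rw [Finset.card_smul_finset, card_om, Nat.even_iff]; exact (jiM1 i hi).1
  have cC' : ∀ i < 8, c i ∈ V ⊓ centralizer {(k : G)} := fun i hi => ⟨h.emem (ev i hi),
    mem_centralizer_singleton_iff.2 (mul_inv_eq_iff_eq_mul.1 (by
      rw [h.act k _ (ev i hi), e, smul_smul, inv_mul_cancel_right, mul_smul, inH_z2A.1.smul_om, (jiM1 i hi).2.1])).symm⟩
  let Φ : Fin 8 × N → ↥(V ⊓ centralizer {(k : G)}) := fun x => ⟨c x.1 * x.2, mul_mem (cC' _ x.1.2) (hW (NW _ x.2.2))⟩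
  have inj : Function.Injective Φ := by
    rintro ⟨i, _, u, hu, rfl⟩ ⟨j, _, w, hw, rfl⟩ eq
    have eq : c i * (u * (k * u * (k : G)⁻¹)) = c j * (w * (k * w * (k : G)⁻¹)) := congrArg Subtype.val eq
    obtain rfl : i = j := by
      rcases (jiM1 i i.2).2.2 j j.2 with e | ⟨d, -, d1, d2, d3⟩
      · exact Fin.ext e
      exfalso
      obtain ⟨S, hS, rfl⟩ := (h.mem u).1 hu
      obtain ⟨T, hT, rfl⟩ := (h.mem w).1 hw
      have evs : ∀ S : Finset GolayPt, Even S.card → Even (S ∆ (θ k • S)).card := fun S hS =>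
        even_sd hS (by rwa [Finset.card_smul_finset])
      rw [h.act k S hS, h.act k T hT, ← h.mul, ← h.mul, ← h.mul, ← h.mul] at eq
      have a := dotp_cw (h.cw_of (even_sd (ev i i.2) (evs S hS)) (even_sd (ev j j.2) (evs T hT)) eq)
        ((smul_mem_cw_iff hκ).2 (om_mem_cw d1))
      have fx : θ k • κ • om d = κ • om d := by rw [e, smul_smul, inv_mul_cancel_right, mul_smul, inH_z2A.1.smul_om, d2]
      have z : ∀ S : Finset GolayPt, dotp (S ∆ (θ k • S)) (κ • om d) = 0 := fun S => by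
        rw [dotp_symmDiff, show dotp (θ k • S) (κ • om d) = dotp S (κ • om d) by
          conv_lhs => rw [← fx, dotp, ← Finset.smul_finset_inter, Finset.card_smul_finset]
          rfl]
        exact CharTwo.add_self_eq_zero _
      rw [dotp_symmDiff, dotp_symmDiff, dotp_symmDiff (κ • om (jiM j)), z, z, add_zero, add_zero, ← dotp_symmDiff, ← smul_symmDiff,
        ← om_xor, dotp_eq_zero_iff, ← Finset.smul_finset_inter, Finset.card_smul_finset, card_om_inter, Nat.even_iff] at a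
      omega
    exact Prod.ext rfl (Subtype.ext (mul_left_cancel eq))
  have sur := (inj.bijective_of_nat_card_le (by
    rw [Nat.card_prod, Nat.card_fin, cC, Nat.card_coe_set_eq]; interval_cases n <;> omega)).2
  have c0 : c 0 = 1 := (h.one _ (ev 0 (by norm_num))).2 ((smul_mem_cw_iff hκ).2 (om_mem_cw (by decide +kernel)))
  obtain ⟨j, hj, j0, jW⟩ : ∃ j < 8, j ≠ 0 ∧ c j ∈ W := by
    by_contra a
    push Not at a
    have : (W : Set G).ncard ≤ N.ncard := Set.ncard_le_ncard fun w hw => by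
      obtain ⟨⟨i, y⟩, eq⟩ := sur ⟨w, hW hw⟩
      have eq : c i * y = w := congrArg Subtype.val eq
      by_cases i0 : (i : ℕ) = 0
      · rw [← eq, i0, c0, one_mul]; exact y.2
      · exact absurd ((W.mul_mem_cancel_right (NW _ y.2)).1 (eq ▸ hw)) (a i i.2 i0)
    change Nat.card W ≤ _ at this
    rw [cC] at le
    interval_cases n <;> omega
  obtain ⟨⟨i, _, u, hu, rfl⟩, eq⟩ := sur ⟨v, hv⟩
  have eq : c i * (u * (k * u * (k : G)⁻¹)) = v := congrArg Subtype.val eq
  rcases jiM2 i i.2 j hj with i0 | i0 | ⟨τ, hτ, t⟩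
  · exact ⟨1, by simp, by rw [← eq, i0, c0]; simpa using nW u hu⟩
  · exact absurd i0 j0
  have T := jiT1 τ hτ
  obtain ⟨g, g1, g2⟩ := lift (κ * gc.dec τ * κ⁻¹) (mul_mem (mul_mem hκ T.2.1) (inv_mem hκ)) (by
    rw [e, conj_mul, conj_mul, mem_centralizer_singleton_iff.1 T.2.2])
  refine ⟨g, g2, ?_⟩
  rw [← eq, ← conj_mul, ← conj_mul]
  refine mul_mem ?_ ?_
  · rwa [h.act g _ (ev i i.2), g1, smul_smul, inv_mul_cancel_right, mul_smul, T.1.smul_om, t]
  · have := nW _ ((mem_normalizer_iff.1 g.2 u).1 hu)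
    rwa [show (k : G) * (g * u * (g : G)⁻¹) * (k : G)⁻¹ = (k * g) * u * (k * g : G)⁻¹ by group, ← g2,
      show (g : G) * k * u * (g * k : G)⁻¹ = g * (k * u * (k : G)⁻¹) * (g : G)⁻¹ by group] at this

end TM

end Cfsg.Lib.JF
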