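import Cfsg.Agent.Lib.Block2.JI1
import Cfsg.Agent.Lib.Block2.JI2

/-! Groups of Janko-four type have two classes of involutions. -/

set_option autoImplicit false
set_option linter.unusedSectionVars false

namespace Cfsg.Lib.JF

open Subgroup Cfsg.Lib.Amalg Cfsg.Lib.Core Cfsg.Lib.Known2 Cfsg.Lib.Golay Spor

variable {G Γ : Type*} [Group G] [Group Γ] {E : Subgroup G} {z p : G} {M : Subgroup Γ} {φ : KK z p →* Γ}
  {A1 A2 : Subgroup Γ} {t1 t2 t3 t4 a b i g f q : Γ}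

namespace JS
variable [Finite G] (h : JS E z p M φ) (F : MF M A1 A2 t1 t2 t3 t4 a b i g f)
include h F

theorem ji_conjN {t : G} (t2 : t * t = 1) : ∃ s ∈ 𝐍 (V0 E φ A1), IsConj t s := by
  have : Fact (Nat.Prime 2) := ⟨Nat.prime_two⟩
  obtain ⟨P, hP, l⟩ := exists_syl_ge (two_of_sq (h.sqV F)) le_top
  obtain ⟨k, -, l'⟩ := hP.exists_conj_le (isPGroup_zpowers_of_pow (show t ^ 2 ^ 1 = 1 by rw [pow_one, pow_two, t2])) le_top
  obtain ⟨w, hw⟩ := h.uq2 F hP.isPGroup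
  have m : k * t * k⁻¹ ∈ P := l' (conj_mem_cj k (mem_zpowers t))
  refine ⟨k * t * k⁻¹, cj_eq_self_iff.1 (cj_inj.1 ((hw _ (cj_le_iff'.2 fun v hv => mul_mem (mul_mem m (l hv)) (inv_mem m))
    (sq_cj _ (h.sqV F)) (by rw [card_cj, h.cardV F])).trans (hw _ l (h.sqV F) (h.cardV F).ge).symm)), isConj_iff.2 ⟨k, rfl⟩⟩

theorem two_cls (nDU : {u | u ∈ Cm E φ A1 ∧ u ∈ DD (V0 E φ A1) z}.ncard = 36) {ε : Finset GolayPt → G}
    {θ : 𝐍 (V0 E φ A1) →* Equiv.Perm GolayPt} (T : TM (V0 E φ A1) (DD (V0 E φ A1) z) ε θ)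
    (cl : ∀ t ∈ DD (V0 E φ A1) z, centralizer {t} ≤ 𝐍 (V0 E φ A1)) {K : Subgroup G} (hK : K ≤ 𝐍 (V0 E φ A1))
    (KV : K ⊓ V0 E φ A1 = ⊥) (KN : K ⊔ V0 E φ A1 = 𝐍 (V0 E φ A1)) :
    ∀ t : G, orderOf t = 2 → ¬ IsConj z t → ∃ d ∈ DD (V0 E φ A1) z, IsConj t d := by
  have EN := h.EN F
  have pN := h.pN F
  have Vz : ∀ v ∈ V0 E φ A1, v * z = z * v := (h.std F).1
  have VE := fun v => h.VE F (v := v)
  have memV := h.memV F
  have zV : z ∈ V0 E φ A1 := h.zV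
  have cV := h.cardV F
  have UV : Cm E φ A1 ≤ V0 E φ A1 := le_sup_left
  have cN := fun t => h.ji_conjN F (t := t)
  have iE := fun e => h.invE F nDU cl (e := e)
  have hV := fun x => h.hatV F (x := x)
  generalize V0 E φ A1 = V at *
  have lift : ∀ σ ∈ M24, ∃ g : 𝐍 V, (g : G) ∈ K ∧ θ g = σ := fun σ hσ => by
    obtain ⟨n, rfl⟩ := T.rng.ge hσ
    obtain ⟨v, hv, k, hk, e⟩ := (mem_sup_of_le_normalizer' hK).1 ((sup_comm K V ▸ KN).ge n.2)
    refine ⟨⟨k, hK hk⟩, hk, ?_⟩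
    rw [show n = ⟨v, le_normalizer hv⟩ * ⟨k, hK hk⟩ from Subtype.ext e.symm, map_mul, (T.ker ⟨v, _⟩).2 hv, one_mul]
  have quo : ∀ g g' : 𝐍 V, θ g = θ g' → (g : G)⁻¹ * g' ∈ V := fun g g' e =>
    (T.ker (g⁻¹ * g')).1 (by rw [map_mul, map_inv, e, inv_mul_cancel])
  have inj : ∀ g g' : 𝐍 V, (g : G) ∈ K → (g' : G) ∈ K → θ g = θ g' → (g : G) = g' := fun g g' a b e =>
    inv_mul_eq_one.1 (mem_bot.1 (KV.le ⟨K.mul_mem (K.inv_mem a) b, quo g g' e⟩))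
  let B := (E.subgroupOf (𝐍 V)).map θ
  have sqE : ∀ e : 𝐍 V, (e : G) ∈ E → θ e * θ e = 1 := fun e he => by
    rw [← map_mul, T.ker]
    rcases h.es.sq_mem _ he with c | c <;> rw [coe_mul, c]
    exacts [one_mem _, zV]
  have cB : Nat.card B = 64 := by
    have c := card_inf_mul_relIndex V E
    rw [← relIndex_subgroupOf EN, ← show θ.ker = V.subgroupOf (𝐍 V) from by ext g; rw [MonoidHom.mem_ker, T.ker]; rfl,
      relIndex_ker, show V ⊓ E = Cm E φ A1 from le_antisymm (fun v hv => VE v hv.1 hv.2) (le_inf UV Cm_le), h.cardU F, h.card] at c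
    change _ * Nat.card B = _ at c
    omega
  have KE : ∀ k : 𝐍 V, (k : G) ∈ K → θ k ∈ B → (k : G) ∈ E := by
    rintro k hk ⟨e, he, c⟩
    have he : (e : G) ∈ E := he
    let P : 𝐍 V := ⟨p, pN⟩
    obtain ⟨x, xK, x1⟩ := lift _ (T.mM (P * e * P⁻¹))
    obtain ⟨p', pK, p1⟩ := lift _ (T.mM P)
    have tr : θ e * (θ (P * e * P⁻¹) * θ (P * (P * e * P⁻¹) * P⁻¹)) = 1 := by
      rw [← map_mul, ← map_mul, T.ker, ← mul_assoc]
      change (e : G) * (p * e * p⁻¹) * (p * (p * e * p⁻¹) * p⁻¹) ∈ V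
      rcases h.tri he with c | c <;> rw [c]
      exacts [one_mem _, zV]
    have k1 := inj k (x * (p' * x * p'⁻¹)) hk (mul_mem xK (mul_mem (mul_mem pK xK) (inv_mem pK))) (by
      rw [← c, ← inv_eq_of_mul_eq_one_right (sqE e he), inv_eq_of_mul_eq_one_right tr]
      simp only [map_mul, map_inv, x1, p1])
    obtain ⟨a, ha, u, hu, e1⟩ := (memV _).1 (quo _ _ x1.symm)
    have e1 : (x : G) = p * e * p⁻¹ * (a * u) := by rw [e1]; exact (mul_inv_cancel_left _ _).symm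
    have v0 := quo _ _ p1.symm
    obtain ⟨⟨m, -, l⟩, a2⟩ := id ha
    have pz : (p' : G) * z = z * p' := by
      rw [← mul_inv_cancel_left p (p' : G)]
      exact ((show Commute p z from h.pz).mul_left (Vz _ v0)).eq
    have pa : (p' : G) * a * (p' : G)⁻¹ = a⁻¹ := by
      rw [inv_eq_of_mul_eq_one_right a2, ← mul_inv_cancel_left p (p' : G)]
      exact conj_eq_of_comm ((show Commute p a from l.kp.symm).mul_left (T.comm v0 (hV a ha))).eq
    have e2 := h.nm h.Lp he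
    rw [k1, coe_mul, coe_mul, coe_mul, coe_inv, e1, ← conj_mul (b := (p' : G)), ← conj_mul (a := a), pa]
    have := mul_mem (mul_mem e2 (h.nm l (mul_mem hu.1 (h.ls.norm _ pz _ e2)))) (h.ls.norm _ pz _ hu.1)
    convert this using 1
    group
  obtain ⟨bA, bB⟩ := ji_both (B := B) (by rintro _ ⟨e, -, rfl⟩; exact T.mM e) cB (by rintro _ ⟨e, he, rfl⟩; exact sqE e he)
  have main : ∀ t : G, t ∈ 𝐍 V → t * t = 1 → t ≠ 1 → ¬ IsConj z t → ∃ d ∈ DD V z, IsConj t d := fun t tN t2 t1 tz => by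
    by_cases tV : t ∈ V
    · exact ⟨t, ⟨tV, t1, tz⟩, IsConj.refl _⟩
    have θ1 : θ ⟨t, tN⟩ ≠ 1 := fun c => tV ((T.ker _).1 c)
    obtain ⟨σ, hσ, xB⟩ : ∃ σ ∈ M24, σ * θ ⟨t, tN⟩ * σ⁻¹ ∈ B := by
      rcases M24_invol (T.mM ⟨t, tN⟩) (TM.ord2 ⟨t, tN⟩ t2 θ1) with ⟨κ, hκ, e⟩ | ⟨κ, hκ, e⟩
      · obtain ⟨_, hx, k, hk, rfl⟩ := bA
        exact ⟨k * κ⁻¹, mul_mem hk (inv_mem hκ), by rw [e]; simpa [mul_assoc] using hx⟩
      · obtain ⟨_, hx, k, hk, rfl⟩ := bB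
        exact ⟨k * κ⁻¹, mul_mem hk (inv_mem hκ), by rw [e]; simpa [mul_assoc] using hx⟩
    obtain ⟨g, -, rfl⟩ := lift σ hσ
    rw [← map_inv, ← map_mul, ← map_mul] at xB
    obtain ⟨k, kK, e⟩ := lift _ (T.mM (g * ⟨t, tN⟩ * g⁻¹))
    have kE := KE k kK (e ▸ xB)
    have k1 : θ k ≠ 1 := fun c => θ1 (by rw [e, map_mul, map_mul, map_inv] at c; exact conj_eq_one_iff.1 c)
    have k2 : (k : G) * k = 1 := (inj 1 (k * k) (one_mem _) (mul_mem kK kK) (by rw [map_one, map_mul, sqE k kE])).symm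
    have hv := quo _ _ e
    obtain ⟨v, ev⟩ : ∃ v, v = (k : G)⁻¹ * (g * t * (g : G)⁻¹) := ⟨_, rfl⟩
    change (k : G)⁻¹ * (g * t * (g : G)⁻¹) ∈ V at hv
    rw [← ev] at hv
    have ev : (g : G) * t * (g : G)⁻¹ = k * v := by rw [ev, mul_inv_cancel_left]
    have kv : v * k = k * v := by
      have : (k : G) * v * (k * v) = 1 := by rw [← ev, conj_mul, t2]; simp
      rw [← inv_eq_of_mul_eq_one_right this, mul_inv_rev, inv_eq_of_mul_eq_one_right k2, inv_eq_of_mul_eq_one_right (T.sq hv)]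
    obtain ⟨y, hy, n⟩ : ∃ y ∈ Cm E φ A1, (k : G) * y ≠ y * k := by
      by_contra c
      push Not at c
      exact k1 ((T.ker k).2 (UV (h.CEU F kE fun u hu => (c u hu).symm)))
    have cW := es_two h.es Cm_le kE hy n
    rw [h.cardU F] at cW
    obtain ⟨c, c1, c2⟩ := T.fuse cV k k2 k1 (W := Cm E φ A1 ⊓ centralizer {(k : G)}) (inf_le_inf_right _ UV) (by omega)
      (fun v hv => by
        have m := (mem_normalizer_iff.1 k.2 v).1 hv
        refine ⟨VE _ (mul_mem hv m) ?_, mem_cent_single.2 (comm_of_conj_eq ?_).symm⟩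
        · have := mul_mem (h.ls.norm v (Vz v hv) k kE) (inv_mem kE)
          rwa [inv_eq_of_mul_eq_one_right (T.sq hv), mul_assoc, mul_assoc, ← mul_assoc (k : G)] at this
        · rw [← conj_mul, T.comm m ((mem_normalizer_iff.1 k.2 _).1 m),
            show (k : G) * (k * v * (k : G)⁻¹) * (k : G)⁻¹ = (k * k) * v * (k * k : G)⁻¹ by group, k2]
          simp)
      (fun σ hσ c => by
        obtain ⟨g, gK, rfl⟩ := lift σ hσ
        exact ⟨g, rfl, inj (g * k) (k * g) (mul_mem gK kK) (mul_mem kK gK) (by rw [map_mul, map_mul, c])⟩)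
      (v := v) ⟨hv, mem_cent_single.2 kv⟩
    have ct : IsConj t (k * (c * v * c⁻¹)) := isConj_iff.2 ⟨c * g, by
      rw [show c * g * t * (c * g)⁻¹ = c * (g * t * (g : G)⁻¹) * c⁻¹ by group, ev, ← conj_mul, conj_eq_of_comm c1]⟩
    obtain ⟨w, hw⟩ := isConj_iff.1 ct
    obtain ⟨d, hd, e⟩ := iE _ (mul_mem kE c2.1.1) (by rw [← hw, conj_mul, t2]; simp)
      (fun e => t1 (conj_eq_one_iff.1 (hw.trans e))) fun e => tz (e.trans ct.symm)
    exact ⟨d, hd, ct.trans e⟩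
  intro t ht tz
  have t2 : t * t = 1 := by rw [← pow_two, ← ht, pow_orderOf_eq_one]
  obtain ⟨s, hs, c⟩ := cN t t2
  obtain ⟨w, rfl⟩ := isConj_iff.1 c
  obtain ⟨d, hd, e⟩ := main _ hs (by rw [conj_mul, t2]; simp)
    (fun e => by rw [conj_eq_one_iff.1 e, orderOf_one] at ht; omega) fun e => tz (e.trans c.symm)
  exact ⟨d, hd, c.trans e⟩

end JS

end Cfsg.Lib.JF
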