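import Cfsg.Agent.Lib.Block2.JH0

/-! Basic facts on the standard `2^11`: weak closure, fusion control, centraliser, normaliser in `C(z)`. -/

set_option autoImplicit false

namespace Cfsg.Lib.JF

open Subgroup Cfsg.Lib.Amalg Cfsg.Lib.Core Cfsg.Lib.Known2

variable {G Γ : Type*} [Group G] [Group Γ] {E : Subgroup G} {z p : G} {M : Subgroup Γ} {φ : KK z p →* Γ}
  {A1 A2 : Subgroup Γ} {t1 t2 t3 t4 a b i g f : Γ}

theorem sq_cj (c : G) {V : Subgroup G} (e : ∀ v ∈ V, v * v = 1) : ∀ v ∈ cj c V, v * v = 1 := fun v hv => by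
  obtain ⟨w, hw, rfl⟩ := mem_cj'.1 hv
  rw [conj_mul, e w hw]; group

theorem two_of_sq {V : Subgroup G} (e : ∀ v ∈ V, v * v = 1) : IsPGroup 2 V :=
  isPGroup_iff_mem.2 fun x hx => ⟨1, by rw [pow_one, pow_two, e x hx]⟩

theorem cj_hat {B : Subgroup Γ} {d : G} {c : Γ} (l : L φ d c) : cj d (closure (hat φ B)) = closure (hat φ (cj c B)) := by
  rw [cj_closure]
  congr 1
  ext k
  constructor
  · rintro ⟨w, ⟨⟨m, hm, lw⟩, q⟩, rfl⟩
    exact ⟨⟨_, conj_mem_cj c hm, l.cnj lw⟩, by change d * w * d⁻¹ * (d * w * d⁻¹) = 1; rw [conj_mul, q]; group⟩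
  · rintro ⟨⟨m, hm, lw⟩, q⟩
    exact ⟨d⁻¹ * k * d⁻¹⁻¹, ⟨⟨_, mem_cj.1 hm, (l.inv.cnj lw).of_eq (by group)⟩, by rw [conj_mul, q]; group⟩, by simp [mul_assoc]⟩

namespace JS
variable (h : JS E z p M φ)
include h

theorem cj_V0 {B : Subgroup Γ} {d : G} {c : Γ} (l : L φ d c) : cj d (V0 E φ B) = V0 E φ (cj c B) := by
  rw [cj_sup, cj_hat l, h.cj_Cm l fun y => mem_cj]

theorem z_hat {B : Subgroup Γ} : z ∈ hat φ B := ⟨⟨1, one_mem _, h.Lz⟩, h.es.sq⟩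

theorem zV {B : Subgroup Γ} : z ∈ V0 E φ B := mem_sup_left h.z_Cm

theorem hatE {B : Subgroup Γ} {k : G} (hk : k ∈ hat φ B) (e : k ∈ E) : k = 1 ∨ k = z := by
  obtain ⟨⟨m, -, l⟩, -⟩ := hk
  exact h.fp k e l.kp.symm

variable (F : MF M A1 A2 t1 t2 t3 t4 a b i g f)
include F

theorem memV (v : G) : v ∈ V0 E φ A1 ↔ ∃ a ∈ hat φ A1, ∃ u ∈ Cm E φ A1, a * u = v := by
  refine ⟨fun hv => ?_, fun ⟨a, ha, u, hu, e⟩ => e ▸ mul_mem (mem_sup_right (subset_closure ha)) (mem_sup_left hu)⟩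
  obtain ⟨A, hA⟩ := h.exists_hat F F.sq1
  rw [V0, ← show (A : Set G) = hat φ A1 from Set.ext hA, closure_eq] at hv
  have n : A ≤ 𝐍 (Cm E φ A1) := fun k hk => centralizer_le_normalizer _ fun x hx => (hx.2 k ((hA k).1 hk)).symm
  obtain ⟨x, hx, k, hk, rfl⟩ := (mem_sup_of_le_normalizer' n).1 hv
  exact ⟨k, (hA k).1 hk, x, hx, hx.2 k ((hA k).1 hk)⟩

theorem hat_mul {x y : G} (hx : x ∈ hat φ A1) (hy : y ∈ hat φ A1) : x * y ∈ hat φ A1 := by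
  obtain ⟨A, hA⟩ := h.exists_hat F F.sq1
  exact (hA _).1 (mul_mem ((hA _).2 hx) ((hA _).2 hy))

theorem hatV {x : G} (hx : x ∈ hat φ A1) : x ∈ V0 E φ A1 := mem_sup_right (subset_closure hx)

theorem VE {v : G} (hv : v ∈ V0 E φ A1) (e : v ∈ E) : v ∈ Cm E φ A1 := by
  obtain ⟨k, hk, u, hu, rfl⟩ := (h.memV F v).1 hv
  rcases h.hatE hk ((E.mul_mem_cancel_right hu.1).1 e) with rfl | rfl
  exacts [by rwa [one_mul], mul_mem h.z_Cm hu]

theorem VK {v : G} (hv : v ∈ V0 E φ A1) (e : p * v = v * p) : v ∈ hat φ A1 := by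
  obtain ⟨k, hk, u, hu, rfl⟩ := (h.memV F v).1 hv
  obtain ⟨⟨m, -, l⟩, -⟩ := id hk
  rw [← mul_assoc, ← l.kp, mul_assoc, mul_assoc, mul_right_inj] at e
  rcases h.fp u hu.1 e with rfl | rfl
  exacts [by rwa [mul_one], h.hat_mul F hk h.z_hat]

variable [Finite G]

theorem sqV : ∀ v ∈ V0 E φ A1, v * v = 1 := (h.std F).2.1
theorem cardV : Nat.card (V0 E φ A1) = 2 ^ 11 := (h.std F).2.2
theorem commV {x y : G} (hx : x ∈ V0 E φ A1) (hy : y ∈ V0 E φ A1) : x * y = y * x := comm_of_sq (h.sqV F) hx hy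

theorem allK {W : Subgroup G} (zW : z ∈ W) (e : ∀ v ∈ W, v * v = 1) (c11 : 2 ^ 11 ≤ Nat.card W) :
    ∃ k m, L φ k m ∧ cj k W = V0 E φ A1 := by
  obtain ⟨c, hc, k⟩ := F.ea (img φ W) (fun m hm => by obtain ⟨k, -, l⟩ := mem_img.1 hm; exact h.mem l)
    ((Amalg.isPGroup_subgroupOf (two_of_sq e) _).map φ)
  obtain ⟨d, l⟩ := h.ex hc
  obtain ⟨B, sB, cB, iB, cD, DC, eq, cV⟩ := h.struct F (fun v hv => comm_of_sq e hv zW) zW e c11
  have t : cj d (Cm E φ B) = Cm E φ (cj c B) := h.cj_Cm l fun y => mem_cj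
  refine ⟨d, c, l, ?_⟩
  rcases k B (iB W le_rfl) sB cB.ge with r | r
  · rw [eq, eq_of_le_of_card_ge DC (by rw [← card_cj d, t, r, h.cardU F, cD]), ← r]
    exact h.cj_V0 l
  · exact (h.excl F (D := cj d (W ⊓ E)) (r ▸ t ▸ cj_mono d DC) (by rw [card_cj, cD])).elim

theorem uq2 {P : Subgroup G} (hP : IsPGroup 2 P) : ∃ g, ∀ B ≤ P, (∀ v ∈ B, v * v = 1) → 2 ^ 11 ≤ Nat.card B →
    cj g B = V0 E φ A1 := by
  have : Fact (Nat.Prime 2) := ⟨Nat.prime_two⟩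
  obtain ⟨T0, hT, QT, Tz⟩ := h.ls.exists_syl
  obtain ⟨u, -, hu⟩ := hT.exists_conj_le hP le_top
  obtain ⟨d, -, k⟩ := h.uniq F hT.isPGroup fun v hv => mem_cent_single.1 (Tz hv)
  refine ⟨d * u, fun V hV e cV => ?_⟩
  have e1 := sq_cj u e
  have l1 : cj u V ≤ T0 := (cj_mono u hV).trans hu
  have n : zpowers z ≤ 𝐍 (cj u V) := zpowers_le.2 (centralizer_le_normalizer _ fun x hx => mem_cent_single.1 (Tz (l1 hx)))
  have le : cj u V ≤ cj u V ⊔ zpowers z := le_sup_left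
  obtain ⟨r1, r2⟩ := k (cj u V ⊔ zpowers z) (sup_le l1 (zpowers_le.2 (QT h.es.mem))) (mem_sup_right (mem_zpowers z))
    (fun v hv => by
      obtain ⟨x, hx, y, hy, rfl⟩ := (mem_sup_of_le_normalizer' n).1 hv
      rcases h.es.mem_zp.1 hy with rfl | rfl
      · rw [mul_one, e1 x hx]
      · rw [mul_assoc, ← mul_assoc y, ← mem_cent_single.1 (Tz (l1 hx)), mul_assoc, ← mul_assoc, e1 x hx, h.es.sq, mul_one])
    (cV.trans (by rw [← card_cj u]; exact card_le_of_le le))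
  rwa [← eq_of_le_of_card_ge le (by rw [r2, card_cj]; exact cV), ← cj_mul] at r1

theorem uq (g : G) (hg : cj g (V0 E φ A1) ≤ 𝐍 (V0 E φ A1)) : cj g (V0 E φ A1) = V0 E φ A1 := by
  have s := h.sqV F
  obtain ⟨w, hw⟩ := h.uq2 F (P := cj g (V0 E φ A1) ⊔ V0 E φ A1)
    (IsPGroup.to_sup_of_normal_right' (two_of_sq (sq_cj g s)) (two_of_sq s) hg)
  exact cj_inj.1 ((hw _ le_sup_left (sq_cj g s) (by rw [card_cj, h.cardV F])).trans (hw _ le_sup_right s (h.cardV F).ge).symm)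

theorem fus {x y : G} (ha : x ∈ V0 E φ A1) (hb : y ∈ V0 E φ A1) (c : IsConj x y) :
    ∃ m ∈ 𝐍 (V0 E φ A1), m * x * m⁻¹ = y := by
  have : Fact (Nat.Prime 2) := ⟨Nat.prime_two⟩
  obtain ⟨g, rfl⟩ := isConj_iff.1 c
  have he := h.sqV F
  have c : ∀ B : Subgroup G, (∀ v ∈ B, v * v = 1) → g * x * g⁻¹ ∈ B → B ≤ centralizer {g * x * g⁻¹} := fun B e hB y hy =>
    mem_cent_single.2 (comm_of_sq e hy hB)
  obtain ⟨P, hP, l⟩ := exists_syl_ge (two_of_sq he) (c _ he hb)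
  obtain ⟨k, hk, l'⟩ := hP.exists_conj_le (two_of_sq (sq_cj g he)) (c _ (sq_cj g he) (conj_mem_cj g ha))
  obtain ⟨w, hw⟩ := h.uq2 F hP.isPGroup
  refine ⟨k * g, cj_eq_self_iff.1 (cj_inj.1 ((hw _ (cj_mul k g _ ▸ l') (sq_cj _ he) (by rw [card_cj, h.cardV F])).trans
    (hw _ l he (h.cardV F).ge).symm)), ?_⟩
  conv_rhs => rw [← conj_eq_of_comm (mem_cent_single.1 hk)]
  group

theorem CEU {x : G} (hx : x ∈ E) (c : ∀ u ∈ Cm E φ A1, u * x = x * u) : x ∈ Cm E φ A1 := by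
  have c2 := es_cent h.es (Cm_le (φ := φ) (B := A1)) h.z_Cm
  rw [h.cardU F, h.card] at c2
  exact (eq_of_le_of_card_ge (H := Cm E φ A1) (K := E ⊓ centralizer (Cm E φ A1 : Set G))
    (fun x hx => ⟨hx.1, fun y hy => h.abU F y hy x hx⟩) (by rw [h.cardU F]; omega)).ge ⟨hx, c⟩

theorem sqU {u : G} (hu : u ∈ Cm E φ A1) : u * u = 1 := h.sqV F u (mem_sup_left hu)

theorem quad {g x : G} (gz : g * z = z * g) (c : ∀ u ∈ Cm E φ A1, g * u = u * g) (hx : x ∈ E) :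
    x⁻¹ * (g * x * g⁻¹) ∈ Cm E φ A1 := by
  have m := h.ls.norm g gz x hx
  refine h.CEU F (mul_mem (inv_mem hx) m) fun u hu => ?_
  have e : g * (x * u * x⁻¹) * g⁻¹ = x * u * x⁻¹ := by
    rcases h.es.conj_eq hx hu.1 with r | r <;> rw [r]
    · exact conj_eq_of_comm (c u hu)
    · rw [cjz gz, conj_eq_of_comm (c u hu)]
  calc u * (x⁻¹ * (g * x * g⁻¹)) = x⁻¹ * (x * u * x⁻¹) * (g * x * g⁻¹) := by group
    _ = x⁻¹ * (g * (x * u * x⁻¹) * g⁻¹) * (g * x * g⁻¹) := by rw [e]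
    _ = x⁻¹ * (g * x * g⁻¹) * (g * u * g⁻¹) := by group
    _ = _ := by rw [conj_eq_of_comm (c u hu)]

theorem sqC {g : G} (gz : g * z = z * g) (c : ∀ u ∈ Cm E φ A1, g * u = u * g) : g * g = 1 ∨ g * g = z :=
  h.ls.selfc _ fun x hx => comm_of_conj_eq (by
    have m := h.quad F gz c hx
    calc g * g * x * (g * g)⁻¹ = g * (x * (x⁻¹ * (g * x * g⁻¹))) * g⁻¹ := by group
      _ = x * (x⁻¹ * (g * x * g⁻¹)) * (g * (x⁻¹ * (g * x * g⁻¹)) * g⁻¹) := by group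
      _ = x := by rw [conj_eq_of_comm (c _ m), mul_assoc, h.sqU F m, mul_one])

theorem EN : E ≤ 𝐍 (V0 E φ A1) := fun e he => mem_normalizer_of_cj_le (cj_le_iff'.2 fun v hv => by
  obtain ⟨k, hk, u, hu, rfl⟩ := (h.memV F v).1 hv
  obtain ⟨⟨m, -, l⟩, -⟩ := id hk
  have q := h.quad F l.inv.kz (fun u hu => by
    have := hu.2 k hk
    rw [inv_mul_eq_iff_eq_mul, ← mul_assoc, this]; group) (inv_mem he)
  have r : e * u * e⁻¹ ∈ Cm E φ A1 := by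
    rcases h.es.conj_eq he hu.1 with r | r <;> rw [r]
    exacts [hu, mul_mem hu h.z_Cm]
  have q2 : k⁻¹ * e * k * e⁻¹ ∈ Cm E φ A1 := by
    have := inv_mem q
    simpa [mul_assoc] using this
  rw [show e * (k * u) * e⁻¹ = k * (k⁻¹ * e * k * e⁻¹) * (e * u * e⁻¹) by group]
  exact mul_mem (mul_mem (h.hatV F hk) (mem_sup_left q2)) (mem_sup_left r))

theorem KN {k : G} {m : Γ} (l : L φ k m) : k ∈ 𝐍 (V0 E φ A1) ↔ m ∈ 𝐍 A1 := by
  have : Finite A1 := Nat.finite_of_card_ne_zero (by rw [F.c1]; norm_num)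
  refine ⟨fun hk => mem_normalizer_of_cj_le (cj_le_iff'.2 fun y hy => ?_), fun hm => cj_eq_self_iff.1 ?_⟩
  · obtain ⟨w, lw, q⟩ := h.lift2 F (F.le1 hy) (F.sq1 y hy)
    obtain ⟨⟨m', hm', l'⟩, -⟩ := h.VK F ((mem_normalizer_iff.1 hk w).1 (h.hatV F ⟨⟨y, hy, lw⟩, q⟩)) (l.cnj lw).kp.symm
    exact l'.uniq (l.cnj lw) ▸ hm'
  · rw [h.cj_V0 l, cj_eq_self_iff.2 hm]

theorem pN : p ∈ 𝐍 (V0 E φ A1) := (h.KN F h.Lp).2 (one_mem _)

theorem cenV : 𝐂 (V0 E φ A1) ≤ V0 E φ A1 := by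
  have key : ∀ g ∈ 𝐂 (V0 E φ A1), g * g = 1 → g ∈ V0 E φ A1 := fun g hg e => by
    have n : zpowers g ≤ 𝐍 (V0 E φ A1) := zpowers_le.2 (centralizer_le_normalizer _ hg)
    have s : ∀ v ∈ V0 E φ A1 ⊔ zpowers g, v * v = 1 := fun v hv => by
      obtain ⟨x, hx, y, hy, rfl⟩ := (mem_sup_of_le_normalizer' n).1 hv
      rcases (mem_zpowers_invol e).1 hy with rfl | rfl
      · rw [mul_one, h.sqV F x hx]
      · rw [mul_assoc, ← mul_assoc y, ← hg x hx, mul_assoc, ← mul_assoc, h.sqV F x hx, e, mul_one]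
    have le : V0 E φ A1 ≤ V0 E φ A1 ⊔ zpowers g := le_sup_left
    obtain ⟨k, m, -, r⟩ := h.allK F (le h.zV) s (h.cardV F ▸ card_le_of_le le)
    exact (eq_of_le_of_card_ge le (by rw [← card_cj k, r])).ge (mem_sup_right (mem_zpowers g))
  have cu : ∀ g ∈ 𝐂 (V0 E φ A1), ∀ u ∈ Cm E φ A1, g * u = u * g := fun g hg u hu => (hg u (mem_sup_left hu)).symm
  intro g hg
  have gz : g * z = z * g := cu g hg z h.z_Cm
  obtain ⟨e, he, l, r, lz, lp | lp⟩ := h.dec g gz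
  · obtain ⟨m, lm⟩ := h.tot (mem_KK.2 ⟨lz, comm_of_conj_eq lp⟩)
    have cl : ∀ u ∈ Cm E φ A1, l * u = u * l := fun u hu => h.fix lm hu.1 (by
      rw [show l * u * l⁻¹ = e⁻¹ * (g * u * g⁻¹) * e⁻¹⁻¹ by rw [r]; group, conj_eq_of_comm (cu g hg u hu)]
      exact h.es.conj_eq (inv_mem he) hu.1)
    have ll : l * l = 1 := (h.sqC F lz cl).resolve_right fun q => h.es.ne (by
      have := h.six F lm ((lm.mul lm).uniq (q ▸ h.Lz))
      rwa [show 6 = 2 * 3 from rfl, pow_mul, pow_two, q, pow_succ, pow_two, h.es.sq, one_mul] at this)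
    have eU : e ∈ Cm E φ A1 := h.CEU F he fun u hu => by
      have := cu g hg u hu
      rw [r, mul_assoc, cl u hu, ← mul_assoc, ← mul_assoc, mul_left_inj] at this
      exact this.symm
    refine key g hg ?_
    rw [r, mul_assoc, ← mul_assoc l, cl e eU, mul_assoc, ← mul_assoc, h.sqU F eU, ll, mul_one]
  · exfalso
    have m : p * g * p⁻¹ ∈ 𝐂 (V0 E φ A1) := fun v hv => by
      have := hg _ ((mem_normalizer_iff''.1 (h.pN F) v).1 hv)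
      calc v * (p * g * p⁻¹) = p * (p⁻¹ * v * p * g) * p⁻¹ := by group
        _ = _ := by rw [this]; group
    have m2 := mul_mem m (inv_mem hg)
    have q : p * g * p⁻¹ * g⁻¹ = (p * e * p⁻¹) * (p * p * e⁻¹ * (p * p)⁻¹) * (p * p) := by
      calc _ = p * e * (l * p * l⁻¹)⁻¹ * e⁻¹ := by rw [r]; group
        _ = _ := by rw [lp]; group
    obtain ⟨x, hx, q⟩ : ∃ x ∈ E, p * g * p⁻¹ * g⁻¹ = x * (p * p) :=
      ⟨_, mul_mem (h.nm h.Lp he) (h.nm (h.Lp.mul h.Lp) (inv_mem he)), q⟩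
    have s := h.sqC F (cu _ m2 z h.z_Cm) (cu _ m2)
    have s2 : x * (p * p) * (x * (p * p)) ∈ E := by
      rw [← q]; rcases s with s | s <;> rw [s]
      exacts [one_mem _, h.es.mem]
    rw [show x * (p * p) * (x * (p * p)) = x * (p * p * x * (p * p)⁻¹) * (p ^ 3 * p) by simp [pow_succ, mul_assoc], h.p3, one_mul,
      E.mul_mem_cancel_left (mul_mem hx (h.nm (h.Lp.mul h.Lp) hx))] at s2
    rcases h.fp p s2 rfl with k | k
    · exact h.p1 k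
    · exact h.p2 (k ▸ h.es.sq)

end JS

end Cfsg.Lib.JF
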