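import Cfsg.Agent.Lib.Block2.JJ1
import Cfsg.Agent.Lib.Block2.JH1

/-! Involutions of `N(V) = 2^11 : M24` are conjugate into `V` or into `E`. -/

set_option autoImplicit false
set_option maxRecDepth 100000

namespace Cfsg.Lib.JF

open Subgroup Cfsg.Lib.Amalg Cfsg.Lib.Core Cfsg.Lib.Known2 Cfsg.Lib.Golay Spor MulAction
open scoped Pointwise symmDiff

theorem both_cls {B : Subgroup (Equiv.Perm GolayPt)} (hB : B ≤ M24) (sq : ∀ x ∈ B, x * x = 1) (c : Nat.card B = 64) :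
    (∃ b ∈ B, ∃ k ∈ M24, b = k * gc.dec z2A * k⁻¹) ∧ ∃ b ∈ B, ∃ k ∈ M24, b = k * gc.dec z2B * k⁻¹ := by
  classical
  have := Fintype.ofFinite B
  have := Fintype.ofFinite (orbitRel.Quotient B GolayPt)
  have key : ∀ (τ m : ℕ), (Finset.univ.filter fun p => gc.dec τ p = p) = om m →
      (∀ b ∈ B, b ≠ 1 → ∃ k ∈ M24, b = k * gc.dec τ * k⁻¹) → 64 ∣ 24 + 63 * pop24 m := fun τ m hm H => by
    have s := sum_card_fixedBy_eq_card_orbits_mul_card_group B GolayPt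
    have c' : Fintype.card B = 64 := by rw [← Nat.card_eq_fintype_card, c]
    rw [c', ← Finset.add_sum_erase _ _ (Finset.mem_univ 1), Finset.sum_congr rfl (g := fun _ => pop24 m) fun g hg => by
      obtain ⟨k, -, e⟩ := H g g.2 fun e => (Finset.mem_erase.1 hg).1 (Subtype.ext e)
      have a : fixedBy GolayPt g = k • ((om m : Finset GolayPt) : Set GolayPt) := by
        rw [← hm, show ((Finset.univ.filter fun p => gc.dec τ p = p : Finset GolayPt) : Set GolayPt) =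
          fixedBy GolayPt (gc.dec τ) from Set.ext fun p => by simp, smul_fixedBy, ← e]; rfl
      rw [← Nat.card_eq_fintype_card, Nat.card_coe_set_eq, a, Set.ncard_smul_set, Set.ncard_coe_finset, card_om],
      Finset.sum_const, Finset.card_erase_of_mem (Finset.mem_univ _), Finset.card_univ, c'] at s
    have a : Fintype.card (fixedBy GolayPt (1 : B)) = 24 := by
      rw [← Nat.card_eq_fintype_card, Nat.card_coe_set_eq, fixedBy_one_eq_univ, Set.ncard_univ,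
        Nat.card_eq_fintype_card, card_golayPt]
    rw [a] at s
    exact Dvd.intro_left _ s.symm
  have : Fact (Nat.Prime 2) := ⟨Nat.prime_two⟩
  have cl := fun b hb n => M24_invol (hB hb) (orderOf_eq_prime (by rw [pow_two, sq b hb]) n)
  constructor
  · by_contra n
    exact absurd (key z2B 0 fix_z2B fun b hb e => (cl b hb e).resolve_left fun k => n ⟨b, hb, k⟩) (by decide +kernel)
  · by_contra n
    exact absurd (key z2A _ fix_z2A fun b hb e => (cl b hb e).resolve_right fun k => n ⟨b, hb, k⟩) (by decide +kernel)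

noncomputable def mdB (τ b : ℕ) (Rs gs : List ℕ) : Bool :=
  band (allN 4096 fun j => forceN (Nat.mul 4096 j) fun m => bimp (band (Nat.beq (Nat.mod (pop24 m) 2) 0)
    (isCw (Nat.xor m (imgT τ m)))) (anyL Rs fun r => forceN (Nat.xor m (Nat.xor r (imgT τ r))) fun s =>
      bor (isCw s) (anyL gs fun g => isCw (Nat.xor s (imgT g b)))))
    (band (allL (b :: Rs) fun r => Nat.beq (Nat.mod (pop24 r) 2) 0)
      (allL gs fun g => band (inM24 g) (Nat.beq (mulN 24 g τ) (mulN 24 τ g))))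

theorem mdA : mdB z2A 0x24000 [0x0, 0x11, 0x41, 0x50, 0x101, 0x110, 0x140, 0x201, 0x210, 0x240, 0x300, 0x801, 0x900,
    0x2001, 0x8001, 0x80001] [0x17161514131211100f0e0d0c0b0a09080706050403020100,
    0x1090d15100611041300160c0b0812070f140e0a02050317, 0x312160d0414110a1017090c0b07060f13150008050e0201,
    0x20609160a1511080401120c0b0f1413100d17070e000503, 0x5141209080d11070a03060c0b1315100416010f00170e02,
    0xe1506120716110f0802140c0b100d040a09031317010005, 0xd14060f0911130705150c0b04160a081202100103170e] = true := by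
  decide +kernel

theorem mdBB : mdB z2B 0x53000 [0x0, 0x5, 0x9, 0xc, 0x11, 0x14, 0x18, 0x30, 0x41, 0x44, 0x48, 0x50, 0x60, 0x90, 0x101,
    0x104, 0x108, 0x110, 0x120, 0x140, 0x180, 0x201, 0x204, 0x208, 0x210, 0x220, 0x240, 0x280, 0x300, 0x410, 0x500,
    0x810] [0x17161514131211100f0e0d0c0b0a09080706050403020100] = true := by
  decide +kernel

theorem exists_rep (S : Finset GolayPt) : ∃ j < 4096, om (4096 * j) ∆ S ∈ cw := by
  obtain ⟨m, hm, rfl⟩ := exists_om S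
  refine ⟨par m ^^^ m / 4096, Nat.xor_lt_two_pow (n := 12) (par_lt m) (by omega), ?_⟩
  rw [← gc.ofMask_xor]
  refine om_mem_cw (isCw_iff.2 ?_)
  rw [par_xor, ← par_mod (4096 * _), Nat.mul_mod_right, show par 0 = 0 by decide +kernel, Nat.zero_xor,
    Nat.xor_div_two_pow (n := 12), Nat.mul_div_cancel_left _ (by norm_num), Nat.xor_assoc, Nat.xor_self, Nat.xor_zero]

section
variable {G : Type*} [Group G] {V : Subgroup G} {D : Set G} {ε : Finset GolayPt → G}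
  {θ : 𝐍 V →* Equiv.Perm GolayPt}

theorem TM.eq_of (h : TM V D ε θ) {S T : Finset GolayPt} (hS : Even S.card) (hT : Even T.card) (e : S ∆ T ∈ cw) :
    ε S = ε T := by
  have := (h.one _ (even_sd hS hT)).2 e
  rw [h.mul] at this
  rw [← mul_one (ε S), ← h.esq T, ← mul_assoc, this, one_mul]

theorem TM.md (h : TM V D ε θ) {τ b : ℕ} {Rs gs : List ℕ} (hτ : gc.Valid τ) (H : mdB τ b Rs gs = true) (u : 𝐍 V)
    (hu : θ u = gc.dec τ) : ∃ β ∈ V, ∀ v ∈ V, u * v = v * u → ∃ r ∈ V, v = r * (u * r * (u : G)⁻¹) ∨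
      ∃ c : 𝐍 V, θ c * θ u = θ u * θ c ∧ v = r * (u * r * (u : G)⁻¹) * (c * β * (c : G)⁻¹) := by
  obtain ⟨H1, H2, H3⟩ : _ ∧ _ ∧ _ := by simpa only [mdB, band_iff] using H
  have ev : ∀ r ∈ b :: Rs, Even (om r).card := fun r hr => by
    rw [card_om, Nat.even_iff]; exact beq_iff.1 (allL_iff.1 H2 r hr)
  have eb := ev b (by simp)
  refine ⟨_, h.emem eb, fun v hv c => ?_⟩
  obtain ⟨S, hS, rfl⟩ := (h.mem v).1 hv
  obtain ⟨j, hj, k⟩ := exists_rep S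
  have em : Even (om (4096 * j)).card := by
    have a := card_cw k
    have b := card_symmDiff_add (om (4096 * j)) S
    rw [Nat.even_iff] at *
    omega
  rw [← h.eq_of em hS k] at c ⊢
  have sm : ∀ (σ : Equiv.Perm GolayPt) (T : Finset GolayPt), Even T.card → Even (σ • T).card := fun σ T e => by
    rwa [Finset.card_smul_finset]
  have f1 : isCw (Nat.xor (4096 * j) (imgT τ (4096 * j))) = true := by
    refine (om_mem_cw_iff (Nat.xor_lt_two_pow (by omega) (hτ.imgT_lt _))).1 ?_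
    change gc.ofMask (_ ^^^ _) ∈ _
    rw [gc.ofMask_xor]
    change om _ ∆ om _ ∈ _
    rw [← hτ.smul_om, ← hu]
    exact h.cw_of em (sm _ _ em) (by rw [← h.act u _ em, c, mul_inv_cancel_right])
  obtain ⟨r, hr, k⟩ := anyL_iff.1 (bimp_iff.1 (allN_iff.1 H1 j hj) (band_iff.2 ⟨beq_iff.2 (by
    rw [card_om, Nat.even_iff] at em; exact em), f1⟩))
  have er := ev r (List.mem_cons_of_mem _ hr)
  have e1 : ε (om r) * (u * ε (om r) * (u : G)⁻¹) = ε (om r ∆ (θ u • om r)) := by rw [h.mul, h.act u _ er]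
  have e2 : om (Nat.xor (4096 * j) (Nat.xor r (imgT τ r))) = om (4096 * j) ∆ (om r ∆ (θ u • om r)) := by
    rw [hu, hτ.smul_om, ← gc.ofMask_xor, ← gc.ofMask_xor]; rfl
  refine ⟨_, h.emem er, ?_⟩
  rcases bor_iff.1 k with k | k
  · exact Or.inl (e1 ▸ h.eq_of em (even_sd er (sm _ _ er)) (e2 ▸ om_mem_cw k))
  · obtain ⟨g, hg, k⟩ := anyL_iff.1 k
    have a := band_iff.1 (allL_iff.1 H3 g hg)
    have ig := inH_of_inM24 a.1
    obtain ⟨κ, e⟩ := h.rng.ge ig.2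
    refine Or.inr ⟨κ, ?_, ?_⟩
    · rw [e, hu, ← ig.1.dec_mul hτ, ← hτ.dec_mul ig.1]; exact congrArg _ (beq_iff.1 a.2)
    · rw [e1, h.act κ _ eb, ← h.mul]
      refine h.eq_of em (even_sd (even_sd er (sm _ _ er)) (sm _ _ eb)) ?_
      rw [← symmDiff_assoc, ← e2, e, ig.1.smul_om, ← gc.ofMask_xor]
      exact om_mem_cw k

theorem TM.eq_one (h : TM V D ε θ) {K : Subgroup G} (k2 : K ⊓ V = ⊥) {k : 𝐍 V} (hk : (k : G) ∈ K)
    (e : θ k = 1) : (k : G) = 1 := k2.le ⟨hk, (h.ker k).1 e⟩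

theorem TM.lift (h : TM V D ε θ) {K : Subgroup G} (k1 : K ≤ 𝐍 V) (k3 : K ⊔ V = 𝐍 V) (g : 𝐍 V) :
    ∃ k : 𝐍 V, (k : G) ∈ K ∧ θ k = θ g := by
  obtain ⟨k, hk, v, -, -, e⟩ := h.decK k1 k3 g.2
  exact ⟨⟨k, k1 hk⟩, hk, e _⟩

theorem TM.two0 (h : TM V D ε θ) {K : Subgroup G} (k1 : K ≤ 𝐍 V) (k2 : K ⊓ V = ⊥) (k3 : K ⊔ V = 𝐍 V)
    {τ b : ℕ} {Rs gs : List ℕ} (hτ : gc.Valid τ) (H : mdB τ b Rs gs = true) (u : 𝐍 V) (uK : (u : G) ∈ K)
    (hu : θ u = gc.dec τ) {U : Subgroup G} (hU : ∀ r ∈ V, r * (u * r * (u : G)⁻¹) ∈ U) {w : G} (wV : w ∈ V)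
    (wU : w ∈ U) (wu : u * w = w * u) (nw : ∀ r ∈ V, w ≠ r * (u * r * (u : G)⁻¹)) {v : G} (vV : v ∈ V)
    (vu : u * v = v * u) : ∃ c ∈ 𝐍 V, c * u * c⁻¹ = u ∧ c * v * c⁻¹ ∈ U := by
  obtain ⟨β, hβ, H⟩ := h.md hτ H u hu
  obtain ⟨r, hr, e | ⟨c, c1, e⟩⟩ := H w wV wu
  · exact absurd e (nw r hr)
  obtain ⟨r', hr', e' | ⟨c', c2, e'⟩⟩ := H v vV vu
  · exact ⟨1, one_mem _, by group, by simpa [e'] using hU r' hr'⟩
  obtain ⟨κ, hκ, ek⟩ := h.lift k1 k3 (c * c'⁻¹)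
  have a : (κ : G) * u * (κ : G)⁻¹ = u := by
    have := h.eq_one k2 (k := κ * u * κ⁻¹ * u⁻¹) (mul_mem (mul_mem (mul_mem hκ uK) (inv_mem hκ)) (inv_mem uK)) (by
      have q : Commute (θ κ) (θ u) := by
        rw [ek, map_mul, map_inv]; exact (show Commute _ _ from c1).mul_left (show Commute _ _ from c2).inv_left
      rw [map_mul, map_mul, map_mul, map_inv, map_inv, q.eq]; group)
    exact mul_inv_eq_one.1 this
  have b := h.comm ((h.ker (c⁻¹ * κ * c')).1 (by rw [map_mul, map_mul, ek, map_mul, map_inv, map_inv]; group)) hβ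
  change (c : G)⁻¹ * κ * c' * β = β * ((c : G)⁻¹ * κ * c') at b
  refine ⟨κ, κ.2, a, ?_⟩
  have m1 := hU _ ((mem_normalizer_iff.1 κ.2 r').1 hr')
  have m2 : (c : G) * β * (c : G)⁻¹ ∈ U := (mul_mem_cancel_left (hU r hr)).1 (e ▸ wU)
  convert mul_mem m1 m2 using 1
  rw [e']
  calc _ = κ * r' * (κ : G)⁻¹ * ((κ * u * (κ : G)⁻¹) * (κ * r' * (κ : G)⁻¹) * (κ * u * (κ : G)⁻¹)⁻¹) *
        (c * ((c : G)⁻¹ * κ * c' * β) * ((c : G)⁻¹ * κ * c')⁻¹ * (c : G)⁻¹) := by group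
    _ = _ := by rw [a, b]; group

theorem TM.two (h : TM V D ε θ) [Finite G] (cV : Nat.card V = 2 ^ 11) {K : Subgroup G} (k1 : K ≤ 𝐍 V)
    (k2 : K ⊓ V = ⊥) (k3 : K ⊔ V = 𝐍 V) {τ b : ℕ} {Rs gs : List ℕ} (hτ : gc.Valid τ) (H : mdB τ b Rs gs = true)
    (u : 𝐍 V) (uK : (u : G) ∈ K) {k : Equiv.Perm GolayPt} (hk : k ∈ M24) (hu : θ u = k * gc.dec τ * k⁻¹)
    {U : Subgroup G} (UV : U ≤ V) (hU : ∀ r ∈ V, r * (u * r * (u : G)⁻¹) ∈ U)
    (cU : 64 ≤ Nat.card ↥(U ⊓ centralizer {(u : G)})) {v : G} (vV : v ∈ V)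
    (vu : u * v = v * u) : ∃ c ∈ 𝐍 V, c * u * c⁻¹ = u ∧ c * v * c⁻¹ ∈ U := by
  have nm : ∀ (g : 𝐍 V), ∀ r ∈ V, g * r * (g : G)⁻¹ ∈ V := fun g r hr => (mem_normalizer_iff.1 g.2 r).1 hr
  obtain ⟨w, hw, nw⟩ : ∃ w ∈ U ⊓ centralizer {(u : G)}, ∀ r ∈ V, w ≠ r * (u * r * (u : G)⁻¹) := by
    by_contra n
    push Not at n
    let f : V →* G := MonoidHom.mk' (fun r => (r : G) * ((u : G) * r * (u : G)⁻¹)) fun x y => by
      have := h.comm y.2 (nm u x x.2)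
      calc _ = (x : G) * (y * ((u : G) * x * (u : G)⁻¹)) * ((u : G) * y * (u : G)⁻¹) := by rw [coe_mul]; group
        _ = _ := by rw [this]; group
    have a := card_eq_card_quotient_mul_card_subgroup f.ker
    rw [Nat.card_congr (QuotientGroup.quotientKerEquivRange f).toEquiv, cV] at a
    have b := card_le_of_le (show U ⊓ centralizer {(u : G)} ≤ f.range from fun w hw => by
      obtain ⟨r, hr, e⟩ := n w hw
      exact ⟨⟨r, hr⟩, e.symm⟩)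
    have c := card_le_of_le (show U ⊓ centralizer {(u : G)} ≤ f.ker.map V.subtype from fun w hw =>
      ⟨⟨w, UV hw.1⟩, by
        change w * (u * w * (u : G)⁻¹) = 1
        rw [← mem_centralizer_singleton_iff.1 hw.2, mul_inv_cancel_right, h.sq (UV hw.1)], rfl⟩)
    rw [card_map_subtype] at c
    have := Nat.mul_le_mul (cU.trans b) (cU.trans c)
    omega
  obtain ⟨κ0, rfl⟩ := h.rng.ge hk
  obtain ⟨κ, hκ, ek⟩ := h.lift k1 k3 κ0
  have cm : ∀ x : G, u * x = x * u → ((κ⁻¹ * u * κ : 𝐍 V) : G) * ((κ : G)⁻¹ * x * (κ : G)⁻¹⁻¹) =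
      (κ : G)⁻¹ * x * (κ : G)⁻¹⁻¹ * (κ⁻¹ * u * κ : 𝐍 V) := fun x e => by
    calc _ = (κ : G)⁻¹ * (u * x) * κ := by simp only [coe_mul, coe_inv]; group
      _ = _ := by rw [e]; simp only [coe_mul, coe_inv]; group
  obtain ⟨c, hc, c1, c2⟩ := h.two0 k1 k2 k3 hτ H (κ⁻¹ * u * κ) (mul_mem (mul_mem (inv_mem hκ) uK) hκ)
    (by rw [map_mul, map_mul, map_inv, hu, ek]; group) (U := cj (κ : G)⁻¹ U) (fun r hr => mem_cj.2 (by
      convert hU _ (nm κ r hr) using 1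
      simp only [coe_mul, coe_inv]; group)) (nm κ⁻¹ w (UV hw.1)) (conj_mem_cj _ hw.1)
    (cm w (mem_centralizer_singleton_iff.1 hw.2).symm) (fun r hr e => nw _ (nm κ r hr) (by
      calc w = κ * (((κ⁻¹ : 𝐍 V) : G) * w * ((κ⁻¹ : 𝐍 V) : G)⁻¹) * (κ : G)⁻¹ := by simp only [coe_inv]; group
        _ = _ := by rw [e]; simp only [coe_mul, coe_inv]; group)) (nm κ⁻¹ v vV) (cm v vu)
  refine ⟨κ * c * (κ : G)⁻¹, mul_mem (mul_mem κ.2 hc) (inv_mem κ.2), ?_, ?_⟩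
  · calc _ = κ * (c * (κ⁻¹ * u * κ : 𝐍 V) * c⁻¹) * (κ : G)⁻¹ := by simp only [coe_mul, coe_inv]; group
      _ = _ := by rw [c1]; simp only [coe_mul, coe_inv]; group
  · convert mem_cj.1 c2 using 1
    simp only [coe_inv]; group

end

variable {G Γ : Type*} [Group G] [Group Γ] {E : Subgroup G} {z p : G} {M : Subgroup Γ} {φ : KK z p →* Γ}
  {A1 A2 : Subgroup Γ} {t1 t2 t3 t4 a b i g f : Γ} {D : Set G} {ε : Finset GolayPt → G}
  {θ : 𝐍 (V0 E φ A1) →* Equiv.Perm GolayPt} {K : Subgroup G}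

theorem JS.liftE [Finite G] (h : JS E z p M φ) (F : MF M A1 A2 t1 t2 t3 t4 a b i g f) (T : TM (V0 E φ A1) D ε θ)
    (k1 : K ≤ 𝐍 (V0 E φ A1)) (k2 : K ⊓ V0 E φ A1 = ⊥) (k3 : K ⊔ V0 E φ A1 = 𝐍 (V0 E φ A1))
    {e u : 𝐍 (V0 E φ A1)} (he : (e : G) ∈ E) (uK : (u : G) ∈ K) (eu : θ u = θ e) : (u : G) ∈ E := by
  let P : 𝐍 (V0 E φ A1) := ⟨p, h.pN F⟩
  obtain ⟨q, qK, eq⟩ := T.lift k1 k3 P
  have tz : ∀ x : 𝐍 (V0 E φ A1), (x : G) = 1 ∨ (x : G) = z → θ x = 1 := fun x hx => (T.ker x).2 (by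
    rcases hx with e | e <;> rw [e]
    exacts [one_mem _, h.zV])
  have yK : ((q * u * q⁻¹ : 𝐍 (V0 E φ A1)) : G) ∈ K := mul_mem (mul_mem qK uK) (inv_mem qK)
  have ey : θ (q * u * q⁻¹) = θ (P * e * P⁻¹) := by simp only [map_mul, map_inv, eq, eu]
  have e1 := h.nm h.Lp he
  generalize q * u * q⁻¹ = y at yK ey
  have a1 := T.eq_one k2 (k := u * y * (q * y * q⁻¹))
    (mul_mem (mul_mem uK yK) (mul_mem (mul_mem qK yK) (inv_mem qK))) (by
      rw [← tz (e * (P * e * P⁻¹) * (P * (P * e * P⁻¹) * P⁻¹)) (h.tri he)]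
      simp only [map_mul, map_inv, eq, eu, ey])
  have a2 := T.eq_one k2 (k := y * y) (mul_mem yK yK) (by
    rw [← tz ((P * e * P⁻¹) * (P * e * P⁻¹)) (h.es.sq_mem _ e1), map_mul, ey, ← map_mul])
  obtain ⟨c1, h1, v1, w1, s1⟩ := (h.memV F _).1 ((T.ker ((P * e * P⁻¹)⁻¹ * y)).1 (by rw [map_mul, map_inv, ey]; group))
  obtain ⟨c2, h2, v2, w2, s2⟩ := (h.memV F _).1 ((T.ker (P⁻¹ * q)).1 (by rw [map_mul, map_inv, eq]; group))
  change c1 * v1 = (p * e * p⁻¹)⁻¹ * y at s1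
  change c2 * v2 = p⁻¹ * q at s2
  change (u : G) * y * (q * y * (q : G)⁻¹) = 1 at a1
  change (y : G) * y = 1 at a2
  have c12 := h.commV F (h.hatV F h1) (h.hatV F h2)
  obtain ⟨⟨m1, -, l1⟩, -⟩ := h1
  obtain ⟨⟨m2, -, l2⟩, -⟩ := h2
  have e3 : c1⁻¹ * (p * e * p⁻¹) * c1⁻¹⁻¹ * v1 ∈ E := mul_mem (h.nm l1.inv e1) w1.1
  have ry : (y : G) = c1 * (c1⁻¹ * (p * e * p⁻¹) * c1⁻¹⁻¹ * v1) := by
    rw [← mul_inv_cancel_left (p * e * p⁻¹) (y : G), ← s1]; group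
  have rq : (q : G) = p * c2 * v2 := by rw [mul_assoc, s2]; group
  have cs : c1⁻¹ * (p * c2) * c1 = p * c2 := by
    rw [mul_assoc, mul_assoc, ← c12, ← mul_assoc p, ← l1.kp]; group
  have m := mul_mem (inv_mem e3) (mul_mem (h.nm (l1.inv.mul (h.Lp.mul l2)) w2.1)
    (h.nm (h.Lp.mul l2) (mul_mem e3 (inv_mem w2.1))))
  generalize c1⁻¹ * (p * e * p⁻¹) * c1⁻¹⁻¹ * v1 = e3 at ry m
  generalize p * c2 = s at rq cs m
  have : (u : G)⁻¹ = (y : G)⁻¹ * (q * y * (q : G)⁻¹) := by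
    rw [inv_eq_of_mul_eq_one_right a2]; exact inv_eq_of_mul_eq_one_right (by rw [← mul_assoc, a1])
  rw [← inv_mem_iff, this, ry, rq]
  convert m using 1
  calc _ = e3⁻¹ * (c1⁻¹ * s * v2 * (c1⁻¹ * s)⁻¹ * ((c1⁻¹ * s * c1) * (e3 * v2⁻¹) * s⁻¹)) := by group
    _ = _ := by rw [cs]

/-- every involution of `N(V)` is conjugate into `V` or into `E`. -/
theorem JS.fuseE [Finite G] (h : JS E z p M φ) (F : MF M A1 A2 t1 t2 t3 t4 a b i g f) (T : TM (V0 E φ A1) D ε θ)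
    (k1 : K ≤ 𝐍 (V0 E φ A1)) (k2 : K ⊓ V0 E φ A1 = ⊥) (k3 : K ⊔ V0 E φ A1 = 𝐍 (V0 E φ A1))
    {x : G} (hx : x ∈ 𝐍 (V0 E φ A1)) (xx : x * x = 1) :
    ∃ g ∈ 𝐍 (V0 E φ A1), g * x * g⁻¹ ∈ V0 E φ A1 ∨ g * x * g⁻¹ ∈ E := by
  by_cases n : θ ⟨x, hx⟩ = 1
  · exact ⟨1, one_mem _, Or.inl (by simpa using (T.ker _).1 n)⟩
  have sqE : ∀ e : 𝐍 (V0 E φ A1), (e : G) ∈ E → θ (e * e) = 1 := fun e he => (T.ker _).2 (by
    rcases h.es.sq_mem _ he with k | k <;> rw [coe_mul, k]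
    exacts [one_mem _, h.zV])
  obtain ⟨hA, hB⟩ := both_cls (B := (E.subgroupOf _).map θ) (by rintro _ ⟨e, -, rfl⟩; exact T.mM e)
    (by rintro _ ⟨e, he, rfl⟩; rw [← map_mul]; exact sqE e he) (by
      have c := card_map_mul_card_inf_ker θ (E.subgroupOf (𝐍 (V0 E φ A1)))
      rw [Nat.card_congr (subgroupOfEquivOfLe (h.EN F)).toEquiv, h.card, ← card_map_subtype (θ.ker ⊓ _),
        show (θ.ker ⊓ E.subgroupOf (𝐍 (V0 E φ A1))).map (𝐍 (V0 E φ A1)).subtype = Cm E φ A1 from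
          le_antisymm (by rintro _ ⟨k, hk, rfl⟩; exact h.VE F ((T.ker k).1 hk.1) hk.2) fun u hu =>
            ⟨⟨u, h.EN F hu.1⟩, ⟨(T.ker _).2 (mem_sup_left hu), hu.1⟩, rfl⟩, h.cardU F] at c
      omega)
  have key : ∀ {τ b : ℕ} {Rs gs : List ℕ}, gc.Valid τ → mdB τ b Rs gs = true → gc.dec τ ≠ 1 →
      (∃ b ∈ (E.subgroupOf _).map θ, ∃ k ∈ M24, b = k * gc.dec τ * k⁻¹) →
      (∃ k ∈ M24, θ ⟨x, hx⟩ = k * gc.dec τ * k⁻¹) → ∃ g ∈ 𝐍 (V0 E φ A1), g * x * g⁻¹ ∈ E := by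
    rintro τ b Rs gs hτ H n1 ⟨_, ⟨e, he, rfl⟩, k, hk, ek⟩ ⟨k', hk', ex⟩
    obtain ⟨u, uK, eu⟩ := T.lift k1 k3 e
    have uE := h.liftE F T k1 k2 k3 he uK eu
    have uu : (u : G) * u = 1 := T.eq_one k2 (k := u * u) (mul_mem uK uK) (by rw [map_mul, eu, ← map_mul, sqE e he])
    obtain ⟨m, em⟩ := T.rng.ge (mul_mem hk (inv_mem hk'))
    have vV : (u : G) * (m * x * (m : G)⁻¹) ∈ V0 E φ A1 := (T.ker (u * (m * ⟨x, hx⟩ * m⁻¹))).1 (by
      have : θ (m * ⟨x, hx⟩ * m⁻¹) = θ u := by rw [map_mul, map_mul, map_inv, em, ex, eu, ek]; group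
      rw [map_mul, this, eu, ← map_mul, sqE e he])
    have yy : (m * x * (m : G)⁻¹) * (m * x * (m : G)⁻¹) = 1 := by rw [conj_mul, xx]; group
    have hy : ∀ c : G, c * m * x * (c * m)⁻¹ = c * (m * x * (m : G)⁻¹) * c⁻¹ := fun c => by group
    generalize (m : G) * x * (m : G)⁻¹ = y at vV yy hy
    have uy : (u : G) * y = y * u := by
      have := T.sq vV
      calc (u : G) * y = u * (u * y * (u * y)) * y := by rw [this, mul_one]
        _ = (u * u) * y * u * (y * y) := by group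
        _ = _ := by rw [uu, yy]; group
    obtain ⟨w, hw, nw⟩ : ∃ w ∈ Cm E φ A1, (u : G) * w ≠ w * u := by
      by_contra c
      push Not at c
      have := (T.ker u).2 (mem_sup_left (h.CEU F uE fun w hw => (c w hw).symm))
      rw [eu, ek] at this
      exact n1 (by rw [← inv_mul_cancel_left k (gc.dec τ), mul_inv_eq_one.1 this]; group)
    have c2 := es_two h.es Cm_le uE hw nw
    rw [h.cardU F] at c2
    obtain ⟨c, hc, c1, c3⟩ := T.two (h.cardV F) k1 k2 k3 hτ H u uK hk (eu.trans ek) (U := Cm E φ A1) le_sup_left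
      (fun r hr => h.VE F (mul_mem hr ((mem_normalizer_iff.1 u.2 r).1 hr)) (by
        have := mul_mem (h.ls.norm r ((h.std F).1 r hr) _ uE) (inv_mem uE)
        rw [inv_eq_of_mul_eq_one_right (h.sqV F r hr)] at this
        simpa only [mul_assoc] using this)) (by omega) vV (by rw [mul_assoc, ← uy])
    refine ⟨c * m, mul_mem hc m.2, ?_⟩
    rw [hy]
    convert mul_mem uE c3.1 using 1
    calc c * y * c⁻¹ = (c * u * c⁻¹) * (c * (u * y) * c⁻¹) := by rw [conj_mul, ← mul_assoc (u : G), uu, one_mul]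
      _ = _ := by rw [c1]
  have n1 : ∀ {x : Equiv.Perm GolayPt}, orderOf x = 2 → x ≠ 1 := fun e k => by simp [k] at e
  rcases M24_invol (T.mM _) (TM.ord2 ⟨x, hx⟩ xx n) with k | k
  · obtain ⟨g, hg, e⟩ := key inH_z2A.1 mdA (n1 orderOf_z2A) hA k
    exact ⟨g, hg, Or.inr e⟩
  · obtain ⟨g, hg, e⟩ := key inH_z2B.1 mdBB (n1 orderOf_z2B) hB k
    exact ⟨g, hg, Or.inr e⟩

end Cfsg.Lib.JF
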