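import Cfsg.Agent.Lib.Block2.JQ6
import Cfsg.Agent.Lib.Block2.JJ2
import Cfsg.Agent.Lib.Block2.JI3

/-! Groups of Janko-four type: elements of order 5. -/

set_option autoImplicit false
set_option linter.unusedSectionVars false
set_option maxRecDepth 100000

namespace Cfsg.Lib.JF

open Subgroup Cfsg.Lib.Amalg Cfsg.Lib.Core Cfsg.Lib.Known2 Cfsg.Lib.Golay Cfsg.Spor
open scoped Pointwise symmDiff

variable {G : Type*} [Group G] {V : Subgroup G} {D : Set G} {ε : Finset GolayPt → G}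
  {θ : 𝐍 V →* Equiv.Perm GolayPt}

theorem fx5 : ((List.range 4096).filter fun j => band (Nat.beq (Nat.mod (pop24 (4096 * j)) 2) 0)
    (isCw (Nat.xor (4096 * j) (imgT m5x (4096 * j))))).length = 8 := by decide +kernel

theorem TM.pair (h : TM V D ε θ) (x : 𝐍 V) {a b : GolayPt} (ab : a ≠ b) (e : (x : G) * ε {a, b} = ε {a, b} * x) :
    θ x a ∈ ({a, b} : Finset GolayPt) ∧ θ x b ∈ ({a, b} : Finset GolayPt) := by
  have b2 := Finset.card_pair ab
  have ev : Even ({a, b} : Finset GolayPt).card := by rw [b2]; decide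
  have c := h.act x _ ev
  rw [e, mul_inv_cancel_right] at c
  rw [h.inj ev (by rwa [Finset.card_smul_finset]) (by rw [Finset.card_smul_finset]; omega) c]
  exact ⟨Finset.smul_mem_smul_finset (by simp), Finset.smul_mem_smul_finset (by simp)⟩

theorem TM.f2c [Finite G] (h : TM V D ε θ) (cl : ∀ t ∈ D, centralizer {t} ≤ 𝐍 V) (u : 𝐍 V) (hu : θ u = gc.dec m5x) :
    Nat.card ↥(centralizer {(u : G)} ⊓ centralizer {ε {none, some 0}}) ≤ 80 := by
  classical
  obtain ⟨B, c, hB⟩ := h.img (X := centralizer {(u : G)} ⊓ centralizer {ε {none, some 0}}) (Z := V ⊓ centralizer {(u : G)})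
    (inf_le_right.trans (cl _ ((h.duad _).2 ⟨_, by decide, rfl⟩))) fun x hx => ⟨hx.2, hx.1.1⟩
  have hτ := m5xin.1
  have c1 : Nat.card ↥(V ⊓ centralizer {(u : G)}) ≤ 8 := by
    rw [← fx5]
    refine (Set.ncard_le_ncard (t := (fun j => ε (om (4096 * j))) '' (List.toFinset _ : Finset ℕ)) ?_).trans
      ((Set.ncard_image_le (Finset.finite_toSet _)).trans ((Set.ncard_coe_finset _).le.trans (List.toFinset_card_le _)))
    rintro v ⟨hv, c⟩
    have c := (mem_cent_single.1 c).symm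
    obtain ⟨S, hS, rfl⟩ := (h.mem v).1 hv
    obtain ⟨j, hj, k⟩ := exists_rep S
    have em : Even (om (4096 * j)).card := by
      have a := card_cw k
      have b := card_symmDiff_add (om (4096 * j)) S
      rw [Nat.even_iff] at *
      omega
    rw [← h.eq_of em hS k] at c ⊢
    have f1 : isCw (Nat.xor (4096 * j) (imgT m5x (4096 * j))) = true := by
      refine (om_mem_cw_iff (Nat.xor_lt_two_pow (by omega) (hτ.imgT_lt _))).1 ?_
      change gc.ofMask (_ ^^^ _) ∈ _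
      rw [gc.ofMask_xor]
      change om _ ∆ om _ ∈ _
      rw [← hτ.smul_om, ← hu]
      exact h.cw_of em (by rwa [Finset.card_smul_finset]) (by rw [← h.act u _ em, c, mul_inv_cancel_right])
    exact ⟨j, List.mem_toFinset.2 (List.mem_filter.2 ⟨List.mem_range.2 hj, band_iff.2 ⟨beq_iff.2 (by
      rw [card_om, Nat.even_iff] at em; exact em), f1⟩⟩), rfl⟩
  have pr : ∀ x : 𝐍 V, (x : G) ∈ centralizer {(u : G)} ⊓ centralizer {ε {none, some 0}} → _ := fun x a =>
    h.pair x (a := none) (b := some 0) (by decide) (mem_cent_single.1 a.2)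
  have a := (MulAction.stabilizer B (none : GolayPt)).card_mul_index
  have b : (MulAction.stabilizer B (none : GolayPt)).index ≤ 2 := by
    rw [MulAction.index_stabilizer, ← Set.ncard_pair (show (none : GolayPt) ≠ some 0 by decide)]
    refine Set.ncard_le_ncard ?_
    rintro _ ⟨⟨b, hb⟩, rfl⟩
    obtain ⟨x, a, rfl⟩ := hB b hb
    simpa using (pr x a).1
  have d : Nat.card (MulAction.stabilizer B (none : GolayPt)) ≤ 5 := by
    rw [← card_map_subtype, ← m5cen]
    refine card_le_of_le ?_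
    rintro _ ⟨⟨b, hb⟩, q, rfl⟩
    obtain ⟨x, a, rfl⟩ := hB b hb
    have q : θ x none = none := q
    refine ⟨mem_M22.2 ⟨h.mM x, q, ?_⟩, mem_cent_single.2 ?_⟩
    · rcases Finset.mem_insert.1 (pr x a).2 with k | k
      · exact absurd ((θ x).injective (k.trans q.symm)) (by decide)
      · simpa using k
    · change θ x * _ = _ * θ x
      rw [← hu, ← map_mul, ← map_mul, show x * u = u * x from Subtype.ext (mem_cent_single.1 a.1)]
  exact c.trans (Nat.mul_le_mul c1 (a ▸ Nat.mul_le_mul d b))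

theorem TM.f2 [Finite G] (h : TM V D ε θ) (cl : ∀ t ∈ D, centralizer {t} ≤ 𝐍 V) {y t : G} (y5 : y ^ 5 = 1) (y1 : y ≠ 1)
    (ht : t ∈ D) (c : t * y = y * t) : Nat.card ↥(centralizer {y} ⊓ centralizer {t}) ≤ 80 := by
  obtain ⟨u, rfl⟩ : ∃ u : 𝐍 V, (u : G) = y := ⟨⟨y, cl t ht (mem_cent_single.2 c.symm)⟩, rfl⟩
  obtain ⟨S, a, rfl⟩ := (h.duad t).1 ht
  obtain ⟨d, e, de, rfl⟩ := Finset.card_eq_two.1 a
  obtain ⟨p1, p2⟩ := h.pair u de c.symm
  have s5 : θ u ^ 5 = 1 := by rw [← map_pow, show u ^ 5 = 1 from Subtype.ext y5, map_one]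
  have s1 : θ u ≠ 1 := fun k => y1 (by
    rwa [show 5 = 2 * 2 + 1 from rfl, pow_succ, pow_mul, pow_two (u : G), h.sq ((h.ker u).1 k), one_pow, one_mul] at y5)
  have t5 : ∀ x, θ u (θ u (θ u (θ u (θ u x)))) = x := fun x => by
    simpa [pow_succ] using congrArg (· x) s5
  have fd : θ u d = d ∧ θ u e = e := by
    simp only [Finset.mem_insert, Finset.mem_singleton] at p1 p2
    rcases p1 with p1 | p1 <;> rcases p2 with p2 | p2
    · exact absurd ((θ u).injective (p1.trans p2.symm)) de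
    · exact ⟨p1, p2⟩
    · have := t5 d
      rw [p1, p2, p1, p2, p1] at this
      exact absurd this.symm de
    · exact absurd ((θ u).injective (p1.trans p2.symm)) de
  obtain ⟨σ, s, rfl, rfl⟩ := exists_M24_two (a := none) (b := some 0) (by decide) de
  obtain ⟨-, f, fM, -, fq⟩ := m22_five m5xin.2 m5ord
  obtain ⟨k, hk, e1⟩ := conj5 (H := M22) (u := σ⁻¹ * θ u * σ) (by rw [card_M22]; norm_num) m5xin.2 fM
    (m5ord ▸ pow_orderOf_eq_one _) (fun k => by have := m5ord; rw [k] at this; simp at this) fq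
    (mem_M22.2 ⟨mul_mem (mul_mem (inv_mem s) (h.mM u)) s, by simp [fd.1], by simp [fd.2]⟩)
    (by rw [← inv_inv σ, inv_inv σ⁻¹, conj_pow, s5]; group) (by
      rwa [Ne, mul_assoc, inv_mul_eq_one, eq_comm, mul_eq_right])
  obtain ⟨k1, k2, k3⟩ := mem_M22.1 hk
  obtain ⟨κ, hκ⟩ := h.rng.ge (mul_mem s k1)
  have := h.f2c cl (κ⁻¹ * u * κ) (by
    rw [map_mul, map_mul, map_inv, hκ, show (σ * k)⁻¹ * θ u * (σ * k) = k⁻¹ * (σ⁻¹ * θ u * σ) * k by group, ← e1]; group)
  rw [← card_cj (κ : G), cj_inf, cj_centralizer_singleton, cj_centralizer_singleton, h.act κ _ (by decide),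
    Finset.smul_finset_insert, Finset.smul_finset_singleton, hκ] at this
  simpa [mul_assoc, k2, k3] using this

theorem s5572 [Finite G] [IsSimpleGroup G] (hG : ¬ IsMulCommutative G) (z : G) (hJ : IsOfJankoFourTypeAt z)
    {Q : Subgroup G} (hQ : Nat.card Q = 5) (hQz : Q ≤ centralizer {z}) :
    ∃ y p s r x X, Q = zpowers y ∧ Q5 (twoCoreOfCentralizer z) z y p s r x X ∧ LS (twoCoreOfCentralizer z) z ∧
      8 < Nat.card (twoCoreOfCentralizer z) ∧
      (∀ t, t * t = 1 → t ≠ 1 → ¬ IsConj z t → t * y = y * t → Nat.card ↥(centralizer {y} ⊓ centralizer {t}) ≤ 80) ∧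
      ∀ u, IsConj z u → u * y = y * u → ∃ c, c * y = y * c ∧ c * z * c⁻¹ = u := by
  obtain ⟨P, hJ⟩ := hJ
  obtain ⟨p, φ, q, -, -, A⟩ := exists_allD hG hJ
  obtain ⟨y, s, r, x, X, H⟩ := A.q5
  have : Fact (Nat.Prime 5) := ⟨by norm_num⟩
  obtain ⟨w, rfl⟩ := (Subgroup.isCyclic_iff_exists_zpowers_eq_top Q).1 (isCyclic_of_prime_card hQ)
  rw [Nat.card_zpowers] at hQ
  have w5 : w ^ 5 = 1 := hQ ▸ pow_orderOf_eq_one w
  have w1 : w ≠ 1 := by rintro rfl; simp at hQ
  have n : ¬ 25 ∣ Nat.card (centralizer ({z} : Set G)) := by rw [card_H hJ]; norm_num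
  obtain ⟨k, hk, rfl⟩ := conj5 n (mem_cent_single.2 H.yz.symm) (mem_cent_single.2 H.rz) H.y5 H.y1 H.ry
    (hQz (mem_zpowers w)) w5 w1
  have kz := mem_cent_single.1 hk
  have H' := H.map (MulAut.conj k) (conj_eq_of_comm kz) (fun u => ⟨fun a => by
    simpa [mul_assoc] using A.js.ls.norm k⁻¹ (mem_cent_single.1 (inv_mem hk)) _ a, A.js.ls.norm k kz u⟩)
    fun u => isConj_iff.2 ⟨k, rfl⟩
  refine ⟨_, _, _, _, _, _, rfl, H', A.js.ls, by rw [A.js.card]; norm_num, fun t t2 t1 tz c => ?_, ?_⟩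
  · obtain ⟨ε, θ, T⟩ := A.gd.exists_TM
    obtain ⟨K, k1, k2, k3, -⟩ := A.split
    obtain ⟨d, hd, e⟩ := A.js.two_cls mf A.oc.nDU T A.cenD k1 k2 k3 t (orderOf_eq_two_of t2 t1) tz
    obtain ⟨g, rfl⟩ := isConj_iff.1 e
    have := T.f2 A.cenD (y := g * (k * y * k⁻¹) * g⁻¹) (by rw [conj_pow, w5]; group) (by simpa using H.y1) hd
      ((show Commute t _ from c).conj g)
    rwa [← cj_centralizer_singleton g, ← cj_centralizer_singleton g, ← cj_inf, card_cj] at this
  · intro u e c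
    obtain ⟨g, rfl⟩ := isConj_iff.1 e
    obtain ⟨j, hj, e⟩ := conj5 n (u := g⁻¹ * (k * y * k⁻¹) * g⁻¹⁻¹) (mem_cent_single.2 H'.yz.symm) (mem_cent_single.2 H'.rz)
      H'.y5 H'.y1 H'.ry (mem_cent_single.2 (by simpa [mul_assoc] using ((show Commute _ _ from c).conj g⁻¹).symm.eq))
      (by rw [conj_pow, w5]; group) (mt conj_eq_one_iff.1 w1)
    change j * (k * y * k⁻¹) * j⁻¹ = _ at e
    refine ⟨g * j, comm_of_conj_eq ?_, ?_⟩
    · rw [show g * j * (k * y * k⁻¹) * (g * j)⁻¹ = g * (j * (k * y * k⁻¹) * j⁻¹) * g⁻¹ by group, e]; group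
    · rw [show g * j * z * (g * j)⁻¹ = g * (j * z * j⁻¹) * g⁻¹ by group, conj_eq_of_comm (mem_cent_single.1 hj)]

end Cfsg.Lib.JF
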