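import Cfsg.Agent.Lib.Block2.JG0

/-! The centraliser of a duad of `V = 2^11` lies in `N(V) = 2^11 : M24`. -/

set_option autoImplicit false
set_option maxRecDepth 100000

namespace Cfsg.Lib.JF

open Subgroup Cfsg.Lib.Amalg Cfsg.Lib.Core Cfsg.Lib.Golay Spor
open scoped Pointwise symmDiff

variable {G : Type*} [Group G] {V : Subgroup G} {D : Set G} {ε : Finset GolayPt → G}
  {θ : 𝐍 V →* Equiv.Perm GolayPt}

theorem even_sd {S T : Finset GolayPt} (hS : Even S.card) (hT : Even T.card) : Even (S ∆ T).card := by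
  have := card_symmDiff_add S T
  rw [Nat.even_iff] at *
  omega

theorem m22_le16 {B : Subgroup (Equiv.Perm GolayPt)} (hB : B ≤ M22) (e : ∀ x ∈ B, x * x = 1) : Nat.card B ≤ 16 := by
  by_contra n
  obtain ⟨c, -, k⟩ := mf.ea B hB (isPGroup_iff_mem.2 fun x hx => ⟨1, by rw [pow_one, pow_two, e x hx]⟩)
  rcases k B le_rfl e (by omega) with k | k
  · have := mf.c1; rw [← k, card_cj] at this; omega
  · have := mf.c2; rw [← k, card_cj] at this; omega

def fA (i : ℕ) : ℕ := (i % 2 * 3) ^^^ (i / 2 % 2 * 5) ^^^ (i / 4 % 2 * 9) ^^^ (i / 8 % 2 * 33) ^^^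
  (i / 16 % 2 * 16385) ^^^ (i / 32 % 2 * 131073) ^^^ (i / 64 % 2 * 4194320)

def fB (i : ℕ) : ℕ := [0, 3, 8388612, 131080, 65552].getD i 0

def LB (z n : ℕ) (f : ℕ → ℕ) : Prop := ∀ i < n, imgT z (f i) = f i ∧ pop24 (f i) % 2 = 0 ∧
  ∀ j < n, f i ^^^ f j < 2 ^ 24 ∧ (isCw (f i ^^^ f j) = true → i = j)

theorem lbA : LB z2A 128 fA := by unfold LB; decide +kernel

theorem lbB : LB z2B 5 fB := by unfold LB; decide +kernel

theorem dihedral {x w : G} (hx : x * x = 1) (hw : w * w = 1) (j : ℕ) :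
    x * (x * w) ^ j = ((x * w) ^ j)⁻¹ * x ∧ w * (x * w) ^ j = ((x * w) ^ j)⁻¹ * w := by
  have a := inv_eq_of_mul_eq_one_right hx
  have b := inv_eq_of_mul_eq_one_right hw
  have c : x * (x * w) * x⁻¹ = (x * w)⁻¹ := by rw [← mul_assoc, hx, one_mul, mul_inv_rev, b]
  have d : w * (x * w) * w⁻¹ = (x * w)⁻¹ := by rw [mul_inv_rev, a, b, mul_assoc, mul_assoc, hw, mul_one]
  rw [← inv_pow, ← mul_inv_eq_iff_eq_mul, ← mul_inv_eq_iff_eq_mul, ← conj_pow, ← conj_pow, c, d]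
  exact ⟨rfl, rfl⟩

namespace TM
variable (h : TM V D ε θ)
include h

theorem esq (S : Finset GolayPt) : ε S * ε S = 1 := by
  rw [← h.mul, symmDiff_self]; exact (h.one ∅ (by simp)).2 empty_mem_cw

theorem sq {v : G} (hv : v ∈ V) : v * v = 1 := by
  obtain ⟨S, -, rfl⟩ := (h.mem v).1 hv
  exact h.esq S

theorem comm {v w : G} (hv : v ∈ V) (hw : w ∈ V) : v * w = w * v := comm_of_sq (fun _ => h.sq) hv hw

theorem emem {S : Finset GolayPt} (hS : Even S.card) : ε S ∈ V := (h.mem _).2 ⟨S, hS, rfl⟩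

theorem cw_of {S T : Finset GolayPt} (hS : Even S.card) (hT : Even T.card) (e : ε S = ε T) : S ∆ T ∈ cw :=
  (h.one _ (even_sd hS hT)).1 (by rw [h.mul, e, h.esq])

theorem inj {S T : Finset GolayPt} (hS : Even S.card) (hT : Even T.card) (c : S.card + T.card < 8)
    (e : ε S = ε T) : S = T := by
  have a := card_cw (h.cw_of hS hT e)
  have b := card_symmDiff_add S T
  exact symmDiff_eq_bot.1 (Finset.card_eq_zero.1 (by omega))

theorem mM (g : 𝐍 V) : θ g ∈ M24 := h.rng ▸ ⟨g, rfl⟩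

theorem four {S : Finset GolayPt} (c : S.card = 4) : ε S ∈ V ∧ ε S ≠ 1 ∧ ε S ∉ D := by
  have e : Even S.card := by rw [c]; decide
  refine ⟨h.emem e, fun k => ?_, fun k => ?_⟩
  · have := card_cw ((h.one _ e).1 k); omega
  · obtain ⟨T, a, b⟩ := (h.duad _).1 k
    have := h.inj e (by rw [a]; decide) (by omega) b.symm
    rw [this] at c; omega

theorem lbd [Finite G] (g : 𝐍 V) {z n : ℕ} {f : ℕ → ℕ} (hz : gc.Valid z) (L : LB z n f) {k : Equiv.Perm GolayPt}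
    (hk : k ∈ M24) (e : θ g = k * gc.dec z * k⁻¹) : n ≤ Nat.card ↥(V ⊓ centralizer {(g : G)}) := by
  have ev : ∀ i < n, Even (k • om (f i)).card := fun i hi => by
    rw [Finset.card_smul_finset, card_om, Nat.even_iff]; exact (L i hi).2.1
  let F : Fin n → ↥(V ⊓ centralizer {(g : G)}) := fun i => ⟨ε (k • om (f i)), h.emem (ev i i.2),
    mem_centralizer_singleton_iff.2 (mul_inv_eq_iff_eq_mul.1 (by
      rw [h.act g _ (ev i i.2), e, smul_smul, inv_mul_cancel_right, mul_smul, hz.smul_om, (L i i.2).1])).symm⟩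
  have hF : Function.Injective F := fun i j c => by
    have a := h.cw_of (ev i i.2) (ev j j.2) (congrArg Subtype.val c)
    rw [← smul_symmDiff, smul_mem_cw_iff hk] at a
    have b := (L i i.2).2.2 j j.2
    exact Fin.ext (b.2 ((om_mem_cw_iff b.1).1 (by rw [← gc.ofMask_xor] at a; exact a)))
  simpa using Nat.card_le_card_of_injective F hF

omit h in
theorem ord2 (g : 𝐍 V) (e : (g : G) * g = 1) (n : θ g ≠ 1) : orderOf (θ g) = 2 :=
  have := Fact.mk Nat.prime_two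
  orderOf_eq_prime (by rw [pow_two, ← map_mul, show g * g = 1 from Subtype.ext e, map_one]) n

theorem img [Finite G] {X Z : Subgroup G} (hX : X ≤ 𝐍 V) (hZ : X ⊓ V ≤ Z) : ∃ B : Subgroup (Equiv.Perm GolayPt),
    Nat.card X ≤ Nat.card Z * Nat.card B ∧ ∀ b ∈ B, ∃ x : 𝐍 V, (x : G) ∈ X ∧ θ x = b := by
  refine ⟨(X.subgroupOf (𝐍 V)).map θ, ?_, fun b ⟨x, a, c⟩ => ⟨x, a, c⟩⟩
  have c := card_map_mul_card_inf_ker θ (X.subgroupOf (𝐍 V))
  rw [Nat.card_congr (subgroupOfEquivOfLe hX).toEquiv] at c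
  rw [← c, mul_comm]
  refine Nat.mul_le_mul_right _ ?_
  rw [← card_map_subtype]
  refine card_le_of_le ?_
  rintro _ ⟨k, hk, rfl⟩
  exact hZ ⟨hk.2, (h.ker k).1 hk.1⟩

theorem key [Finite G] (hD : ∀ g : G, ∀ d ∈ D, g * d * g⁻¹ ∈ V → g * d * g⁻¹ ∈ D)
    (uq : ∀ g : G, cj g V ≤ 𝐍 V → cj g V = V) {Z C : Subgroup G} (zv : Z ≤ V) (vc : V ≤ C)
    (cz : ∀ c ∈ C, ∀ ζ ∈ Z, c * ζ * c⁻¹ = ζ) (hx : ∀ x ∈ V, x ∉ Z → C ⊓ centralizer {x} ≤ 𝐍 V)
    (hb : ∀ B : Subgroup (Equiv.Perm GolayPt), (∀ b ∈ B, ∃ x : 𝐍 V, (x : G) ∈ C ∧ θ x = b) →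
      Nat.card Z * Nat.card B ≤ 4 * Nat.card ↥(B ⊓ M22))
    {x1 t x2 : G} (a1 : x1 ∈ D) (a2 : x1 ∉ Z) (a3 : t ∈ Z) (a4 : t ≠ 1) (a5 : x1 * t ∈ D) (b1 : x2 ∈ V) (b2 : x2 ∉ Z)
    (b3 : ∀ ζ ∈ Z, ζ * x2 ∈ D → ζ = 1) : C ≤ 𝐍 V := by
  have dv : ∀ d ∈ D, d ∈ V := fun d hd => by
    obtain ⟨S, a, rfl⟩ := (h.duad d).1 hd
    exact h.emem (by rw [a]; decide)
  have nz : ∀ c ∈ C, ∀ x, x ∉ Z → c * x * c⁻¹ ∉ Z := fun c hc x n k => n (by
    have := cz c⁻¹ (inv_mem hc) _ k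
    rwa [← show c⁻¹ * (c * x * c⁻¹) * c⁻¹⁻¹ = x by group, this])
  have TI : ∀ c ∈ C, ∀ x ∈ V, x ∉ Z → c * x * c⁻¹ ∈ V → c ∈ 𝐍 V := fun c hc x xv n k =>
    cj_eq_self_iff.1 (uq c (cj_le_iff'.2 fun y hy => hx _ k (nz c hc x n) ⟨C.mul_mem (C.mul_mem hc (vc hy)) (C.inv_mem hc),
      mem_centralizer_singleton_iff.2 (by rw [conj_mul, conj_mul, h.comm hy xv])⟩))
  have bd : ∀ c ∈ C, c ∉ 𝐍 V → ∀ y, c * y * c⁻¹ ∈ V → c * y * c⁻¹ ∉ Z → ∃ B ≤ M22,
      Nat.card ↥(V ⊓ centralizer {y}) ≤ 4 * Nat.card B ∧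
        ∀ b ∈ B, ∃ x : 𝐍 V, (∃ v ∈ V, v * y = y * v ∧ c * v * c⁻¹ = x) ∧ θ x = b := fun c hc n y k m => by
    have l : cj c (V ⊓ centralizer {y}) ≤ C ⊓ centralizer {c * y * c⁻¹} := cj_le_iff'.2 fun v hv =>
      ⟨C.mul_mem (C.mul_mem hc (vc hv.1)) (C.inv_mem hc), mem_centralizer_singleton_iff.2 (by
        rw [conj_mul, conj_mul, mem_centralizer_singleton_iff.1 hv.2])⟩
    obtain ⟨B, e1, e2⟩ := h.img (Z := Z) (l.trans (hx _ k m)) (by
      rintro _ ⟨⟨v, hv, rfl⟩, k⟩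
      by_contra q
      exact n (TI c hc v hv.1 (fun r => q (show c * v * c⁻¹ ∈ Z by rwa [cz c hc v r])) k))
    rw [card_cj] at e1
    refine ⟨B ⊓ M22, inf_le_right, e1.trans (hb B fun b hb => ?_), fun b hb => ?_⟩
    · obtain ⟨x, a, e⟩ := e2 b hb
      exact ⟨x, (l a).1, e⟩
    · obtain ⟨x, ⟨v, hv, a⟩, e⟩ := e2 b hb.1
      exact ⟨x, ⟨v, hv.1, mem_centralizer_singleton_iff.1 hv.2, a⟩, e⟩
  have SC : ∀ c ∈ C, ∀ v ∈ V, c * v * c⁻¹ ∈ 𝐍 V → c * v * c⁻¹ ∈ V := fun c hc v hv k => by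
    by_contra n
    have nc : c ∉ 𝐍 V := fun q => n ((mem_normalizer_iff.1 q v).1 hv)
    have e : c⁻¹ * (c * v * c⁻¹) * c⁻¹⁻¹ = v := by group
    obtain ⟨B, l, e1, e2⟩ := bd c⁻¹ (inv_mem hc) (fun q => nc (inv_mem_iff.1 q)) (c * v * c⁻¹) (e.symm ▸ hv)
      (by rw [e]; exact fun r => n (by rw [cz c hc v r]; exact hv))
    have o := ord2 ⟨_, k⟩ (by simp only [conj_mul, h.sq hv]; simp) fun q => n ((h.ker _).1 q)
    have c5 : 5 ≤ Nat.card ↥(V ⊓ centralizer {c * v * c⁻¹}) := by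
      rcases M24_invol (h.mM _) o with ⟨κ, a, b⟩ | ⟨κ, a, b⟩
      · exact le_trans (by norm_num) (h.lbd ⟨_, k⟩ inH_z2A.1 lbA a b)
      · exact h.lbd ⟨_, k⟩ inH_z2B.1 lbB a b
    obtain ⟨⟨b, hb⟩, b1⟩ := (ne_bot_iff_exists_ne_one (H := B)).1 fun q => by
      rw [q, card_bot] at e1; omega
    obtain ⟨d, ⟨u, uv, -, f⟩, rfl⟩ := e2 b hb
    have d1 : θ d ≠ 1 := fun q => b1 (Subtype.ext q)
    have f' : c * d * c⁻¹ = u := by rw [← f]; group
    obtain ⟨κ, a, b⟩ := std_2A (h.mM d) (ord2 d (by rw [← f, conj_mul, h.sq uv]; simp) d1)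
      (Finset.card_ne_zero.2 ⟨none, by simpa using (mem_M22.1 (l hb)).2.1⟩)
    have c7 := h.lbd d inH_z2A.1 lbA a b
    obtain ⟨B', l', g1, g2⟩ := bd c hc nc d (f' ▸ uv) (nz c hc _ fun q => d1 ((h.ker d).2 (zv q)))
    have := m22_le16 l' fun b hb => by
      obtain ⟨x, ⟨w, wv, -, f⟩, rfl⟩ := g2 b hb
      rw [← map_mul, show x * x = 1 from Subtype.ext (by
        rw [coe_mul, ← f, conj_mul, h.sq wv]; simp), map_one]
    omega
  have half : ∀ x ∈ V, x ∉ Z → ∀ s ∈ C, s * x * s⁻¹ * x ∈ Z → ∀ c ∈ C, ∀ v ∈ V, s * x = c * v * c⁻¹ → s ∈ V :=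
    fun x xv n s sc k c hc v hv e => by
      have a : s ∈ 𝐍 V := TI s sc x xv n ((V.mul_mem_cancel_right xv).1 (zv k))
      exact (V.mul_mem_cancel_right xv).1 (e ▸ SC c hc v hv (e ▸ mul_mem a (le_normalizer xv)))
  intro c hc
  by_contra nc
  have x1v := dv _ a1
  have cw : c * x1 * c⁻¹ ∈ C := mul_mem (mul_mem hc (vc x1v)) (inv_mem hc)
  have ww : c * x1 * c⁻¹ * (c * x1 * c⁻¹) = 1 := by rw [conj_mul, h.sq x1v]; simp
  have main : ∀ x ∈ V, x ∉ Z → ∃ g ∈ C, ∃ ζ ∈ Z, g * x1 * g⁻¹ = ζ * x := fun x xv n => by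
    classical
    generalize hw : c * x1 * c⁻¹ = w at cw ww
    have xx := h.sq xv
    have dh := dihedral xx ww
    have yc : ∀ j : ℕ, (x * w) ^ j ∈ C := fun j => pow_mem (mul_mem (vc xv) cw) j
    have ex : ∃ n, 0 < n ∧ (x * w) ^ n ∈ Z := ⟨orderOf (x * w), orderOf_pos _, by simp [one_mem]⟩
    have cx : ∀ j : ℕ, (x * w) ^ j * x * ((x * w) ^ j)⁻¹ = (x * w) ^ (2 * j) * x := fun j => by
      rw [mul_inv_eq_iff_eq_mul, mul_assoc, (dh j).1, two_mul, pow_add]; group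
    have cw' : ∀ j : ℕ, (x * w) ^ j * w * ((x * w) ^ j)⁻¹ = (x * w) ^ (2 * j) * w := fun j => by
      rw [mul_inv_eq_iff_eq_mul, mul_assoc, (dh j).2, two_mul, pow_add]; group
    have px : ∀ j : ℕ, (x * w) ^ (j + 1) * w = (x * w) ^ j * x := fun j => by
      rw [pow_succ, mul_assoc, mul_assoc, ww, mul_one]
    have cw2 : ∀ j : ℕ, (x * w) ^ j * c * x1 * ((x * w) ^ j * c)⁻¹ = (x * w) ^ (2 * j) * w := fun j => by
      rw [← cw', ← hw]; group
    have al : ∀ j : ℕ, ∃ g ∈ C, ∃ v ∈ V, (x * w) ^ j * x = g * v * g⁻¹ := fun j => by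
      obtain ⟨i, rfl | rfl⟩ := Nat.even_or_odd' j
      · exact ⟨_, yc i, x, xv, (cx i).symm⟩
      · exact ⟨_, mul_mem (yc (i + 1)) hc, x1, x1v, by rw [cw2, mul_add, mul_one, px]⟩
    obtain ⟨p1, p2⟩ := Nat.find_spec ex
    obtain ⟨m, e | e⟩ := Nat.even_or_odd' (Nat.find ex)
    · have q : (x * w) ^ m ∉ Z := fun q => Nat.find_min ex (m := m) (by omega) ⟨by omega, q⟩
      rw [e] at p2
      obtain ⟨g, g1, v, g2, g3⟩ := al m
      have s1 := half x xv n _ (yc m) (by rwa [cx, mul_assoc, xx, mul_one]) g g1 v g2 g3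
      obtain ⟨m, rfl⟩ : ∃ k, m = k + 1 := ⟨m - 1, by omega⟩
      obtain ⟨g, g1, v, g2, g3⟩ := al m
      have s2 := half x1 x1v a2 (c⁻¹ * (x * w) ^ (m + 1) * c⁻¹⁻¹)
        (mul_mem (mul_mem (inv_mem hc) (yc _)) (inv_mem (inv_mem hc))) (by
          rw [← cz c⁻¹ (inv_mem hc) _ p2] at p2
          convert p2 using 1
          rw [← mul_one (_ ^ (2 * _)), ← ww, ← mul_assoc _ w, ← cw', ← hw]; group)
        (c⁻¹ * g) (mul_mem (inv_mem hc) g1) v g2 (by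
          rw [← px] at g3
          calc _ = c⁻¹ * ((x * w) ^ (m + 1) * w) * c := by nth_rw 3 [← hw]; group
            _ = _ := by rw [g3]; group)
      exact (nc (inv_mem_iff.1 (TI c⁻¹ (inv_mem hc) _ s1 q s2))).elim
    · rw [e] at p2
      exact ⟨_, mul_mem (yc (m + 1)) hc, _, p2, by rw [cw2, mul_add, mul_one, px]⟩
  obtain ⟨g, g1, ζ, g2, g3⟩ := main x2 b1 b2
  have k1 := b3 ζ g2 (g3 ▸ hD g x1 a1 (g3 ▸ mul_mem (zv g2) b1))
  rw [k1, one_mul] at g3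
  have g4 : g * (x1 * t) * g⁻¹ = t * x2 := by rw [← conj_mul, g3, cz g g1 t a3, h.comm b1 (zv a3)]
  exact a4 (b3 t a3 (g4 ▸ hD g _ a5 (g4 ▸ mul_mem (zv a3) b1)))

/-- the elements of `V` supported on `A`. -/
def Zs (A : Finset GolayPt) : Subgroup G where
  carrier := {v | ∃ S ∈ A.powerset.filter fun S => Even S.card, ε S = v}
  one_mem' := ⟨∅, by simp, (h.one ∅ (by simp)).2 empty_mem_cw⟩
  mul_mem' := by
    rintro _ _ ⟨S, a, rfl⟩ ⟨T, b, rfl⟩
    simp only [Finset.mem_filter, Finset.mem_powerset] at a b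
    exact ⟨S ∆ T, Finset.mem_filter.2 ⟨Finset.mem_powerset.2 (symmDiff_le_sup.trans (sup_le a.1 b.1)),
      even_sd a.2 b.2⟩, h.mul S T⟩
  inv_mem' := by
    rintro _ ⟨S, a, rfl⟩
    exact ⟨S, a, (inv_eq_of_mul_eq_one_right (h.esq S)).symm⟩

theorem card_Zs (A : Finset GolayPt) : Nat.card (h.Zs A) ≤ (A.powerset.filter fun S => Even S.card).card := by
  rw [← Set.ncard_coe_finset]
  exact Set.ncard_image_le (f := ε) (Finset.finite_toSet _)

theorem fixp {A S : Finset GolayPt} (x : 𝐍 V) (hx : (x : G) ∈ 𝐂 (h.Zs A)) (a : S ⊆ A) (b : S.card = 2) {p : GolayPt}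
    (hp : p ∈ S) : θ x p ∈ S := by
  have e : Even S.card := by rw [b]; decide
  have c := h.act x S e
  rw [← hx (ε S) ⟨S, Finset.mem_filter.2 ⟨Finset.mem_powerset.2 a, e⟩, rfl⟩, mul_inv_cancel_right] at c
  rw [h.inj e (by rwa [Finset.card_smul_finset]) (by rw [Finset.card_smul_finset]; omega) c]
  exact (mem_smul_iff _ _ _).2 hp

theorem key' [Finite G] (hD : ∀ g : G, ∀ d ∈ D, g * d * g⁻¹ ∈ V → g * d * g⁻¹ ∈ D)
    (uq : ∀ g : G, cj g V ≤ 𝐍 V → cj g V = V) {A : Finset GolayPt} (h1 : {none, some 0} ⊆ A)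
    (h2 : A ⊆ {none, some 0, some 1}) (hx : ∀ x ∈ V, x ∉ h.Zs A → 𝐂 (h.Zs A) ⊓ centralizer {x} ≤ 𝐍 V)
    (hb : ∀ B : Subgroup (Equiv.Perm GolayPt), (∀ b ∈ B, ∃ x : 𝐍 V, (x : G) ∈ 𝐂 (h.Zs A) ∧ θ x = b) →
      Nat.card (h.Zs A) * Nat.card B ≤ 4 * Nat.card ↥(B ⊓ M22)) : 𝐂 (h.Zs A) ≤ 𝐍 V := by
  have zv : h.Zs A ≤ V := fun _ ⟨S, a, e⟩ => e ▸ h.emem (Finset.mem_filter.1 a).2
  have nz : ∀ T : Finset GolayPt, T.card = 2 → some 2 ∈ T → ε T ∉ h.Zs A := fun T a b ⟨S, c, e⟩ => by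
    simp only [Finset.mem_filter, Finset.mem_powerset] at c
    have := Finset.card_le_card (c.1.trans h2)
    rw [show ({none, some 0, some 1} : Finset GolayPt).card = 3 by decide] at this
    rw [← h.inj c.2 (by rw [a]; decide) (by omega) e] at b
    exact absurd (h2 (c.1 b)) (by decide)
  refine h.key hD uq zv (fun v hv ζ k => h.comm (zv k) hv) (fun c hc ζ k => by rw [← hc ζ k, mul_inv_cancel_right])
    hx hb (x1 := ε {none, some 2}) (t := ε {none, some 0}) (x2 := ε {some 2, some 3})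
    ((h.duad _).2 ⟨_, by decide, rfl⟩) (nz _ (by decide) (by decide))
    ⟨_, Finset.mem_filter.2 ⟨Finset.mem_powerset.2 h1, by decide⟩, rfl⟩
    (fun k => absurd (card_cw ((h.one _ (by decide)).1 k)) (by decide))
    ((h.duad _).2 ⟨_, by decide, h.mul _ _⟩) (h.emem (by decide)) (nz _ (by decide) (by decide)) ?_
  rintro _ ⟨S, c, rfl⟩ k
  simp only [Finset.mem_filter, Finset.mem_powerset] at c
  have : ∀ S ∈ ({none, some 0, some 1} : Finset GolayPt).powerset, Even S.card →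
      S = ∅ ∨ (S ∆ {some 2, some 3}).card = 4 := Finset.filter_eq_self.1 (by decide +kernel)
  rcases this S (Finset.mem_powerset.2 (c.1.trans h2)) c.2 with rfl | e
  · exact (h.one ∅ (by simp)).2 empty_mem_cw
  · exact ((h.four e).2.2 (h.mul _ _ ▸ k)).elim

theorem hxs (H1 : ∀ w ∈ V, w ≠ 1 → w ∉ D → ∀ t ∈ D, centralizer {w} ⊓ centralizer {t} ≤ 𝐍 V) {A : Finset GolayPt}
    (h1 : {none, some 0} ⊆ A) (H : ∀ d e : GolayPt, d ≠ e → ¬ {d, e} ⊆ A →
      (∃ P ∈ A.powerset, P.card = 2 ∧ ({d, e} ∆ P).card = 4) ∨ 𝐂 (h.Zs A) ⊓ centralizer {ε {d, e}} ≤ 𝐍 V) :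
    ∀ x ∈ V, x ∉ h.Zs A → 𝐂 (h.Zs A) ⊓ centralizer {x} ≤ 𝐍 V := fun x xv n g hg => by
  have tD : ε {none, some 0} ∈ D := (h.duad _).2 ⟨_, by decide, rfl⟩
  have gt : g ∈ centralizer {ε {none, some 0}} := mem_centralizer_singleton_iff.2
    (hg.1 _ ⟨_, Finset.mem_filter.2 ⟨Finset.mem_powerset.2 h1, by decide⟩, rfl⟩).symm
  by_cases xd : x ∈ D
  · obtain ⟨S, a, rfl⟩ := (h.duad x).1 xd
    obtain ⟨d, e, de, rfl⟩ := Finset.card_eq_two.1 a
    rcases H d e de fun k => n ⟨_, Finset.mem_filter.2 ⟨Finset.mem_powerset.2 k, by rw [a]; decide⟩, rfl⟩ with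
      ⟨P, p1, p2, p3⟩ | k
    · obtain ⟨w1, w2, w3⟩ := h.four p3
      refine H1 _ w1 w2 w3 _ tD ⟨mem_centralizer_singleton_iff.2 ?_, gt⟩
      rw [h.mul, ← mul_assoc, mem_centralizer_singleton_iff.1 hg.2, mul_assoc, mul_assoc,
        hg.1 (ε P) ⟨_, Finset.mem_filter.2 ⟨p1, by rw [p2]; decide⟩, rfl⟩]
    · exact k hg
  · exact H1 x xv (fun k => n (k ▸ one_mem _)) xd _ tD ⟨hg.2, gt⟩

theorem cm (κ : 𝐍 V) {g : G} {a b : GolayPt} (ab : a ≠ b)
    (e : g * ε {θ κ a, θ κ b} = ε {θ κ a, θ κ b} * g) :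
    ε {a, b} * ((κ : G)⁻¹ * g * κ) = (κ : G)⁻¹ * g * κ * ε {a, b} := by
  have := h.act κ {a, b} (by rw [Finset.card_pair ab]; decide)
  rw [Finset.smul_finset_insert, Finset.smul_finset_singleton] at this
  change _ = ε {θ κ a, θ κ b} at this
  rw [← this] at e
  calc _ = (κ : G)⁻¹ * (κ * ε {a, b} * (κ : G)⁻¹ * g) * κ := by group
    _ = _ := by rw [← e]; group

theorem cent_le [Finite G] (hD : ∀ g : G, ∀ d ∈ D, g * d * g⁻¹ ∈ V → g * d * g⁻¹ ∈ D)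
    (uq : ∀ g : G, cj g V ≤ 𝐍 V → cj g V = V)
    (H1 : ∀ w ∈ V, w ≠ 1 → w ∉ D → ∀ t ∈ D, centralizer {w} ⊓ centralizer {t} ≤ 𝐍 V) :
    ∀ t ∈ D, centralizer {t} ≤ 𝐍 V := by
  have e0 : ε ∅ = 1 := (h.one ∅ (by simp)).2 empty_mem_cw
  have bk : ∀ (κ : 𝐍 V) (g : G), (κ : G)⁻¹ * g * κ ∈ 𝐍 V → g ∈ 𝐍 V := fun κ g k =>
    (Subgroup.mul_mem_cancel_left _ (inv_mem κ.2)).1 ((Subgroup.mul_mem_cancel_right _ κ.2).1 k)
  have cA := h.key' hD uq (A := {none, some 0, some 1}) (by decide) le_rfl (h.hxs H1 (by decide) fun d e a b =>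
    .inl (by revert d e; decide +kernel)) fun B hB => by
      suffices l : B ≤ M22 by
        rw [inf_eq_left.2 l]
        exact Nat.mul_le_mul_right _ ((h.card_Zs _).trans (by decide +kernel))
      intro b hb
      obtain ⟨x, a, rfl⟩ := hB b hb
      have p1 := h.fixp x a (S := {none, some 0}) (by decide) (by decide) (p := none) (by decide)
      have p2 := h.fixp x a (S := {none, some 1}) (by decide) (by decide) (p := none) (by decide)
      have p3 := h.fixp x a (S := {none, some 0}) (by decide) (by decide) (p := some 0) (by decide)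
      have q : θ x none = none := by revert p1 p2; generalize θ x none = y; revert y; decide
      refine mem_M22.2 ⟨h.mM x, q, ?_⟩
      rcases Finset.mem_insert.1 p3 with k | k
      · exact absurd ((θ x).injective (k.trans q.symm)) (by decide)
      · simpa using k
  have cA' : ∀ a b c : GolayPt, [a, b, c].Nodup → ∀ g : G, g * ε {a, b} = ε {a, b} * g →
      g * ε {a, c} = ε {a, c} * g → g ∈ 𝐍 V := fun a b c n g e1 e2 => by
    obtain ⟨σ, s, rfl, rfl, rfl⟩ := exists_M24_three (a := none) (b := some 0) (c := some 1) (by decide) n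
    rw [← h.rng] at s
    obtain ⟨κ, rfl⟩ := s
    have f1 := h.cm κ (by decide) e1
    have f2 := h.cm κ (by decide) e2
    refine bk κ g (cA ?_)
    rintro _ ⟨S, c, rfl⟩
    have : ∀ S ∈ ({none, some 0, some 1} : Finset GolayPt).powerset.filter fun S => Even S.card,
        S = ∅ ∨ S = {none, some 0} ∨ S = {none, some 1} ∨ S = {none, some 0} ∆ {none, some 1} :=
      Finset.filter_eq_self.1 (by decide +kernel)
    rcases this S c with rfl | rfl | rfl | rfl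
    · rw [e0, one_mul, mul_one]
    · exact f1
    · exact f2
    · rw [h.mul, mul_assoc, f2, ← mul_assoc, f1, mul_assoc]
  have tz : ε {none, some 0} ∈ h.Zs {none, some 0} := ⟨_, by decide +kernel, rfl⟩
  have cB := h.key' hD uq (A := {none, some 0}) le_rfl (by decide) (h.hxs H1 le_rfl fun d e a b => by
    have : ∀ d e : GolayPt, d ≠ e → ¬ ({d, e} : Finset GolayPt) ⊆ {none, some 0} →
        (∃ P ∈ ({none, some 0} : Finset GolayPt).powerset, P.card = 2 ∧ ({d, e} ∆ P).card = 4) ∨ ∃ c : GolayPt,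
        [none, some 0, c].Nodup ∧ ({none, c} = ({d, e} : Finset GolayPt) ∨ {some 0, c} = ({d, e} : Finset GolayPt)) := by
      decide +kernel
    refine (this d e a b).imp_right fun ⟨c, n, k⟩ g hg => ?_
    have e1 := (hg.1 _ tz).symm
    have e2 := mem_centralizer_singleton_iff.1 hg.2
    rcases k with k | k <;> rw [← k] at e2
    · exact cA' _ _ _ n g e1 e2
    · exact cA' _ none _ ((List.Perm.swap _ _ _).nodup_iff.1 n) g (by rwa [Finset.pair_comm]) e2) fun B hB => by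
      have a := (MulAction.stabilizer B (none : GolayPt)).card_mul_index
      have b : (MulAction.stabilizer B (none : GolayPt)).index ≤ 2 := by
        rw [MulAction.index_stabilizer, ← Set.ncard_pair (show (none : GolayPt) ≠ some 0 by decide)]
        refine Set.ncard_le_ncard ?_
        rintro _ ⟨⟨b, hb⟩, rfl⟩
        obtain ⟨x, a, rfl⟩ := hB b hb
        simpa using h.fixp x a le_rfl (by decide) (p := none) (by decide)
      have c : Nat.card (MulAction.stabilizer B (none : GolayPt)) ≤ Nat.card ↥(B ⊓ M22) := by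
        rw [← card_map_subtype]
        refine card_le_of_le ?_
        rintro _ ⟨⟨b, hb⟩, q, rfl⟩
        obtain ⟨x, a, rfl⟩ := hB b hb
        have q : θ x none = none := q
        refine ⟨hb, mem_M22.2 ⟨h.mM x, q, ?_⟩⟩
        rcases Finset.mem_insert.1 (h.fixp x a le_rfl (by decide) (p := some 0) (by decide)) with k | k
        · exact absurd ((θ x).injective (k.trans q.symm)) (by decide)
        · simpa using k
      have d : Nat.card (h.Zs {none, some 0}) ≤ 2 := (h.card_Zs _).trans (by decide +kernel)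
      calc _ ≤ 2 * (Nat.card ↥(B ⊓ M22) * 2) := Nat.mul_le_mul d (a ▸ Nat.mul_le_mul c b)
        _ = _ := by ring
  intro t ht g hg
  obtain ⟨S, a, rfl⟩ := (h.duad t).1 ht
  obtain ⟨d, e, de, rfl⟩ := Finset.card_eq_two.1 a
  obtain ⟨σ, s, rfl, rfl⟩ := exists_M24_two (a := none) (b := some 0) (by decide) de
  rw [← h.rng] at s
  obtain ⟨κ, rfl⟩ := s
  have f1 := h.cm κ (by decide) (mem_centralizer_singleton_iff.1 hg)
  refine bk κ g (cB ?_)
  rintro _ ⟨S, c, rfl⟩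
  have : ∀ S ∈ ({none, some 0} : Finset GolayPt).powerset.filter fun S => Even S.card,
      S = ∅ ∨ S = {none, some 0} := Finset.filter_eq_self.1 (by decide +kernel)
  rcases this S c with rfl | rfl
  · rw [e0, one_mul, mul_one]
  · exact f1

end TM

end Cfsg.Lib.JF
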