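import Cfsg.Agent.Lib.Block2.JF5

/-! Interfaces for the `2^11 : M24` analysis in groups of Janko-four type. -/

set_option autoImplicit false

namespace Cfsg.Lib.JF

open Subgroup Cfsg.Lib.Amalg
open scoped Pointwise symmDiff

variable {G : Type*} [Group G]

/-- the graph data on the 276 elements `D` of `V = 2^11`. -/
structure GD (V : Subgroup G) (D : Set G) : Prop where
  sq : ∀ v ∈ V, v * v = 1
  card : Nat.card V = 2 ^ 11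
  sub : ∀ d ∈ D, d ∈ V ∧ d ≠ 1
  cD : D.ncard = 276
  gen : V ≤ closure D
  inv : ∀ g ∈ 𝐍 V, ∀ d ∈ D, g * d * g⁻¹ ∈ D
  val : ∀ t ∈ D, {s | s ∈ D ∧ s * t ∈ D}.ncard = 44
  mu : ∀ t ∈ D, ∀ s ∈ D, t ≠ s → t * s ∉ D → ∃ X : Subgroup G, Nat.card X = 8 ∧ t ∈ X ∧ s ∈ X ∧
    (∀ x ∈ X, x ≠ 1 → x ≠ t * s → x ∈ D) ∧ ∀ w ∈ D, w * t ∈ D → w * s ∈ D → w ∈ X
  cot : ∀ t ∈ D, ∀ s ∈ D, t ≠ s → t * s ∉ D → ∀ a ∈ D, a * t ∈ D → (a * s ∈ D ↔ a * t * s ∈ D)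
  cen : 𝐂 V ≤ V
  cN : Nat.card (𝐍 V) = 2 ^ 11 * 244823040

/-- `V` is the even half of the Golay cocode module for `N(V)/V = M24`, `D` the set of duads. -/
structure TM (V : Subgroup G) (D : Set G) (ε : Finset GolayPt → G) (θ : 𝐍 V →* Equiv.Perm GolayPt) : Prop where
  mul : ∀ S T, ε (S ∆ T) = ε S * ε T
  one : ∀ S, Even S.card → (ε S = 1 ↔ S ∈ Golay.cw)
  mem : ∀ v, v ∈ V ↔ ∃ S, Even S.card ∧ ε S = v
  act : ∀ (g : 𝐍 V) S, Even S.card → (g : G) * ε S * (g : G)⁻¹ = ε (θ g • S)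
  rng : θ.range = M24
  ker : ∀ g, θ g = 1 ↔ (g : G) ∈ V
  duad : ∀ t, t ∈ D ↔ ∃ S, S.card = 2 ∧ ε S = t

/-- the standard `2^11`. -/
abbrev V0 {Γ : Type*} [Group Γ] {z p : G} (E : Subgroup G) (φ : KK z p →* Γ) (A1 : Subgroup Γ) : Subgroup G :=
  Cm E φ A1 ⊔ closure (hat φ A1)

/-- the elements of `V` not conjugate to `z`. -/
def DD (V : Subgroup G) (z : G) : Set G := {t | t ∈ V ∧ t ≠ 1 ∧ ¬ IsConj z t}

end Cfsg.Lib.JF
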