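import Mathlib

/-! Small computations on element orders. -/

set_option autoImplicit false

namespace Cfsg.Lib.JF

open Equiv

theorem s7_no6_S4 : ∀ σ : Perm (Fin 4), σ * σ * σ * (σ * σ * σ) = 1 → σ * σ = 1 ∨ σ * σ * σ = 1 := by decide +kernel
theorem s7_no6_A6 : ∀ σ : Perm (Fin 6), σ * σ * σ * (σ * σ * σ) = 1 → σ * σ = 1 ∨ σ * σ * σ = 1 ∨ Perm.sign σ ≠ 1 := by decide +kernel
theorem s7_no6_L3 : ∀ σ : Matrix (Fin 3) (Fin 3) (ZMod 2), σ * σ * σ * (σ * σ * σ) = 1 → σ * σ = 1 ∨ σ * σ * σ = 1 := by decide +kernel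
theorem s7_sq_S5 : ∀ σ : Perm (Fin 5), σ * σ * (σ * σ) = 1 → σ * σ ≠ 1 → ∃ k : Perm (Fin 5), k * (σ * σ) * k⁻¹ = swap 0 1 * swap 2 3 := by
  decide +kernel

end Cfsg.Lib.JF
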