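import Cfsg.Agent.S3035
import Cfsg.Agent.Lib.Block2.JG0
import Cfsg.Agent.Lib.Invol.Basic
import Cfsg.Agent.Lib.Golay.Cls
import Cfsg.Agent.Lib.Block2.JS7d

/-! A central element of order 7 over `S₅`. -/

set_option autoImplicit false
set_option linter.unusedSectionVars false

namespace Cfsg.Lib.JF

open Subgroup Equiv Cfsg.Lib.Amalg

theorem s7_s5_of {X : Type*} [Group X] [Finite X] {t u x g y : X} (t2 : orderOf t = 2) (x2 : x * x = 1) (u2 : u * u = 1)
    (r2 : x * u * (x * u) = t) (gt : g * t * g⁻¹ = u) (ut : u ≠ t) (tu : t * u = u * t) (xt : x * t = t * x)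
    (cen : centralizer {t} ≤ closure {x, x * u}) (oy : orderOf y = 2) (og : orderOf g = 3) (yg : y * g = g * y) :
    Nonempty (X ≃* Perm (Fin 5)) := by
  have tt : t * t = 1 := by rw [← sq, ← t2, pow_orderOf_eq_one]
  have t1 : t ≠ 1 := fun e => by rw [e] at t2; simp at t2
  have r4 : (x * u) ^ 4 = 1 := by rw [show 4 = 2 * 2 from rfl, pow_mul, sq (x * u), r2, sq, tt]
  have xr : x * (x * u) * x⁻¹ = (x * u)⁻¹ := by rw [← mul_assoc, x2, one_mul, mul_inv_rev, inv_eq_of_mul_eq_one_right u2]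
  have hi := Invol.dihedralHom_injective x (x * u) x2 r4 xr
    (orderOf_eq_prime_pow (p := 2) (n := 1) (by rw [pow_one, sq, r2]; exact t1) r4) (by
      rintro ⟨k, e⟩
      have : x * (x * u) = x * u * x := by nth_rw 1 [← e]; nth_rw 4 [← e]; exact ((Commute.refl _).zpow_left k).eq
      rw [this, mul_inv_cancel_right, eq_inv_iff_mul_eq_one, r2] at xr
      exact t1 xr)
  have hr : (Invol.dihedralHom x (x * u) x2 r4 xr).range = centralizer {t} := by
    rw [Invol.dihedralHom_range]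
    refine le_antisymm ((closure_le _).2 ?_) cen
    rintro _ (rfl | rfl)
    exacts [mem_centralizer_singleton_iff.2 xt, mem_centralizer_singleton_iff.2 (by rw [mul_assoc, ← tu, ← mul_assoc, xt, mul_assoc])]
  have o6 : orderOf (y * g) = 6 := by rw [Commute.orderOf_mul_eq_mul_orderOf_of_coprime yg (by rw [oy, og]; norm_num), oy, og]
  have no6 : ∀ {H : Type} [Group H] (e : X ≃* H), ¬ ∀ σ : H, σ * σ * σ * (σ * σ * σ) = 1 → σ * σ = 1 ∨ σ * σ * σ = 1 := fun e h => by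
    have := e.orderOf_eq (y * g)
    rw [o6] at this
    rcases h (e (y * g)) (by rw [← pow_three', ← pow_add, show 3 + 3 = 6 from rfl, ← this, pow_orderOf_eq_one]) with k | k
    · rw [← sq, ← orderOf_dvd_iff_pow_eq_one, this] at k; norm_num at k
    · rw [← pow_three', ← orderOf_dvd_iff_pow_eq_one, this] at k; norm_num at k
  rcases Agent.S3035.result t t2 ⟨((MonoidHom.ofInjective hi).trans (MulEquiv.subgroupCongr hr)).symm⟩ with e | ⟨⟨e⟩⟩ | e | ⟨⟨e⟩⟩ | ⟨⟨e⟩⟩
  · obtain ⟨o, ho, c, hc, rfl⟩ := mem_sup_of_normal_left.1 ((sup_comm _ _).trans e ▸ mem_top g : g ∈ oddCore X ⊔ centralizer {t})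
    have k : u * t ∈ oddCore X := by
      convert mul_mem ho ((pPrimeCore_normal 2 X).conj_mem _ (inv_mem ho) t) using 1
      rw [← gt, mul_assoc o c, mem_centralizer_singleton_iff.1 hc, inv_eq_of_mul_eq_one_right tt]; group
    refine absurd (orderOf_dvd_natCard _ k) ?_
    rw [orderOf_eq_prime (p := 2) (by rw [sq, mul_assoc, ← mul_assoc t, tu, mul_assoc, tt, mul_one, u2])
      fun e => ut ((eq_inv_of_mul_eq_one_left e).trans (inv_eq_of_mul_eq_one_right tt))]
    exact Core.not_dvd_card_pPrimeCore Nat.prime_two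
  · exact absurd s7_no6_S4 (no6 e)
  · exact e
  · exact absurd (fun σ h => (s7_no6_L3 σ.1 (congrArg Subtype.val h)).imp Subtype.ext Subtype.ext) (no6 e)
  · exact absurd (fun σ h => (s7_no6_A6 σ.1 (congrArg Subtype.val h)).imp Subtype.ext fun k => Subtype.ext (k.resolve_right fun k => k σ.2)) (no6 e)

variable {G : Type*} [Group G] [Finite G] {s t u x g y : G}

structure Q7 (s t u x g y : G) : Prop where
  o7 : orderOf s = 7
  t2 : orderOf t = 2
  x2 : x * x = 1
  u2 : u * u = 1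
  r2 : x * u * (x * u) = t
  gt : g * t * g⁻¹ = u
  ut : u ≠ t
  tu : t * u = u * t
  xt : x * t = t * x
  oy : orderOf y = 2
  og : orderOf g = 3
  yg : y * g = g * y
  ts : t ∈ centralizer {s}
  us : u ∈ centralizer {s}
  xs : x ∈ centralizer {s}
  gs : g ∈ centralizer {s}
  ys : y ∈ centralizer {s}
  cen : ∀ w, w * s = s * w → w * t = t * w → w ∈ zpowers s ⊔ closure {x, x * u}
  ni : ∀ w, w * t = t * w → w * s * w⁻¹ ≠ s⁻¹

theorem s7_lift (o7 : orderOf s = 7) {H : Type*} [Group H] {f : centralizer ({s} : Set G) →* H} (hf : ∀ c, f c = 1 ↔ c.1 ∈ zpowers s)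
    {n : ℕ} (hn : n.Coprime 7) {a b : centralizer ({s} : Set G)} (ha : a ^ n = 1) (hb : b ^ n = 1) (e : f a = f b) : a = b := by
  obtain ⟨k, hk⟩ := (hf (a⁻¹ * b)).1 (by rw [map_mul, map_inv, e, inv_mul_cancel])
  have c : Commute a (a⁻¹ * b) := Subtype.ext (by
    rw [coe_mul, coe_mul _ (a⁻¹ * b), ← hk]; exact (Commute.zpow_right (mem_centralizer_singleton_iff.1 a.2) k).eq)
  have h1 : (a⁻¹ * b) ^ n = 1 := by
    have := c.mul_pow n
    rwa [mul_inv_cancel_left, hb, ha, one_mul, eq_comm] at this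
  have h2 : (a⁻¹ * b) ^ 7 = 1 := Subtype.ext (by
    rw [coe_pow, ← hk, ← zpow_natCast, ← zpow_mul, mul_comm, zpow_mul, zpow_natCast, ← o7, pow_orderOf_eq_one, one_zpow]; rfl)
  exact inv_mul_eq_one.1 ((pow_eq_one_iff_of_coprime hn).1 ⟨h1, h2⟩)

theorem Q7.exf (h : Q7 s t u x g y) : ∃ f : centralizer ({s} : Set G) →* Perm (Fin 5), Function.Surjective f ∧ ∀ c, f c = 1 ↔ c.1 ∈ zpowers s := by
  have hN : ((zpowers s).subgroupOf (centralizer {s})).Normal := ⟨by
    rintro n ⟨k, e⟩ c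
    refine ⟨k, e.trans ?_⟩
    change n.1 = c * n * (c.1)⁻¹
    rw [show n.1 = s ^ k from e.symm, (Commute.zpow_right (mem_centralizer_singleton_iff.1 c.2) k).eq, mul_inv_cancel_right]⟩
  let π := QuotientGroup.mk' ((zpowers s).subgroupOf (centralizer {s}))
  have hf : ∀ c, π c = 1 ↔ c.1 ∈ zpowers s := fun c => QuotientGroup.eq_one_iff c
  have o : ∀ (p : ℕ) [Fact p.Prime] (a : centralizer ({s} : Set G)), p.Coprime 7 → orderOf a.1 = p → orderOf (π a) = p := fun p _ a hp e => by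
    rw [Subgroup.orderOf_coe] at e
    have a1 := e ▸ pow_orderOf_eq_one a
    refine orderOf_eq_prime (by rw [← map_pow, a1, map_one]) fun k => (Fact.out : p.Prime).ne_one ?_
    rw [← e, s7_lift h.o7 hf hp a1 (one_pow _) (k.trans (map_one π).symm), orderOf_one]
  have := Fact.mk Nat.prime_three
  have tt : (⟨t, h.ts⟩ : centralizer ({s} : Set G)) ^ 2 = 1 := Subtype.ext (h.t2 ▸ pow_orderOf_eq_one t :)
  have e1 : ∀ a : centralizer ({s} : Set G), a.1 * a = 1 → π a * π a = 1 := fun a e => by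
    rw [← map_mul, show a * a = 1 from Subtype.ext e, map_one]
  have e2 : ∀ a b : centralizer ({s} : Set G), a.1 * b = b * a → π a * π b = π b * π a := fun a b e => by
    rw [← map_mul, show a * b = b * a from Subtype.ext e, map_mul]
  obtain ⟨e⟩ := s7_s5_of (t := π ⟨t, h.ts⟩) (u := π ⟨u, h.us⟩) (x := π ⟨x, h.xs⟩) (g := π ⟨g, h.gs⟩) (y := π ⟨y, h.ys⟩)
    (o 2 _ (by norm_num) h.t2) (e1 _ h.x2) (e1 _ h.u2)
    (by simp only [← map_mul]; exact congrArg π (Subtype.ext h.r2)) (by simp only [← map_mul, ← map_inv]; exact congrArg π (Subtype.ext h.gt))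
    (fun e => h.ut (congrArg Subtype.val (s7_lift h.o7 hf (n := 2) (by norm_num) (Subtype.ext ((sq u).trans h.u2)) tt e)))
    (e2 _ _ h.tu) (e2 _ _ h.xt) (fun w hw => by
      obtain ⟨w, rfl⟩ := QuotientGroup.mk'_surjective _ w
      have := s7_lift h.o7 hf (n := 2) (by norm_num) (a := w * ⟨t, h.ts⟩ * w⁻¹) (by rw [conj_pow, tt]; simp) tt
        (mul_inv_eq_iff_eq_mul.2 (mem_centralizer_singleton_iff.1 hw))
      obtain ⟨m, hm, e⟩ := (sup_le (c := ((closure {π ⟨x, h.xs⟩, π ⟨x, h.xs⟩ * π ⟨u, h.us⟩}).comap π).map (centralizer ({s} : Set G)).subtype)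
        (zpowers_le.2 ⟨⟨s, mem_centralizer_singleton_iff.2 rfl⟩, mem_comap.2 (by rw [(hf ⟨s, mem_centralizer_singleton_iff.2 rfl⟩).2 (mem_zpowers s)]; exact one_mem _), rfl⟩)
        ((closure_le _).2 (by
          rintro _ (rfl | rfl)
          exacts [⟨⟨_, h.xs⟩, subset_closure (Set.mem_insert _ _), rfl⟩,
            ⟨⟨_, mul_mem h.xs h.us⟩, subset_closure (Set.mem_insert_of_mem _ rfl), rfl⟩])))
        (h.cen w (mem_centralizer_singleton_iff.1 w.2) (mul_inv_eq_iff_eq_mul.1 (congrArg Subtype.val this)))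
      exact Subtype.ext e ▸ hm)
    (o 2 _ (by norm_num) h.oy) (o 3 _ (by norm_num) h.og) (e2 _ _ h.yg)
  exact ⟨e.toMonoidHom.comp π, e.surjective.comp (QuotientGroup.mk'_surjective _), fun c => e.map_eq_one_iff.trans (hf c)⟩

theorem Q7.nconj (h : Q7 s t u x g y) : ¬ IsConj s s⁻¹ := fun e => by
  obtain ⟨f, f1, hf⟩ := h.exf
  obtain ⟨n, hn⟩ := isConj_iff.1 e
  have tt : t ^ 2 = 1 := h.t2 ▸ pow_orderOf_eq_one t
  have k : ∀ r : centralizer ({s} : Set G), orderOf (r.1 * r) = 2 → (r * r) ^ 2 = 1 ∧ ∃ c, f (c * (r * r) * c⁻¹) = swap 0 1 * swap 2 3 := fun r hr => by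
    have r4 : (r * r) ^ 2 = 1 := Subtype.ext (hr ▸ pow_orderOf_eq_one (r.1 * r) :)
    obtain ⟨c, hc⟩ := s7_sq_S5 (f r) (by rw [← map_mul, ← map_mul, ← sq, r4, map_one]) fun e => by
      have := s7_lift h.o7 hf (n := 2) (by norm_num) r4 (one_pow _) (by rw [map_mul, e, map_one])
      rw [show r.1 * r = 1 from congrArg Subtype.val this] at hr; simp at hr
    obtain ⟨c, rfl⟩ := f1 c
    exact ⟨r4, c, by simpa using hc⟩
  have ns : n * (x * u) * n⁻¹ ∈ centralizer {s} := mem_centralizer_singleton_iff.2 (Commute.inv_right_iff.1 (show n * (x * u) * n⁻¹ * s⁻¹ = s⁻¹ * (n * (x * u) * n⁻¹) by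
    rw [← hn, conj_mul, conj_mul, mem_centralizer_singleton_iff.1 (mul_mem h.xs h.us)])).eq
  obtain ⟨a1, c1, e1⟩ := k ⟨_, mul_mem h.xs h.us⟩ (by rw [h.r2, h.t2])
  obtain ⟨a2, c2, e2⟩ := k ⟨_, ns⟩ (by rw [conj_mul, h.r2, Golay.orderOf_conj', h.t2])
  have := congrArg Subtype.val (s7_lift h.o7 hf (n := 2) (by norm_num) (by rw [conj_pow, a1]; simp) (by rw [conj_pow, a2]; simp) (e1.trans e2.symm))
  simp only [coe_mul, coe_inv, conj_mul, h.r2] at this
  refine h.ni ((c1.1)⁻¹ * c2 * n) (mul_inv_eq_iff_eq_mul.1 ?_) ?_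
  · calc _ = (c1.1)⁻¹ * (c2 * (n * t * n⁻¹) * (c2.1)⁻¹) * c1 := by group
      _ = _ := by rw [← this]; group
  · calc _ = ((c1.1)⁻¹ * c2) * (n * s * n⁻¹) * ((c1.1)⁻¹ * c2)⁻¹ := by group
      _ = _ := by rw [hn, (Commute.inv_right (mem_centralizer_singleton_iff.1 (mul_mem (inv_mem c1.2) c2.2))).eq, mul_inv_cancel_right]

end Cfsg.Lib.JF
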