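import Cfsg.Agent.Lib.Block2.JS7a
import Cfsg.Agent.Lib.Block2.JS7b
import Cfsg.Agent.Lib.Block2.JGt
import Cfsg.Agent.Lib.Coprime.Basic
import Cfsg.Agent.Lib.Golay.Coset

/-! The centraliser of an element of order 7 in a group of Janko-four type. -/

set_option autoImplicit false
set_option linter.unusedSectionVars false

namespace Cfsg.Lib.JF

open Subgroup Equiv Cfsg.Lib.Amalg Cfsg.Lib.Golay
open scoped Pointwise symmDiff

variable {G : Type*} [Group G] [Finite G] {V : Subgroup G} {D : Set G} {ε : Finset GolayPt → G}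
  {θ : 𝐍 V →* Equiv.Perm GolayPt} {s : G}

theorem TM.q7 (T : TM V D ε θ) (cl : ∀ t ∈ D, centralizer {t} ≤ 𝐍 V)
    (h3 : ∀ g : G, orderOf g = 3 → ∃ y, orderOf y = 2 ∧ centralizer {g} ≤ centralizer {y}) : ∃ s t u x g y : G, Q7 s t u x g y := by
  have M := s7_m7
  generalize gc.dec s7w7 = σ, gc.dec s7w3 = γ, gc.dec s7w2 = ξ, gc.pt 0 = a, gc.pt 18 = b, gc.pt 16 = c at M
  have := Fact.mk (by norm_num : Nat.Prime 7)
  have := Fact.mk Nat.prime_three
  have kV : ∀ m : 𝐍 V, θ m = 1 → m ^ 2 = 1 := fun m e => Subtype.ext ((_root_.sq m.1).trans (T.sq ((T.ker m).1 e)))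
  have σ7 : σ ^ 7 = 1 := M.o7 ▸ pow_orderOf_eq_one σ
  obtain ⟨s, s7, θs⟩ : ∃ s : 𝐍 V, s ^ 7 = 1 ∧ θ s = σ := by
    obtain ⟨m, hm⟩ := T.rng.ge M.σM
    refine ⟨m ^ 8, ?_, by rw [map_pow, hm, pow_succ, σ7, one_mul]⟩
    rw [← pow_mul, show 8 * 7 = 7 * 2 * 4 from rfl, pow_mul, pow_mul, kV (m ^ 7) (by rw [map_pow, hm, σ7]), one_pow]
  have os : orderOf s = 7 := orderOf_eq_prime s7 fun e => by have := M.o7; rw [← θs, e, map_one] at this; simp at this
  have lift : ∀ τ ∈ M24, τ * σ = σ * τ → ∃ m : 𝐍 V, θ m = τ ∧ m * s = s * m := fun τ hτ e => by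
    obtain ⟨n, hn⟩ := IsPGroup.iff_card.1 (show IsPGroup 2 (⊤ ⊓ θ.ker : Subgroup (𝐍 V)) from fun g => ⟨1, Subtype.ext (kV g g.2.2)⟩)
    obtain ⟨m, hm, k⟩ := (Coprime.map_inf_centralizer θ (A := zpowers s) (K := ⊤) (le_top.trans le_normalizer)
      (by rw [hn, Nat.card_zpowers, os]; exact Nat.Coprime.pow_right _ (by norm_num)) (.inl inferInstance)).ge (show τ ∈ _ from ⟨by
        rw [← MonoidHom.range_eq_map, T.rng]; exact hτ, by
        rw [MonoidHom.map_zpowers, θs, zpowers_eq_closure, centralizer_closure]; exact mem_centralizer_singleton_iff.2 e⟩)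
    exact ⟨m, k, (hm.2 s (mem_zpowers s)).symm⟩
  have c2 : ∀ {p q : GolayPt}, p ≠ q → Even ({p, q} : Finset GolayPt).card := fun e => by rw [Finset.card_pair e]; decide
  have act : ∀ (m : 𝐍 V) {p q : GolayPt}, p ≠ q → m.1 * ε {p, q} * (m.1)⁻¹ = ε {θ m p, θ m q} := fun m p q e => by
    rw [T.act m _ (c2 e)]; simp [Finset.smul_finset_insert]
  have inj : ∀ {p q p' q' : GolayPt}, p ≠ q → p' ≠ q' → ε {p, q} = ε {p', q'} → p = p' ∧ q = q' ∨ p = q' ∧ q = p' := fun e e' k => by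
    have := T.inj (c2 e) (c2 e') (by rw [Finset.card_pair e, Finset.card_pair e']; norm_num) k
    rwa [← Finset.coe_inj, Finset.coe_pair, Finset.coe_pair, Set.pair_eq_pair_iff] at this
  have FV : ∀ v ∈ V, s.1 * v = v * s → v = 1 ∨ v = ε {a, b} ∨ v = ε {a, c} ∨ v = ε {b, c} := fun v hv e => by
    obtain ⟨S, ev, rfl⟩ := (T.mem v).1 hv
    obtain ⟨w, w4, hw⟩ := exists_leader_cw S
    have ew : Even w.card := by
      have := card_cw hw; have := card_symmDiff_add w S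
      rw [Nat.even_iff] at *; omega
    have e1 : ε w = ε S := by
      rw [← mul_one (ε w), ← T.esq S, ← mul_assoc, ← T.mul, (T.one _ (even_sd ew ev)).2 hw, one_mul]
    rw [← e1] at e ⊢
    have e2 : ε (σ • w) = ε w := by rw [← θs, ← T.act s w ew, e, mul_inv_cancel_right]
    have : w.card = 0 ∨ w.card = 2 ∨ w.card = 4 := by rw [Nat.even_iff] at ew; omega
    rcases this with k | k | k
    · rw [Finset.card_eq_zero.1 k]; exact .inl ((T.one ∅ (by simp)).2 empty_mem_cw)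
    · obtain ⟨p, q, pq, rfl⟩ := Finset.card_eq_two.1 k
      have k2 : σ p = p ∧ σ q = q := (inj (σ.injective.ne pq) pq (by simpa [Finset.smul_finset_insert] using e2)).elim id fun ⟨h1, h2⟩ =>
        absurd (show p = q by simpa [pow_succ, h1, h2] using (congrArg (· p) σ7).symm) pq
      rcases (M.fix p).1 k2.1 with rfl | rfl | rfl <;> rcases (M.fix q).1 k2.2 with rfl | rfl | rfl <;> simp [Finset.pair_comm] at pq ⊢
    · exact absurd (T.cw_of (by rwa [Finset.card_smul_finset]) ew e2) (M.sx w k)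
  have tu : ε {a, b} * ε {b, c} = ε {a, c} := by
    rw [← T.mul]; congr 1; ext p; have := M.ab; have := M.ac; have := M.bc
    simp only [Finset.mem_symmDiff, Finset.mem_insert, Finset.mem_singleton]; grind
  have fa := (M.fix a).2 (by simp)
  have fb := (M.fix b).2 (by simp)
  have fc := (M.fix c).2 (by simp)
  have ts : ε {a, b} * s = s * ε {a, b} := (mul_inv_eq_iff_eq_mul.1 (by rw [act s M.ab, θs, fa, fb])).symm
  have us : ε {b, c} * s = s * ε {b, c} := (mul_inv_eq_iff_eq_mul.1 (by rw [act s M.bc, θs, fb, fc])).symm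
  have n1 : ε {a, c} ≠ ε {b, c} := fun e => (inj M.ac M.bc e).elim (fun k => M.ab k.1) fun k => M.ac k.1
  have uV := T.emem (c2 M.bc)
  have xu : ∀ x : 𝐍 V, θ x = ξ → x.1 * ε {b, c} * (x.1)⁻¹ = ε {a, c} := fun x e => by rw [act x M.bc, e, M.ξb, M.ξc]
  obtain ⟨x, θx, xs, x2⟩ : ∃ x : 𝐍 V, θ x = ξ ∧ x.1 * s = s * x ∧ x.1 * x = 1 := by
    obtain ⟨x, θx, xs⟩ := lift ξ M.ξM M.ξσ
    have xs' : x.1 * s = s * x := congrArg Subtype.val xs
    rcases FV _ ((T.ker (x * x)).1 (by rw [map_mul, θx, M.ξ2])) (Commute.mul_right xs'.symm xs'.symm).eq with e | e | e | e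
    · exact ⟨x, θx, xs', e⟩
    · refine ⟨x * ⟨_, le_normalizer uV⟩, by rw [map_mul, θx, (T.ker ⟨_, _⟩).2 uV, mul_one], (Commute.mul_left xs' us).eq, ?_⟩
      calc _ = x.1 * ε {b, c} * (x.1)⁻¹ * (x * x : 𝐍 V) * ε {b, c} := by simp only [coe_mul]; group
        _ = _ := by rw [xu x θx, e, mul_assoc, tu, T.esq]
    · refine absurd ?_ n1
      rw [← e, show ((x * x : 𝐍 V) : G) = x.1 * (x * x : 𝐍 V) * (x.1)⁻¹ by simp [mul_assoc], e, act x M.ac, θx, M.ξa, M.ξc]
    · refine absurd ?_ n1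
      rw [← xu x θx, ← e]; simp [mul_assoc]
  obtain ⟨g, θg, gs, g3⟩ : ∃ g : 𝐍 V, θ g = γ ∧ g.1 * s = s * g ∧ g ^ 3 = 1 := by
    obtain ⟨g, θg, gs⟩ := lift γ M.γM M.γσ
    have γ3 : γ ^ 3 = 1 := M.γ3 ▸ pow_orderOf_eq_one γ
    refine ⟨g ^ 4, by rw [map_pow, θg, pow_succ, γ3, one_mul], congrArg Subtype.val (Commute.pow_left gs 4).eq, ?_⟩
    rw [← pow_mul, show 4 * 3 = 3 * 2 * 2 from rfl, pow_mul, pow_mul, kV (g ^ 3) (by rw [map_pow, θg, γ3]), one_pow]
  have og : orderOf g.1 = 3 := (Subgroup.orderOf_coe g).trans (orderOf_eq_prime g3 fun e => by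
    have := M.γ3; rw [← θg, e, map_one] at this; simp at this)
  obtain ⟨y, oy, hy⟩ := h3 g og
  have r2 : x.1 * ε {b, c} * (x * ε {b, c}) = ε {a, b} := by
    calc _ = x.1 * ε {b, c} * (x.1)⁻¹ * (x * x) * ε {b, c} := by group
      _ = _ := by rw [xu x θx, x2, mul_one, ← tu, mul_assoc, T.esq, mul_one]
  have tD : ε {a, b} ∈ D := (T.duad _).2 ⟨_, Finset.card_pair M.ab, rfl⟩
  have xH : x.1 ∈ zpowers s.1 ⊔ closure {x.1, x * ε {b, c}} := mem_sup_right (subset_closure (Set.mem_insert _ _))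
  have rH : x.1 * ε {b, c} ∈ zpowers s.1 ⊔ closure {x.1, x * ε {b, c}} := mem_sup_right (subset_closure (Set.mem_insert_of_mem _ rfl))
  have cen0 : ∀ w : 𝐍 V, w.1 * s = s * w → θ w a = a → θ w b = b → w.1 ∈ zpowers s.1 ⊔ closure {x.1, x * ε {b, c}} := fun w e ea eb => by
    obtain ⟨k, hk⟩ := M.K _ (T.mM w) (by rw [← θs, ← map_mul, ← map_mul]; exact congrArg θ (Subtype.ext e)) ea eb
    have uH := (mul_mem_cancel_left xH).1 rH
    have tH := r2 ▸ mul_mem rH rH
    refine (mul_mem_cancel_left (inv_mem (mem_sup_left (zpow_mem (mem_zpowers s.1) k)))).1 ?_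
    rcases FV ((s.1 ^ k)⁻¹ * w) ((T.ker ((s ^ k)⁻¹ * w)).1 (by rw [map_mul, map_inv, map_zpow, θs, ← hk, inv_mul_cancel]))
      (Commute.mul_right ((Commute.refl _).zpow_right k).inv_right e.symm).eq with e | e | e | e <;> rw [e]
    exacts [one_mem _, tH, tu ▸ mul_mem tH uH, uH]
  refine ⟨s, ε {a, b}, ε {b, c}, x, g, y, (Subgroup.orderOf_coe s).trans os, orderOf_eq_prime ((_root_.sq _).trans (T.esq _)) fun e => ?_, x2, T.esq _,
    r2, by rw [act g M.ab, θg, M.γa, M.γb], fun e => (inj M.bc M.ab e).elim (fun k => M.ab k.1.symm) fun k => M.ac k.2.symm,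
    T.comm (T.emem (c2 M.ab)) uV, mul_inv_eq_iff_eq_mul.1 (by rw [act x M.ab, θx, M.ξa, M.ξb, Finset.pair_comm]), oy, og,
    (mem_centralizer_singleton_iff.1 (hy (mem_centralizer_singleton_iff.2 rfl))).symm, mem_centralizer_singleton_iff.2 ts,
    mem_centralizer_singleton_iff.2 us, mem_centralizer_singleton_iff.2 xs, mem_centralizer_singleton_iff.2 gs,
    mem_centralizer_singleton_iff.2 (mem_centralizer_singleton_iff.1 (hy (mem_centralizer_singleton_iff.2 gs.symm))).symm,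
    fun w e1 e2 => ?_, fun w e1 e2 => ?_⟩
  · have := card_cw ((T.one _ (c2 M.ab)).1 e)
    rw [Finset.card_pair M.ab] at this; omega
  · have wN := cl _ tD (mem_centralizer_singleton_iff.2 e2)
    have k := act ⟨w, wN⟩ M.ab
    rw [e2, mul_inv_cancel_right] at k
    rcases inj M.ab ((θ _).injective.ne M.ab) k with k | k
    · exact cen0 ⟨w, wN⟩ e1 k.1.symm k.2.symm
    · exact (mul_mem_cancel_left xH).1 (cen0 (x * ⟨w, wN⟩) (Commute.mul_left xs e1).eq
        (by rw [map_mul, Perm.mul_apply, ← k.2, θx, M.ξb]) (by rw [map_mul, Perm.mul_apply, ← k.1, θx, M.ξa]))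
  · have wN := cl _ tD (mem_centralizer_singleton_iff.2 e1)
    refine M.ni _ (T.mM ⟨w, wN⟩) ?_
    rw [← θs, ← map_inv, ← map_inv, ← map_mul, ← map_mul]; exact congrArg θ (Subtype.ext e2)

theorem s7_card (o7 : orderOf s = 7) {f : centralizer ({s} : Set G) →* Perm (Fin 5)} (hs : Function.Surjective f)
    (hf : ∀ c, f c = 1 ↔ c.1 ∈ zpowers s) : Nat.card f.ker = 7 ∧ f.ker.index = 120 ∧ Nat.card (centralizer ({s} : Set G)) = 840 ∧
      ¬ 49 ∣ Nat.card G := by
  have := Fact.mk (by norm_num : Nat.Prime 7)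
  have a : Nat.card f.ker = 7 := by
    rw [show f.ker = (zpowers s).subgroupOf _ from Subgroup.ext hf, Nat.card_congr (subgroupOfEquivOfLe
      (zpowers_le.2 (mem_centralizer_singleton_iff.2 rfl))).toEquiv, Nat.card_zpowers, o7]
  have b : f.ker.index = 120 := by rw [index_ker, MonoidHom.range_eq_top.2 hs, card_top, Nat.card_perm]; simp [Nat.factorial]
  have c : Nat.card (centralizer ({s} : Set G)) = 840 := by rw [← f.ker.card_mul_index, a, b]
  refine ⟨a, b, c, fun e => ?_⟩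
  obtain ⟨K, k1, k2⟩ := Sylow.exists_subgroup_card_pow_succ (p := 7) (n := 1) e (H := zpowers s) (by rw [Nat.card_zpowers, o7]; rfl)
  have := card_dvd_of_le (show K ≤ centralizer {s} from fun k hk => mem_centralizer_singleton_iff.2 (congrArg Subtype.val
    ((IsPGroup.isMulCommutative_of_card_eq_prime_sq k1).is_comm.comm ⟨k, hk⟩ ⟨s, k2 (mem_zpowers s)⟩)))
  rw [k1, c] at this; norm_num at this

theorem s7_syl (h : ¬ 49 ∣ Nat.card G) {S : Subgroup G} (hS : Nat.card S = 7) : Syl 7 S ⊤ :=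
  have := Fact.mk (by norm_num : Nat.Prime 7)
  syl_of_not_dvd le_top (IsPGroup.of_card (n := 1) hS) fun e => h (by
    rw [← S.card_mul_index, hS, ← relIndex_top_right]; exact Nat.mul_dvd_mul_left 7 e)

theorem s7_fin [IsSimpleGroup G] (o7 : orderOf s = 7) {f : centralizer ({s} : Set G) →* Perm (Fin 5)} (hs : Function.Surjective f)
    (hf : ∀ c, f c = 1 ↔ c.1 ∈ zpowers s) (nc : ¬ IsConj s s⁻¹) :
    (∃ I : Subgroup G, IsInternalDirectProduct (zpowers s) I (centralizer (zpowers s : Set G)) ∧ Nonempty (I ≃* Perm (Fin 5))) ∧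
    Nat.card (normalizer (zpowers s : Set G)) = 3 * Nat.card (centralizer (zpowers s : Set G)) ∧
    Nat.card (normalizer (zpowers s : Set G)) = 2 ^ 3 * 3 ^ 2 * 5 * 7 := by
  classical
  have := Fact.mk (by norm_num : Nat.Prime 7)
  obtain ⟨a, b, c, d⟩ := s7_card o7 hs hf
  have eC : centralizer (zpowers s : Set G) = centralizer {s} := by rw [zpowers_eq_closure, centralizer_closure]
  have sC : zpowers s ≤ centralizer {s} := zpowers_le.2 (mem_centralizer_singleton_iff.2 rfl)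
  have s7 : s ^ 7 = 1 := o7 ▸ pow_orderOf_eq_one s
  have cn : ∀ n i, n * s * n⁻¹ = s ^ i → n * n * s * (n * n)⁻¹ = s ^ (i * i) ∧ n * (n * n) * s * (n * (n * n))⁻¹ = s ^ (i * (i * i)) := fun n i e => by
    have k : n * n * s * (n * n)⁻¹ = s ^ (i * i) := by
      rw [show n * n * s * (n * n)⁻¹ = n * (n * s * n⁻¹) * n⁻¹ by group, e, ← conj_pow, e, ← pow_mul]
    exact ⟨k, by rw [show n * (n * n) * s * (n * (n * n))⁻¹ = n * (n * n * s * (n * n)⁻¹) * n⁻¹ by group, k, ← conj_pow, e, ← pow_mul]⟩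
  have md : ∀ i j, i % 7 = j % 7 → s ^ i = s ^ j := fun i j e => pow_eq_pow_iff_modEq.2 (o7 ▸ e)
  have orb : ∀ n ∈ 𝐍 (zpowers s), n * s * n⁻¹ = s ^ 1 ∨ n * s * n⁻¹ = s ^ 2 ∨ n * s * n⁻¹ = s ^ 4 := fun n hn => by
    obtain ⟨i, hi, e⟩ := Finset.mem_image.1 (mem_zpowers_iff_mem_range_orderOf.1 ((mem_normalizer_iff.1 hn s).1 (mem_zpowers s)))
    rw [o7, Finset.mem_range] at hi
    have k : i * (i * i) % 7 ≠ 6 % 7 := fun k => nc (isConj_iff.2 ⟨_, (cn n i e.symm).2.trans ((md _ _ k).trans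
      (eq_inv_of_mul_eq_one_left ((pow_succ s 6).symm.trans s7)))⟩)
    interval_cases i
    · rw [pow_zero, eq_comm, conj_eq_one_iff] at e; rw [e] at o7; simp at o7
    all_goals first | exact absurd rfl k | simp [← e]
  obtain ⟨n, hn, e⟩ : ∃ n ∈ 𝐍 (zpowers s), n * s * n⁻¹ = s ^ 2 := by
    by_contra k
    have S7 := s7_syl d (S := zpowers s) (by rw [Nat.card_zpowers, o7])
    obtain ⟨N, hN, h⟩ : ∃ N : Subgroup G, N.Normal ∧ IsComplement' N S7.toSylowTop := ⟨_, MonoidHom.normal_ker _,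
      MonoidHom.ker_transferSylow_isComplement' S7.toSylowTop (fun n hn => eC.ge (mem_centralizer_singleton_iff.2 (mul_inv_eq_iff_eq_mul.1 (by
      rcases orb n hn with e | e | e
      exacts [e.trans (pow_one s), absurd ⟨n, hn, e⟩ k, absurd ⟨_, mul_mem hn hn, (cn n 4 e).1.trans (md _ _ rfl)⟩ k]))))⟩
    have h2 := h.card_mul_card
    rw [show Nat.card (S7.toSylowTop : Subgroup G) = 7 from (Nat.card_zpowers s).trans o7] at h2
    rcases hN.eq_bot_or_eq_top with e | e <;> rw [e] at h2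
    · have := card_subgroup_dvd_card (centralizer ({s} : Set G))
      rw [c, ← h2, card_bot] at this; norm_num at this
    · rw [card_top] at h2; have := Nat.card_pos (α := G); omega
  have cN : Nat.card (normalizer (zpowers s : Set G)) = 3 * 840 := by
    have inj : ∀ i < 7, ∀ j < 7, s ^ i = s ^ j → i = j := fun i hi j hj e => pow_injOn_Iio_orderOf (x := s) (by rwa [o7]) (by rwa [o7]) e
    rw [card_orb _ s, inf_eq_right.2 (eC ▸ centralizer_le_normalizer _), c, show {y | ∃ g ∈ 𝐍 (zpowers s), g * s * g⁻¹ = y} = {s ^ 1, s ^ 2, s ^ 4} from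
      Set.Subset.antisymm (by rintro _ ⟨g, hg, rfl⟩; exact orb g hg) (by
        rintro _ (rfl | rfl | rfl); exacts [⟨1, one_mem _, by simp⟩, ⟨n, hn, e⟩, ⟨_, mul_mem hn hn, (cn n 2 e).1⟩]),
      Set.ncard_eq_three.mpr ⟨_, _, _, fun e => absurd (inj _ (by norm_num) _ (by norm_num) e) (by norm_num),
      fun e => absurd (inj _ (by norm_num) _ (by norm_num) e) (by norm_num),
      fun e => absurd (inj _ (by norm_num) _ (by norm_num) e) (by norm_num), rfl⟩]
  obtain ⟨H, hH⟩ := exists_left_complement'_of_coprime (N := f.ker) (by rw [a, b]; norm_num)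
  have eS : zpowers s = f.ker.map (centralizer ({s} : Set G)).subtype := by
    rw [show f.ker = (zpowers s).subgroupOf _ from Subgroup.ext hf, subgroupOf_map_subtype, inf_eq_left.2 sC]
  rw [eC, cN, c]
  refine ⟨⟨H.map (centralizer ({s} : Set G)).subtype, ⟨sC, map_subtype_le H, ?_, ?_, ?_⟩,
    ⟨((H.equivMapOfInjective _ (subtype_injective _)).symm.trans hH.QuotientMulEquiv.symm).trans
      (QuotientGroup.quotientKerEquivOfSurjective f hs)⟩⟩, rfl, by norm_num⟩
  · rintro _ ⟨k, rfl⟩ _ ⟨b, -, rfl⟩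
    exact (Commute.zpow_left (mem_centralizer_singleton_iff.1 b.2).symm k).eq
  · rw [eS, ← map_inf _ _ _ (subtype_injective _), hH.symm.disjoint.eq_bot, Subgroup.map_bot]
  · nth_rw 1 [eS]
    rw [← Subgroup.map_sup, hH.symm.sup_eq_top, ← MonoidHom.range_eq_map, range_subtype]

theorem Q7.main [IsSimpleGroup G] {t u x g y : G} (h : Q7 s t u x g y) (S : Subgroup G) (hS : Nat.card S = 7) : ¬ (49 ∣ Nat.card G) ∧
    (∃ I : Subgroup G, IsInternalDirectProduct S I (centralizer (S : Set G)) ∧ Nonempty (I ≃* Perm (Fin 5))) ∧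
    Nat.card (normalizer (S : Set G)) = 3 * Nat.card (centralizer (S : Set G)) ∧
    Nat.card (normalizer (S : Set G)) = 2 ^ 3 * 3 ^ 2 * 5 * 7 := by
  have := Fact.mk (by norm_num : Nat.Prime 7)
  obtain ⟨f, hs, hf⟩ := h.exf
  have d := (s7_card h.o7 hs hf).2.2.2
  obtain ⟨k, -, rfl⟩ := (s7_syl d (S := zpowers s) (by rw [Nat.card_zpowers, h.o7])).exists_conj (s7_syl d hS)
  have e : cj k (zpowers s) = zpowers (MulAut.conj k s) := MonoidHom.map_zpowers _ _
  rw [e]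
  refine ⟨d, s7_fin (((MulAut.conj k).orderOf_eq s).trans h.o7) (f := f.comp (centralizerEquiv (MulAut.conj k) s).symm.toMonoidHom)
    (hs.comp (MulEquiv.surjective _)) (fun c => ?_) fun c => h.nconj ?_⟩
  · obtain ⟨c, rfl⟩ := (centralizerEquiv (MulAut.conj k) s).surjective c
    rw [← e, MonoidHom.comp_apply, MulEquiv.coe_toMonoidHom, MulEquiv.symm_apply_apply, hf]
    exact conj_mem_cj_iff.symm
  · exact (isConj_iff.2 ⟨k, rfl⟩).trans (c.trans (isConj_iff.2 ⟨k, by simp [mul_assoc]⟩ : IsConj s⁻¹ _).symm)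

end Cfsg.Lib.JF
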