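import Cfsg.Agent.S5563
import Cfsg.Agent.S5564
import Cfsg.Agent.S5569
import Cfsg.Agent.S5572
import Cfsg.Agent.S5573
import Cfsg.Agent.Lib.Char.Classes

/-! Centralisers of elements of small prime order in groups of Janko-four type. -/

set_option autoImplicit false

namespace Cfsg.Lib.JF

open Subgroup Cfsg.Lib.Amalg Cfsg.Lib.Core

theorem ec_nor {G : Type*} [Group G] (x : G) : centralizer ({x} : Set G) ≤ 𝐍 (zpowers x) :=
  fun g hg => centralizer_le_normalizer _ (by
    rintro _ ⟨n, rfl⟩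
    exact (Commute.zpow_left (mem_centralizer_singleton_iff.1 hg).symm n).eq)

theorem ec_gen {G : Type*} [Group G] [Finite G] {r : ℕ} [Fact r.Prime] (hd : ¬ r * r ∣ Nat.card G) {x y : G} (ox : orderOf x = r)
    (oy : orderOf y = r) : Nat.card (centralizer ({x} : Set G)) ∣ Nat.card (𝐍 (zpowers y)) := by
  have s : Syl r (zpowers y) ⊤ := syl_of_not_dvd le_top (Amalg.isPGroup_zpowers_of_orderOf (k := 1) (by rw [pow_one, oy])) fun d => by
    have c := (zpowers y).index_mul_card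
    rw [relIndex_top_right] at d
    rw [Nat.card_zpowers, oy] at c
    exact hd (c ▸ Nat.mul_dvd_mul_right d r)
  obtain ⟨c, -, l⟩ := s.exists_conj_le (Amalg.isPGroup_zpowers_of_orderOf (k := 1) (by rw [pow_one, ox] : orderOf x = _)) le_top
  have e : zpowers (c * x * c⁻¹) = zpowers y := eq_of_le_of_card_ge (zpowers_le.2 (l (conj_mem_cj c (mem_zpowers x)))) (by
    rw [Nat.card_zpowers, Nat.card_zpowers, oy, ← ox]
    exact (MulAut.conj c).orderOf_eq x ▸ le_rfl)
  rw [Cfsg.Lib.Char.card_centralizer_eq_of_isConj (isConj_iff.2 ⟨c, rfl⟩), ← e]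
  exact card_dvd_of_le (ec_nor _)

theorem e11_cen {G : Type*} [Group G] [Finite G] [IsSimpleGroup G] (hG : ¬ IsMulCommutative G) (hJ : IsOfJankoFourType G) :
    (∀ i : G, orderOf i = 2 → Nat.card (Subgroup.centralizer ({i} : Set G)) ∣ 21799895040) ∧
      ∀ x : G, orderOf x = 3 ∨ orderOf x = 5 ∨ orderOf x = 7 → ¬ 121 ∣ Nat.card (Subgroup.centralizer ({x} : Set G)) := by
  have h3 := Cfsg.Agent.S5564.result hG hJ
  obtain ⟨z, P, hP⟩ := hJ
  have cH := card_H hP
  have ex : ∀ r, r.Prime → r ∣ 21799895040 → ∃ y, orderOf y = r ∧ zpowers y ≤ centralizer ({z} : Set G) := fun r hr d => by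
    have := Fact.mk hr
    obtain ⟨y, hy⟩ := exists_prime_orderOf_dvd_card' r (cH ▸ d)
    exact ⟨y, (orderOf_coe y).trans hy, zpowers_le.2 y.2⟩
  refine ⟨fun i hi => ?_, ?_⟩
  · by_cases c : IsConj z i
    · rw [← Cfsg.Lib.Char.card_centralizer_eq_of_isConj c, cH]
    obtain ⟨V, K, -, k1, k2, -, cV, k3, k4, ⟨e⟩⟩ := Cfsg.Agent.S5569.result hG z ⟨P, hP⟩ i hi c
    have := card_sup_mul_card_inf' (k1.trans k2)
    rw [sup_comm, inf_comm, k3, k4, cV, Nat.card_congr e.toEquiv, card_aut, card_bot, mul_one] at this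
    rw [this]; norm_num
  rintro x (o | o | o) d
  · have := Fact.mk Nat.prime_three
    have cP : Nat.card P = 3 := hP.2.2.2.2.2.1
    obtain ⟨y, hy⟩ := exists_prime_orderOf_dvd_card' (G := P) 3 cP.symm.dvd
    have e : zpowers (y : G) = P := eq_of_le_of_card_ge (zpowers_le.2 y.2) (by rw [Nat.card_zpowers, orderOf_coe, hy, cP])
    rw [Cfsg.Lib.Char.card_centralizer_eq_of_isConj (h3 x y o ((orderOf_coe y).trans hy))] at d
    have := d.trans (card_dvd_of_le ((ec_nor _).trans (e ▸ (Cfsg.Agent.S5563.result hG z P hP).2.2.2.2)))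
    rw [cH] at this
    norm_num at this
  · have := Fact.mk Nat.prime_five
    obtain ⟨y, oy, l⟩ := ex 5 Nat.prime_five (by norm_num)
    obtain ⟨h1, -, -, h2⟩ := Cfsg.Agent.S5572.result hG z ⟨P, hP⟩ (zpowers y) (by rw [Nat.card_zpowers, oy]) l
    have := d.trans (ec_gen h1 o oy)
    rw [h2] at this
    norm_num at this
  · have : Fact (Nat.Prime 7) := ⟨by norm_num⟩
    obtain ⟨y, oy, l⟩ := ex 7 (by norm_num) (by norm_num)
    obtain ⟨h1, -, -, h2⟩ := Cfsg.Agent.S5573.result hG z ⟨P, hP⟩ (zpowers y) (by rw [Nat.card_zpowers, oy]) l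
    have := d.trans (ec_gen h1 o oy)
    rw [h2] at this
    norm_num at this

end Cfsg.Lib.JF
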