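import Cfsg.Agent.Lib.Block2.JE1
import Cfsg.Agent.Lib.Block2.JE2
import Cfsg.Agent.Lib.Block2.JEc
import Cfsg.Agent.Lib.Comp.J4.Ord

/-! The 11-local structure of a group of Janko-four type isomorphic to `J₄`. -/

set_option autoImplicit false

namespace Cfsg.Lib.JE

open Subgroup

variable {G : Type*} [Group G] [Finite G] [IsSimpleGroup G]

theorem e11_data (hG : ¬ IsMulCommutative G) (hJ : IsOfJankoFourType G) (hI : Spor.IsoJ4 G) :
    LOC G ∧ ∃ γ : ℕ → G, EQ γ := by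
  obtain ⟨e⟩ := hI
  obtain ⟨γ, h⟩ := j4_EQ Comp.J4.card_all.2.1
  exact ⟨⟨(Nat.card_congr e.toEquiv).trans Comp.J4.card_all.1, (JF.e11_cen hG hJ).1, (JF.e11_cen hG hJ).2⟩,
    _, h.map e.symm⟩

theorem e11_final (hG : ¬ IsMulCommutative G) (hJ : IsOfJankoFourType G) (hI : Spor.IsoJ4 G) (U : Sylow 11 G) :
    IsExtraspecial 11 (U : Subgroup G) ∧ Nat.card (U : Subgroup G) = 11 ^ 3 ∧ Monoid.exponent (U : Subgroup G) = 11 ∧
    Nat.card (normalizer ((U : Subgroup G) : Set G)) = 2 ^ 4 * 3 * 5 * 11 ^ 3 ∧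
    ∃ K : Subgroup G, K ≤ normalizer ((U : Subgroup G) : Set G) ∧ Nonempty (K ≃* GL (Fin 2) (ZMod 3)) := by
  obtain ⟨L, γ, h⟩ := e11_data hG hJ hI
  exact h.main L U

theorem e11_two (hG : ¬ IsMulCommutative G) (hJ : IsOfJankoFourType G) (hI : Spor.IsoJ4 G) :
    ∃ x y : G, orderOf x = 11 ∧ orderOf y = 11 ∧ ¬ IsConj x y ∧ ∀ w : G, orderOf w = 11 → IsConj w x ∨ IsConj w y := by
  obtain ⟨L, γ, h⟩ := e11_data hG hJ hI
  exact h.two L

end Cfsg.Lib.JE
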