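import Cfsg.Agent.Lib.Golay.Blk
import Cfsg.Agent.Lib.Amalg.Syl

/-! Facts on the two classes of elementary abelian subgroups of order 16 of `M22`. -/

set_option autoImplicit false
set_option maxRecDepth 100000

namespace Cfsg.Lib.JF

open Subgroup Cfsg.Lib.Amalg Cfsg.Lib.Golay Spor

/-- the facts on `M22` used for the local analysis of groups of Janko-four type. -/
structure MF {Γ : Type*} [Group Γ] (M A1 A2 : Subgroup Γ) (t1 t2 t3 t4 a b i g h : Γ) : Prop where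
  card : Nat.card M = 443520
  le1 : A1 ≤ M
  le2 : A2 ≤ M
  c1 : Nat.card A1 = 16
  c2 : Nat.card A2 = 16
  sq1 : ∀ x ∈ A1, x * x = 1
  sq2 : ∀ x ∈ A2, x * x = 1
  gen1 : ∀ X : Subgroup Γ, t1 ∈ X → t2 ∈ X → t3 ∈ X → t4 ∈ X → A1 ≤ X
  m1 : t1 ∈ A1
  m2 : t2 ∈ A1
  m3 : t3 ∈ A1
  m4 : t4 ∈ A1
  n1 : t1 ∈ A2
  n2 : t2 ∈ A2
  ni : i ∈ A2
  ne : t1 ≠ 1 ∧ t2 ≠ 1 ∧ t3 ≠ 1 ∧ t1 * t2 ≠ 1 ∧ t1 * t3 ≠ 1 ∧ t2 * t3 ≠ 1 ∧ t1 * t2 * t3 ≠ 1 ∧ i ≠ 1
  cls : ∀ x ∈ M, x ≠ 1 → x * x = 1 → ∃ k ∈ M, x = k * t1 * k⁻¹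
  ea : ∀ S ≤ M, IsPGroup 2 S → ∃ c ∈ M, ∀ B ≤ S, (∀ x ∈ B, x * x = 1) → 16 ≤ Nat.card B →
    cj c B = A1 ∨ cj c B = A2
  aM : a ∈ M
  bM : b ∈ M
  a3 : a ^ 3 = 1
  b3 : b ^ 3 = 1
  ab : a * b = b * a
  c9 : Nat.card (closure ({a, b} : Set Γ)) = 9
  ia : i * a * i⁻¹ = a⁻¹
  ib : i * b * i⁻¹ = b⁻¹
  na : ∀ x ∈ A1, a * x * a⁻¹ ∈ A1
  nb : ∀ x ∈ A1, b * x * b⁻¹ ∈ A1
  gM : g ∈ M
  hM : h ∈ M
  g1 : g * t1 * g⁻¹ = t1
  g2 : g * t2 * g⁻¹ = t3
  h1 : h * t1 * h⁻¹ = t2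
  h2 : h * t2 * h⁻¹ = t4

def u1 : ℕ := 0x1704130f1508110d140e100b0c090a120607051603020100
def u2 : ℕ := 0x1710070a060c1116090e041208140f0b1513050d03020100
def u3 : ℕ := 0x1713040c160a11060b0e07140f1208090d10051503020100
def u4 : ℕ := 0x171209060a16110c070e0b100d1315040f14050803020100
def ua : ℕ := 0x170815060916030b14050d100c130a12070f0204010e1100
def ub : ℕ := 0x17140409120f110c13050d0b10081606150a0207030e0100
def ui : ℕ := 0x17160709060803100a050d0b0c0f141215130e0411020100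
def ug : ℕ := 0x170a0f0d14150112100e0804160706130b0c020903051100
def uh : ℕ := 0x17040c061207050813010b0f09140a151016030d02110e00
def uj : ℕ := 0x1716130a150b051009030d0812140f0c060711040e020100
def gS : List ℕ := [0x17160f150a0b0510060304080c07131209140e0d11010200,
  0x170d0f130a080e040711100b1206150c0914051603010200, 0x1713040c160a11060b0e07140f1208090d10051503020100]
def gA : List ℕ := [u1, u2, u3, u4]
def gB : List ℕ := [u1, u2, ui, uj]
def gAll : List ℕ := [u1, u2, u3, u4, ua, ub, ui, ug, uh, uj]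

theorem inAll : ∀ g ∈ gAll, gc.InH M22 g := inH_M22 (by decide +kernel)
theorem inS : ∀ g ∈ gS, gc.InH M22 g := inH_M22 (by decide +kernel)
theorem inA : ∀ g ∈ gA, gc.InH M22 g := inH_M22 (by decide +kernel)
theorem inB : ∀ g ∈ gB, gc.InH M22 g := inH_M22 (by decide +kernel)

theorem specA : Nat.card (gc.gen gA) = 16 ∧
    (∀ x ∈ gc.gen gA, ∃ y, gc.Valid y ∧ gc.dec y = x ∧ (Nat.beq (mulN 24 y y) (idN 24)) = true) ∧
    ∀ g ∈ gc.gen [ua, ub], ∀ x ∈ gc.gen gA, g * x * g⁻¹ ∈ gc.gen gA :=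
  Coding.normal_cert (c := gc) (M := 31) (d := 5) (a := 1) (q := fun y => Nat.beq (mulN 24 y y) (idN 24))
    (fun g hg => (inAll g (by simp [gAll] at hg ⊢; tauto)).1) (fun g hg => (inA g hg).1) (by decide +kernel)

theorem specB : Nat.card (gc.gen gB) = 16 ∧
    (∀ x ∈ gc.gen gB, ∃ y, gc.Valid y ∧ gc.dec y = x ∧ (Nat.beq (mulN 24 y y) (idN 24)) = true) ∧
    ∀ g ∈ gc.gen [], ∀ x ∈ gc.gen gB, g * x * g⁻¹ ∈ gc.gen gB :=
  Coding.normal_cert (c := gc) (M := 31) (d := 5) (a := 1) (q := fun y => Nat.beq (mulN 24 y y) (idN 24))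
    (fun g hg => by simp at hg) (fun g hg => (inB g hg).1) (by decide +kernel)

theorem cardS : Nat.card (gc.gen gS) = 128 :=
  Coding.card_gen (c := gc) (M := 251) (d := 8) (a := 4) (fun g hg => (inS g hg).1) (by decide +kernel)

theorem card9 : Nat.card (gc.gen [ua, ub]) = 9 :=
  Coding.card_gen (c := gc) (M := 31) (d := 5) (a := 1)
    (fun g hg => (inAll g (by simp [gAll] at hg ⊢; tauto)).1) (by decide +kernel)

theorem chkS : bfsH 31 5 (mapL (mulN gc.n) gA) 1 (idN gc.n) (fun mA _ =>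
    bfsH 31 5 (mapL (mulN gc.n) gB) 1 (idN gc.n) (fun mB _ =>
      bfsH 251 8 (mapL (mulN gc.n) gS) 4 (idN gc.n) (fun _ L => allL L fun y =>
        bor (mA y) (bor (mB y) (bor (bnot (Nat.beq (mulN 24 y y) (idN 24)))
          (Nat.ble (countL L fun s => band (Nat.beq (mulN 24 s s) (idN 24)) (Nat.beq (mulN 24 s y) (mulN 24 y s))) 15)))))) = true := by
  decide +kernel

theorem sq_of {y : ℕ} (hy : gc.Valid y) : gc.dec y * gc.dec y = 1 ↔ mulN 24 y y = idN 24 := by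
  rw [← hy.dec_mul hy, ← Coding.dec_one, (hy.mul hy).dec_inj Coding.valid_one]; rfl

theorem eaS {B : Subgroup (Equiv.Perm GolayPt)} (hB : B ≤ gc.gen gS) (h2 : ∀ x ∈ B, x * x = 1)
    (hc : 16 ≤ Nat.card B) : B = gc.gen gA ∨ B = gc.gen gB := by
  obtain ⟨mA, -, -, k1, -, hA⟩ := Coding.enum_gen (fun g hg => (inA g hg).1) chkS
  obtain ⟨mB, -, -, k2, -, hB'⟩ := Coding.enum_gen (fun g hg => (inB g hg).1) k1
  obtain ⟨-, t, L, k3, hE, -⟩ := Coding.enum_gen (fun g hg => (inS g hg).1) k2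
  have key : ∀ x ∈ B, x ∈ gc.gen gA ∨ x ∈ gc.gen gB := by
    intro x hx
    obtain ⟨y, hy, rfl⟩ := hE.surj x (hB hx)
    have v : gc.Valid y := hE.valid y hy
    have := allL_iff.1 k3 y hy
    simp only [bor_eq, Bool.or_eq_true] at this
    rcases this with e | e | e | e
    · exact Or.inl ((hA y v).1 e)
    · exact Or.inr ((hB' y v).1 e)
    · exfalso
      have := (sq_of v).1 (h2 _ hx)
      rw [this] at e
      revert e; simp [bnot]
    · exfalso
      rw [ble_iff, ← hE.ncard_filter (fun s => s * s = 1 ∧ s * gc.dec y = gc.dec y * s)] at e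
      · have : (B : Set (Equiv.Perm GolayPt)) ⊆ {s | s ∈ (gc.gen gS : Set (Equiv.Perm GolayPt)) ∧
            s * s = 1 ∧ s * gc.dec y = gc.dec y * s} := fun s hs => ⟨hB hs, h2 s hs, by
          have e1 := h2 _ (B.mul_mem hs hx)
          have e2 := h2 s hs
          have e3 := h2 _ hx
          change gc.dec y * gc.dec y = 1 at e3
          change s * gc.dec y * (s * gc.dec y) = 1 at e1
          calc s * gc.dec y = s * (s * gc.dec y * (s * gc.dec y)) * gc.dec y := by rw [e1, mul_one]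
            _ = (s * s) * gc.dec y * s * (gc.dec y * gc.dec y) := by group
            _ = _ := by rw [e2, e3]; group⟩
        have := Set.ncard_le_ncard this
        rw [← Nat.card_coe_set_eq] at this
        change Nat.card B ≤ _ at this
        omega
      · intro s hs
        have hs : gc.Valid s := hs
        change gc.dec s * gc.dec s = 1 ∧ gc.dec s * gc.dec y = gc.dec y * gc.dec s ↔ _
        rw [band_iff, beq_iff, beq_iff, sq_of hs, ← hs.dec_mul v, ← v.dec_mul hs, (hs.mul v).dec_inj (v.mul hs)]; rfl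
  have : B ≤ gc.gen gA ∨ B ≤ gc.gen gB := by
    by_contra hn
    push Not at hn
    obtain ⟨x, hx, x1⟩ := SetLike.not_le_iff_exists.1 hn.1
    obtain ⟨y, hy, y1⟩ := SetLike.not_le_iff_exists.1 hn.2
    have x2 := (key x hx).resolve_left x1
    have y2 := (key y hy).resolve_right y1
    rcases key _ (B.mul_mem hx hy) with e | e
    · exact x1 ((mul_mem_cancel_right y2).1 e)
    · exact y1 ((mul_mem_cancel_left x2).1 e)
  rcases this with e | e
  · exact Or.inl (eq_of_le_of_card_ge e (by rw [specA.1]; exact hc))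
  · exact Or.inr (eq_of_le_of_card_ge e (by rw [specB.1]; exact hc))

theorem vAll {g : ℕ} (h : g ∈ gAll) : gc.Valid g := (inAll g h).1

theorem cj_eq {g x y : ℕ} (hg : g ∈ gAll) (hx : x ∈ gAll) (e : conjN 24 g x = y) :
    gc.dec g * gc.dec x * (gc.dec g)⁻¹ = gc.dec y := by
  rw [← ((vAll hg).conj (vAll hx)).2, ← e]; rfl

theorem ne_of {x : ℕ} (hx : gc.Valid x) (e : x ≠ idN 24) : gc.dec x ≠ 1 := by
  rw [← Coding.dec_one, Ne, hx.dec_inj Coding.valid_one]; exact e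

theorem mf : MF M22 (gc.gen gA) (gc.gen gB) (gc.dec u1) (gc.dec u2) (gc.dec u3) (gc.dec u4) (gc.dec ua)
    (gc.dec ub) (gc.dec ui) (gc.dec ug) (gc.dec uh) := by
  have v1 : gc.Valid u1 := vAll (by simp [gAll])
  have v2 : gc.Valid u2 := vAll (by simp [gAll])
  have v3 : gc.Valid u3 := vAll (by simp [gAll])
  have va : gc.Valid ua := vAll (by simp [gAll])
  have vb : gc.Valid ub := vAll (by simp [gAll])
  have vi : gc.Valid ui := vAll (by simp [gAll])
  have mA := fun g hg => (Coding.inH_gen (fun g hg => (inA g hg).1) g hg).2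
  have mB := fun g hg => (Coding.inH_gen (fun g hg => (inB g hg).1) g hg).2
  have m9 := fun g hg => (Coding.inH_gen (c := gc) (gs := [ua, ub])
    (fun g hg => (inAll g (by simp [gAll] at hg ⊢; tauto)).1) g hg).2
  have : Fact (Nat.Prime 2) := ⟨Nat.prime_two⟩
  refine ⟨card_M22, Coding.gen_le inA, Coding.gen_le inB, specA.1, specB.1, fun x hx => ?_, fun x hx => ?_,
    fun X h1 h2 h3 h4 => Coding.gen_le fun g hg => ⟨(inA g hg).1, ?_⟩, mA _ (by simp [gA]), mA _ (by simp [gA]),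
    mA _ (by simp [gA]), mA _ (by simp [gA]), mB _ (by simp [gB]), mB _ (by simp [gB]), mB _ (by simp [gB]),
    ⟨ne_of v1 (by decide +kernel), ne_of v2 (by decide +kernel), ne_of v3 (by decide +kernel), ?_, ?_, ?_, ?_,
      ne_of vi (by decide +kernel)⟩, fun x hx h1 h2 => M22_invol hx (orderOf_eq_prime (by rw [pow_two, h2]) h1),
    fun S hS hp => ?_, (inAll _ (by simp [gAll])).2, (inAll _ (by simp [gAll])).2,
    (va.pow_eq_one_iff 3).2 (by decide +kernel), (vb.pow_eq_one_iff 3).2 (by decide +kernel), ?_, ?_, ?_, ?_,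
    specA.2.2 _ (m9 _ (by simp)), specA.2.2 _ (m9 _ (by simp)), (inAll _ (by simp [gAll])).2,
    (inAll _ (by simp [gAll])).2, cj_eq (by simp [gAll]) (by simp [gAll]) (by decide +kernel),
    cj_eq (by simp [gAll]) (by simp [gAll]) (by decide +kernel),
    cj_eq (by simp [gAll]) (by simp [gAll]) (by decide +kernel),
    cj_eq (by simp [gAll]) (by simp [gAll]) (by decide +kernel)⟩
  · obtain ⟨y, hy, rfl, e⟩ := specA.2.1 x hx
    exact (sq_of hy).2 (beq_iff.1 e)
  · obtain ⟨y, hy, rfl, e⟩ := specB.2.1 x hx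
    exact (sq_of hy).2 (beq_iff.1 e)
  · simp only [gA, List.mem_cons, List.not_mem_nil, or_false] at hg
    rcases hg with rfl | rfl | rfl | rfl <;> assumption
  · rw [← v1.dec_mul v2]; exact ne_of (v1.mul v2) (by decide +kernel)
  · rw [← v1.dec_mul v3]; exact ne_of (v1.mul v3) (by decide +kernel)
  · rw [← v2.dec_mul v3]; exact ne_of (v2.mul v3) (by decide +kernel)
  · rw [← v1.dec_mul v2, ← (v1.mul v2).dec_mul v3]; exact ne_of ((v1.mul v2).mul v3) (by decide +kernel)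
  · have hT : Syl 2 (gc.gen gS) M22 := by
      refine syl_of_not_dvd (Coding.gen_le inS) (IsPGroup.of_card (n := 7) cardS) ?_
      have := Cfsg.Lib.Core.card_inf_mul_relIndex (gc.gen gS) M22
      rw [inf_of_le_left (Coding.gen_le inS), cardS, card_M22] at this
      omega
    obtain ⟨c, hc, e⟩ := hT.exists_conj_le hp hS
    refine ⟨c, hc, fun B hB h2 h16 => eaS ((cj_mono c hB).trans e) (fun x hx => ?_) (by rwa [card_cj])⟩
    obtain ⟨y, hy, rfl⟩ := mem_cj'.1 hx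
    rw [conj_mul, h2 y hy]; group
  · rw [← va.dec_mul vb, ← vb.dec_mul va, (va.mul vb).dec_inj (vb.mul va)]; decide +kernel
  · rw [← card9, show ({gc.dec ua, gc.dec ub} : Set (Equiv.Perm GolayPt)) = {σ | ∃ g ∈ [ua, ub], gc.dec g = σ} from
      Set.ext fun x => by simp [eq_comm]]
    rfl
  · rw [← va.inv.2]; exact cj_eq (by simp [gAll]) (by simp [gAll]) (by decide +kernel)
  · rw [← vb.inv.2]; exact cj_eq (by simp [gAll]) (by simp [gAll]) (by decide +kernel)

end Cfsg.Lib.JF
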