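import Cfsg.Agent.Lib.Block2.JF2

/-! Groups `2^{1+12}.3.M22.2`: the hexad and the duad subgroup. -/

set_option autoImplicit false

namespace Cfsg.Lib.JF

open Subgroup Cfsg.Lib.Amalg Cfsg.Lib.Core Cfsg.Lib.Known2
open scoped commutatorElement

variable {G Γ : Type*} [Group G] [Group Γ] {E : Subgroup G} {z p : G} {M : Subgroup Γ} {φ : KK z p →* Γ}
  {A1 A2 : Subgroup Γ} {t1 t2 t3 t4 a b i g f : Γ}

theorem comm_of_sq {H : Type*} [Group H] {B : Subgroup H} (h : ∀ x ∈ B, x * x = 1) {x y : H} (hx : x ∈ B) (hy : y ∈ B) :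
    x * y = y * x := by
  calc x * y = x * (x * y * (x * y)) * y := by rw [h _ (B.mul_mem hx hy), mul_one]
    _ = (x * x) * y * x * (y * y) := by group
    _ = _ := by rw [h x hx, h y hy]; group

namespace JS
variable (h : JS E z p M φ)
include h

theorem quo {k k' : G} {m : Γ} (l : L φ k m) (l' : L φ k' m) : L φ (k⁻¹ * k') 1 := (l.inv.mul l').of_eq (by group)

theorem six_eq {k k' : G} {m : Γ} (l : L φ k m) (l' : L φ k' m) : k' ^ 6 = k ^ 6 := by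
  have q := h.quo l l'
  rw [show k' = k * (k⁻¹ * k') by group, Commute.mul_pow (h.ker_comm q l).symm, h.ker_six q, mul_one]

theorem cm2 {w w' : G} {m m' : Γ} (l : L φ w m) (l' : L φ w' m') (c : m * m' = m' * m) (e : w * w = 1 ∨ w * w = z) :
    w * w' = w' * w ∨ w * w' = w' * w * z := by
  have q : L φ (w'⁻¹ * (w * w' * w⁻¹)) 1 := (l'.inv.mul (l.cnj l')).of_eq (by rw [c]; group)
  obtain ⟨u, hu⟩ : ∃ u, u = w'⁻¹ * (w * w' * w⁻¹) := ⟨_, rfl⟩
  rw [← hu] at q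
  have e1 : w * w' * w⁻¹ = w' * u := by rw [hu]; group
  have e2 : w * u * w⁻¹ = u := conj_eq_of_comm (h.ker_comm q l).symm
  have e3 : (w * w) * w' * (w * w)⁻¹ = w' := by
    rcases e with e | e <;> rw [e]
    · group
    · exact conj_eq_of_comm l'.kz.symm
  have e4 : u * u = 1 := by
    have : (w * w) * w' * (w * w)⁻¹ = w' * (u * u) := by
      rw [show (w * w) * w' * (w * w)⁻¹ = w * (w * w' * w⁻¹) * w⁻¹ by group, e1, ← conj_mul, e1, e2, mul_assoc]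
    rw [e3] at this
    simpa using this.symm
  have e5 : w * w' = w' * u * w := by rw [← e1]; group
  rcases h.ker_two q e4 with r | r <;> rw [e5, r]
  · left; group
  · right; rw [mul_assoc, mul_assoc, l.kz]

theorem lift_eq {k k' : G} {m : Γ} (l : L φ k m) (l' : L φ k' m) (e : k * k = 1) (e' : k' * k' = 1) :
    k' = k ∨ k' = k * z := by
  have q := h.quo l l'
  have c := h.ker_comm q l
  have : (k⁻¹ * k') * (k⁻¹ * k') = 1 := by
    have : k' * k' = k * k * ((k⁻¹ * k') * (k⁻¹ * k')) := by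
      calc k' * k' = k * ((k⁻¹ * k') * k) * (k⁻¹ * k') := by group
        _ = _ := by rw [c]; group
    rwa [e, e', one_mul, eq_comm] at this
  rcases h.ker_two q this with r | r
  · left; exact (inv_mul_eq_one.1 r).symm
  · right; rw [← r]; group

theorem Cm_one {k : G} {m : Γ} (l : L φ k m) (e : k * k = 1) : Cm E φ {m} = E ⊓ centralizer {k} := by
  ext x
  rw [mem_Cm, mem_inf, mem_cent_single]
  refine and_congr_right fun hx => ⟨fun H => (H k m rfl l e).symm, fun H k' m' hm l' e' => ?_⟩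
  rcases h.lift_eq l (l'.of_eq hm) e e' with rfl | rfl
  · exact H.symm
  · rw [mul_assoc, ← h.es.cen x hx, ← mul_assoc, ← H, mul_assoc]

theorem z_Cm {B : Set Γ} : z ∈ Cm E φ B := mem_Cm.2 ⟨h.es.mem, fun _ _ _ l _ => l.kz⟩

theorem Cm_cj {B B' : Set Γ} {k : G} {m : Γ} (l : L φ k m) (hB : ∀ y ∈ B', m⁻¹ * y * m ∈ B) {x : G}
    (hx : x ∈ Cm E φ B) : k * x * k⁻¹ ∈ Cm E φ B' := by
  refine mem_Cm.2 ⟨h.nm l hx.1, fun w y hy l' e => ?_⟩
  have := (mem_Cm.1 hx).2 (k⁻¹ * w * k⁻¹⁻¹) _ (hB y hy) ((l.inv.cnj l').of_eq (by group)) (by rw [conj_mul, e]; group)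
  calc w * (k * x * k⁻¹) = k * ((k⁻¹ * w * k⁻¹⁻¹) * x) * k⁻¹ := by group
    _ = _ := by rw [this]; group

theorem Cm_p {B : Set Γ} {x : G} (hx : x ∈ Cm E φ B) : p * x * p⁻¹ ∈ Cm E φ B :=
  h.Cm_cj h.Lp (by simp) hx

theorem cj_Cm {B B' : Set Γ} {k : G} {m : Γ} (l : L φ k m) (hB : ∀ y, y ∈ B' ↔ m⁻¹ * y * m ∈ B) :
    cj k (Cm E φ B) = Cm E φ B' := by
  refine le_antisymm (cj_le_iff'.2 fun x hx => h.Cm_cj l (fun y => (hB y).1) hx) fun x hx => mem_cj.2 ?_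
  simpa using h.Cm_cj (B' := B) l.inv (fun y hy => (hB _).2 (by simpa [mul_assoc] using hy)) hx

variable (F : MF M A1 A2 t1 t2 t3 t4 a b i g f)
include F

theorem six {k : G} {m : Γ} (l : L φ k m) (e : m * m = 1) : k ^ 6 = 1 := by
  by_cases m1 : m = 1
  · exact h.ker_six (l.of_eq m1)
  obtain ⟨k1, l1⟩ := h.ex (F.le1 F.m1)
  have tr : ∀ k m, L φ k m → m * m = 1 → m ≠ 1 → (k ^ 6 = 1 ↔ k1 ^ 6 = 1) := fun k m l e n => by
    obtain ⟨c, hc, rfl⟩ := F.cls m (h.mem l) n e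
    obtain ⟨d, ld⟩ := h.ex hc
    rw [h.six_eq (ld.cnj l1) l, conj_pow]; simp
  refine (tr k m l e m1).2 ?_
  by_contra n
  have sq : ∀ w m, L φ w m → m ∈ A1 → m ≠ 1 → w * w ≠ 1 := fun w m l hm n1 e =>
    n ((tr w m l (F.sq1 m hm) n1).1 (by rw [show 6 = 2 * 3 from rfl, pow_mul, pow_two, e, one_pow]))
  have ex : ∀ m ∈ A1, m ≠ 1 → ∃ w, L φ w m ∧ w * w = z := fun m hm n1 => by
    obtain ⟨k, l⟩ := h.ex (F.le1 hm)
    have l3 : L φ (k ^ 3) m := (l.pow 3).of_eq (by rw [pow_succ, pow_two, F.sq1 m hm, one_mul])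
    refine ⟨_, l3, (h.ker_two ((l3.mul l3).of_eq (F.sq1 m hm)) ?_).resolve_left (sq _ m l3 hm n1)⟩
    rw [← h.ker_six ((l.mul l).of_eq (F.sq1 m hm)), ← pow_two k, ← pow_mul, ← pow_add, ← pow_add]
  have an : ∀ w m w' m', L φ w m → L φ w' m' → m ∈ A1 → m' ∈ A1 → m * m' ≠ 1 → w * w = z → w' * w' = z →
      w * w' = w' * w * z := fun w m w' m' l l' hm hm' n e e' => by
    refine (h.cm2 l l' (comm_of_sq F.sq1 hm hm') (Or.inr e)).resolve_left fun c => sq _ _ (l.mul l') (mul_mem hm hm') n ?_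
    rw [mul_assoc, ← mul_assoc w', ← c, mul_assoc, ← mul_assoc, e, e', h.es.sq]
  obtain ⟨n1, n2, n3, n12, n13, n23, n123, -⟩ := F.ne
  obtain ⟨w1, a1, e1⟩ := ex _ F.m1 n1
  obtain ⟨w2, a2, e2⟩ := ex _ F.m2 n2
  obtain ⟨w3, a3, e3⟩ := ex _ F.m3 n3
  have c12 := an _ _ _ _ a1 a2 F.m1 F.m2 n12 e1 e2
  have c13 := an _ _ _ _ a1 a3 F.m1 F.m3 n13 e1 e3
  have c23 := an _ _ _ _ a2 a3 F.m2 F.m3 n23 e2 e3
  refine sq _ _ ((a1.mul a2).mul a3) (mul_mem (mul_mem F.m1 F.m2) F.m3) n123 ?_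
  have d : w1 * w2 * w3 = w3 * (w1 * w2) := by
    calc w1 * w2 * w3 = w1 * w3 * (w2 * z) := by rw [mul_assoc, c23]; group
      _ = w3 * w1 * (z * z) * w2 := by rw [c13, a2.kz]; group
      _ = _ := by rw [h.es.sq]; group
  calc w1 * w2 * w3 * (w1 * w2 * w3) = w1 * (w2 * (w3 * (w1 * w2))) * w3 := by group
    _ = w1 * (w2 * w1) * w2 * (w3 * w3) := by rw [← d]; group
    _ = w1 * (w2 * w1 * z) * w2 := by rw [e3, mul_assoc _ w2 z, a2.kz]; group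
    _ = 1 := by rw [← c12, ← mul_assoc, e1, mul_assoc, e2, h.es.sq]

theorem lift2 {m : Γ} (hm : m ∈ M) (e : m * m = 1) : ∃ k, L φ k m ∧ k * k = 1 := by
  obtain ⟨k, l⟩ := h.ex hm
  exact ⟨k ^ 3, (l.pow 3).of_eq (by rw [pow_succ, pow_two, e, one_mul]), by rw [← h.six F l e]; group⟩

theorem comm2 {k k' : G} {m m' : Γ} (l : L φ k m) (l' : L φ k' m') (e : k * k = 1) (e' : k' * k' = 1)
    (c : m * m' = m' * m) : k * k' = k' * k := by
  refine (h.cm2 l l' c (Or.inl e)).resolve_right fun a => h.es.ne ?_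
  have s : m * m = 1 := (l.mul l).uniq (e ▸ L.one)
  have s' : m' * m' = 1 := (l'.mul l').uniq (e' ▸ L.one)
  have := h.six F (l.mul l') (by rw [mul_assoc, ← mul_assoc m', ← c, mul_assoc, ← mul_assoc, s, s', mul_one])
  have q : (k * k') ^ 2 = z := by
    calc (k * k') ^ 2 = (k * k') * (k' * k * z) := by rw [pow_two, ← a]
      _ = k * (k' * k') * k * z := by group
      _ = z := by rw [e', mul_one, e, one_mul]
  rwa [show 6 = 2 * 3 from rfl, pow_mul, q, pow_succ, pow_two, h.es.sq, one_mul] at this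

/-- the involution lifts of an elementary abelian group form a group. -/
theorem exists_hat {B : Subgroup Γ} (hB : ∀ x ∈ B, x * x = 1) : ∃ A : Subgroup G, ∀ k, k ∈ A ↔ k ∈ hat φ B :=
  ⟨{ carrier := hat φ B
     one_mem' := ⟨⟨1, one_mem _, L.one⟩, one_mul _⟩
     mul_mem' := fun {x y} ⟨⟨m, hm, l⟩, e⟩ ⟨⟨m', hm', l'⟩, e'⟩ => ⟨⟨_, B.mul_mem hm hm', l.mul l'⟩, by
       rw [mul_assoc, ← mul_assoc y, ← h.comm2 F l l' e e' (comm_of_sq hB hm hm'), mul_assoc, ← mul_assoc, e, e', mul_one]⟩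
     inv_mem' := fun {x} ⟨⟨m, hm, l⟩, e⟩ => ⟨⟨_, B.inv_mem hm, l.inv⟩, by rw [← mul_inv_rev, e, inv_one]⟩ },
    fun _ => Iff.rfl⟩

theorem mem_Cm1 {k1 k2 k3 k4 x : G} (l1 : L φ k1 t1) (l2 : L φ k2 t2) (l3 : L φ k3 t3) (l4 : L φ k4 t4)
    (e1 : k1 * k1 = 1) (e2 : k2 * k2 = 1) (e3 : k3 * k3 = 1) (e4 : k4 * k4 = 1) (hx : x ∈ E)
    (c1 : k1 * x = x * k1) (c2 : k2 * x = x * k2) (c3 : k3 * x = x * k3) (c4 : k4 * x = x * k4) :
    x ∈ Cm E φ A1 := by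
  obtain ⟨A, hA⟩ := h.exists_hat F F.sq1
  have mk : ∀ k m, m ∈ A1 → L φ k m → k * k = 1 → k * x = x * k → m ∈ img φ (A ⊓ centralizer {x}) :=
    fun k m hm l e c => mem_img.2 ⟨k, ⟨(hA k).2 ⟨⟨m, hm, l⟩, e⟩, mem_cent_single.2 c⟩, l⟩
  refine mem_Cm.2 ⟨hx, fun k m hm l e => ?_⟩
  obtain ⟨w, hw, l'⟩ := mem_img.1 (F.gen1 _ (mk _ _ F.m1 l1 e1 c1) (mk _ _ F.m2 l2 e2 c2) (mk _ _ F.m3 l3 e3 c3)
    (mk _ _ F.m4 l4 e4 c4) hm)
  have : x ∈ Cm E φ {m} := by rw [h.Cm_one l' ((hA w).1 hw.1).2]; exact ⟨hx, mem_cent_single.2 (mem_cent_single.1 hw.2).symm⟩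
  exact (mem_Cm.1 this).2 k m rfl l e

theorem fpt {X : Subgroup G} (hX : X ≤ E) (hn : ∀ k ∈ hat φ A1, ∀ x ∈ X, k * x * k⁻¹ ∈ X)
    (hx : ∃ x ∈ X, x ≠ 1 ∧ x ≠ z) : ∃ x ∈ X ⊓ Cm E φ A1, x ≠ 1 ∧ x ≠ z := by
  obtain ⟨k1, l1, e1⟩ := h.lift2 F (F.le1 F.m1) (F.sq1 _ F.m1)
  obtain ⟨k2, l2, e2⟩ := h.lift2 F (F.le1 F.m2) (F.sq1 _ F.m2)
  obtain ⟨k3, l3, e3⟩ := h.lift2 F (F.le1 F.m3) (F.sq1 _ F.m3)
  obtain ⟨k4, l4, e4⟩ := h.lift2 F (F.le1 F.m4) (F.sq1 _ F.m4)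
  have st : ∀ (Y : Subgroup G) k m, m ∈ A1 → L φ k m → k * k = 1 → (∀ k ∈ hat φ A1, ∀ x ∈ Y, k * x * k⁻¹ ∈ Y) →
      ∀ w ∈ hat φ A1, ∀ x ∈ Y ⊓ centralizer {k}, w * x * w⁻¹ ∈ Y ⊓ centralizer {k} := by
    rintro Y k m hm l e hY w hw x hx
    refine ⟨hY w hw x hx.1, ?_⟩
    obtain ⟨⟨m', hm', l'⟩, e'⟩ := hw
    have : w ∈ centralizer {k} := mem_cent_single.2 (h.comm2 F l' l e' e (comm_of_sq F.sq1 hm' hm))
    exact (centralizer {k}).mul_mem ((centralizer {k}).mul_mem this hx.2) ((centralizer {k}).inv_mem this)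
  have n1 := st X _ _ F.m1 l1 e1 hn
  have n2 := st _ _ _ F.m2 l2 e2 n1
  have n3 := st _ _ _ F.m3 l3 e3 n2
  have s1 := h.step hX l1 e1 (hn _ ⟨⟨_, F.m1, l1⟩, e1⟩) hx
  have s2 := h.step (inf_le_left.trans hX) l2 e2 (n1 _ ⟨⟨_, F.m2, l2⟩, e2⟩) s1
  have s3 := h.step (inf_le_left.trans (inf_le_left.trans hX)) l3 e3 (n2 _ ⟨⟨_, F.m3, l3⟩, e3⟩) s2
  obtain ⟨x, ⟨⟨⟨⟨hx, c1⟩, c2⟩, c3⟩, c4⟩, n⟩ := h.step (inf_le_left.trans (inf_le_left.trans (inf_le_left.trans hX))) l4 e4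
    (n3 _ ⟨⟨_, F.m4, l4⟩, e4⟩) s3
  exact ⟨x, ⟨hx, h.mem_Cm1 F l1 l2 l3 l4 e1 e2 e3 e4 (hX hx) (mem_cent_single.1 c1).symm (mem_cent_single.1 c2).symm
    (mem_cent_single.1 c3).symm (mem_cent_single.1 c4).symm⟩, n⟩

variable [Finite G]

theorem exR : ∃ R : Subgroup G, (∀ r ∈ R, ∃ m ∈ closure ({a, b} : Set Γ), L φ r m) ∧ Nat.card R = 27 ∧ p ∈ R ∧
    ¬ ∀ r ∈ R, ∀ s ∈ R, r * s = s * r := by
  have : Fact (Nat.Prime 3) := ⟨Nat.prime_three⟩
  let X : Subgroup (KK z p) := (closure ({a, b} : Set Γ)).comap φ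
  have iX : X.index = 49280 := by
    have := card_inf_mul_relIndex (closure ({a, b} : Set Γ)) M
    rw [inf_of_le_left ((closure_le _).2 (by rintro _ (rfl | rfl); exacts [F.aM, F.bM])), F.c9, F.card] at this
    rw [index_comap, h.rng]; omega
  let q : KK z p := ⟨p, h.Lp.1⟩
  have hq : φ q = 1 := h.Lp.2
  obtain ⟨R, hR, hp⟩ := exists_syl_ge (p := 3) (P := zpowers q) (H := X)
    (isPGroup_zpowers_of_pow (k := 1) (Subtype.ext (by simpa using h.p3))) (zpowers_le.2 (by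
      change φ q ∈ Subgroup.closure _; rw [hq]; exact one_mem _))
  have hR' : Syl 3 R ⊤ := hR.of_le_of_not_dvd le_top (by rw [relIndex_top_right, iX]; norm_num)
  have cR : Nat.card R = 27 := by
    rw [hR'.card_eq_pow, card_top, h.cK, show 2661120 = 3 ^ 3 * 98560 from rfl, Nat.factorization_mul (by norm_num) (by norm_num),
      Nat.Prime.factorization_pow Nat.prime_three]
    simp [Nat.factorization_eq_zero_of_not_dvd (show ¬ 3 ∣ 98560 by norm_num)]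
  refine ⟨R.map (KK z p).subtype, ?_, by rw [card_map_subtype, cR], ⟨q, hp (mem_zpowers q), rfl⟩, fun c => ?_⟩
  · rintro _ ⟨r, hr, rfl⟩
    exact ⟨_, hR.le hr, r.2, rfl⟩
  · have e : ⁅R, R⁆ = ⊥ := commutator_eq_bot_iff_le_centralizer.2 fun r hr s hs =>
      Subtype.ext (c _ ⟨s, hs, rfl⟩ _ ⟨r, hr, rfl⟩)
    have := Cfsg.Lib.Transfer.inf_commutator_inf_center_le R (by
      have := R.card_mul_index
      rw [cR, h.cK] at this
      rw [e, relIndex_bot_left, cR, show R.index = 98560 by omega]; norm_num)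
      (show q ∈ R ⊓ commutator _ ⊓ center _ from ⟨⟨hp (mem_zpowers q), by
        have := h.com
        rw [← map_subtype_commutator] at this
        obtain ⟨y, hy, e⟩ := this
        rwa [show q = y from Subtype.ext e.symm]⟩, mem_center_iff.2 fun y => Subtype.ext (mem_KK.1 y.2).2⟩)
    rw [e, mem_bot] at this
    exact h.p1 (congrArg Subtype.val this)

theorem nc {x y w : G} (lx : L φ x a) (ly : L φ y b) (hw : w ∈ E) (cx : x * w = w * x) (cy : y * w = w * y) :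
    w = 1 ∨ w = z := by
  have lc : L φ (x * y * x⁻¹ * y⁻¹) 1 := ((lx.cnj ly).mul ly.inv).of_eq (by rw [F.ab]; group)
  obtain ⟨d, hd, e⟩ := h.Lker lc
  have cw : x * y * x⁻¹ * y⁻¹ ∈ centralizer {w} := by
    have := mem_cent_single.2 cx
    have := mem_cent_single.2 cy
    exact mul_mem (mul_mem (mul_mem ‹_› ‹_›) (inv_mem ‹_›)) (inv_mem ‹_›)
  have dw : d ∈ centralizer {w} := by
    rcases e with e | e <;> rw [e] at cw
    · exact cw
    · exact (mul_mem_cancel_right (mem_cent_single.2 (h.es.cen w hw).symm)).1 cw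
  rcases h.zp hd with rfl | rfl | rfl
  · exfalso
    obtain ⟨R, hR, cR, -, nR⟩ := h.exR F
    have gc : ∀ u m0 x y, L φ u m0 → L φ x a → L φ y b → x * u = u * x → y * u = u * y → ∀ r ∈ R, r * u = u * r :=
      fun u m0 x y lu lx ly cx cy r hr => by
        obtain ⟨m, hm, lr⟩ := hR r hr
        obtain ⟨w, hw, lw⟩ := mem_img.1 ((closure_le (img φ (centralizer {u}))).2 (by
          rintro _ (rfl | rfl)
          exacts [mem_img.2 ⟨x, mem_cent_single.2 cx, lx⟩, mem_img.2 ⟨y, mem_cent_single.2 cy, ly⟩]) hm)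
        have := mul_mem hw (mem_cent_single.2 (h.ker_comm (h.quo lw lr) lu))
        exact mem_cent_single.1 (by simpa using this)
    have l4 : L φ (x ^ 4) a := (lx.pow 4).of_eq (by rw [pow_succ, F.a3, one_mul])
    have c2 : Commute (x ^ 2) y := by
      have e' : x * y * x⁻¹ = y ∨ x * y * x⁻¹ = y * z := by
        rcases e with e | e
        · left; exact mul_inv_eq_one.1 e
        · right; rw [ly.kz, ← one_mul z, ← e]; group
      apply comm_of_conj_eq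
      rw [show x ^ 2 * y * (x ^ 2)⁻¹ = x * (x * y * x⁻¹) * x⁻¹ by rw [pow_two]; group]
      rcases e' with e' | e' <;> rw [e']
      · exact e'
      · rw [cjz lx.kz, e', mul_assoc, h.es.sq, mul_one]
    have c4 : x ^ 4 * y = y * x ^ 4 := by rw [show 4 = 2 * 2 from rfl, pow_mul]; exact c2.pow_left 2
    refine nR fun r hr s hs => ?_
    obtain ⟨m, -, lr⟩ := hR r hr
    exact (gc r m _ _ lr l4 ly (gc _ _ _ _ l4 l4 ly rfl c4.symm r hr).symm (gc _ _ _ _ ly l4 ly c4 rfl r hr).symm s hs).symm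
  · exact h.fp w hw (mem_cent_single.1 dw)
  · exact h.fp w hw (mem_cent_single.1 (by simpa using dw))

theorem nine {X : Subgroup G} (hX : X ≤ E) (hz : z ∈ X)
    (hn : ∀ r m, m ∈ closure ({a, b} : Set Γ) → L φ r m → ∀ x ∈ X, r * x * r⁻¹ ∈ X) :
    Nat.card X = 2 ∨ Nat.card X = 2 ^ 7 ∨ Nat.card X = 2 ^ 13 := by
  have : Fact (Nat.Prime 3) := ⟨Nat.prime_three⟩
  obtain ⟨R, hR, cR, pR, nR⟩ := h.exR F
  obtain ⟨r, e⟩ := h.card_mod (P := R) (n := 9) hz (fun g hg => by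
    obtain ⟨m, hm, l⟩ := hR g hg
    exact hn g m hm l) (fun g hg => by obtain ⟨m, -, l⟩ := hR g hg; exact l.kz) fun x hx n1 n2 => by
      have c := card_inf_mul_relIndex (centralizer {x}) R
      have np : p ∉ centralizer {x} ⊓ R := fun k => by
        rcases h.fp x (hX hx) (mem_cent_single.1 k.1) with e | e <;> contradiction
      obtain ⟨S, hS⟩ : ∃ S, S = centralizer {x} ⊓ R := ⟨_, rfl⟩
      rw [← hS, cR] at c
      rw [← hS] at np
      have SR : S ≤ R := hS ▸ inf_le_right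
      obtain ⟨k, hk, e⟩ := (Nat.dvd_prime_pow Nat.prime_three (m := 3)).1 (Dvd.intro _ c)
      rw [e] at c
      interval_cases k
      · omega
      · omega
      · exfalso
        have cS := IsPGroup.isMulCommutative_of_card_eq_prime_sq e
        have pc : ∀ s ∈ R, p * s = s * p := fun s hs => by obtain ⟨m, -, l⟩ := hR s hs; exact l.kp.symm
        have lt : S < S ⊔ zpowers p := lt_of_le_of_ne le_sup_left fun k => np (k ▸ mem_sup_right (mem_zpowers p))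
        have le : S ⊔ zpowers p ≤ R := sup_le SR (zpowers_le.2 pR)
        have eq : S ⊔ zpowers p = R := by
          refine eq_of_le_of_card_ge le ?_
          obtain ⟨j, hj, e2⟩ := (Nat.dvd_prime_pow Nat.prime_three (m := 3)).1 (show Nat.card ↥(S ⊔ zpowers p) ∣ 3 ^ 3 from
            (card_dvd_of_le le).trans (by rw [cR]; norm_num))
          have := card_lt_of_lt lt
          rw [e, e2] at this
          rw [cR, e2]
          interval_cases j <;> omega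
        have k1 : ∀ s ∈ S, R ≤ centralizer {s} := fun s hs => eq ▸ sup_le (fun r hr => mem_cent_single.2
          (congrArg Subtype.val (cS.is_comm.comm (⟨r, hr⟩ : S) ⟨s, hs⟩))) (zpowers_le.2 (mem_cent_single.2 (pc s (SR hs))))
        refine nR fun r hr s hs => ?_
        have : R ≤ centralizer {r} := eq ▸ sup_le (fun s hs => mem_cent_single.2 (mem_cent_single.1 (k1 s hs hr)).symm)
          (zpowers_le.2 (mem_cent_single.2 (pc r hr)))
        exact (mem_cent_single.1 (this hs)).symm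
      · exact absurd ((eq_of_le_of_card_ge SR (by rw [e, cR]; norm_num)).ge pR) np
  obtain ⟨n, hn, e2⟩ := h.card_pow hX
  rw [e2] at e ⊢
  interval_cases n <;> omega

theorem card_inv {m : Γ} (hm : m ∈ M) (n : m ≠ 1) (e : m * m = 1) : Nat.card (Cm E φ {m}) ≤ 2 ^ 9 := by
  have tr : ∀ m ∈ M, m ≠ 1 → m * m = 1 → Nat.card (Cm E φ {m}) = Nat.card (Cm E φ {t1}) := fun m hm n e => by
    obtain ⟨c, hc, rfl⟩ := F.cls m hm n e
    obtain ⟨d, ld⟩ := h.ex hc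
    rw [← h.cj_Cm (B := {t1}) ld (fun y => by
      simp only [Set.mem_singleton_iff]
      exact ⟨fun e => by rw [e]; group, fun e => by rw [← e]; group⟩), card_cj]
  have ii := F.sq2 _ F.ni
  obtain ⟨k, l, kk⟩ := h.lift2 F (F.le2 F.ni) ii
  obtain ⟨x, lx⟩ := h.ex F.aM
  obtain ⟨y, ly⟩ := h.ex F.bM
  have ni := F.ne.2.2.2.2.2.2.2
  have hc : ∀ u v, L φ u v → Nat.card ↥(E ⊓ centralizer {u⁻¹ * k * u⁻¹⁻¹}) = Nat.card (Cm E φ {m}) := fun u v lu => by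
    rw [← h.Cm_one (lu.inv.cnj l) (by rw [conj_mul, kk]; group), tr m hm n e, tr _ (h.mem (lu.inv.cnj l)) (fun e => ni (conj_eq_one_iff.1 e))
      (by rw [conj_mul, ii]; group)]
  have le : centralizer {1⁻¹ * k * 1⁻¹⁻¹} ⊓ centralizer {x⁻¹ * k * x⁻¹⁻¹} ⊓ centralizer {y⁻¹ * k * y⁻¹⁻¹} ⊓ E ≤ zpowers z := by
    rintro w ⟨⟨⟨c1, c2⟩, c3⟩, hw⟩
    have c1 : k ∈ centralizer {w} := mem_cent_single.2 (by simpa using (mem_cent_single.1 c1).symm)
    have c2 := mem_cent_single.2 (mem_cent_single.1 c2).symm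
    have c3 := mem_cent_single.2 (mem_cent_single.1 c3).symm
    refine h.es.mem_zp.2 (h.nc F (((lx.inv.cnj l).mul l.inv).of_eq ?_) (((ly.inv.cnj l).mul l.inv).of_eq ?_) hw
      (mem_cent_single.1 (mul_mem c2 (inv_mem c1))) (mem_cent_single.1 (mul_mem c3 (inv_mem c1))))
    · rw [inv_inv, mul_assoc, mul_assoc, ← mul_assoc i, F.ia, ← mul_inv_rev, inv_eq_iff_mul_eq_one, ← F.a3]; simp [pow_succ]
    · rw [inv_inv, mul_assoc, mul_assoc, ← mul_assoc i, F.ib, ← mul_inv_rev, inv_eq_iff_mul_eq_one, ← F.b3]; simp [pow_succ]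
  have c0 := card_le_of_le le
  rw [card_zpowers_invol h.es.sq h.es.ne] at c0
  have r := card_inf_mul_relIndex (centralizer {1⁻¹ * k * 1⁻¹⁻¹} ⊓ centralizer {x⁻¹ * k * x⁻¹⁻¹} ⊓
    centralizer {y⁻¹ * k * y⁻¹⁻¹}) E
  have r1 := card_inf_mul_relIndex (centralizer {1⁻¹ * k * 1⁻¹⁻¹}) E
  have r2 := card_inf_mul_relIndex (centralizer {x⁻¹ * k * x⁻¹⁻¹}) E
  have r3 := card_inf_mul_relIndex (centralizer {y⁻¹ * k * y⁻¹⁻¹}) E
  rw [inf_comm, hc _ _ L.one, h.card] at r1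
  rw [inf_comm, hc _ _ lx, h.card] at r2
  rw [inf_comm, hc _ _ ly, h.card] at r3
  have i1 := relIndex_inf_le (H := centralizer {1⁻¹ * k * 1⁻¹⁻¹} ⊓ centralizer {x⁻¹ * k * x⁻¹⁻¹})
    (K := centralizer {y⁻¹ * k * y⁻¹⁻¹}) (L := E)
  have i2 := relIndex_inf_le (H := centralizer {1⁻¹ * k * 1⁻¹⁻¹}) (K := centralizer {x⁻¹ * k * x⁻¹⁻¹}) (L := E)
  rw [h.card] at r
  obtain ⟨n, hn, e2⟩ := h.card_pow (Cm_le (φ := φ) (B := {m}))
  rw [e2] at r1 r2 r3 ⊢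
  by_contra lt
  have : 10 ≤ n := by
    by_contra k
    exact lt (Nat.pow_le_pow_right (by norm_num) (by omega))
  have p := Nat.pow_le_pow_right (show 0 < 2 by norm_num) this
  generalize relIndex _ E = u at r1 i2
  generalize relIndex _ E = v at r2 i2
  generalize relIndex _ E = w at r3 i1
  have a1 : u ≤ 8 := by nlinarith
  have a2 : v ≤ 8 := by nlinarith
  have a3 : w ≤ 8 := by nlinarith
  have a4 := i2.trans (Nat.mul_le_mul a1 a2)
  have a5 := i1.trans (Nat.mul_le_mul a4 a3)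
  have := Nat.mul_le_mul c0 a5
  omega

theorem nmU {r : G} {m : Γ} (hm : m ∈ closure ({a, b} : Set Γ)) (l : L φ r m) {x : G} (hx : x ∈ Cm E φ A1) :
    r * x * r⁻¹ ∈ Cm E φ A1 := by
  have : Finite A1 := Nat.finite_of_card_ne_zero (by rw [F.c1]; norm_num)
  have : closure ({a, b} : Set Γ) ≤ 𝐍 A1 := (closure_le _).2 (by
    rintro _ (rfl | rfl)
    exacts [mem_normalizer_of_cj_le (cj_le_iff'.2 F.na), mem_normalizer_of_cj_le (cj_le_iff'.2 F.nb)])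
  exact h.Cm_cj l (fun y hy => (mem_normalizer_iff''.1 (this hm) y).1 hy) hx

theorem cardU : Nat.card (Cm E φ A1) = 2 ^ 7 := by
  have c := card_le_of_le (Cm_anti (E := E) (φ := φ) (Set.singleton_subset_iff.2 F.m1))
  have := h.card_inv F (F.le1 F.m1) F.ne.1 (F.sq1 _ F.m1)
  obtain ⟨x, hx, n⟩ := h.fpt F le_rfl (fun k ⟨⟨m, _, l⟩, _⟩ x hx => h.nm l hx) (by
    obtain ⟨x, hx, y, hy, n⟩ := h.es.nonab
    exact ⟨x, hx, by rintro rfl; simp at n, by rintro rfl; exact n (h.es.cen y hy).symm⟩)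
  rcases h.nine F Cm_le h.z_Cm (fun r m hm l x hx => h.nmU F hm l hx) with e | e | e
  · exfalso
    have := eq_of_le_of_card_ge (zpowers_le.2 (h.z_Cm (B := A1))) (by rw [e, card_zpowers_invol h.es.sq h.es.ne])
    rcases h.es.mem_zp.1 (this.ge hx.2) with e | e
    exacts [n.1 e, n.2 e]
  · exact e
  · omega

theorem abU : ∀ x ∈ Cm E φ A1, ∀ y ∈ Cm E φ A1, x * y = y * x := by
  have c := es_cent h.es (Cm_le (φ := φ) (B := A1)) h.z_Cm
  rw [h.cardU F, h.card] at c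
  have nU : ∀ r, (∀ x ∈ Cm E φ A1, r⁻¹ * x * r⁻¹⁻¹ ∈ Cm E φ A1) → r * z = z * r →
      ∀ x ∈ E ⊓ centralizer (Cm E φ A1 : Set G), r * x * r⁻¹ ∈ E ⊓ centralizer (Cm E φ A1 : Set G) := fun r hr rz x hx =>
    ⟨h.ls.norm r rz x hx.1, fun y hy => by
      have := hx.2 _ (hr y hy)
      calc y * (r * x * r⁻¹) = r * (r⁻¹ * y * r⁻¹⁻¹ * x) * r⁻¹ := by group
        _ = _ := by rw [this]; group⟩
  have zc : z ∈ E ⊓ centralizer (Cm E φ A1 : Set G) := ⟨h.es.mem, fun y hy => h.es.cen y hy.1⟩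
  obtain ⟨x, hx, n⟩ := h.fpt F (X := E ⊓ centralizer (Cm E φ A1 : Set G)) inf_le_left (fun k ⟨⟨m, hm, l⟩, _⟩ => nU k
    (fun x hx => h.Cm_cj l.inv (fun y hy => by simpa using A1.mul_mem (A1.mul_mem hm hy) (A1.inv_mem hm)) hx) l.kz) (by
      by_contra n
      push Not at n
      have := card_le_of_le (show E ⊓ centralizer (Cm E φ A1 : Set G) ≤ zpowers z from fun x hx => h.es.mem_zp.2 (by
        by_cases e : x = 1
        exacts [Or.inl e, Or.inr (n x hx e)]))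
      rw [card_zpowers_invol h.es.sq h.es.ne] at this
      omega)
  have le : E ⊓ centralizer (Cm E φ A1 : Set G) ⊓ Cm E φ A1 ≤ Cm E φ A1 := inf_le_right
  have c1 := card_le_of_le le
  rw [h.cardU F] at c1
  rcases h.nine F (X := E ⊓ centralizer (Cm E φ A1 : Set G) ⊓ Cm E φ A1) (inf_le_left.trans inf_le_left) ⟨zc, h.z_Cm⟩
    (fun r m hm l x hx => ⟨nU r (fun y hy => h.nmU F (inv_mem hm) l.inv hy) l.kz x hx.1, h.nmU F hm l hx.2⟩) with e | e | e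
  · exfalso
    have := eq_of_le_of_card_ge (zpowers_le.2 (show z ∈ E ⊓ centralizer (Cm E φ A1 : Set G) ⊓ Cm E φ A1 from ⟨zc, h.z_Cm⟩))
      (by rw [e, card_zpowers_invol h.es.sq h.es.ne])
    rcases h.es.mem_zp.1 (this.ge hx) with e | e
    exacts [n.1 e, n.2 e]
  · intro x hx y hy
    exact ((eq_of_le_of_card_ge le (by rw [e, h.cardU F])).ge hy).1.2 x hx
  · omega

theorem excl {D : Subgroup G} (hD : D ≤ Cm E φ A2) (hc : Nat.card D = 2 ^ 7) : False := by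
  have cU := h.cardU F
  by_cases le : D ≤ Cm E φ A1
  · have eq := eq_of_le_of_card_ge le (by rw [cU, hc])
    obtain ⟨k, l, kk⟩ := h.lift2 F (F.le2 F.ni) (F.sq2 _ F.ni)
    obtain ⟨x, lx⟩ := h.ex F.aM
    obtain ⟨y, ly⟩ := h.ex F.bM
    have ck : ∀ w ∈ Cm E φ A1, k * w = w * k := fun w hw => (mem_Cm.1 (hD (eq.ge hw))).2 k i F.ni l kk
    have cu : ∀ u m, m ∈ closure ({a, b} : Set Γ) → L φ u m → ∀ w ∈ Cm E φ A1,
        u⁻¹ * k * u⁻¹⁻¹ * k⁻¹ * w = w * (u⁻¹ * k * u⁻¹⁻¹ * k⁻¹) := fun u m hm lu w hw => by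
      refine mem_cent_single.1 (mul_mem (mem_cent_single.2 ?_) (inv_mem (mem_cent_single.2 (ck w hw))))
      calc u⁻¹ * k * u⁻¹⁻¹ * w = u⁻¹ * (k * (u * w * u⁻¹)) * u := by group
        _ = _ := by rw [ck _ (h.nmU F hm lu hw)]; group
    have := card_le_of_le (show Cm E φ A1 ≤ zpowers z from fun w hw =>
      h.es.mem_zp.2 (h.nc F (((lx.inv.cnj l).mul l.inv).of_eq ?_) (((ly.inv.cnj l).mul l.inv).of_eq ?_) hw.1
        (cu x a (subset_closure (by simp)) lx w hw) (cu y b (subset_closure (by simp)) ly w hw)))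
    · rw [card_zpowers_invol h.es.sq h.es.ne] at this; omega
    · rw [inv_inv, mul_assoc, mul_assoc, ← mul_assoc i, F.ia, ← mul_inv_rev, inv_eq_iff_mul_eq_one, ← F.a3]; simp [pow_succ]
    · rw [inv_inv, mul_assoc, mul_assoc, ← mul_assoc i, F.ib, ← mul_inv_rev, inv_eq_iff_mul_eq_one, ← F.b3]; simp [pow_succ]
  · have s1 : ∀ {B : Subgroup Γ} {t}, t ∈ B → Cm E φ B ≤ Cm E φ {t} := fun ht => Cm_anti (Set.singleton_subset_iff.2 ht)
    have lt : Cm E φ A1 < Cm E φ {t1} ⊓ Cm E φ {t2} := lt_of_le_of_ne (le_inf (s1 F.m1) (s1 F.m2)) fun e =>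
      le (e ▸ le_inf (hD.trans (s1 F.n1)) (hD.trans (s1 F.n2)))
    have c1 := card_lt_of_lt lt
    have c2 := h.ne_256 (X := Cm E φ {t1} ⊓ Cm E φ {t2}) (inf_le_left.trans Cm_le) ⟨h.z_Cm, h.z_Cm⟩
      fun x hx => ⟨h.Cm_p hx.1, h.Cm_p hx.2⟩
    obtain ⟨n, hn, e⟩ := h.card_pow (X := Cm E φ {t1} ⊓ Cm E φ {t2}) (inf_le_left.trans Cm_le)
    have c3 : 2 ^ 9 ≤ Nat.card ↥(Cm E φ {t1} ⊓ Cm E φ {t2}) := by
      rw [e] at c1 c2 ⊢; rw [cU] at c1
      interval_cases n <;> omega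
    have e1 := eq_of_le_of_card_ge (inf_le_left (a := Cm E φ {t1}) (b := Cm E φ {t2}))
      ((h.card_inv F (F.le1 F.m1) F.ne.1 (F.sq1 _ F.m1)).trans c3)
    have e2 := eq_of_le_of_card_ge (inf_le_right (a := Cm E φ {t1}) (b := Cm E φ {t2}))
      ((h.card_inv F (F.le1 F.m2) F.ne.2.1 (F.sq1 _ F.m2)).trans c3)
    have e12 : Cm E φ {t1} = Cm E φ {t2} := e1.symm.trans e2
    have tr : ∀ c ∈ M, Cm E φ {c * t1 * c⁻¹} = Cm E φ {c * t2 * c⁻¹} := fun c hc => by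
      obtain ⟨d, ld⟩ := h.ex hc
      have : ∀ t, cj d (Cm E φ {t}) = Cm E φ {c * t * c⁻¹} := fun t => h.cj_Cm ld fun y => by
        simp only [Set.mem_singleton_iff]
        exact ⟨fun e => by rw [e]; group, fun e => by rw [← e]; group⟩
      rw [← this, ← this, e12]
    have e13 := tr g F.gM
    have e24 := tr f F.hM
    rw [F.g1, F.g2] at e13
    rw [F.h1, F.h2] at e24
    obtain ⟨k1, l1, q1⟩ := h.lift2 F (F.le1 F.m1) (F.sq1 _ F.m1)
    obtain ⟨k2, l2, q2⟩ := h.lift2 F (F.le1 F.m2) (F.sq1 _ F.m2)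
    obtain ⟨k3, l3, q3⟩ := h.lift2 F (F.le1 F.m3) (F.sq1 _ F.m3)
    obtain ⟨k4, l4, q4⟩ := h.lift2 F (F.le1 F.m4) (F.sq1 _ F.m4)
    have := card_le_of_le (show Cm E φ {t1} ≤ Cm E φ A1 from fun x hx => h.mem_Cm1 F l1 l2 l3 l4 q1 q2 q3 q4 hx.1
      ((mem_Cm.1 hx).2 _ _ rfl l1 q1) ((mem_Cm.1 (e12.le hx)).2 _ _ rfl l2 q2) ((mem_Cm.1 (e13.le hx)).2 _ _ rfl l3 q3)
      ((mem_Cm.1 (e24.le (e12.le hx))).2 _ _ rfl l4 q4))
    rw [← e1] at this
    omega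

end JS

end Cfsg.Lib.JF
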