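import Cfsg.Agent.Lib.Block2.JF3

/-! Groups `2^{1+12}.3.M22.2`: the elementary abelian subgroups of order `2^11`. -/

set_option autoImplicit false

namespace Cfsg.Lib.JF

open Subgroup Cfsg.Lib.Amalg Cfsg.Lib.Core Cfsg.Lib.Known2

variable {G Γ : Type*} [Group G] [Group Γ] {E : Subgroup G} {z p : G} {M : Subgroup Γ} {φ : KK z p →* Γ}
  {A1 A2 : Subgroup Γ} {t1 t2 t3 t4 a b i g f : Γ}

namespace JS
variable (h : JS E z p M φ) (F : MF M A1 A2 t1 t2 t3 t4 a b i g f) [Finite G]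
include h F

omit F in
theorem card_img {A : Subgroup G} (hA : A ≤ KK z p) (hz : z ∈ A) (e : ∀ k ∈ A, k * k = 1) :
    Nat.card A = 2 * Nat.card (img φ A) := by
  have c := card_map_mul_card_inf_ker φ (A.subgroupOf (KK z p))
  have : (φ.ker ⊓ A.subgroupOf (KK z p)).map (KK z p).subtype = zpowers z := by
    refine le_antisymm ?_ (zpowers_le.2 ⟨⟨z, h.Lz.1⟩, ⟨h.Lz.2, hz⟩, rfl⟩)
    rintro _ ⟨k, hk, rfl⟩
    exact h.es.mem_zp.2 (h.ker_two ⟨k.2, hk.1⟩ (e _ hk.2))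
  rw [← card_map_subtype (K := φ.ker ⊓ _), this, card_zpowers_invol h.es.sq h.es.ne,
    Nat.card_congr (subgroupOfEquivOfLe hA).toEquiv] at c
  rw [← c, mul_comm]; rfl

omit [Finite G] in
theorem le16 {B : Subgroup Γ} (hB : B ≤ M) (e : ∀ x ∈ B, x * x = 1) : Nat.card B ≤ 16 := by
  by_contra n
  obtain ⟨c, -, k⟩ := F.ea B hB (isPGroup_iff_mem.2 fun x hx => ⟨1, by rw [pow_one, pow_two, e x hx]⟩)
  rcases k B le_rfl e (by omega) with k | k
  · have := F.c1; rw [← k, card_cj] at this; omega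
  · have := F.c2; rw [← k, card_cj] at this; omega

theorem struct {V : Subgroup G} (hV : ∀ v ∈ V, v * z = z * v) (hz : z ∈ V) (e : ∀ v ∈ V, v * v = 1)
    (hc : 2 ^ 11 ≤ Nat.card V) : ∃ B : Subgroup Γ, (∀ x ∈ B, x * x = 1) ∧ Nat.card B = 16 ∧
      (∀ S : Subgroup G, V ≤ S → B ≤ img φ S) ∧ Nat.card ↥(V ⊓ E) = 2 ^ 7 ∧ V ⊓ E ≤ Cm E φ B ∧
      V = V ⊓ E ⊔ closure (hat φ B) ∧ Nat.card V = 2 ^ 11 := by
  let A : Subgroup G :=
    { carrier := {k | k ∈ KK z p ∧ ∃ v ∈ V, k⁻¹ * v ∈ E}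
      one_mem' := ⟨one_mem _, 1, one_mem _, by simp⟩
      mul_mem' := fun {x y} ⟨hx, v, hv, a⟩ ⟨hy, w, hw, b⟩ => ⟨mul_mem hx hy, v * w, mul_mem hv hw, by
        rw [show (x * y)⁻¹ * (v * w) = y⁻¹ * (x⁻¹ * v) * y⁻¹⁻¹ * (y⁻¹ * w) by group]
        exact mul_mem (h.ls.norm _ (mem_KK.1 (inv_mem hy)).1 _ a) b⟩
      inv_mem' := fun {x} ⟨hx, v, hv, a⟩ => ⟨inv_mem hx, v⁻¹, inv_mem hv, by
        rw [show x⁻¹⁻¹ * v⁻¹ = x * (x⁻¹ * v)⁻¹ * x⁻¹ by group]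
        exact h.ls.norm _ (mem_KK.1 hx).1 _ (inv_mem a)⟩ }
  have mA : ∀ k, k ∈ A ↔ k ∈ KK z p ∧ ∃ v ∈ V, k⁻¹ * v ∈ E := fun _ => Iff.rfl
  clear_value A
  have zA : z ∈ A := (mA _).2 ⟨h.Lz.1, z, hz, by simp⟩
  have AK : A ≤ KK z p := fun k hk => ((mA k).1 hk).1
  have sq : ∀ k ∈ A, k * k = 1 := fun k hk => by
    obtain ⟨hk, v, hv, a⟩ := (mA k).1 hk
    obtain ⟨m, l⟩ := h.tot hk
    have m1 : k * k ∈ E := by
      have : k * k = (v * v) * ((k⁻¹ * v)⁻¹ * (k⁻¹ * (k⁻¹ * v)⁻¹ * k⁻¹⁻¹)) := by group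
      rw [this, e v hv, one_mul]
      exact mul_mem (inv_mem a) (h.nm l.inv (inv_mem a))
    refine (h.fp _ m1 (l.mul l).kp.symm).resolve_right fun r => h.es.ne ?_
    have := h.six F l ((l.mul l).uniq (r ▸ h.Lz))
    rwa [show 6 = 2 * 3 from rfl, pow_mul, pow_two, r, pow_succ, pow_two, h.es.sq, one_mul] at this
  have cA := h.card_img AK zA sq
  obtain ⟨B, hB⟩ : ∃ B, B = img φ A := ⟨_, rfl⟩
  rw [← hB] at cA
  have mB : ∀ m ∈ B, ∃ k ∈ A, L φ k m := fun m hm => mem_img.1 (hB ▸ hm)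
  have BM : B ≤ M := fun m hm => by obtain ⟨k, -, l⟩ := mB m hm; exact h.mem l
  have sB : ∀ m ∈ B, m * m = 1 := fun m hm => by
    obtain ⟨k, hk, l⟩ := mB m hm
    exact (l.mul l).uniq (sq k hk ▸ L.one)
  have hA : ∀ k, k ∈ A ↔ k ∈ hat φ B := fun k => ⟨fun hk => by
    obtain ⟨m, l⟩ := h.tot (AK hk)
    exact ⟨⟨m, hB ▸ mem_img.2 ⟨k, hk, l⟩, l⟩, sq k hk⟩, fun ⟨⟨m, hm, l⟩, r⟩ => by
      obtain ⟨w, hw, l'⟩ := mB m hm
      rcases h.lift_eq l' l (sq w hw) r with rfl | rfl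
      exacts [hw, mul_mem hw zA]⟩
  have cl : closure (hat φ B) = A := by rw [← show (A : Set G) = hat φ B from Set.ext hA, closure_eq]
  have b16 := h.le16 F BM sB
  have cV : ∀ x ∈ V, ∀ y ∈ V, x * y = y * x := fun x hx y hy => comm_of_sq e hx hy
  have zD : z ∈ V ⊓ E := ⟨hz, h.es.mem⟩
  have d128 := es_ab h.es h.card (A := V ⊓ E) inf_le_right zD fun x hx y hy => cV x hx.1 y hy.1
  have cD : ∀ k ∈ A, ∀ x ∈ V ⊓ E, k * x = x * k := fun k hk x hx => by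
    obtain ⟨hk, v, hv, a⟩ := (mA k).1 hk
    obtain ⟨m, l⟩ := h.tot hk
    refine h.fix l hx.2 ?_
    rw [show k * x * k⁻¹ = v * ((k⁻¹ * v)⁻¹ * x * (k⁻¹ * v)⁻¹⁻¹) * v⁻¹ by group]
    rcases h.es.conj_eq (inv_mem a) hx.2 with r | r <;> rw [r]
    · exact Or.inl (conj_eq_of_comm (cV v hv x hx.1))
    · right; rw [cjz (hV v hv), conj_eq_of_comm (cV v hv x hx.1)]
  have DC : V ⊓ E ≤ Cm E φ B := fun x hx => ⟨hx.2, fun k hk => cD k ((hA k).2 hk) x hx⟩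
  have nA : A ≤ 𝐍 E := fun k hk => h.ls.mem_norm (mem_KK.1 (AK hk)).1
  -- the part of `V` inside `A E`
  obtain ⟨W, hW⟩ : ∃ W, W = V ⊓ (A ⊔ E) := ⟨_, rfl⟩
  have cW : Nat.card W ≤ Nat.card B * Nat.card ↥(V ⊓ E) := by
    have c1 := card_sup_mul_card_inf (H := W) (K := E) fun v hv => h.ls.mem_norm (hV v (hW ▸ hv).1)
    have c2 := card_sup_mul_card_inf nA
    have c3 := card_le_of_le (show W ⊔ E ≤ A ⊔ E from sup_le (hW ▸ inf_le_right) le_sup_right)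
    have c4 := card_le_of_le (show zpowers z ≤ A ⊓ E from zpowers_le.2 ⟨zA, h.es.mem⟩)
    have c5 := card_le_of_le (show W ⊓ E ≤ V ⊓ E from inf_le_inf_right _ (hW ▸ inf_le_left))
    rw [card_zpowers_invol h.es.sq h.es.ne] at c4
    rw [h.card] at c1 c2
    rw [cA] at c2
    have c6 := Nat.mul_le_mul c3 c5
    have c7 := Nat.mul_le_mul_left (Nat.card ↥(A ⊔ E)) c4
    nlinarith
  have inW : ∀ v ∈ V, ∀ e ∈ E, ∀ l, v = e * l → l * z = z * l → l * p * l⁻¹ = p → v ∈ W := fun v hv e he l r lz lp => by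
    have lK : l ∈ KK z p := mem_KK.2 ⟨lz, comm_of_conj_eq lp⟩
    rw [hW]
    refine ⟨hv, ?_⟩
    rw [r]
    refine mul_mem (mem_sup_right he) (mem_sup_left ((mA l).2 ⟨lK, v, hv, ?_⟩))
    simpa [r, mul_assoc] using h.ls.norm _ (mem_KK.1 (inv_mem lK)).1 _ he
  by_cases all : V ≤ W
  · have c := card_le_of_le all
    have b : Nat.card B = 16 := by nlinarith
    have d : Nat.card ↥(V ⊓ E) = 128 := by nlinarith
    have c2 := es_cent h.es (A := V ⊓ E) inf_le_right zD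
    rw [d, h.card] at c2
    have eq : V ⊓ E = E ⊓ centralizer (V ⊓ E : Subgroup G) := eq_of_le_of_card_ge
      (fun x hx => ⟨hx.2, fun y hy => cV y hy.1 x hx.1⟩) (by omega)
    have key : ∀ k ∈ A, ∀ v ∈ V, k⁻¹ * v ∈ E → k⁻¹ * v ∈ V ⊓ E := fun k hk v hv r => eq.ge ⟨r, fun y hy => by
      rw [mul_assoc, cV v hv y hy.1, ← mul_assoc, ← mul_assoc, cD _ (inv_mem hk) y hy]⟩
    have AV : A ≤ V := fun k hk => by
      obtain ⟨-, v, hv, r⟩ := (mA k).1 hk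
      simpa using mul_mem hv (inv_mem (key k hk v hv r).1)
    refine ⟨B, sB, b, fun S hS m hm => ?_, d, DC, le_antisymm (fun v hv => ?_) (sup_le inf_le_left (cl ▸ AV)), ?_⟩
    · obtain ⟨k, hk, l⟩ := mB m hm
      exact mem_img.2 ⟨k, hS (AV hk), l⟩
    · obtain ⟨k, hk, y, hy, rfl⟩ := (mem_sup_of_le_normalizer nA).1 (hW ▸ all hv).2
      rw [cl]
      exact mul_mem (mem_sup_right hk) (mem_sup_left (by simpa using key k hk _ hv (by simpa using hy)))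
    · rw [b, d] at cW; omega
  · exfalso
    obtain ⟨v0, hv0, n0⟩ := SetLike.not_le_iff_exists.1 all
    obtain ⟨e0, he0, l0, r0, z0, p0⟩ := h.dec v0 (hV v0 hv0)
    replace p0 := p0.resolve_left fun q => n0 (inW v0 hv0 e0 he0 l0 r0 z0 q)
    have i2 : Nat.card V ≤ 2 * Nat.card W := by
      have : W.relIndex V = 2 := index_eq_two_iff.2 ⟨⟨v0, hv0⟩, fun v => by
        simp only [mem_subgroupOf, coe_mul]
        by_cases c : (v : G) ∈ W
        · exact Or.inr ⟨c, fun q => n0 ((W.mul_mem_cancel_left c).1 q)⟩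
        · refine Or.inl ⟨?_, c⟩
          obtain ⟨e1, he1, l1, r1, z1, p1⟩ := h.dec v (hV v v.2)
          replace p1 := p1.resolve_left fun q => c (inW v v.2 e1 he1 l1 r1 z1 q)
          refine inW _ (mul_mem v.2 hv0) (e1 * (l1 * e0 * l1⁻¹)) (mul_mem he1 (h.ls.norm _ z1 _ he0)) (l1 * l0)
            (by rw [r1, r0]; group) (by rw [mul_assoc, z0, ← mul_assoc, z1, mul_assoc]) ?_
          calc l1 * l0 * p * (l1 * l0)⁻¹ = l1 * (l0 * p * l0⁻¹) * l1⁻¹ := by group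
            _ = (l1 * p * l1⁻¹)⁻¹ := by rw [p0]; group
            _ = p := by rw [p1, inv_inv]⟩
      have c := card_inf_mul_relIndex W V
      rw [this, inf_of_le_left (hW ▸ inf_le_left)] at c
      omega
    have fx : ∀ x ∈ V ⊓ E, l0 * x * l0⁻¹ = x ∨ l0 * x * l0⁻¹ = x * z := fun x hx => by
      rw [show l0 * x * l0⁻¹ = e0⁻¹ * (v0 * x * v0⁻¹) * e0⁻¹⁻¹ by rw [r0]; group, conj_eq_of_comm (cV v0 hv0 x hx.1)]
      exact h.es.conj_eq (inv_mem he0) hx.2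
    have le : (V ⊓ E) ⊓ cj p (V ⊓ E) ≤ zpowers z := by
      rintro y ⟨hy, x, hx, rfl⟩
      change p * x * p⁻¹ ∈ _ at hy ⊢
      have q := fx _ hy
      have q1 : l0 * (p * x * p⁻¹) * l0⁻¹ = p⁻¹ * (l0 * x * l0⁻¹) * p := by
        calc _ = (l0 * p * l0⁻¹) * (l0 * x * l0⁻¹) * (l0 * p * l0⁻¹)⁻¹ := by group
          _ = _ := by rw [p0, inv_inv]
      have pz : p⁻¹ * z = z * p⁻¹ := h.Lp.inv.kz
      have q2 : p⁻¹ * x * p⁻¹⁻¹ = p * x * p⁻¹ ∨ p⁻¹ * x * p⁻¹⁻¹ = p * x * p⁻¹ * z := by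
        rw [q1] at q
        rcases fx x hx with r | r <;> rw [r] at q
        · simpa using q
        · have q0 := cjz pz x
          rw [inv_inv] at q0 ⊢
          rw [q0] at q
          rcases q with q | q
          · right; rw [← q, mul_assoc _ z z, h.es.sq, mul_one]
          · left; simpa using q
      have q3 : p⁻¹ * x * p⁻¹⁻¹ = p * (p * x * p⁻¹) * p⁻¹ := by
        have : p⁻¹ = p * p := by rw [inv_eq_iff_mul_eq_one, ← h.p3]; simp [pow_succ, mul_assoc]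
        conv_lhs => rw [this]
        group
      rw [q3] at q2
      exact h.es.mem_zp.2 (h.fpz hy.2 q2)
    have c1 := card_sup_mul_card_inf (H := V ⊓ E) (K := cj p (V ⊓ E)) fun x hx => mem_normalizer_of_cj_le
      (cj_le_iff'.2 fun y hy => by
        have zy : z ∈ cj p (V ⊓ E) := mem_cj'.2 ⟨z, zD, conj_eq_of_comm h.pz⟩
        have yE : y ∈ E := by obtain ⟨w, hw, rfl⟩ := mem_cj'.1 hy; exact h.nm h.Lp hw.2
        rcases h.es.conj_eq hx.2 yE with r | r <;> rw [r]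
        exacts [hy, mul_mem hy zy])
    have c2 := card_le_of_le le
    have c3 := card_le_of_le (show V ⊓ E ⊔ cj p (V ⊓ E) ≤ Cm E φ B from sup_le DC (cj_le_iff'.2 fun x hx => h.Cm_p (DC hx)))
    rw [card_zpowers_invol h.es.sq h.es.ne] at c2
    rw [card_cj] at c1
    have d64 : 64 ≤ Nat.card ↥(V ⊓ E) := by nlinarith
    have c4 : 2 ^ 11 ≤ Nat.card (Cm E φ B) := by nlinarith [Nat.mul_le_mul c3 c2, Nat.mul_le_mul d64 d64]
    have : B = ⊥ := (eq_bot_iff_forall _).2 fun m hm => by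
      by_contra n
      have := h.card_inv F (BM hm) n (sB m hm)
      have := card_le_of_le (Cm_anti (E := E) (φ := φ) (Set.singleton_subset_iff.2 hm))
      change Nat.card (Cm E φ B) ≤ _ at this
      omega
    rw [this, card_bot] at cW
    omega

/-- every large elementary abelian subgroup of a 2-subgroup of `C(z)` is conjugate to the hexad one -/
theorem uniq {S : Subgroup G} (hS : IsPGroup 2 S) (hz : ∀ v ∈ S, v * z = z * v) : ∃ d, d * z = z * d ∧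
    ∀ V ≤ S, z ∈ V → (∀ v ∈ V, v * v = 1) → 2 ^ 11 ≤ Nat.card V →
      cj d V = Cm E φ A1 ⊔ closure (hat φ A1) ∧ Nat.card V = 2 ^ 11 := by
  obtain ⟨c, hc, k⟩ := F.ea (img φ S) (fun m hm => by obtain ⟨k, -, l⟩ := mem_img.1 hm; exact h.mem l)
    ((Amalg.isPGroup_subgroupOf hS _).map φ)
  obtain ⟨d, l⟩ := h.ex hc
  refine ⟨d, l.kz, fun V hV zV e c11 => ?_⟩
  obtain ⟨B, sB, cB, iB, cD, DC, eq, cV⟩ := h.struct F (fun v hv => hz v (hV hv)) zV e c11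
  have t : cj d (Cm E φ B) = Cm E φ (cj c B) := h.cj_Cm l fun y => mem_cj
  refine ⟨?_, cV⟩
  rcases k B (iB S hV) sB cB.ge with r | r
  · rw [eq, cj_sup, cj_closure, eq_of_le_of_card_ge DC (by rw [← card_cj d, t, r, h.cardU F, cD]), t, r, ← r]
    congr 2
    ext k
    constructor
    · rintro ⟨w, ⟨⟨m, hm, lw⟩, q⟩, rfl⟩
      exact ⟨⟨_, conj_mem_cj c hm, l.cnj lw⟩, by change d * w * d⁻¹ * (d * w * d⁻¹) = 1; rw [conj_mul, q]; group⟩
    · rintro ⟨⟨m, hm, lw⟩, q⟩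
      exact ⟨d⁻¹ * k * d⁻¹⁻¹, ⟨⟨_, mem_cj.1 hm, (l.inv.cnj lw).of_eq (by group)⟩, by rw [conj_mul, q]; group⟩, by simp [mul_assoc]⟩
  · exact (h.excl F (D := cj d (V ⊓ E)) (r ▸ t ▸ cj_mono d DC) (by rw [card_cj, cD])).elim

theorem std : (∀ v ∈ Cm E φ A1 ⊔ closure (hat φ A1), v * z = z * v) ∧ (∀ v ∈ Cm E φ A1 ⊔ closure (hat φ A1), v * v = 1) ∧
    Nat.card ↥(Cm E φ A1 ⊔ closure (hat φ A1)) = 2 ^ 11 := by
  obtain ⟨A, hA⟩ := h.exists_hat F F.sq1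
  rw [← show (A : Set G) = hat φ A1 from Set.ext hA, closure_eq]
  have n : A ≤ 𝐍 (Cm E φ A1) := fun k hk => centralizer_le_normalizer _ fun x hx => (hx.2 k ((hA k).1 hk)).symm
  have zA : z ∈ A := (hA z).2 ⟨⟨1, one_mem _, h.Lz⟩, h.es.sq⟩
  refine ⟨fun v hv => ?_, fun v hv => ?_, ?_⟩
  · obtain ⟨x, hx, k, hk, rfl⟩ := (mem_sup_of_le_normalizer' n).1 hv
    obtain ⟨⟨m, -, l⟩, -⟩ := (hA k).1 hk
    rw [mul_assoc, l.kz, ← mul_assoc, h.es.cen x hx.1, mul_assoc]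
  · obtain ⟨x, hx, k, hk, rfl⟩ := (mem_sup_of_le_normalizer' n).1 hv
    rw [mul_assoc, ← mul_assoc k, hx.2 k ((hA k).1 hk), mul_assoc, ← mul_assoc, ((hA k).1 hk).2,
      h.elem Cm_le (fun x => h.Cm_p) (h.abU F) hx, mul_one]
  · have c := card_sup_mul_card_inf' n
    have c1 := h.card_img (A := A) (fun k hk => by obtain ⟨⟨m, -, l⟩, -⟩ := (hA k).1 hk; exact l.1) zA fun k hk => ((hA k).1 hk).2
    have e1 : img φ A = A1 := le_antisymm (fun m hm => by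
      obtain ⟨k, hk, l⟩ := mem_img.1 hm
      obtain ⟨⟨m', hm', l'⟩, -⟩ := (hA k).1 hk
      exact l'.uniq l ▸ hm') fun m hm => by
        obtain ⟨k, l, q⟩ := h.lift2 F (F.le1 hm) (F.sq1 m hm)
        exact mem_img.2 ⟨k, (hA k).2 ⟨⟨m, hm, l⟩, q⟩, l⟩
    have e2 : Cm E φ A1 ⊓ A = zpowers z := le_antisymm (fun x hx => by
      obtain ⟨⟨m, -, l⟩, -⟩ := (hA x).1 hx.2
      exact h.es.mem_zp.2 (h.fp x hx.1.1 l.kp.symm)) (zpowers_le.2 ⟨h.z_Cm, zA⟩)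
    rw [e2, card_zpowers_invol h.es.sq h.es.ne, h.cardU F, c1, e1, F.c1] at c
    omega

theorem main (T : Sylow 2 G) : ∃! V : Subgroup G, V ≤ (T : Subgroup G) ∧ IsElementaryAbelian 2 V ∧ Nat.card V = 2 ^ 11 := by
  have : Fact (Nat.Prime 2) := ⟨Nat.prime_two⟩
  obtain ⟨T0, hT, QT, Tz⟩ := h.ls.exists_syl
  obtain ⟨s1, s2, s3⟩ := h.std F
  obtain ⟨c, -, hc⟩ := (syl_top T).exists_conj_le (P := Cm E φ A1 ⊔ closure (hat φ A1))
    (isPGroup_iff_mem.2 fun x hx => ⟨1, by rw [pow_one, pow_two, s2 x hx]⟩) le_top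
  have sq : ∀ (c : G) (V : Subgroup G), (∀ v ∈ V, v * v = 1) → ∀ v ∈ cj c V, v * v = 1 := fun c V e v hv => by
    obtain ⟨w, hw, rfl⟩ := mem_cj'.1 hv
    rw [conj_mul, e w hw]; group
  obtain ⟨u, -, hu⟩ := (syl_top T).exists_conj hT
  obtain ⟨d, -, k⟩ := h.uniq F hT.isPGroup fun v hv => mem_cent_single.1 (Tz hv)
  have key : ∀ V ≤ (T : Subgroup G), IsElementaryAbelian 2 V → Nat.card V = 2 ^ 11 →
      cj d (cj u V) = Cm E φ A1 ⊔ closure (hat φ A1) := fun V hV e cV => by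
    have e1 := sq u V fun v hv => by rw [← pow_two, e.2 v hv]
    have l1 : cj u V ≤ T0 := hu ▸ cj_mono u hV
    have n : zpowers z ≤ 𝐍 (cj u V) := zpowers_le.2 (centralizer_le_normalizer _ fun x hx => mem_cent_single.1 (Tz (l1 hx)))
    have le : cj u V ≤ cj u V ⊔ zpowers z := le_sup_left
    obtain ⟨r1, r2⟩ := k (cj u V ⊔ zpowers z) (sup_le l1 (zpowers_le.2 (QT h.es.mem))) (mem_sup_right (mem_zpowers z))
      (fun v hv => by
        obtain ⟨x, hx, y, hy, rfl⟩ := (mem_sup_of_le_normalizer' n).1 hv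
        rcases h.es.mem_zp.1 hy with rfl | rfl
        · rw [mul_one, e1 x hx]
        · rw [mul_assoc, ← mul_assoc y, ← mem_cent_single.1 (Tz (l1 hx)), mul_assoc, ← mul_assoc, e1 x hx, h.es.sq, mul_one])
      (by rw [← cV, ← card_cj u]; exact card_le_of_le le)
    rwa [← eq_of_le_of_card_ge le (by rw [r2, card_cj, cV])] at r1
  have e0 : IsElementaryAbelian 2 (cj c (Cm E φ A1 ⊔ closure (hat φ A1))) :=
    ⟨⟨⟨fun x y => Subtype.ext (comm_of_sq (sq c _ s2) x.2 y.2)⟩⟩, fun x hx => by rw [pow_two, sq c _ s2 x hx]⟩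
  refine ⟨_, ⟨hc, e0, by rw [card_cj, s3]⟩, fun V ⟨hV, e, cV⟩ => ?_⟩
  exact cj_inj.1 (cj_inj.1 ((key V hV e cV).trans (key _ hc e0 (by rw [card_cj, s3])).symm))

end JS

end Cfsg.Lib.JF
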