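import Cfsg.Agent.Lib.Block2.JF4
import Cfsg.Agent.Lib.Amalg.Ops
import Cfsg.Agent.Lib.Comp.M22.Out
import Cfsg.Prelude.Def_JankoFourType

/-! Groups of Janko-four type satisfy `JS`. -/

set_option autoImplicit false

namespace Cfsg.Lib.JF

open Subgroup Cfsg.Lib.Amalg Cfsg.Lib.Core Cfsg.Lib.Known2 Spor

variable {G : Type*} [Group G]

theorem center_M22 : center M22 = ⊥ := by
  have := Golay.simple_M22
  rcases (inferInstance : (center M22).Normal).eq_bot_or_eq_top with e | e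
  · exact e
  · exfalso
    have F := mf
    have := mem_center_iff.1 (e.ge (mem_top ⟨_, F.gM⟩)) ⟨_, F.le1 F.m2⟩
    have k := F.g2
    rw [conj_eq_of_comm (congrArg Subtype.val this).symm] at k
    exact F.ne.2.2.2.2.2.1 (by rw [← k]; exact F.sq1 _ F.m2)

theorem conj_inj : Function.Injective (MulAut.conj : M22 →* MulAut M22) := (injective_iff_map_eq_one _).2 fun a e =>
  center_M22.le (mem_center_iff.2 fun g => (mul_inv_eq_iff_eq_mul.1 (DFunLike.congr_fun e g)).symm)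

theorem card_aut : Nat.card (MulAut M22) = 887040 := by
  obtain ⟨e⟩ := Comp.M22.perm
  rw [card_eq_card_quotient_mul_card_subgroup (Inn M22), Comp.M22.out_eq e,
    ← Nat.card_congr (MonoidHom.ofInjective conj_inj).toEquiv, Golay.card_M22]

theorem idx2 {N : Subgroup (MulAut M22)} (h1 : N.index = 2) : N = MulAut.conj.range := by
  have := normal_of_index_eq_two h1
  have := Golay.simple_M22
  have c := N.card_mul_index
  rw [h1, card_aut] at c
  rcases (inferInstance : (N.comap MulAut.conj).Normal).eq_bot_or_eq_top with e | e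
  · have k := Nat.le_of_dvd (by norm_num) (h1 ▸ relIndex_dvd_index_of_normal N MulAut.conj.range)
    rw [MonoidHom.range_eq_map, ← relIndex_comap, e, relIndex_top_right, index_bot, Golay.card_M22] at k
    omega
  · refine (eq_of_le_of_card_ge (H := MulAut.conj.range) (by rintro _ ⟨a, rfl⟩; exact e.ge (mem_top a)) ?_).symm
    rw [← Nat.card_congr (MonoidHom.ofInjective conj_inj).toEquiv, Golay.card_M22]; omega

theorem exists_JS [Finite G] {z : G} {P : Subgroup G} (hJ : IsOfJankoFourTypeWith z P) :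
    ∃ p φ, P = zpowers p ∧ JS (twoCoreOfCentralizer z) z p M22 φ := by
  have : Fact (Nat.Prime 3) := ⟨Nat.prime_three⟩
  obtain ⟨hz, hE, cE, hC, ⟨N, EN, NH, HN, cN, ⟨nrm, ⟨e⟩⟩, PN⟩, cP, fP, hne, hcom⟩ := hJ
  obtain ⟨⟨p, pP⟩, op⟩ := exists_prime_orderOf_dvd_card' (G := P) 3 (by rw [cP])
  rw [← orderOf_coe] at op
  change orderOf p = 3 at op
  obtain rfl : P = zpowers p := (eq_of_le_of_card_ge (zpowers_le.2 pP) (by rw [cP, Nat.card_zpowers, op])).symm
  have cz : centralizer (zpowers p : Set G) = centralizer {p} := by ext; rw [mem_cent_zpowers, mem_cent_single]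
  rw [cz] at fP hne hcom
  have EH : twoCoreOfCentralizer z ≤ centralizer {z} := op_le _
  have HE : centralizer {z} ≤ 𝐍 (twoCoreOfCentralizer z) := le_norm_op _
  generalize twoCoreOfCentralizer z = E at *
  obtain ⟨w, -, es⟩ := exists_ES hE
  have hzc : ∀ x ∈ E, x * z = z * x := fun x hx => mem_cent_single.1 (EH hx)
  have zE : z ∈ E := hC ⟨mem_cent_single.2 rfl, mem_centralizer_comm.2 hzc⟩
  obtain rfl : z = w := (es.of_cen z zE fun y hy => (hzc y hy).symm).resolve_left (ne_one_of_orderOf_two hz)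
  have ls : LS E z := ⟨es, fun g hg => es.of_cen g (hC ⟨mem_cent_single.2 (hg z zE),
    mem_centralizer_comm.2 fun x hx => (hg x hx).symm⟩) hg, fun g hg x hx => (mem_normalizer_iff.1 (HE (mem_cent_single.2 hg)) x).1 hx⟩
  have pz : p * z = z * p := mem_cent_single.1 (NH (PN (mem_zpowers p)))
  have p3 : p ^ 3 = 1 := op ▸ pow_orderOf_eq_one p
  have p1 : p ≠ 1 := by rintro rfl; simp at op
  have fp : ∀ c ∈ E, p * c = c * p → c = 1 ∨ c = z := fun c hc k => es.mem_zp.1 (fP.le ⟨hc, mem_cent_single.2 k.symm⟩)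
  have pE : p ∉ E := fun k => by
    rcases fp p k rfl with k | k
    · exact p1 k
    · rw [k, hz] at op; omega
  have zp : ∀ c ∈ zpowers p, c = 1 ∨ c = p ∨ c = p⁻¹ := by
    rintro _ ⟨n, rfl⟩
    have h3 : p ^ (3 : ℤ) = 1 := by exact_mod_cast p3
    have k : n = 3 * (n / 3) + 0 ∨ n = 3 * (n / 3) + 1 ∨ n = 3 * (n / 3 + 1) + -1 := by omega
    rcases k with k | k | k
    · left; change p ^ n = 1; rw [k, zpow_add, zpow_mul, h3, one_zpow, one_mul, zpow_zero]
    · right; left; change p ^ n = p; rw [k, zpow_add, zpow_mul, h3, one_zpow, one_mul, zpow_one]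
    · right; right; change p ^ n = p⁻¹; rw [k, zpow_add, zpow_mul, h3, one_zpow, one_mul, zpow_neg_one]
  have nP : zpowers p ≤ 𝐍 E := (PN.trans NH).trans HE
  have dj : E ⊓ zpowers p = ⊥ := (eq_bot_iff_forall _).2 fun c hc => by
    rcases zp c hc.2 with rfl | rfl | rfl
    exacts [rfl, absurd hc.1 pE, absurd (by simpa using hc.1) pE]
  have NE : N = E ⊔ zpowers p := by
    have := card_sup_mul_card_inf' nP
    rw [dj, card_bot, cP] at this
    exact (eq_of_le_of_card_ge (sup_le EN PN) (by omega)).symm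
  have mN : ∀ n ∈ N, ∃ e ∈ E, ∃ c ∈ zpowers p, e * c = n := fun n hn => (mem_sup_of_le_normalizer' nP).1 (NE ▸ hn)
  have sy : Syl 3 (zpowers p) N := syl_of_not_dvd PN (IsPGroup.of_card (n := 1) cP) (by
    have := card_inf_mul_relIndex (zpowers p) N
    rw [inf_of_le_left PN, cP, cN, cE] at this
    omega)
  have pm : ∀ l ∈ 𝐍 (zpowers p), l * p * l⁻¹ = p ∨ l * p * l⁻¹ = p⁻¹ := fun l hl =>
    (zp _ ((mem_normalizer_iff.1 hl p).1 pP)).resolve_left fun k => p1 (conj_eq_one_iff.1 k)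
  have dec : ∀ g, g * z = z * g → ∃ e ∈ E, ∃ l, g = e * l ∧ l * z = z * l ∧ (l * p * l⁻¹ = p ∨ l * p * l⁻¹ = p⁻¹) :=
    fun g hg => by
      obtain ⟨n, hn, a, ha, rfl⟩ := sy.frattini_mem (HN (mem_cent_single.2 hg))
      obtain ⟨e, he, c, hc, rfl⟩ := mN n hn
      refine ⟨e, he, c * a, mul_assoc _ _ _, ?_, pm _ (mul_mem (le_normalizer hc) ha)⟩
      have := mul_mem (inv_mem (EH he)) (mem_cent_single.2 hg)
      exact mem_cent_single.1 (by simpa [mul_assoc] using this)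
  let π : centralizer {z} →* MulAut M22 := e.toMonoidHom.comp (QuotientGroup.mk' _)
  have kπ : ∀ g, π g = 1 ↔ (g : G) ∈ N := fun g => by
    simp only [π, MonoidHom.comp_apply, MulEquiv.coe_toMonoidHom, map_eq_one_iff e e.injective, QuotientGroup.mk'_apply,
      QuotientGroup.eq_one_iff, mem_subgroupOf]
  have sπ : Function.Surjective π := e.surjective.comp (QuotientGroup.mk'_surjective _)
  clear_value π
  let ψ : KK z p →* MulAut M22 := π.comp (inclusion inf_le_left)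
  have kψ : ∀ k, ψ k = 1 ↔ ∃ c ∈ zpowers p, (k : G) = c ∨ (k : G) = c * z := fun k => by
    refine (kπ _).trans ⟨fun hk => ?_, ?_⟩
    · obtain ⟨e, he, c, hc, r⟩ := mN _ hk
      change e * c = k at r
      have cp : c ∈ centralizer {p} := by obtain ⟨n, rfl⟩ := hc; exact zpow_mem (mem_cent_single.2 rfl) n
      have : e ∈ centralizer {p} := by rw [show e = k * c⁻¹ by rw [← r]; group]; exact mul_mem k.2.2 (inv_mem cp)
      refine ⟨c, hc, ?_⟩
      rcases fp e he (mem_cent_single.1 this).symm with rfl | rfl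
      · left; rw [← r, one_mul]
      · right; rw [← r]; exact (mem_cent_single.1 (NH (PN hc))).symm
    · rintro ⟨c, hc, r | r⟩
      · exact r ▸ PN hc
      · change (k : G) ∈ N
        exact r ▸ mul_mem (PN hc) (EN zE)
  have out : ∀ l : centralizer {z}, (l : G) * p * (l : G)⁻¹ = p⁻¹ → π l ∉ ψ.range := by
    rintro l hl ⟨k, hk⟩
    obtain ⟨e, he, c, hc, r⟩ := mN _ ((kπ ((inclusion inf_le_left k)⁻¹ * l)).1 (by rw [map_mul, map_inv]; exact inv_mul_eq_one.2 hk))
    change e * c = (k : G)⁻¹ * l at r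
    have cp : c * p * c⁻¹ = p := by obtain ⟨n, rfl⟩ := hc; group
    have kp : (k : G)⁻¹ * p⁻¹ * k = p⁻¹ := by
      rw [← mul_inv_rev, ← (mem_KK.1 k.2).2]; group
    have : e * p * e⁻¹ = p⁻¹ := by
      calc e * p * e⁻¹ = e * (c * p * c⁻¹) * e⁻¹ := by rw [cp]
        _ = (e * c) * p * (e * c)⁻¹ := by group
        _ = (k : G)⁻¹ * (l * p * (l : G)⁻¹) * k := by rw [r]; group
        _ = _ := by rw [hl, kp]
    apply pE
    have q : p = e * (p * e⁻¹ * p⁻¹) := by
      rw [← mul_assoc, ← mul_assoc, this, ← mul_inv_rev, eq_inv_iff_mul_eq_one, ← p3]; simp [pow_succ, mul_assoc]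
    rw [q]
    exact mul_mem he (ls.norm p pz _ (inv_mem he))
  obtain ⟨l0, hl0, nl0⟩ : ∃ l0, l0 ∈ centralizer {z} ⊓ 𝐍 (zpowers p) ∧ l0 ∉ KK z p := by
    by_contra n
    push Not at n
    exact hne (le_antisymm n (inf_le_inf_left _ (cz ▸ centralizer_le_normalizer _)))
  have i0 : l0 * p * l0⁻¹ = p⁻¹ := (pm l0 hl0.2).resolve_left fun k => nl0 ⟨hl0.1, mem_cent_single.2 (comm_of_conj_eq k)⟩
  have ix : ψ.range.index = 2 := index_eq_two_iff.2 ⟨π ⟨l0, hl0.1⟩, fun b => by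
    obtain ⟨g, rfl⟩ := sπ b
    obtain ⟨e, he, l, r, lz, lp⟩ := dec g (mem_cent_single.1 g.2)
    have : π g = π ⟨l, mem_cent_single.2 lz⟩ := by
      rw [show g = ⟨e, EH he⟩ * ⟨l, mem_cent_single.2 lz⟩ from Subtype.ext r, map_mul, (kπ _).2 (EN he), one_mul]
    rw [this]
    rcases lp with lp | lp
    · have m : π ⟨l, mem_cent_single.2 lz⟩ ∈ ψ.range := ⟨⟨l, mem_KK.2 ⟨lz, comm_of_conj_eq lp⟩⟩, rfl⟩
      exact Or.inr ⟨m, fun q => out _ i0 ((mul_mem_cancel_left m).1 q)⟩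
    · refine Or.inl ⟨⟨⟨l * l0, mul_mem (mem_cent_single.2 lz) hl0.1, mem_cent_single.2 (comm_of_conj_eq ?_)⟩, by
        rw [← map_mul]; rfl⟩, out _ lp⟩
      calc l * l0 * p * (l * l0)⁻¹ = l * (l0 * p * l0⁻¹) * l⁻¹ := by group
        _ = (l * p * l⁻¹)⁻¹ := by rw [i0]; group
        _ = p := by rw [lp, inv_inv]⟩
  let θ : ψ.range ≃* M22 := (MulEquiv.subgroupCongr (idx2 ix)).trans (MonoidHom.ofInjective conj_inj).symm
  let φ : KK z p →* Equiv.Perm GolayPt := (M22.subtype.comp θ.toMonoidHom).comp ψ.rangeRestrict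
  have kφ : ∀ k, φ k = 1 ↔ ψ k = 1 := fun k => by
    simp only [φ, MonoidHom.comp_apply, MulEquiv.coe_toMonoidHom, coe_subtype, OneMemClass.coe_eq_one,
      map_eq_one_iff θ θ.injective]
    exact Subtype.ext_iff
  have rφ : φ.range = M22 := le_antisymm (by rintro _ ⟨k, rfl⟩; exact (θ _).2) fun m hm => by
    obtain ⟨y, hy⟩ := θ.surjective ⟨m, hm⟩
    obtain ⟨k, rfl⟩ := ψ.rangeRestrict_surjective y
    exact ⟨k, congrArg Subtype.val hy⟩
  refine ⟨p, φ, rfl, ls, cE, pz, p3, p1, fp, rφ, fun k => (kφ k).trans (kψ k), ?_, hcom pP, dec⟩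
  have c0 := card_map_mul_card_inf_ker φ ⊤
  have nz : zpowers z ≤ 𝐍 (zpowers p) := zpowers_le.2 (centralizer_le_normalizer _ (mem_cent_zpowers.2 pz.symm))
  have : φ.ker.map (KK z p).subtype = zpowers p ⊔ zpowers z := by
    ext x
    rw [mem_sup_of_le_normalizer' nz]
    constructor
    · rintro ⟨k, hk, rfl⟩
      obtain ⟨c, hc, r | r⟩ := (kψ k).1 ((kφ k).1 hk)
      exacts [⟨c, hc, 1, one_mem _, by rw [mul_one]; exact r.symm⟩, ⟨c, hc, z, mem_zpowers z, r.symm⟩]
    · rintro ⟨c, hc, y, hy, rfl⟩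
      have cK : c ∈ KK z p := ⟨NH (PN hc), cz ▸ le_centralizer _ hc⟩
      rcases es.mem_zp.1 hy with r | r <;> rw [r]
      · exact ⟨⟨c, cK⟩, (kφ _).2 ((kψ _).2 ⟨c, hc, Or.inl rfl⟩), (mul_one _).symm⟩
      · exact ⟨⟨c * z, mul_mem cK (mem_KK.2 ⟨rfl, pz.symm⟩)⟩, (kφ _).2 ((kψ _).2 ⟨c, hc, Or.inr rfl⟩), rfl⟩
  have c2 := card_sup_mul_card_inf' nz
  rw [show zpowers p ⊓ zpowers z = ⊥ from eq_bot_iff.2 (dj ▸ le_inf (inf_le_right.trans (zpowers_le.2 zE)) inf_le_left),
    card_bot, cP, card_zpowers_invol es.sq es.ne, ← this, card_map_subtype] at c2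
  rw [← MonoidHom.range_eq_map, rφ, Golay.card_M22, inf_top_eq, card_top] at c0
  omega

end Cfsg.Lib.JF
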