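import Cfsg.Agent.Lib.Golay.Coset

/-! The triangular graph `T(24)` on the 276 elements of a `2^11`: combinatorial part. -/

set_option autoImplicit false

namespace Cfsg.Lib.JF

open Finset

variable {A : Type*} [CommGroup A] [DecidableEq A] {D : Finset A}

/-- abstract graph data. -/
structure GgA (D : Finset A) : Prop where
  sq : ∀ a : A, a * a = 1
  one : (1 : A) ∉ D
  cD : D.card = 276
  val : ∀ t ∈ D, (D.filter fun s => s * t ∈ D).card = 44
  mu4 : ∀ t ∈ D, ∀ s ∈ D, t ≠ s → t * s ∉ D → (D.filter fun w => w * t ∈ D ∧ w * s ∈ D).card = 4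
  mu : ∀ t ∈ D, ∀ s ∈ D, t ≠ s → t * s ∉ D → ∀ u ∈ D, u * t ∈ D → u * s ∈ D → ∀ w ∈ D, w * t ∈ D → w * s ∈ D →
    t * u * w ∈ D ∨ t * u * w = 1 ∨ t * u * w = t * s
  cot : ∀ t ∈ D, ∀ s ∈ D, t ≠ s → t * s ∉ D → ∀ a ∈ D, a * t ∈ D → (a * s ∈ D ↔ a * t * s ∈ D)

theorem GgA.can (h : GgA D) (a b : A) : a * (a * b) = b := by rw [← mul_assoc, h.sq, one_mul]

theorem GgA.cot' (h : GgA D) {t u s : A} (ht : t ∈ D) (hu : u ∈ D) (htu : t * u ∈ D) (hs : s ∈ D) (n : s * t ∉ D) :
    s * u ∈ D ↔ s * (t * u) ∈ D := by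
  by_cases e : t = s
  · subst e; rw [h.can]; exact ⟨fun _ => hu, fun _ => htu⟩
  · have := h.cot t ht s hs e (by rwa [mul_comm]) u hu (by rwa [mul_comm])
    rwa [mul_comm u s, mul_comm u t, mul_comm _ s] at this

theorem GgA.line (h : GgA D) {t u : A} (ht : t ∈ D) (hu : u ∈ D) (htu : t * u ∈ D) :
    2 * (D.filter fun s => s * u ∈ D ∧ s * t ∉ D).card + (D.filter fun s => s * t ∈ D ∧ s * u ∈ D ∧ s * (t * u) ∈ D).card = 44 := by
  have h1 := h.val t ht
  have h2 := h.val u hu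
  have h3 := h.val _ htu
  have key : ∑ s ∈ D, ((if s * u ∈ D then 1 else 0) + (if s * (t * u) ∈ D then 1 else 0)) =
      ∑ s ∈ D, ((if s * t ∈ D then 1 else 0) + (2 * (if s * u ∈ D ∧ s * t ∉ D then 1 else 0) +
        (if s * t ∈ D ∧ s * u ∈ D ∧ s * (t * u) ∈ D then 1 else 0))) := Finset.sum_congr rfl fun s hs => by
    have c1 := fun n => h.cot' ht hu htu hs n
    have c2 := fun n => h.cot' hu ht (by rwa [mul_comm]) hs n
    rw [mul_comm u t] at c2
    by_cases a1 : s * t ∈ D <;> by_cases a2 : s * u ∈ D <;> by_cases a3 : s * (t * u) ∈ D <;> simp_all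
  simp only [Finset.sum_add_distrib, ← Finset.mul_sum, ← Finset.card_filter] at key
  omega

theorem GgA.m22 (h : GgA D) {t u : A} (ht : t ∈ D) (hu : u ∈ D) (htu : t * u ∈ D) :
    (D.filter fun s => s * u ∈ D ∧ s * t ∉ D).card = 22 := by
  have hT : (D.filter fun s => ¬ s * t ∈ D).card = 232 := by
    have := Finset.card_filter_add_card_filter_not (s := D) (fun s => s * t ∈ D)
    rw [h.val t ht, h.cD] at this; omega
  have tT : t ∈ D.filter fun s => ¬ s * t ∈ D := Finset.mem_filter.2 ⟨ht, by rw [h.sq]; exact h.one⟩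
  have k1 : ∑ u ∈ D.filter (fun s => s * t ∈ D), (D.filter fun s => s * u ∈ D ∧ s * t ∉ D).card =
      ∑ s ∈ D.filter (fun s => ¬ s * t ∈ D), (D.filter fun w => w * t ∈ D ∧ w * s ∈ D).card := by
    simp only [Finset.card_filter, Finset.sum_filter]
    have e1 : ∀ u, (if u * t ∈ D then ∑ s ∈ D, (if s * u ∈ D ∧ s * t ∉ D then 1 else 0) else 0) =
        ∑ s ∈ D, (if u * t ∈ D ∧ s * u ∈ D ∧ s * t ∉ D then 1 else 0) := fun u => by
      by_cases c : u * t ∈ D <;> simp [c]
    have e2 : ∀ s, (if ¬ s * t ∈ D then ∑ w ∈ D, (if w * t ∈ D ∧ w * s ∈ D then 1 else 0) else 0) =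
        ∑ w ∈ D, (if w * t ∈ D ∧ s * w ∈ D ∧ s * t ∉ D then 1 else 0) := fun s => by
      by_cases c : s * t ∈ D
      · simp [c]
      · simp only [c, not_false_eq_true, if_true, and_true]
        simp only [mul_comm s]
    simp only [e1, e2]
    exact Finset.sum_comm
  have k2 : ∑ s ∈ D.filter (fun s => ¬ s * t ∈ D), (D.filter fun w => w * t ∈ D ∧ w * s ∈ D).card = 968 := by
    rw [← Finset.add_sum_erase _ _ tT, Finset.sum_congr rfl (g := fun _ => 4) fun s hs => ?_]
    · simp only [and_self, h.val t ht, Finset.sum_const, Finset.card_erase_of_mem tT, hT]; rfl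
    · have := Finset.mem_erase.1 hs
      have h' := Finset.mem_filter.1 this.2
      exact h.mu4 t ht s h'.1 this.1.symm (by rw [mul_comm]; exact h'.2)
  have k3 := (Finset.sum_eq_sum_iff_of_le (s := D.filter (fun s => s * t ∈ D))
    (f := fun u => (D.filter fun s => s * u ∈ D ∧ s * t ∉ D).card) (g := fun _ => 22) fun u hu => by
      have h' := Finset.mem_filter.1 hu
      have := h.line ht h'.1 (by rw [mul_comm]; exact h'.2)
      omega).1 (by rw [k1, k2, Finset.sum_const, h.val t ht]; rfl)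
  exact k3 u (Finset.mem_filter.2 ⟨hu, by rwa [mul_comm]⟩)

theorem GgA.r1 (h : GgA D) {t u s : A} (ht : t ∈ D) (hu : u ∈ D) (htu : t * u ∈ D) (hs : s ∈ D) (h1 : s * t ∈ D)
    (h2 : s * u ∈ D) : s * (t * u) ∉ D := fun h3 => by
  have := h.line ht hu htu
  rw [h.m22 ht hu htu] at this
  have := Finset.card_pos.2 ⟨s, (Finset.mem_filter (p := fun s => s * t ∈ D ∧ s * u ∈ D ∧ s * (t * u) ∈ D)).2 ⟨hs, h1, h2, h3⟩⟩
  omega

theorem GgA.clique (h : GgA D) : ∃ Q : Finset A, Q.card = 24 ∧ ∀ a ∈ Q, ∀ b ∈ Q, a ≠ b → a * b ∈ D := by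
  obtain ⟨t, ht⟩ := Finset.card_pos.1 (by rw [h.cD]; norm_num : 0 < D.card)
  obtain ⟨u, hu⟩ := Finset.card_pos.1 (by rw [h.val t ht]; norm_num : 0 < (D.filter fun s => s * t ∈ D).card)
  obtain ⟨hu, hut⟩ := Finset.mem_filter.1 hu
  have htu : t * u ∈ D := by rwa [mul_comm]
  have c22 : (D.filter fun s => s * u ∈ D ∧ s * t ∈ D).card = 22 := by
    have := Finset.card_filter_add_card_filter_not (s := D.filter fun s => s * u ∈ D) (fun s => s * t ∈ D)
    rw [Finset.filter_filter, Finset.filter_filter, h.val u hu, h.m22 ht hu htu] at this; omega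
  set N := (D.filter fun s => s * u ∈ D ∧ s * t ∈ D).erase (t * u) with hN
  have mN : ∀ s, s ∈ N ↔ s ≠ t * u ∧ s ∈ D ∧ s * u ∈ D ∧ s * t ∈ D := fun s => by simp [hN]
  have c21 : N.card = 21 := by
    rw [hN, Finset.card_erase_of_mem, c22]
    refine Finset.mem_filter.2 ⟨htu, ?_, ?_⟩
    · rw [mul_assoc, h.sq, mul_one]; exact ht
    · rw [mul_comm, h.can]; exact hu
  have o := h.one
  have tu : t ≠ u := fun e => o (by rwa [e, h.sq] at htu)
  have uN : u ∉ N := fun c => o (by have := ((mN u).1 c).2.2.1; rwa [h.sq] at this)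
  have tN : t ∉ N := fun c => o (by have := ((mN t).1 c).2.2.2; rwa [h.sq] at this)
  have oN : (1 : A) ∉ N := fun c => o ((mN 1).1 c).2.1
  have t1 : (1 : A) ≠ t := fun e => o (e ▸ ht)
  have u1 : (1 : A) ≠ u := fun e => o (e ▸ hu)
  have NN : ∀ a ∈ N, ∀ b ∈ N, a ≠ b → a * b ∈ D := fun a ha b hb n => by
    by_contra c
    obtain ⟨a0, a1, a2, a3⟩ := (mN a).1 ha
    obtain ⟨b0, b1, b2, b3⟩ := (mN b).1 hb
    rcases h.mu a a1 b b1 n c t ht (by rwa [mul_comm]) (by rwa [mul_comm]) u hu (by rwa [mul_comm]) (by rwa [mul_comm]) with e | e | e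
    · exact h.r1 ht hu htu a1 a3 a2 (by rwa [← mul_assoc])
    · exact a0 (by rw [← h.can a (t * u), ← mul_assoc a t, e, mul_one])
    · exact b0 (mul_left_cancel (e.symm.trans (mul_assoc _ _ _)))
  refine ⟨insert 1 (insert t (insert u N)), ?_, fun a ha b hb n => ?_⟩
  · rw [Finset.card_insert_of_notMem (by simp [t1, u1, oN]), Finset.card_insert_of_notMem (by simp [tu, tN]),
      Finset.card_insert_of_notMem uN, c21]
  · simp only [Finset.mem_insert] at ha hb
    rcases ha with rfl | rfl | rfl | ha <;> rcases hb with rfl | rfl | rfl | hb <;>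
      first | exact absurd rfl n | exact NN _ ha _ hb n | (simp only [mul_one, one_mul]; assumption) | assumption | skip
    all_goals first | (have := (mN _).1 hb; simp only [one_mul]; exact this.2.1) | (have := (mN _).1 ha; simp only [mul_one]; exact this.2.1) | skip
    all_goals first | (have := (mN _).1 hb; rw [mul_comm]; first | exact this.2.2.1 | exact this.2.2.2) | skip
    all_goals (have := (mN _).1 ha; first | exact this.2.2.1 | exact this.2.2.2)

end Cfsg.Lib.JF
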