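import Cfsg.Agent.Lib.Block2.JGg1

/-! The triangular graph `T(24)` on the 276 elements of a `2^11`: the Golay code. -/

set_option autoImplicit false
set_option linter.unusedSectionVars false

namespace Cfsg.Lib.JF

open Finset Cfsg.Lib.Golay
open scoped symmDiff

section code
variable {α : Type*} [Fintype α] [DecidableEq α] {C : Submodule (ZMod 2) (α → ZMod 2)}

theorem gg_steiner (hα : Fintype.card α = 24) (hdim : Module.finrank (ZMod 2) C = 12)
    (hev : ∀ s ∈ supports (C : Set (α → ZMod 2)), Even s.card) (hmin : ∀ w ∈ C, w ≠ 0 → 8 ≤ hammingNorm w) :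
    IsSteinerSystem 5 8 (wordsOfWeight (C : Set (α → ZMod 2)) 8) := by
  refine ⟨fun _ h => h.2, fun s hs => ?_⟩
  obtain ⟨u, hu, h⟩ := exists_leader hα hdim hmin s
  have h1 := min_supports hmin h (by rintro rfl; omega)
  have h2 := card_symmDiff_add u s
  have h3 := hev _ h
  rw [Nat.even_iff] at h3
  have h4 : u ∩ s = ∅ := Finset.card_eq_zero.mp (by omega)
  refine ⟨u ∆ s, ⟨⟨h, by omega⟩, fun p hp => Finset.mem_symmDiff.mpr (Or.inr ⟨hp, fun h' => ?_⟩)⟩, ?_⟩
  · exact Finset.notMem_empty p (h4 ▸ Finset.mem_inter.mpr ⟨h', hp⟩)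
  · rintro b ⟨hb, hsb⟩
    by_contra hne
    have h5 := min_supports hmin (symmDiff_mem_supports hb.1 h) hne
    have h6 : s ⊆ b ∩ u ∆ s := fun p hp => Finset.mem_inter.mpr ⟨hsb hp, Finset.mem_symmDiff.mpr
      (Or.inr ⟨hp, fun h' => Finset.notMem_empty p (h4 ▸ Finset.mem_inter.mpr ⟨h', hp⟩)⟩)⟩
    have := Finset.card_le_card h6
    have := hb.2
    omega

theorem gg_unique (hα : Fintype.card α = 24) (hc : Nat.card C = 2 ^ 12)
    (hev : ∀ s ∈ supports (C : Set (α → ZMod 2)), Even s.card) (hmin : ∀ w ∈ C, w ≠ 0 → 8 ≤ hammingNorm w) :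
    ∃ e : α ≃ GolayPt, ∀ s : Finset GolayPt, s.map e.symm.toEmbedding ∈ supports (C : Set (α → ZMod 2)) ↔ s ∈ cw := by
  have hdim : Module.finrank (ZMod 2) C = 12 := by
    have h := Module.natCard_eq_pow_finrank (K := ZMod 2) (V := C)
    rw [hc, Nat.card_zmod] at h
    exact Nat.pow_right_injective le_rfl h.symm
  obtain ⟨f, h⟩ := model24 hα (gg_steiner hα hdim hev hmin)
  let e := Equiv.ofBijective f ⟨f.injective, fun p => (h.range p).mp (by simp)⟩
  have h1 : ∀ o ∈ octads, o.map e.symm.toEmbedding ∈ supports (C : Set (α → ZMod 2)) := fun o ho => by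
    refine ((h.iff _).mpr ?_).1
    rw [octs_empty, Finset.union_empty, show f = e.toEmbedding from rfl, Finset.map_map]
    simpa using ho
  have h2 : ∀ s ∈ cw, s.map e.symm.toEmbedding ∈ supports (C : Set (α → ZMod 2)) := fun s hs =>
    cw_induction (P := fun o => o.map e.symm.toEmbedding ∈ supports (C : Set (α → ZMod 2))) h1
      (fun s t hs ht => by
        simp only [Finset.map_eq_image] at *
        rw [Finset.image_symmDiff _ _ e.symm.toEmbedding.injective]
        exact symmDiff_mem_supports hs ht) hs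
  have inj := Finset.map_injective e.symm.toEmbedding
  have h3 : (Finset.map e.symm.toEmbedding) '' cw = supports (C : Set (α → ZMod 2)) :=
    Set.eq_of_subset_of_ncard_le (by rintro _ ⟨s, hs, rfl⟩; exact h2 s hs) (by
      rw [Set.ncard_image_of_injective _ inj, ncard_cw_all, supports, Set.ncard_image_of_injective _ support₂_injective]
      exact hc.le)
  exact ⟨e, fun s => by rw [← h3]; exact inj.mem_set_image⟩

end code

variable {A : Type*} [CommGroup A] [DecidableEq A] {D : Finset A} {α : Type*} [Fintype α] [DecidableEq α] {e : α → A}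

theorem gg_prod (sq : ∀ a : A, a * a = 1) (e : α → A) (S T : Finset α) : ∏ p ∈ S ∆ T, e p = (∏ p ∈ S, e p) * ∏ p ∈ T, e p := by
  simp only [← Finset.prod_ite_mem_eq (f := e)]
  rw [← Finset.prod_mul_distrib]
  refine Finset.prod_congr rfl fun p _ => ?_
  by_cases h1 : p ∈ S <;> by_cases h2 : p ∈ T <;> simp [Finset.mem_symmDiff, h1, h2, sq]

theorem GgA.k (h : GgA D) (a b c : A) : a * c * (b * c) = a * b := by
  rw [mul_comm b, mul_assoc, h.can]

theorem GgA.w4 (h : GgA D) (pr : ∀ p q, p ≠ q → e p * e q ∈ D) {p q r o : α} (pq : p ≠ q) (pr' : p ≠ r) (po : p ≠ o)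
    (qr : q ≠ r) (qo : q ≠ o) (ro : r ≠ o) : e p * e q * (e r * e o) ∉ D := by
  have := h.r1 (pr p o po) (pr q o qo) (by rw [h.k]; exact pr p q pq) (pr r o ro) (by rw [h.k]; exact pr r p pr'.symm)
    (by rw [h.k]; exact pr r q qr.symm)
  rwa [h.k, mul_comm] at this

theorem GgA.w2 (h : GgA D) (pr : ∀ p q, p ≠ q → e p * e q ∈ D) (p q r s : α) (pq : p ≠ q) (rs : r ≠ s)
    (c : e p * e q * (e r * e s) ∈ D) : p = r ∨ p = s ∨ q = r ∨ q = s := by
  by_contra n
  push Not at n
  exact h.w4 pr pq n.1 n.2.1 n.2.2.1 n.2.2.2 rs c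

theorem GgA.inj (h : GgA D) (pr : ∀ p q, p ≠ q → e p * e q ∈ D) : Function.Injective e := fun p q c => by
  by_contra n
  exact h.one (by have := pr p q n; rwa [c, h.sq] at this)

theorem GgA.w3 (h : GgA D) (hα : Fintype.card α = 24) (pr : ∀ p q, p ≠ q → e p * e q ∈ D) (p q r s : α) (pq : p ≠ q)
    (c : e p * e q = e r * e s) : p = r ∧ q = s ∨ p = s ∧ q = r := by
  have i := h.inj pr
  by_cases a1 : p = r
  · subst a1; exact Or.inl ⟨rfl, i (mul_left_cancel c)⟩
  by_cases a2 : p = s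
  · subst a2; exact Or.inr ⟨rfl, i (mul_left_cancel (c.trans (mul_comm _ _)))⟩
  by_cases a3 : q = r
  · subst a3; exact absurd (i (mul_right_cancel (c.trans (mul_comm _ _)))) a2
  by_cases a4 : q = s
  · subst a4; exact absurd (i (mul_right_cancel c)) a1
  have rs : r ≠ s := fun e' => h.one (by have := pr p q pq; rwa [c, e', h.sq] at this)
  obtain ⟨o, -, ho⟩ := Finset.exists_mem_notMem_of_card_lt_card (s := ({p, q, r, s} : Finset α)) (t := Finset.univ)
    (by rw [Finset.card_univ, hα]; exact Finset.card_le_four.trans_lt (by norm_num))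
  simp only [Finset.mem_insert, Finset.mem_singleton, not_or] at ho
  refine (h.w4 pr pq a1 (Ne.symm ho.1) a3 (Ne.symm ho.2.1) (Ne.symm ho.2.2.1) ?_).elim
  rw [c, mul_comm (e r), mul_comm (e r), h.k]
  exact pr s o (Ne.symm ho.2.2.2)

theorem GgA.duad (h : GgA D) (hα : Fintype.card α = 24) (pr : ∀ p q, p ≠ q → e p * e q ∈ D) (a : A) :
    a ∈ D ↔ ∃ S : Finset α, S.card = 2 ∧ ∏ p ∈ S, e p = a := by
  have h1 : (Finset.powersetCard 2 Finset.univ).image (fun S : Finset α => ∏ p ∈ S, e p) = D := by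
    refine Finset.eq_of_subset_of_card_le (fun a ha => ?_) ?_
    · obtain ⟨S, hS, rfl⟩ := Finset.mem_image.1 ha
      obtain ⟨p, q, n, rfl⟩ := Finset.card_eq_two.1 (Finset.mem_powersetCard_univ.1 hS)
      rw [Finset.prod_pair n]; exact pr p q n
    · rw [Finset.card_image_of_injOn fun S hS T hT c => ?_, h.cD, Finset.card_powersetCard, Finset.card_univ, hα]
      · decide +kernel
      obtain ⟨p, q, n, rfl⟩ := Finset.card_eq_two.1 (Finset.mem_powersetCard_univ.1 hS)
      obtain ⟨r, s, n', rfl⟩ := Finset.card_eq_two.1 (Finset.mem_powersetCard_univ.1 hT)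
      simp only [Finset.prod_pair n, Finset.prod_pair n'] at c
      rcases h.w3 hα pr p q r s n c with ⟨rfl, rfl⟩ | ⟨rfl, rfl⟩
      exacts [rfl, Finset.pair_comm _ _]
  rw [← h1]; simp

theorem GgA.hD (h : GgA D) (hα : Fintype.card α = 24) (pr : ∀ p q, p ≠ q → e p * e q ∈ D) (a : A) :
    a ∈ D ↔ ∃ p q, p ≠ q ∧ a = e p * e q := by
  refine ⟨fun ha => ?_, fun ⟨p, q, n, c⟩ => c ▸ pr p q n⟩
  obtain ⟨S, hS, rfl⟩ := (h.duad hα pr a).1 ha
  obtain ⟨p, q, n, rfl⟩ := Finset.card_eq_two.1 hS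
  exact ⟨p, q, n, Finset.prod_pair n⟩

theorem gg_even {S T : Finset α} (hS : Even S.card) (hT : Even T.card) : Even (S ∆ T).card := by
  have := card_symmDiff_add S T
  rw [Nat.even_iff] at *; omega

theorem GgA.mem (h : GgA D) (hα : Fintype.card α = 24) (pr : ∀ p q, p ≠ q → e p * e q ∈ D)
    (gen : Subgroup.closure (D : Set A) = ⊤) (a : A) : ∃ S : Finset α, Even S.card ∧ ∏ p ∈ S, e p = a := by
  have ha : a ∈ Subgroup.closure (D : Set A) := gen ▸ Subgroup.mem_top a
  induction ha using Subgroup.closure_induction with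
  | mem x hx => obtain ⟨S, hS, c⟩ := (h.duad hα pr x).1 hx; exact ⟨S, by rw [hS]; decide, c⟩
  | one => exact ⟨∅, by simp, by simp⟩
  | mul x y _ _ hx hy =>
    obtain ⟨S, hS, rfl⟩ := hx
    obtain ⟨T, hT, rfl⟩ := hy
    exact ⟨S ∆ T, gg_even hS hT, gg_prod h.sq e S T⟩
  | inv x _ hx => rwa [inv_eq_of_mul_eq_one_right (h.sq x)]

theorem GgA.min (h : GgA D) (hα : Fintype.card α = 24) (pr : ∀ p q, p ≠ q → e p * e q ∈ D) {S : Finset α}
    (hS : Even S.card) (c : ∏ p ∈ S, e p = 1) (n : S.card ≠ 0) : 8 ≤ S.card := by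
  by_contra l
  rw [Nat.even_iff] at hS
  obtain ⟨T, hT, T2⟩ := Finset.exists_subset_card_eq (s := S) (n := 2) (by omega)
  have c1 : ∏ p ∈ S \ T, e p = ∏ p ∈ T, e p := by
    rw [← Finset.prod_sdiff hT] at c
    rw [eq_inv_of_mul_eq_one_left c, inv_eq_of_mul_eq_one_right (h.sq _)]
  have c2 := Finset.card_sdiff_add_card_eq_card hT
  have dj : Disjoint (S \ T) T := Finset.sdiff_disjoint
  generalize S \ T = U at c1 c2 dj
  obtain ⟨p, q, pq, rfl⟩ := Finset.card_eq_two.1 T2
  have hd := pr p q pq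
  rw [Finset.prod_pair pq] at c1
  obtain h0 | h2 | h4 : U.card = 0 ∨ U.card = 2 ∨ U.card = 4 := by omega
  · rw [Finset.card_eq_zero.1 h0, Finset.prod_empty] at c1
    exact h.one (c1 ▸ hd)
  · obtain ⟨r, s, rs, rfl⟩ := Finset.card_eq_two.1 h2
    rw [Finset.prod_pair rs] at c1
    rcases h.w3 hα pr r s p q rs c1 with ⟨rfl, rfl⟩ | ⟨rfl, rfl⟩ <;> simp at dj
  · obtain ⟨r, s, u, v, rs, ru, rv, su, sv, uv, rfl⟩ := Finset.card_eq_four.1 h4
    rw [Finset.prod_insert (by simp [rs, ru, rv]), Finset.prod_insert (by simp [su, sv]), Finset.prod_pair uv, ← mul_assoc] at c1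
    exact h.w4 pr rs ru rv su sv uv (c1 ▸ hd)

theorem GgA.golay (h : GgA D) (cA : Nat.card A = 2 ^ 11) (gen : Subgroup.closure (D : Set A) = ⊤) :
    ∃ e : GolayPt → A, (∀ p q, p ≠ q → e p * e q ∈ D) ∧ ∀ S : Finset GolayPt, Even S.card → (∏ p ∈ S, e p = 1 ↔ S ∈ cw) := by
  obtain ⟨Q, cQ, hQ⟩ := h.clique
  have hα : Fintype.card Q = 24 := by rw [Fintype.card_coe, cQ]
  have pr : ∀ p q : Q, p ≠ q → (p : A) * (q : A) ∈ D := fun p q n => hQ _ p.2 _ q.2 fun c => n (Subtype.ext c)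
  let F : (Q → ZMod 2) →+ Additive A × ZMod 2 := AddMonoidHom.mk'
    (fun w => (Additive.ofMul (∏ p ∈ support₂ w, (p : A)), ((support₂ w).card : ZMod 2))) fun v w => by
      rw [support₂_add, gg_prod h.sq]
      refine Prod.ext rfl ?_
      have := congrArg (Nat.cast : ℕ → ZMod 2) (card_symmDiff_add (support₂ v) (support₂ w))
      push_cast at this
      rw [show (2 : ZMod 2) = 0 from rfl, zero_mul, add_zero] at this
      exact this
  have hF : ∀ w, F w = (Additive.ofMul (∏ p ∈ support₂ w, (p : A)), ((support₂ w).card : ZMod 2)) := fun _ => rfl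
  have sur : F.range = ⊤ := by
    refine AddMonoidHom.range_eq_top.2 fun ⟨a, x⟩ => ?_
    rcases zmod2_cases x with rfl | rfl
    · obtain ⟨S, hS, c⟩ := h.mem hα pr gen (Additive.toMul a)
      exact ⟨ind S, by rw [hF, support₂_ind, c, (ZMod.natCast_eq_zero_iff_even).2 hS]; rfl⟩
    · obtain ⟨o⟩ : Nonempty Q := Fintype.card_pos_iff.1 (by omega)
      obtain ⟨S, hS, c⟩ := h.mem hα pr gen (Additive.toMul a * o)
      refine ⟨ind S + ind {o}, ?_⟩
      rw [map_add, hF, hF, support₂_ind, support₂_ind, c, (ZMod.natCast_eq_zero_iff_even).2 hS, Finset.prod_singleton,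
        Finset.card_singleton, Prod.mk_add_mk, ← ofMul_mul, mul_assoc, h.sq, mul_one]
      rfl
  let C : Submodule (ZMod 2) (Q → ZMod 2) := AddSubgroup.toZModSubmodule 2 F.ker
  have mC : ∀ w, w ∈ C ↔ ∏ p ∈ support₂ w, (p : A) = 1 ∧ Even (support₂ w).card := fun w => by
    change w ∈ F.ker ↔ _
    rw [AddMonoidHom.mem_ker, hF, Prod.mk_eq_zero, ZMod.natCast_eq_zero_iff_even]; rfl
  have mS : ∀ S, S ∈ supports (C : Set (Q → ZMod 2)) ↔ ∏ p ∈ S, (p : A) = 1 ∧ Even S.card := fun S => by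
    rw [mem_supports_iff, SetLike.mem_coe, mC, support₂_ind]
  have cC : Nat.card C = 2 ^ 12 := by
    have h1 := F.ker.card_mul_index
    rw [AddSubgroup.index_ker, sur, AddSubgroup.card_top, Nat.card_prod, Nat.card_zmod, Nat.card_fun, Nat.card_zmod,
      Nat.card_eq_fintype_card (α := Q), hα, show Nat.card (Additive A) = 2 ^ 11 from cA] at h1
    change Nat.card F.ker = _
    omega
  obtain ⟨f, hf⟩ := gg_unique hα cC (fun s hs => ((mS s).1 hs).2) fun w hw n => by
    rw [hammingNorm_eq_card]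
    refine h.min hα pr ((mC w).1 hw).2 ((mC w).1 hw).1 fun c => n ?_
    rw [← ind_support₂ w, Finset.card_eq_zero.1 c, ind_empty]
  refine ⟨fun p => f.symm p, fun p q n => pr _ _ (f.symm.injective.ne n), fun S hS => ?_⟩
  rw [← hf, mS, Finset.prod_map, Finset.card_map]
  exact ⟨fun c => ⟨c, hS⟩, fun c => c.1⟩

end Cfsg.Lib.JF
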