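import Cfsg.Agent.Lib.Block2.JG0
import Cfsg.Agent.Lib.Block2.JGg2

/-! The triangular graph `T(24)` on the 276 elements of a `2^11`: the Todd module structure. -/

set_option autoImplicit false
set_option linter.unusedSectionVars false

namespace Cfsg.Lib.JF

open Subgroup Cfsg.Lib.Amalg Cfsg.Lib.Golay
open scoped Pointwise symmDiff

variable {G : Type*} [Group G]

theorem gg_whitney {α : Type*} [Finite α] {e : α → G} (cm : ∀ p q, e p * e q = e q * e p) (sq : ∀ p, e p * e p = 1) {D : G → Prop}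
    (hD : ∀ a, D a ↔ ∃ p q, p ≠ q ∧ a = e p * e q) (w3 : ∀ p q r s, p ≠ q → e p * e q = e r * e s → p = r ∧ q = s ∨ p = s ∧ q = r)
    (w2 : ∀ p q r s, p ≠ q → r ≠ s → D (e p * e q * (e r * e s)) → p = r ∨ p = s ∨ q = r ∨ q = s) {o a b : α} (oa : a ≠ o) (ob : b ≠ o)
    (ab : a ≠ b) (φ : G →* G) (hφ : Function.Injective φ) (h : ∀ x, D x → D (φ x)) :
    ∃ π : Equiv.Perm α, ∀ p q, φ (e p * e q) = e (π p) * e (π q) := by
  classical
  have k : ∀ p q r, e p * e r * (e q * e r) = e p * e q := fun p q r => by rw [cm q r, mul_assoc, ← mul_assoc (e r), sq, one_mul]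
  have d := fun p q n => h _ ((hD _).2 ⟨p, q, n, rfl⟩)
  have d2 : ∀ p q, p ≠ q → D (φ (e p * e o) * φ (e q * e o)) := fun p q n => by rw [← map_mul, k]; exact d p q n
  obtain ⟨t, u, v, ut, vt, eu, ev⟩ : ∃ t u v, u ≠ t ∧ v ≠ t ∧ φ (e a * e o) = e u * e t ∧ φ (e b * e o) = e v * e t := by
    obtain ⟨p, q, n, e1⟩ := (hD _).1 (d a o oa)
    obtain ⟨r, s, n', e2⟩ := (hD _).1 (d b o ob)
    rcases w2 p q r s n n' (e1 ▸ e2 ▸ d2 a b ab) with rfl | rfl | rfl | rfl
    exacts [⟨p, q, s, n.symm, n'.symm, e1.trans (cm _ _), e2.trans (cm _ _)⟩, ⟨p, q, r, n.symm, n', e1.trans (cm _ _), e2⟩,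
      ⟨q, p, s, n, n'.symm, e1, e2.trans (cm _ _)⟩, ⟨q, p, r, n, n', e1, e2⟩]
  have key : ∀ q, ∃ w, φ (e q * e o) = e w * e t := fun q => by
    by_cases q1 : q = o
    · exact ⟨t, by rw [q1, sq, sq, map_one]⟩
    by_cases q2 : q = a
    · exact ⟨u, q2 ▸ eu⟩
    by_cases q3 : q = b
    · exact ⟨v, q3 ▸ ev⟩
    obtain ⟨r, s, n, e1⟩ := (hD _).1 (d q o q1)
    by_cases r1 : r = t
    · exact ⟨s, r1 ▸ e1.trans (cm _ _)⟩
    by_cases s1 : s = t
    · exact ⟨r, s1 ▸ e1⟩
    have uv : u ≠ v := fun c => (w3 a o b o oa (hφ (by rw [eu, ev, c]))).elim (fun c => ab c.1) fun c => oa c.1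
    have c1 := w2 r s u t n ut (e1 ▸ eu ▸ d2 q a q2)
    have c2 := w2 r s v t n vt (e1 ▸ ev ▸ d2 q b q3)
    have : e r * e s = e u * e v := by
      rcases c1 with rfl | c | rfl | c <;> rcases c2 with rfl | c | rfl | c <;> first | contradiction | rfl | exact cm _ _
    exact ((w3 q o a b q1 (hφ (by rw [e1, this, ← k a b o, map_mul, eu, ev, k]))).elim (fun c => q2 c.1) fun c => q3 c.1).elim
  choose π hπ using key
  have m : ∀ p q, φ (e p * e q) = e (π p) * e (π q) := fun p q => by rw [← k p q o, map_mul, hπ, hπ, k]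
  refine ⟨Equiv.ofBijective π (Finite.injective_iff_bijective.1 fun p q c => by_contra fun n => ?_), m⟩
  exact (w3 p q o o n (hφ (by rw [m, c, sq, sq, map_one]))).elim (fun c => n (c.1.trans c.2.symm)) fun c => n (c.1.trans c.2.symm)

section abs
variable {A : Type*} [CommGroup A] [DecidableEq A] {D : Finset A} {e : GolayPt → A}

theorem GgA.uniq (h : GgA D) (pr : ∀ p q, p ≠ q → e p * e q ∈ D) {π ρ : Equiv.Perm GolayPt}
    (c : ∀ p q, e (π p) * e (π q) = e (ρ p) * e (ρ q)) : π = ρ := by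
  ext1 p
  by_contra n
  obtain ⟨q, -, hq⟩ := Finset.exists_mem_notMem_of_card_lt_card (s := ({p} : Finset GolayPt)) (t := Finset.univ)
    (by rw [Finset.card_univ, card_golayPt]; simp)
  obtain ⟨r, -, hr⟩ := Finset.exists_mem_notMem_of_card_lt_card (s := ({p, q} : Finset GolayPt)) (t := Finset.univ)
    (by rw [Finset.card_univ, card_golayPt]; exact Finset.card_le_two.trans_lt (by norm_num))
  simp only [Finset.mem_insert, Finset.mem_singleton, not_or] at hq hr
  have h1 := (h.w3 card_golayPt pr _ _ _ _ (π.injective.ne (Ne.symm hq)) (c p q)).resolve_left fun c => n c.1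
  have h2 := (h.w3 card_golayPt pr _ _ _ _ (π.injective.ne (Ne.symm hr.1)) (c p r)).resolve_left fun c => n c.1
  exact hr.2 (ρ.injective (h2.1.symm.trans h1.1))

theorem GgA.perm (h : GgA D) (pr : ∀ p q, p ≠ q → e p * e q ∈ D) (φ : A →* A) (hφ : Function.Injective φ)
    (hD : ∀ x ∈ D, φ x ∈ D) : ∃ π : Equiv.Perm GolayPt, ∀ p q, φ (e p * e q) = e (π p) * e (π q) := by
  obtain ⟨o, a, b, oa, ob, ab⟩ := Fintype.two_lt_card_iff.1 (by rw [card_golayPt]; norm_num : 2 < Fintype.card GolayPt)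
  exact gg_whitney (fun _ _ => mul_comm _ _) (fun _ => h.sq _) (D := (· ∈ D)) (h.hD card_golayPt pr) (h.w3 card_golayPt pr)
    (h.w2 pr) oa.symm ob.symm ab φ hφ hD

theorem GgA.act (h : GgA D) (φ : A →* A) {π : Equiv.Perm GolayPt} (c : ∀ p q, φ (e p * e q) = e (π p) * e (π q))
    {S : Finset GolayPt} (hS : Even S.card) : φ (∏ p ∈ S, e p) = ∏ p ∈ π • S, e p := by
  have k : ∀ (f : GolayPt → A) (a : A), ∏ p ∈ S, (f p * a) = ∏ p ∈ S, f p := fun f a => by
    obtain ⟨k, hk⟩ := hS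
    rw [Finset.prod_mul_distrib, Finset.prod_const, hk, pow_add, h.sq, mul_one]
  rw [← k e (e none), map_prod, Finset.prod_congr rfl fun p _ => c p none, k fun p => e (π p), Finset.smul_finset_def]
  exact (Finset.prod_image (g := fun x => π • x) fun p _ q _ c => π.injective c).symm

end abs

theorem GD.comm {V : Subgroup G} {D : Set G} (h : GD V D) {a b : G} (ha : a ∈ V) (hb : b ∈ V) : a * b = b * a := by
  have i : ∀ v ∈ V, v⁻¹ = v := fun v hv => inv_eq_of_mul_eq_one_right (h.sq v hv)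
  rw [← i _ (mul_mem ha hb), mul_inv_rev, i a ha, i b hb]

theorem GD.mu4 [Finite G] {V : Subgroup G} {D : Set G} (h : GD V D) {t s : G} (ht : t ∈ D) (hs : s ∈ D) (n : t ≠ s) (c : t * s ∉ D) :
    {w | w ∈ D ∧ w * t ∈ D ∧ w * s ∈ D}.ncard = 4 := by
  obtain ⟨X, cX, tX, sX, h1, h2⟩ := h.mu t ht s hs n c
  have tV := (h.sub t ht).1
  have sV := (h.sub s hs).1
  have o : (1 : G) ∉ D := fun c => (h.sub 1 c).2 rfl
  have e1 : {w | w ∈ D ∧ w * t ∈ D ∧ w * s ∈ D} = (X : Set G) \ {1, t * s, t, s} := by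
    ext w
    simp only [Set.mem_setOf_eq, Set.mem_diff, SetLike.mem_coe, Set.mem_insert_iff, Set.mem_singleton_iff, not_or]
    refine ⟨fun ⟨a, b, d⟩ => ⟨h2 w a b d, fun e => o (e ▸ a), fun e => c (e ▸ a), fun e => o ?_, fun e => o ?_⟩,
      fun ⟨a, b, d, e, f⟩ => ⟨h1 w a b d, h1 _ (mul_mem a tX) (fun c => e ?_) fun c => f ?_, h1 _ (mul_mem a sX) (fun c => f ?_) fun c => e ?_⟩⟩
    · rwa [e, h.sq t tV] at b
    · rwa [e, h.sq s sV] at d
    · exact mul_right_cancel (c.trans (h.sq t tV).symm)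
    · exact mul_right_cancel (c.trans (h.comm tV sV))
    · exact mul_right_cancel (c.trans (h.sq s sV).symm)
    · exact mul_right_cancel c
  have t1 := (h.sub t ht).2
  have s1 := (h.sub s hs).2
  have a1 : (1 : G) ≠ t * s := fun c => n (mul_right_cancel (c.symm.trans (h.sq s sV).symm))
  have a2 : t * s ≠ t := fun e => c (e.symm ▸ ht)
  have a3 : t * s ≠ s := fun e => c (e.symm ▸ hs)
  have e2 : ({1, t * s, t, s} : Set G).ncard = 4 := by
    rw [Set.ncard_insert_of_notMem (by simp [a1, t1.symm, s1.symm]), Set.ncard_insert_of_notMem (by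
      simp only [Set.mem_insert_iff, Set.mem_singleton_iff, not_or]; exact ⟨a2, a3⟩), Set.ncard_pair n]
  rw [e1, Set.ncard_diff (by
    rintro w (rfl | rfl | rfl | rfl)
    exacts [one_mem X, mul_mem tX sX, tX, sX]), e2, show (X : Set G).ncard = 8 from cX]

theorem GD.exists_TM [Finite G] {V : Subgroup G} {D : Set G} (h : GD V D) : ∃ ε θ, TM V D ε θ := by
  classical
  letI : CommGroup V := { (inferInstance : Group V) with mul_comm := fun a b => Subtype.ext (h.comm a.2 b.2) }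
  have := Fintype.ofFinite V
  let D' : Finset V := Finset.univ.filter fun v => (v : G) ∈ D
  have mD : ∀ v : V, v ∈ D' ↔ (v : G) ∈ D := fun v => by simp [D']
  have tr : ∀ (P : G → Prop) (P' : V → Prop) [DecidablePred P'], (∀ v : V, P' v ↔ P v) →
      (D'.filter P').card = {w | w ∈ D ∧ P w}.ncard := fun P P' _ hP => by
    rw [← Set.ncard_coe_finset, ← Set.ncard_image_of_injective _ (Subtype.val_injective (p := (· ∈ V)))]
    congr 1
    ext w
    simp only [Set.mem_image, Finset.mem_coe, Finset.mem_filter, mD, hP, Set.mem_setOf_eq]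
    exact ⟨fun ⟨v, a, e⟩ => e ▸ a, fun a => ⟨⟨w, (h.sub w a.1).1⟩, a, rfl⟩⟩
  have a : GgA D' := by
    refine ⟨fun a => Subtype.ext (h.sq a a.2), fun c => (h.sub _ ((mD _).1 c)).2 rfl, ?_, fun t ht => ?_, fun t ht s hs n c => ?_,
      fun t ht s hs n c u hu u1 u2 w hw w1 w2 => ?_, fun t ht s hs n c a ha a1 => ?_⟩
    · have := tr (fun _ => True) (fun _ => True) fun _ => Iff.rfl
      simp only [Finset.filter_true, and_true, Set.setOf_mem_eq] at this
      rw [this, h.cD]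
    · rw [tr (fun s => s * t ∈ D) _ fun v => mD _, h.val t ((mD _).1 ht)]
    · rw [tr (fun w => w * t ∈ D ∧ w * s ∈ D) _ fun v => and_congr (mD _) (mD _)]
      exact h.mu4 ((mD _).1 ht) ((mD _).1 hs) (fun e => n (Subtype.ext e)) fun e => c ((mD _).2 e)
    · obtain ⟨X, -, tX, sX, h1, h2⟩ := h.mu t ((mD _).1 ht) s ((mD _).1 hs) (fun e => n (Subtype.ext e)) fun e => c ((mD _).2 e)
      by_contra k
      push Not at k
      exact k.1 ((mD _).2 (h1 _ (mul_mem (mul_mem tX (h2 _ ((mD _).1 hu) ((mD _).1 u1) ((mD _).1 u2)))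
        (h2 _ ((mD _).1 hw) ((mD _).1 w1) ((mD _).1 w2))) (fun e => k.2.1 (Subtype.ext e)) fun e => k.2.2 (Subtype.ext e)))
    · rw [mD, mD]
      exact h.cot t ((mD _).1 ht) s ((mD _).1 hs) (fun e => n (Subtype.ext e)) (fun e => c ((mD _).2 e)) a ((mD _).1 ha) ((mD _).1 a1)
  have gen : closure (D' : Set V) = ⊤ := by
    apply map_injective V.subtype_injective
    rw [MonoidHom.map_closure, ← MonoidHom.range_eq_map, range_subtype]
    have : V.subtype '' (D' : Set V) = D := by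
      ext w
      exact ⟨fun ⟨v, a, e⟩ => e ▸ (mD v).1 a, fun a => ⟨⟨w, (h.sub w a).1⟩, (mD _).2 a, rfl⟩⟩
    rw [this]
    exact le_antisymm ((closure_le V).2 fun d hd => (h.sub d hd).1) h.gen
  obtain ⟨e, pr, he⟩ := a.golay h.card gen
  let φ : 𝐍 V →* MulAut V := V.normalizerMonoidHom
  have hφ : ∀ (g : 𝐍 V) (v : V), ((φ g v : V) : G) = g * v * (g : G)⁻¹ := fun _ _ => rfl
  have ex := fun g : 𝐍 V => a.perm pr (φ g).toMonoidHom (φ g).injective fun x hx =>
    (mD _).2 (h.inv g g.2 x ((mD _).1 hx))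
  choose π hπ using ex
  let θ : 𝐍 V →* Equiv.Perm GolayPt := MonoidHom.mk' π fun g k => a.uniq pr fun p q => by
    rw [← hπ, Equiv.Perm.mul_apply, Equiv.Perm.mul_apply, ← hπ, ← hπ, map_mul φ]; rfl
  have act : ∀ (g : 𝐍 V) (S : Finset GolayPt), Even S.card → φ g (∏ p ∈ S, e p) = ∏ p ∈ θ g • S, e p :=
    fun g S hS => a.act (φ g).toMonoidHom (hπ g) hS
  have ker : ∀ g, θ g = 1 ↔ (g : G) ∈ V := fun g => by
    refine ⟨fun c => h.cen (mem_centralizer_iff.2 fun v hv => ?_), fun c => a.uniq pr fun p q => ?_⟩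
    · obtain ⟨S, hS, k⟩ := a.mem card_golayPt pr gen ⟨v, hv⟩
      have := act g S hS
      rw [c, one_smul, k] at this
      have := congrArg Subtype.val this
      rw [hφ, mul_inv_eq_iff_eq_mul] at this
      exact this.symm
    · refine (hπ g p q).symm.trans (Subtype.ext ((hφ g _).trans ?_))
      rw [h.comm c (e p * e q).2, mul_inv_cancel_right]; rfl
  refine ⟨fun S => ((∏ p ∈ S, e p : V) : G), θ, fun S T => congrArg Subtype.val (gg_prod a.sq e S T), fun S hS => ?_,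
    fun v => ⟨fun hv => ?_, fun ⟨S, _, c⟩ => c ▸ SetLike.coe_mem _⟩, fun g S hS => congrArg Subtype.val (act g S hS), ?_, ker,
    fun t => ⟨fun ht => ?_, fun ⟨S, hS, c⟩ => c ▸ (mD _).1 ((a.duad card_golayPt pr _).2 ⟨S, hS, rfl⟩)⟩⟩
  · rw [← he S hS]; exact OneMemClass.coe_eq_one
  · obtain ⟨S, hS, c⟩ := a.mem card_golayPt pr gen ⟨v, hv⟩
    exact ⟨S, hS, congrArg Subtype.val c⟩
  · refine eq_of_le_of_card_ge ?_ ?_
    · rintro _ ⟨g, rfl⟩
      refine mem_M24_iff.2 fun S hS => ?_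
      have ev : Even S.card := by rcases card_cw hS with c | c | c | c | c <;> rw [c] <;> decide
      rw [← he _ (by rwa [Finset.card_smul_finset]), ← act g S ev, (he S ev).2 hS, map_one]
    · have h1 := θ.ker.card_mul_index
      rw [index_ker, h.cN, show θ.ker = V.subgroupOf (𝐍 V) from by ext g; rw [MonoidHom.mem_ker, ker]; rfl,
        Nat.card_congr (subgroupOfEquivOfLe V.le_normalizer).toEquiv, h.card] at h1
      rw [card_M24]; omega
  · obtain ⟨S, hS, c⟩ := (a.duad card_golayPt pr ⟨t, (h.sub t ht).1⟩).1 ((mD _).2 ht)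
    exact ⟨S, hS, congrArg Subtype.val c⟩

end Cfsg.Lib.JF
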