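import Cfsg.Agent.Lib.Block2.JGr2

/-! Groups of Janko-four type: one class of elements of order three. -/

set_option autoImplicit false
set_option linter.unusedSectionVars false

namespace Cfsg.Lib.JF

open Subgroup Cfsg.Lib.Amalg Cfsg.Lib.Core Cfsg.Lib.Known2 Spor
open scoped Pointwise symmDiff commutatorElement

variable {G : Type*} [Group G] [Finite G] {E : Subgroup G} {z p : G} {φ : KK z p →* Equiv.Perm GolayPt}

theorem conj_lift {V : Subgroup G} (hV : ∀ v ∈ V, v * v = 1) {q v : G} (hq : q ∈ 𝐍 V) (hv : v ∈ V) (q3 : q ^ 3 = 1)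
    (e : (q * v) ^ 3 = 1) : IsConj q (q * v) := by
  have h1 : q⁻¹ * v * q ∈ V := (mem_normalizer_iff''.1 hq v).1 hv
  have i1 : (q⁻¹ * v * q)⁻¹ = q⁻¹ * v * q := inv_eq_of_mul_eq_one_right (hV _ h1)
  have i0 : v⁻¹ = v := inv_eq_of_mul_eq_one_right (hV _ hv)
  refine isConj_iff.2 ⟨q⁻¹ * v * q, ?_⟩
  rw [i1]
  calc q⁻¹ * v * q * q * (q⁻¹ * v * q) = q * (q ^ 3)⁻¹ * (q * v) ^ 3 * v⁻¹ := by
        simp only [pow_succ, pow_zero]; group
    _ = _ := by rw [q3, e, i0]; group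

theorem JS.fuse (h : JS E z p M22 φ) {S : Subgroup G} {T : Subgroup (Equiv.Perm GolayPt)} (s : SS φ S T) {x y : G}
    (hx : x ∈ S) (hy : y ∈ S) (nx : x ∉ zpowers p) (ny : y ∉ zpowers p) : IsConj x y := by
  obtain ⟨m, hm, l⟩ := s.im x hx
  obtain ⟨m', hm', l'⟩ := s.im y hy
  obtain ⟨c, hc, e⟩ := conj22 (h.mem l) (h.mem l') (s.t3 m hm) (s.t3 m' hm')
    (fun k => nx (h.ker3 (l.of_eq k) (s.x.s3 x hx))) (fun k => ny (h.ker3 (l'.of_eq k) (s.x.s3 y hy)))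
  obtain ⟨d, ld⟩ := h.ex hc
  obtain ⟨u, hu, e2⟩ := h.lift3 l' ((ld.cnj l).of_eq e) (s.x.s3 y hy) (by rw [conj_pow, s.x.s3 x hx]; group)
  refine (isConj_iff.2 ⟨d, e2⟩).trans (IsConj.symm ?_)
  obtain ⟨w, hw, n⟩ : ∃ w ∈ S, w * y ≠ y * w := by
    by_contra k
    push Not at k
    exact ny (s.x.cen hy k)
  have pc : ∀ t ∈ zpowers p, ∀ w ∈ S, w * t = t * w := by
    rintro _ ⟨n, rfl⟩ w hw
    exact ((show Commute w p from s.x.qc w hw).zpow_right n).eq
  obtain ⟨t, ht, e3⟩ : ∃ t ∈ zpowers p, w * y * w⁻¹ = y * t :=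
    ⟨_, s.x.com w hw y hy, by rw [pc _ (s.x.com w hw y hy) y hy]; group⟩
  have c1 : IsConj y (y * t) := isConj_iff.2 ⟨w, e3⟩
  have c2 : IsConj y (y * (t * t)) := isConj_iff.2 ⟨w * w, by
    rw [show w * w * y * (w * w)⁻¹ = w * (w * y * w⁻¹) * w⁻¹ by group, e3, ← conj_mul, e3,
      conj_eq_of_comm (pc t ht w hw), mul_assoc]⟩
  have pp : p * p = p⁻¹ := by rw [eq_inv_iff_mul_eq_one, ← h.p3]; simp [pow_succ]
  have pp' : p⁻¹ * p⁻¹ = p := by rw [← mul_inv_rev, pp, inv_inv]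
  rcases h.zp ht with rfl | rfl | rfl
  · exact absurd (comm_of_conj_eq (e3.trans (mul_one _))) n
  · rw [pp] at c2
    rcases h.zp hu with rfl | rfl | rfl
    exacts [by rw [mul_one], c1, c2]
  · rw [pp'] at c2
    rcases h.zp hu with rfl | rfl | rfl
    exacts [by rw [mul_one], c2, c1]

theorem one_class3 (h : JS E z p M22 φ) (hN : 𝐍 (zpowers p) ≤ centralizer {z}) {V : Subgroup G} {D : Set G}
    {ε : Finset GolayPt → G} {θ : 𝐍 V →* Equiv.Perm GolayPt} (T : TM V D ε θ) (hV : ∀ v ∈ V, v * v = 1)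
    (pV : p ∈ 𝐍 V) (hi : IsConj p p⁻¹) : ∀ x y : G, orderOf x = 3 → orderOf y = 3 → IsConj x y := by
  have : Fact (Nat.Prime 3) := ⟨Nat.prime_three⟩
  obtain ⟨S, U, s⟩ := h.exSS
  have hS := h.sylG hN s hi
  have zc : ∀ x ∈ zpowers p, x ≠ 1 → IsConj p x := fun x hx n => by
    rcases h.zp hx with rfl | rfl | rfl
    exacts [absurd rfl n, IsConj.refl _, hi]
  obtain ⟨w, hw, nw, cw⟩ : ∃ w ∈ S, w ∉ zpowers p ∧ IsConj p w := by
    obtain ⟨Q0, hQ0⟩ := exists_syl 3 (⊤ : Subgroup (𝐍 V))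
    have hm := hQ0.map θ
    rw [← MonoidHom.range_eq_map, T.rng] at hm
    obtain ⟨g, hg, e⟩ := hm.exists_conj syl_S27
    obtain ⟨g, rfl⟩ := T.rng.ge hg
    rw [← map_cj] at e
    have hQ := isPGroup_cj g hQ0.isPGroup
    generalize cj g Q0 = Q at e hQ
    let q : 𝐍 V := ⟨p, pV⟩
    have q3 : q ^ 3 = 1 := Subtype.ext h.p3
    have oq : orderOf (θ q) = 3 := orderOf_eq_prime (by rw [← map_pow, q3, map_one]) fun k => h.p2 (hV _ ((T.ker q).1 k))
    obtain ⟨x, hx, y, hy, n1, n2, cx, cy⟩ := two24 (T.rng.le ⟨q, rfl⟩) oq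
    have key : ∀ a ∈ Q, (∃ c ∈ M24, θ a = c * θ q * c⁻¹) → IsConj p (a : G) := by
      rintro a ha ⟨c, hc, e⟩
      obtain ⟨c, rfl⟩ := T.rng.ge hc
      have b3 : (c * q * c⁻¹) ^ 3 = 1 := by rw [conj_pow, q3]; group
      have hv := (T.ker ((c * q * c⁻¹)⁻¹ * a)).1 (by rw [map_mul, map_inv, map_mul, map_mul, map_inv, e]; group)
      have a3 : a ^ 3 = 1 := by
        have k1 := hV _ ((T.ker (a ^ 3)).1 (by rw [map_pow, e, conj_pow, ← map_pow, q3, map_one]; group))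
        obtain ⟨k, k2⟩ := isPGroup_iff_mem.1 hQ _ (pow_mem ha 3)
        have k3 : (a ^ 3) ^ 2 = 1 := Subtype.ext (by rw [pow_two]; exact k1)
        have := Nat.dvd_gcd (orderOf_dvd_of_pow_eq_one k3) (orderOf_dvd_of_pow_eq_one k2)
        rwa [(Nat.Coprime.pow_right k (by norm_num : Nat.Coprime 2 3)).gcd_eq_one, Nat.dvd_one, orderOf_eq_one_iff] at this
      have e4 : ((c * q * c⁻¹ : 𝐍 V) : G) * (((c * q * c⁻¹)⁻¹ * a : 𝐍 V) : G) = a := by
        rw [← coe_mul, mul_inv_cancel_left]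
      have := conj_lift hV (c * q * c⁻¹).2 hv (congrArg Subtype.val b3) (by rw [e4]; exact congrArg Subtype.val a3)
      rw [e4] at this
      exact (isConj_iff.2 ⟨(c : G), rfl⟩).trans this
    rw [← e] at hx hy
    obtain ⟨a, ha, rfl⟩ := hx
    obtain ⟨b, hb, rfl⟩ := hy
    have ca := key a ha cx
    have cb := key b hb cy
    obtain ⟨k, -, le⟩ := hS.exists_conj_le (hQ.map (𝐍 V).subtype) le_top
    have ma : k * a * k⁻¹ ∈ S := le (conj_mem_cj k ⟨a, ha, rfl⟩)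
    have mb : k * b * k⁻¹ ∈ S := le (conj_mem_cj k ⟨b, hb, rfl⟩)
    have da : IsConj p (k * a * k⁻¹) := ca.trans (isConj_iff.2 ⟨k, rfl⟩)
    have db : IsConj p (k * b * k⁻¹) := cb.trans (isConj_iff.2 ⟨k, rfl⟩)
    by_cases za : k * a * k⁻¹ ∈ zpowers p
    · refine ⟨_, mb, fun zb => ?_, db⟩
      have i1 : k * a * k⁻¹ ≠ k * b * k⁻¹ := fun e => n1 (congrArg θ (Subtype.ext (by simpa using e)))
      have i2 : k * a * k⁻¹ * (k * b * k⁻¹) ≠ 1 := fun e => n2 (by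
        rw [conj_mul, conj_eq_one_iff] at e
        rw [← map_mul, show a * b = 1 from Subtype.ext e, map_one])
      rcases h.zp za with r | r | r
      · rw [r] at da; exact h.p1 (isConj_one_left.1 da)
      all_goals
        rcases h.zp zb with r' | r' | r'
        · rw [r'] at db; exact h.p1 (isConj_one_left.1 db)
        all_goals rw [r, r'] at i1 i2; simp at i1 i2
    · exact ⟨_, ma, za, da⟩
  have all : ∀ x : G, orderOf x = 3 → IsConj p x := fun x ox => by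
    obtain ⟨k, -, le⟩ := hS.exists_conj_le (Amalg.isPGroup_zpowers_of_orderOf (k := 1) (x := x) ox) le_top
    have m := le (conj_mem_cj k (mem_zpowers x))
    refine IsConj.trans ?_ (isConj_iff.2 ⟨k, rfl⟩).symm
    by_cases c : k * x * k⁻¹ ∈ zpowers p
    · exact zc _ c fun e => by rw [conj_eq_one_iff.1 e] at ox; simp at ox
    · exact cw.trans (h.fuse s hw m nw c)
  exact fun x y a b => (all x a).symm.trans (all y b)

end Cfsg.Lib.JF
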