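import Cfsg.Agent.Lib.Block2.JG0

/-! Sylow 3-subgroups of `M22` and `M24`. -/

set_option autoImplicit false
set_option maxRecDepth 100000

namespace Cfsg.Lib.JF

open Subgroup Cfsg.Lib.Amalg Cfsg.Lib.Core Cfsg.Lib.Golay Spor

def gN72 : List ℕ := [0x170211060b15090405080d030f14120c0a0713100e160100,
  0x17041415050a1011130f0c030d02070816120e090b060100]
def y9 : ℕ := 0x171509140311020a050c0e0d1306160f071008040b120100

theorem inN72 : ∀ g ∈ gN72, gc.InH M22 g := inH_M22 (by decide +kernel)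

theorem cardN72 : Nat.card (gc.gen gN72) = 72 :=
  Coding.card_gen (c := gc) (M := 251) (d := 8) (a := 4) (fun g hg => (inN72 g hg).1) (by decide +kernel)

theorem normN72 : ∀ g ∈ gc.gen gN72, ∀ x ∈ gc.gen gS9, g * x * g⁻¹ ∈ gc.gen gS9 :=
  (Coding.normal_cert (c := gc) (M := 31) (d := 5) (a := 1) (n := 9) (q := fun _ => true)
    (fun g hg => (inN72 g hg).1) (fun g hg => (inH_gS9 g hg).1) (by decide +kernel)).2.2

theorem card_C21 : Nat.card ↥(M21 ⊓ centralizer {gc.dec x3}) = 9 :=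
  Coding.card_centralizer gen_gM21 (fun g hg => (inH_gM21 g hg).1) inH_x3.1 (n := 2240) card_M21
    (M := 4093) (d := 12) (a := 36) (by decide +kernel)

theorem syl_S9 : Syl 3 (gc.gen gS9) M22 := by
  have : Fact (Nat.Prime 3) := ⟨Nat.prime_three⟩
  refine syl_of_not_dvd (Coding.gen_le inH_gS9) (IsPGroup.of_card (n := 2) S9_spec.1) ?_
  have := Cfsg.Lib.Core.card_inf_mul_relIndex (gc.gen gS9) M22
  rw [inf_of_le_left (Coding.gen_le inH_gS9), S9_spec.1, card_M22] at this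
  omega

theorem fix9 : allN 24 (fun i => bor (bnot (Nat.beq (app x3 i) i)) (bor (bnot (Nat.beq (app y9 i) i))
    (bor (Nat.beq i 0) (bor (Nat.beq i 1) (Nat.beq i 23))))) = true := by decide +kernel

theorem card_N9 : Nat.card ↥(M22 ⊓ 𝐍 (gc.gen gS9)) = 72 := by
  have vx := inH_x3.1
  have vy : gc.Valid y9 := (inH_gS9 _ (by simp [gS9, y9])).1
  have mx : gc.dec x3 ∈ gc.gen gS9 := (Coding.inH_gen (fun g hg => (inH_gS9 g hg).1) _ (by simp [gS9])).2
  have my : gc.dec y9 ∈ gc.gen gS9 := (Coding.inH_gen (fun g hg => (inH_gS9 g hg).1) _ (by simp [gS9, y9])).2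
  have f1 : gc.gen gS9 ≤ MulAction.stabilizer (Equiv.Perm GolayPt) (gc.pt 1) :=
    Coding.gen_le fun g hg => ⟨(inH_gS9 g hg).1, by
      change gc.dec g (gc.pt 1) = gc.pt 1
      rw [(inH_gS9 g hg).1.dec_pt (by decide)]
      simp only [gS9, List.mem_cons, List.not_mem_nil, or_false] at hg
      rcases hg with rfl | rfl <;> congr 1⟩
  refine le_antisymm ?_ ?_
  · have le : M22 ⊓ 𝐍 (gc.gen gS9) ⊓ centralizer {gc.dec x3} ≤ M21 ⊓ centralizer {gc.dec x3} := by
      rintro g ⟨⟨hg, hn⟩, hc⟩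
      refine ⟨⟨hg, ?_⟩, hc⟩
      obtain ⟨-, e1, e2⟩ := mem_M22.1 hg
      obtain ⟨i, hi, e⟩ := gc.exists_pt (g (gc.pt 1))
      have k : ∀ x, gc.Valid x → gc.dec x ∈ gc.gen gS9 → app x i = i := fun x v hx => by
        have := f1 ((mem_normalizer_iff''.1 hn _).1 hx)
        change g⁻¹ (gc.dec x (g (gc.pt 1))) = gc.pt 1 at this
        rw [Equiv.Perm.inv_eq_iff_eq, ← e, v.dec_pt hi] at this
        exact (gc.pt_inj (v.app_lt hi) hi).1 this
      have := allN_iff.1 fix9 i hi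
      rw [k _ vx mx, k _ vy my] at this
      simp only [bor_eq, Bool.or_eq_true, beq_iff] at this
      rcases this with k | k | k | k | k
      · revert k; simp [bnot]
      · revert k; simp [bnot]
      · subst k; exact absurd (g.injective (e.symm.trans e2.symm)) (by decide)
      · subst k; exact e.symm
      · subst k; exact absurd (g.injective (e.symm.trans e1.symm)) (by decide)
    have c1 := card_le_of_le le
    rw [card_C21] at c1
    have c2 : {y | ∃ g ∈ M22 ⊓ 𝐍 (gc.gen gS9), g * gc.dec x3 * g⁻¹ = y}.ncard ≤ 8 := by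
      have s : {y | ∃ g ∈ M22 ⊓ 𝐍 (gc.gen gS9), g * gc.dec x3 * g⁻¹ = y} ⊆ (gc.gen gS9 : Set (Equiv.Perm GolayPt)) \ {1} := by
        rintro _ ⟨g, hg, rfl⟩
        refine ⟨(mem_normalizer_iff.1 hg.2 _).1 mx, fun e => ?_⟩
        have := orderOf_x3
        rw [conj_eq_one_iff.1 e] at this
        simp at this
      have := Set.ncard_le_ncard s
      rw [Set.ncard_sdiff_singleton_of_mem (one_mem _)] at this
      have e : (gc.gen gS9 : Set (Equiv.Perm GolayPt)).ncard = 9 := S9_spec.1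
      omega
    rw [card_orb _ (gc.dec x3)]
    exact Nat.mul_le_mul c2 c1
  · rw [← cardN72]
    exact card_le_of_le (le_inf (Coding.gen_le inN72) fun g hg => mem_normalizer_of_cj_le (cj_le_iff'.2 (normN72 g hg)))

theorem card_N3 {T : Subgroup (Equiv.Perm GolayPt)} (hT : Syl 3 T M22) : Nat.card ↥(M22 ⊓ 𝐍 T) = 72 := by
  have : Fact (Nat.Prime 3) := ⟨Nat.prime_three⟩
  obtain ⟨g, hg, rfl⟩ := syl_S9.exists_conj hT
  rw [← cj_normalizer, ← cj_of_mem hg, ← cj_inf, card_cj, card_N9]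

theorem conj22 {m m' : Equiv.Perm GolayPt} (hm : m ∈ M22) (hm' : m' ∈ M22) (e : m ^ 3 = 1) (e' : m' ^ 3 = 1)
    (n : m ≠ 1) (n' : m' ≠ 1) : ∃ c ∈ M22, c * m * c⁻¹ = m' := by
  have : Fact (Nat.Prime 3) := ⟨Nat.prime_three⟩
  obtain ⟨k, hk, rfl⟩ := M22_three hm (orderOf_eq_prime e n)
  obtain ⟨k', hk', rfl⟩ := M22_three hm' (orderOf_eq_prime e' n')
  exact ⟨k' * k⁻¹, mul_mem hk' (inv_mem hk), by group⟩

theorem syl_S27 : Syl 3 (gc.gen gS3) M24 := by
  have : Fact (Nat.Prime 3) := ⟨Nat.prime_three⟩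
  refine syl_of_not_dvd (Coding.gen_le inH_gS3) (IsPGroup.of_card (n := 3) card_S3) ?_
  have := Cfsg.Lib.Core.card_inf_mul_relIndex (gc.gen gS3) M24
  rw [inf_of_le_left (Coding.gen_le inH_gS3), card_S3, card_M24] at this
  omega

def s1 : ℕ := 0x17160f11140b130d0306040c080e0512090a071015020100
def s2 : ℕ := 0x11611070512090d130a040c0b061508030e0f1014170200
def s3 : ℕ := 0x8000f031410070105061716040e110d090a1502130b120c

theorem two24 {m : Equiv.Perm GolayPt} (hm : m ∈ M24) (h : orderOf m = 3) :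
    ∃ x ∈ gc.gen gS3, ∃ y ∈ gc.gen gS3, x ≠ y ∧ x * y ≠ 1 ∧ (∃ c ∈ M24, x = c * m * c⁻¹) ∧ ∃ c ∈ M24, y = c * m * c⁻¹ := by
  have i := Coding.inH_gen (fun g hg => (inH_gS3 g hg).1)
  have i1 := i s1 (by simp [gS3, s1])
  have i2 := i s2 (by simp [gS3, s2])
  have i3 := i s3 (by simp [gS3, s3])
  have i4 : gc.InH (gc.gen gS3) (mulN 24 s1 s3) := ⟨i1.1.mul i3.1, by
    rw [show mulN 24 s1 s3 = mulN gc.n s1 s3 from rfl, i1.1.dec_mul i3.1]; exact mul_mem i1.2 i3.2⟩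
  have le := Coding.gen_le inH_gS3
  have o : ∀ s, gc.InH (gc.gen gS3) s → s ≠ idN 24 → orderOf (gc.dec s) = 3 := fun s hs n =>
    S27_spec.2.2 _ hs.2 (ne_of hs.1 n)
  have nf : ∀ s, gc.Valid s → allN 24 (fun i => bnot (Nat.beq (app s i) i)) = true → ∀ p, gc.dec s p ≠ p :=
    fun s v e p k => by
      obtain ⟨i, hi, rfl⟩ := gc.exists_pt p
      rw [v.dec_pt hi, gc.pt_inj (v.app_lt hi) hi] at k
      have := allN_iff.1 e i hi
      rw [k] at this
      revert this; simp [bnot]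
  have hf : ∀ s, gc.Valid s → app s 0 = 0 → (Finset.univ.filter fun p => gc.dec s p = p).card ≠ 0 :=
    fun s v e k => card_fix_eq_zero.1 k (gc.pt 0) (by rw [v.dec_pt (by decide), e])
  have tr : ∀ {x w k : Equiv.Perm GolayPt}, k ∈ M24 → (∃ c ∈ M24, x = c * w * c⁻¹) → ∃ c ∈ M24, x = c * (k * w * k⁻¹) * c⁻¹ :=
    fun hk ⟨c, hc, e⟩ => ⟨c * _⁻¹, mul_mem hc (inv_mem hk), by rw [e]; group⟩
  rcases M24_three hm h with ⟨k, hk, rfl⟩ | ⟨k, hk, rfl⟩
  · refine ⟨_, i1.2, _, i2.2, ?_, ?_, tr hk (std_3A (le i1.2) (o _ i1 (by decide)) (hf _ i1.1 (by decide +kernel))),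
      tr hk (std_3A (le i2.2) (o _ i2 (by decide)) (hf _ i2.1 (by decide +kernel)))⟩
    · rw [Ne, i1.1.dec_inj i2.1]; decide
    · rw [← i1.1.dec_mul i2.1]; exact ne_of (i1.1.mul i2.1) (by decide +kernel)
  · refine ⟨_, i3.2, _, i4.2, ?_, ?_, tr hk (std_3B (le i3.2) (o _ i3 (by decide)) (nf _ i3.1 (by decide +kernel))),
      tr hk (std_3B (le i4.2) (o _ i4 (by decide +kernel)) (nf _ i4.1 (by decide +kernel)))⟩
    · rw [Ne, i3.1.dec_inj i4.1]; decide +kernel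
    · rw [← i3.1.dec_mul i4.1]; exact ne_of (i3.1.mul i4.1) (by decide +kernel)

end Cfsg.Lib.JF
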