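import Cfsg.Agent.Lib.Block2.JGr1
import Cfsg.Agent.Lib.PGrp.Extra

/-! Groups of Janko-four type: the Sylow 3-subgroups. -/

set_option autoImplicit false
set_option linter.unusedSectionVars false

namespace Cfsg.Lib.JF

open Subgroup Cfsg.Lib.Amalg Cfsg.Lib.Core Cfsg.Lib.Known2 Spor
open scoped Pointwise symmDiff commutatorElement

variable {G : Type*} [Group G] [Finite G] {E : Subgroup G} {z p : G} {φ : KK z p →* Equiv.Perm GolayPt}

/-- `S` is extraspecial of order 27 and exponent 3 with centre `⟨q⟩`. -/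
structure X27 (S : Subgroup G) (q : G) : Prop where
  card : Nat.card S = 27
  qS : q ∈ S
  q1 : q ≠ 1
  qc : ∀ s ∈ S, s * q = q * s
  na : ¬ ∀ r ∈ S, ∀ s ∈ S, r * s = s * r
  s3 : ∀ s ∈ S, s ^ 3 = 1
  com : ∀ x ∈ S, ∀ y ∈ S, x * y * x⁻¹ * y⁻¹ ∈ zpowers q

namespace X27
variable {S : Subgroup G} {q : G} (X : X27 S q)
include X

theorem cen {r : G} (hr : r ∈ S) (rc : ∀ s ∈ S, s * r = r * s) : r ∈ zpowers q := by
  have : Fact (Nat.Prime 3) := ⟨Nat.prime_three⟩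
  have e := (center S).card_mul_index
  have hc := X.card
  have h3 : Nat.card (center S) ∣ 3 := by
    obtain ⟨k, hk, e2⟩ := (Nat.dvd_prime_pow Nat.prime_three (m := 3)).1
      (show Nat.card (center S) ∣ 3 ^ 3 from ⟨_, by rw [e, hc]; rfl⟩)
    by_contra n
    have : (center S).index ∣ 3 := by
      rw [e2, hc] at e; rw [e2] at n
      interval_cases k
      · simp at n
      · simp at n
      · rw [show (center S).index = 3 by omega]
      · rw [show (center S).index = 1 by omega]; exact one_dvd _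
    have : IsCyclic (S ⧸ center S) := isCyclic_of_card_dvd_prime this
    exact X.na fun r hr s hs => congrArg Subtype.val (commutative_of_cyclic_center_quotient
      (QuotientGroup.mk' (center S)) (by rw [QuotientGroup.ker_mk']) ⟨r, hr⟩ ⟨s, hs⟩)
  have le : zpowers (⟨q, X.qS⟩ : S) ≤ center S := zpowers_le.2 (mem_center_iff.2 fun s => Subtype.ext (X.qc s s.2))
  have := eq_of_le_of_card_ge le (by
    rcases (Nat.dvd_prime Nat.prime_three).1 ((card_dvd_of_le le).trans h3) with k | k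
    · exact absurd (congrArg Subtype.val (mem_bot.1 ((card_eq_one.1 k).le (mem_zpowers _)))) X.q1
    · rw [k]; exact Nat.le_of_dvd (by norm_num) h3)
  obtain ⟨n, e⟩ := this.ge (mem_center_iff.2 fun s => Subtype.ext (rc s s.2) : (⟨r, hr⟩ : S) ∈ center S)
  exact ⟨n, by simpa using congrArg Subtype.val e⟩

omit [Finite G] in
theorem cnj (c : G) : X27 (cj c S) (c * q * c⁻¹) where
  card := by rw [card_cj, X.card]
  qS := conj_mem_cj c X.qS
  q1 e := X.q1 (conj_eq_one_iff.1 e)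
  qc := by rintro _ ⟨s, hs, rfl⟩; exact (conj_mul.trans (by rw [X.qc s hs])).trans conj_mul.symm
  na k := X.na fun r hr s hs => by
    have := k _ (conj_mem_cj c hr) _ (conj_mem_cj c hs)
    rw [conj_mul, conj_mul] at this
    simpa using this
  s3 := by
    intro s0 hs0
    obtain ⟨s, hs, rfl⟩ := mem_cj'.1 hs0
    rw [conj_pow, X.s3 s hs]; group
  com := by
    intro x0 hx0 y0 hy0
    obtain ⟨x, hx, rfl⟩ := mem_cj'.1 hx0
    obtain ⟨y, hy, rfl⟩ := mem_cj'.1 hy0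
    rw [← cj_zpowers, show c * x * c⁻¹ * (c * y * c⁻¹) * (c * x * c⁻¹)⁻¹ * (c * y * c⁻¹)⁻¹ =
      c * (x * y * x⁻¹ * y⁻¹) * c⁻¹ by group]
    exact conj_mem_cj c (X.com x hx y hy)

theorem es : IsExtraspecial 3 S ∧ Nat.card S = 27 ∧ Monoid.exponent S = 3 := by
  have : Fact (Nat.Prime 3) := ⟨Nat.prime_three⟩
  have oq : orderOf q = 3 := orderOf_eq_prime (X.s3 q X.qS) X.q1
  refine ⟨PGrp.isExtraspecial_of_le_zpowers oq X.qS (le_antisymm (fun r hr => X.cen hr.1 hr.2)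
    (zpowers_le.2 ⟨X.qS, X.qc⟩)) X.com (fun x hx => by rw [X.s3 x hx]; exact one_mem _) fun e => ?_, X.card, ?_⟩
  · have := X.card
    rw [e, Nat.card_zpowers, oq] at this
    omega
  · have : Nontrivial S := ⟨⟨⟨q, X.qS⟩, 1, fun e => X.q1 (congrArg Subtype.val e)⟩⟩
    exact (Monoid.exponent_eq_prime_iff Nat.prime_three).2 fun y hy =>
      orderOf_eq_prime (Subtype.ext (X.s3 y y.2)) hy

theorem norm : 𝐍 S ≤ 𝐍 (zpowers q) := fun g hg => by
  have := X.cnj g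
  rw [cj_of_mem_normalizer hg] at this
  exact mem_normalizer_of_cj_le (by rw [cj_zpowers]; exact zpowers_le.2 (X.cen this.qS this.qc))

end X27

/-- a Sylow 3-subgroup of `K` with its image in `M22`. -/
structure SS (φ : KK z p →* Equiv.Perm GolayPt) (S : Subgroup G) (T : Subgroup (Equiv.Perm GolayPt)) : Prop where
  x : X27 S p
  im : ∀ r ∈ S, ∃ m ∈ T, L φ r m
  sur : ∀ m ∈ T, ∃ r ∈ S, L φ r m
  syl : Syl 3 T M22
  t3 : ∀ m ∈ T, m ^ 3 = 1

namespace JS
variable (h : JS E z p M22 φ)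
include h

omit [Finite G] in
theorem ker3 {u : G} (l : L φ u 1) (e : u ^ 3 = 1) : u ∈ zpowers p := by
  obtain ⟨d, hd, rfl | rfl⟩ := h.Lker l
  · exact hd
  · exfalso
    have a : d ^ 3 = 1 := by
      rcases h.zp hd with rfl | rfl | rfl
      · exact one_pow _
      · exact h.p3
      · rw [inv_pow, h.p3, inv_one]
    obtain ⟨n, rfl⟩ := hd
    rw [((show Commute p z from h.pz).zpow_left n).mul_pow, a, one_mul, pow_succ, pow_two, h.es.sq, one_mul] at e
    exact h.es.ne e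

omit [Finite G] in
theorem lift3 {k k' : G} {m : Equiv.Perm GolayPt} (l : L φ k m) (l' : L φ k' m) (e : k ^ 3 = 1) (e' : k' ^ 3 = 1) :
    ∃ u ∈ zpowers p, k' = k * u := by
  have q := h.quo l l'
  refine ⟨_, h.ker3 q ?_, by group⟩
  rw [show k' = k * (k⁻¹ * k') by group, Commute.mul_pow (h.ker_comm q l).symm, e, one_mul] at e'
  exact e'

omit [Finite G] in
theorem cube {r : G} {m : Equiv.Perm GolayPt} (l : L φ r m) (e : m ^ 3 = 1) (e' : r ^ 27 = 1) : r ^ 3 = 1 := by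
  have k : r ^ 12 = 1 := by
    by_cases m1 : m = 1
    · rw [show 12 = 6 * 2 from rfl, pow_mul, h.ker_six (l.of_eq m1), one_pow]
    obtain ⟨c, hc, e1⟩ := conj22 (h.mem l) (inv_mem (h.mem l)) e (by rw [inv_pow, e, inv_one]) m1 (by simpa using m1)
    obtain ⟨d, ld⟩ := h.ex hc
    have := h.six_eq ((ld.cnj l).of_eq e1) l.inv
    rw [conj_pow, conj_eq_of_comm (h.ker_comm ((l.pow 6).of_eq (by
      rw [show 6 = 3 * 2 from rfl, pow_mul, e, one_pow])) ld).symm, inv_pow, inv_eq_iff_mul_eq_one, ← pow_add] at this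
    exact this
  exact orderOf_dvd_iff_pow_eq_one.1 (Nat.dvd_gcd (orderOf_dvd_of_pow_eq_one k) (orderOf_dvd_of_pow_eq_one e'))

theorem exSS : ∃ S T, SS φ S T := by
  have : Fact (Nat.Prime 3) := ⟨Nat.prime_three⟩
  obtain ⟨R, hR, cR, pR, nR⟩ := h.exR mf
  have c9 := mf.c9
  have le : closure ({Golay.gc.dec ua, Golay.gc.dec ub} : Set (Equiv.Perm GolayPt)) ≤ M22 :=
    (closure_le _).2 (by rintro _ (rfl | rfl); exacts [mf.aM, mf.bM])
  generalize closure ({Golay.gc.dec ua, Golay.gc.dec ub} : Set (Equiv.Perm GolayPt)) = T at *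
  have hT : Syl 3 T M22 := by
    refine syl_of_not_dvd le (IsPGroup.of_card (n := 2) c9) ?_
    have := card_inf_mul_relIndex T M22
    rw [inf_of_le_left le, c9, Golay.card_M22] at this
    omega
  have t3 : ∀ m ∈ T, m ^ 3 = 1 := fun m hm => by
    obtain ⟨g, -, rfl⟩ := syl_S9.exists_conj hT
    obtain ⟨y, hy, rfl⟩ := mem_cj'.1 hm
    by_cases e : y = 1
    · simp [e]
    · rw [conj_pow, ← Golay.S9_spec.2.2 y hy e, pow_orderOf_eq_one]; group
  have s3 : ∀ r ∈ R, r ^ 3 = 1 := fun r hr => by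
    obtain ⟨m, hm, l⟩ := hR r hr
    refine h.cube l (t3 m hm) ?_
    have := congrArg Subtype.val (pow_card_eq_one' (x := (⟨r, hr⟩ : R)))
    rwa [cR] at this
  have ab := IsPGroup.isMulCommutative_of_card_eq_prime_sq (p := 3) c9
  have RK : R ≤ KK z p := fun r hr => by obtain ⟨m, -, l⟩ := hR r hr; exact l.1
  refine ⟨R, T, ⟨cR, pR, h.p1, fun s hs => (mem_KK.1 (RK hs)).2, nR, s3, fun x hx y hy => ?_⟩, hR, ?_, hT, t3⟩
  · obtain ⟨m, hm, l⟩ := hR x hx
    obtain ⟨m', hm', l'⟩ := hR y hy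
    refine h.ker3 (((l.cnj l').mul l'.inv).of_eq ?_) (s3 _ (mul_mem (mul_mem (mul_mem hx hy) (inv_mem hx)) (inv_mem hy)))
    rw [show m * m' = m' * m from congrArg Subtype.val (ab.is_comm.comm (⟨m, hm⟩ : T) ⟨m', hm'⟩)]; group
  · have c := card_map_mul_card_inf_ker φ (R.subgroupOf (KK z p))
    rw [card_subgroupOf_of_le RK, cR] at c
    have c2 : Nat.card ↥(φ.ker ⊓ R.subgroupOf (KK z p)) ≤ 3 := by
      rw [← card_map_subtype, ← h.card_p]
      refine card_le_of_le ?_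
      rintro _ ⟨k, hk, rfl⟩
      exact h.ker3 ⟨k.2, hk.1⟩ (s3 _ hk.2)
    have l1 : img φ R ≤ T := fun m hm => by
      obtain ⟨k, hk, l⟩ := mem_img.1 hm
      obtain ⟨m', hm', l'⟩ := hR k hk
      rwa [l.uniq l']
    have := eq_of_le_of_card_ge l1 (by
      change Nat.card (img φ R) * _ = _ at c
      rw [c9]; nlinarith)
    exact fun m hm => mem_img.1 (this.ge hm)

omit [Finite G] in
theorem pm {g : G} (hg : g ∈ 𝐍 (zpowers p)) : g * p * g⁻¹ = p ∨ g * p * g⁻¹ = p⁻¹ :=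
  (h.zp ((mem_normalizer_iff.1 hg p).1 (mem_zpowers p))).resolve_left fun e => h.p1 (conj_eq_one_iff.1 e)

omit [Finite G] in
theorem pne : p⁻¹ ≠ p := fun e => h.p2 (by rw [← inv_mul_cancel p, e])

variable (hN : 𝐍 (zpowers p) ≤ centralizer {z})
include hN

omit [Finite G] in
theorem idx {X : Subgroup G} (hX : X ≤ 𝐍 (zpowers p)) {l : G} (hl : l ∈ X) (e : l * p * l⁻¹ = p⁻¹) :
    (KK z p).relIndex X = 2 := by
  have k : ∀ g ∈ X, g ∈ KK z p ↔ g * p * g⁻¹ = p := fun g hg => by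
    rw [mem_KK, and_iff_right (mem_cent_single.1 (hN (hX hg)))]
    exact ⟨conj_eq_of_comm, comm_of_conj_eq⟩
  refine index_eq_two_iff.2 ⟨⟨l, hl⟩, fun b => ?_⟩
  rw [mem_subgroupOf, mem_subgroupOf, k _ (b * ⟨l, hl⟩).2, k _ b.2]
  have e2 : ((b * ⟨l, hl⟩ : X) : G) * p * ((b * ⟨l, hl⟩ : X) : G)⁻¹ = ((b : G) * p * (b : G)⁻¹)⁻¹ := by
    change (b : G) * l * p * ((b : G) * l)⁻¹ = _
    rw [show (b : G) * l * p * ((b : G) * l)⁻¹ = b * (l * p * l⁻¹) * (b : G)⁻¹ by group, e]; group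
  rw [e2]
  rcases h.pm (hX b.2) with r | r <;> rw [r]
  · exact Or.inr ⟨rfl, h.pne⟩
  · exact Or.inl ⟨inv_inv p, h.pne⟩

omit h hN in
theorem inv_norm {l : G} (e : l * p * l⁻¹ = p⁻¹) : l ∈ 𝐍 (zpowers p) :=
  mem_normalizer_of_cj_le (by rw [cj_zpowers, e]; exact zpowers_le.2 (inv_mem (mem_zpowers p)))

variable {S : Subgroup G} {T : Subgroup (Equiv.Perm GolayPt)} (s : SS φ S T)
include s

omit hN in
theorem sylK : Syl 3 S (KK z p) := by
  have : Fact (Nat.Prime 3) := ⟨Nat.prime_three⟩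
  have RK : S ≤ KK z p := fun r hr => by obtain ⟨m, -, l⟩ := s.im r hr; exact l.1
  refine syl_of_not_dvd RK (IsPGroup.of_card (n := 3) s.x.card) ?_
  have := card_inf_mul_relIndex S (KK z p)
  rw [inf_of_le_left RK, s.x.card, h.cK] at this
  omega

theorem sylG (hi : IsConj p p⁻¹) : Syl 3 S ⊤ := by
  have : Fact (Nat.Prime 3) := ⟨Nat.prime_three⟩
  obtain ⟨l, e⟩ := isConj_iff.1 hi
  have KL : KK z p ≤ 𝐍 (zpowers p) := fun k hk =>
    centralizer_le_normalizer _ (mem_cent_zpowers.2 (mem_KK.1 hk).2)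
  exact ((h.sylK s).of_le_of_not_dvd KL (by rw [h.idx hN le_rfl (inv_norm e) e]; norm_num)).of_normalizer_le le_top
    (inf_le_right.trans s.x.norm)

omit hN in
theorem card432 : Nat.card ↥(KK z p ⊓ 𝐍 S) = 432 := by
  have c0 := card_map_mul_card_inf_ker φ ⊤
  rw [← MonoidHom.range_eq_map, h.rng, Golay.card_M22, inf_top_eq, card_top, h.cK] at c0
  have c1 := card_map_mul_card_inf_ker φ ((M22 ⊓ 𝐍 T).comap φ)
  rw [map_comap_eq_self (by rw [h.rng]; exact inf_le_left), card_N3 s.syl, inf_of_le_left (ker_le_comap _ _)] at c1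
  have e : (M22 ⊓ 𝐍 T).comap φ = (KK z p ⊓ 𝐍 S).subgroupOf (KK z p) := by
    ext k
    have lk : L φ k (φ k) := ⟨k.2, rfl⟩
    rw [mem_comap, mem_subgroupOf, mem_inf, mem_inf, and_iff_right (h.mem lk), and_iff_right k.2]
    constructor
    · intro hk
      refine mem_normalizer_of_cj_le (cj_le_iff'.2 fun x hx => ?_)
      obtain ⟨m, hm, l⟩ := s.im x hx
      obtain ⟨r, hr, l'⟩ := s.sur _ ((mem_normalizer_iff.1 hk m).1 hm)
      obtain ⟨u, hu, e⟩ := h.lift3 l' (lk.cnj l) (s.x.s3 r hr) (by rw [conj_pow, s.x.s3 x hx]; group)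
      rw [e]
      exact mul_mem hr (zpowers_le.2 s.x.qS hu)
    · intro hk
      refine mem_normalizer_of_cj_le (cj_le_iff'.2 fun m hm => ?_)
      obtain ⟨r, hr, l⟩ := s.sur m hm
      obtain ⟨m', hm', l'⟩ := s.im _ ((mem_normalizer_iff.1 hk r).1 hr)
      rwa [(lk.cnj l).uniq l']
  rw [e, card_subgroupOf_of_le inf_le_left] at c1
  omega

theorem card864 (hi : IsConj p p⁻¹) : Nat.card (𝐍 S) = 864 := by
  have : Fact (Nat.Prime 3) := ⟨Nat.prime_three⟩
  obtain ⟨l, e⟩ := isConj_iff.1 hi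
  have lz := mem_cent_single.1 (hN (inv_norm e))
  obtain ⟨n, hn, a, ha, rfl⟩ := (h.sylK s).frattini_mem (g := l) (mem_normalizer_of_cj_le (cj_le_iff'.2 fun k hk => by
    obtain ⟨k1, k2⟩ := mem_KK.1 hk
    refine mem_KK.2 ⟨?_, ?_⟩
    · rw [← conj_eq_of_comm lz, conj_mul, conj_mul, k1]
    · have : l * p⁻¹ * l⁻¹ = p := by rw [← conj_inv, e, inv_inv]
      have k3 : l * k * l⁻¹ * (l * p⁻¹ * l⁻¹) = l * p⁻¹ * l⁻¹ * (l * k * l⁻¹) := by
        rw [conj_mul, conj_mul, (show Commute k p from k2).inv_right]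
      rwa [this] at k3))
  have e2 : a * p * a⁻¹ = p⁻¹ := by
    calc _ = n⁻¹ * (n * a * p * (n * a)⁻¹) * n := by group
      _ = (n⁻¹ * p * n⁻¹⁻¹)⁻¹ := by rw [e]; group
      _ = _ := by rw [conj_eq_of_comm (mem_KK.1 (inv_mem hn)).2]
  have := card_inf_mul_relIndex (KK z p) (𝐍 S)
  rw [h.idx hN s.x.norm ha e2, h.card432 s] at this
  omega

omit s in
theorem syl3 (hi : IsConj p p⁻¹) (R : Sylow 3 G) (hR : (R : Subgroup G) ≤ centralizer {z}) :
    IsExtraspecial 3 ↥(R : Subgroup G) ∧ Nat.card ↥(R : Subgroup G) = 27 ∧ Monoid.exponent ↥(R : Subgroup G) = 3 ∧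
    normalizer ((R : Subgroup G) : Set G) ≤ centralizer {z} ∧ Nat.card ↥(normalizer ((R : Subgroup G) : Set G)) = 864 := by
  have : Fact (Nat.Prime 3) := ⟨Nat.prime_three⟩
  obtain ⟨S, T, s⟩ := h.exSS
  obtain ⟨c, hc, e⟩ := ((h.sylG hN s hi).of_le ((h.sylK s).le.trans inf_le_left) le_top).exists_conj
    ((syl_top R).of_le hR le_top)
  obtain ⟨a, b, d⟩ := (s.x.cnj c).es
  rw [← e]
  refine ⟨a, b, d, ?_, ?_⟩
  · rw [← cj_normalizer, ← cj_of_mem hc]
    exact cj_mono c (s.x.norm.trans hN)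
  · rw [← cj_normalizer, card_cj, h.card864 hN s hi]

end JS

theorem isConj_inv_of {z : G} {P : Subgroup G} (hJ : IsOfJankoFourTypeWith z P) {p : G}
    {φ : KK z p →* Equiv.Perm GolayPt} (e : P = zpowers p) (h : JS (twoCoreOfCentralizer z) z p M22 φ) : IsConj p p⁻¹ := by
  subst e
  by_contra n
  refine hJ.2.2.2.2.2.2.2.1 (le_antisymm (fun g hg => ⟨hg.1, mem_cent_zpowers.2 (comm_of_conj_eq ?_)⟩)
    (inf_le_inf_left _ (centralizer_le_normalizer _)))
  exact (h.pm hg.2).resolve_right fun k => n (isConj_iff.2 ⟨g, k⟩)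

theorem s5565_of (H : ∀ (z : G) (P : Subgroup G), IsOfJankoFourTypeWith z P → 𝐍 P ≤ centralizer {z}) (z : G)
    (hJ : IsOfJankoFourTypeAt z) (R : Sylow 3 G) (hR : (R : Subgroup G) ≤ centralizer ({z} : Set G)) :
    IsExtraspecial 3 ↥(R : Subgroup G) ∧ Nat.card ↥(R : Subgroup G) = 27 ∧ Monoid.exponent ↥(R : Subgroup G) = 3 ∧
    normalizer ((R : Subgroup G) : Set G) ≤ centralizer ({z} : Set G) ∧
    Nat.card ↥(normalizer ((R : Subgroup G) : Set G)) = 864 := by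
  obtain ⟨P, hP⟩ := hJ
  obtain ⟨p, φ, e, h⟩ := exists_JS hP
  exact h.syl3 (e ▸ H z P hP) (isConj_inv_of hP e h) R hR

end Cfsg.Lib.JF
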