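import Cfsg.Agent.Lib.Block2.JGs2
import Cfsg.Agent.Lib.BG1.Sec1

/-! The normaliser of the standard `2^11` in a group of Janko-four type splits. -/

set_option autoImplicit false
set_option linter.unusedSectionVars false

namespace Cfsg.Lib.JF

open Subgroup Cfsg.Lib.Amalg Cfsg.Lib.Core Cfsg.Lib.Known2 Cfsg.Lib.Golay Spor

variable {G Γ : Type*} [Group G] [Group Γ]

/-- the norm for an element `p` of order 3. -/
def pi3 (p w : G) : G := w * (p * w * p⁻¹) * (p * (p * w * p⁻¹) * p⁻¹)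

section
variable {X : Subgroup G} {p : G} (c : ∀ x ∈ X, ∀ y ∈ X, x * y = y * x) (n : ∀ x ∈ X, p * x * p⁻¹ ∈ X)
include c n

theorem pi3_mem {x : G} (hx : x ∈ X) : pi3 p x ∈ X := mul_mem (mul_mem hx (n x hx)) (n _ (n x hx))

theorem pi3_mul {x y : G} (hx : x ∈ X) (hy : y ∈ X) : pi3 p (x * y) = pi3 p x * pi3 p y := by
  have x1 := n x hx
  have x2 := n _ x1
  have y1 := n y hy
  unfold pi3
  rw [← conj_mul, ← conj_mul]
  generalize p * (p * x * p⁻¹) * p⁻¹ = a2 at *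
  generalize p * (p * y * p⁻¹) * p⁻¹ = b2 at *
  generalize p * x * p⁻¹ = a1 at *
  generalize p * y * p⁻¹ = b1 at *
  calc _ = x * (y * a1) * (b1 * a2) * b2 := by group
    _ = x * a1 * (y * a2) * b1 * b2 := by rw [c y hy a1 x1, c b1 y1 a2 x2]; group
    _ = _ := by rw [c y hy a2 x2]; group

theorem pi3_fix (p3 : p ^ 3 = 1) {x : G} (hx : x ∈ X) : p * pi3 p x = pi3 p x * p := by
  rw [← mul_inv_eq_iff_eq_mul]
  have e : p * (p * (p * x * p⁻¹) * p⁻¹) * p⁻¹ = x := by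
    rw [show p * (p * (p * x * p⁻¹) * p⁻¹) * p⁻¹ = p ^ 3 * x * (p ^ 3)⁻¹ by
      simp only [pow_succ, pow_zero, one_mul, mul_inv_rev, mul_assoc], p3]; group
  unfold pi3
  rw [← conj_mul, ← conj_mul, e, c _ (mul_mem (n x hx) (n _ (n x hx))) x hx, ← mul_assoc]

theorem pi3_conj (p3 : p ^ 3 = 1) {l x : G} (lp : l * p * l⁻¹ = p ∨ l * p * l⁻¹ = p⁻¹) (hx : l * x * l⁻¹ ∈ X) :
    pi3 p (l * x * l⁻¹) = l * pi3 p x * l⁻¹ := by
  have : l * pi3 p x * l⁻¹ = pi3 (l * p * l⁻¹) (l * x * l⁻¹) := by unfold pi3; group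
  rw [this]
  generalize l * x * l⁻¹ = y at hx
  rcases lp with e | e <;> rw [e]
  have q : p⁻¹ = p * p := by rw [inv_eq_iff_mul_eq_one, ← p3]; simp only [pow_succ, pow_zero, one_mul, mul_assoc]
  have e1 : p⁻¹ * y * p⁻¹⁻¹ = p * (p * y * p⁻¹) * p⁻¹ := by
    calc _ = (p * p) * y * (p * p)⁻¹ := by rw [← q]
      _ = _ := by simp only [mul_inv_rev, mul_assoc]
  have e2 : p⁻¹ * (p * (p * y * p⁻¹) * p⁻¹) * p⁻¹⁻¹ = p * y * p⁻¹ := by group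
  unfold pi3
  rw [e1, e2, mul_assoc y, mul_assoc y, c _ (n y hx) _ (n _ (n y hx))]

end

variable {E : Subgroup G} {z p : G} {M : Subgroup Γ} {φ : KK z p →* Γ}

namespace JS
variable (h : JS E z p M φ)
include h

theorem pi3_z : pi3 p z = z := by
  have : p * z * p⁻¹ = z := by rw [h.pz]; group
  unfold pi3
  rw [this, this, h.es.sq, one_mul]

variable {A1 A2 : Subgroup Γ} {t1 t2 t3 t4 a b i g f n x y τ : Γ} (F : MF M A1 A2 t1 t2 t3 t4 a b i g f)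
  (S : SF M A1 a b n x y τ) [Finite G]
include F S

theorem sExU : ∃ U : Subgroup G, U ≤ E ∧ Nat.card U = 64 ∧ (∀ u ∈ U, u * u = 1) ∧ U ⊓ V0 E φ A1 = ⊥ ∧
    ∀ l σ, ActS φ l σ → σ * σ = 1 → (∀ m ∈ cj n A1, σ * m * σ⁻¹ ∈ cj n A1) → ∀ u ∈ U, l * u * l⁻¹ ∈ U := by
  obtain ⟨k, lk⟩ := h.ex S.nM
  have e : cj k (Cm E φ A1) = Cm E φ (cj n A1) := h.cj_Cm lk fun y => mem_cj
  have c : ∀ x ∈ Cm E φ (cj n A1), ∀ y ∈ Cm E φ (cj n A1), x * y = y * x := by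
    rw [← e]
    rintro _ ⟨x, hx, rfl⟩ _ ⟨y, hy, rfl⟩
    change k * x * k⁻¹ * (k * y * k⁻¹) = k * y * k⁻¹ * (k * x * k⁻¹)
    rw [conj_mul, conj_mul, h.abU F x hx y hy]
  have c7 : Nat.card (Cm E φ (cj n A1)) = 2 ^ 7 := by rw [← e, card_cj, h.cardU F]
  have np : ∀ x ∈ Cm E φ (cj n A1), p * x * p⁻¹ ∈ Cm E φ (cj n A1) := fun x hx => h.Cm_p hx
  have sq : ∀ x ∈ Cm E φ (cj n A1), x * x = 1 := fun x hx => h.elem Cm_le np c hx
  let U : Subgroup G :=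
    { carrier := {u | u ∈ Cm E φ (cj n A1) ∧ pi3 p u = 1}
      one_mem' := ⟨one_mem _, by simp [pi3]⟩
      mul_mem' := fun ha hb => ⟨mul_mem ha.1 hb.1, by rw [pi3_mul c np ha.1 hb.1, ha.2, hb.2, one_mul]⟩
      inv_mem' := fun {x} ha => by rw [inv_eq_of_mul_eq_one_right (sq x ha.1)]; exact ha }
  have zU : z ∉ U := fun k => h.es.ne (h.pi3_z.symm.trans k.2)
  refine ⟨U, fun u hu => hu.1.1, ?_, fun u hu => sq u hu.1, (eq_bot_iff_forall _).2 fun w hw => ?_,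
    fun l σ A s nσ u hu => ?_⟩
  · obtain ⟨C, c1, c2, c3, -, c5, -⟩ := sChain2 (C := U) (V := ⊥) (g := z)
      (fun u hu => by rw [← h.es.cen u hu.1.1]; simpa using hu) (by rw [h.es.sq]; exact one_mem _) (inf_bot_eq _)
      fun u hu k => zU (by rw [← inv_eq_of_mul_eq_one_right (mem_bot.1 k)]; exact inv_mem hu)
    have : C = Cm E φ (cj n A1) := le_antisymm (c5 _ (fun u hu => hu.1) h.z_Cm) fun u hu => by
      rcases h.tri hu.1 with t | t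
      · exact c1 ⟨hu, t⟩
      · have : u * z ∈ U := ⟨mul_mem hu h.z_Cm, by
          rw [pi3_mul c np hu h.z_Cm, h.pi3_z]; exact (congrArg (· * z) t).trans h.es.sq⟩
        exact (mul_mem_cancel_right c2).1 (c1 this)
    rw [this, c7] at c3
    omega
  · have s2 := (h.std F).2.1
    have l2 : ∀ B : Subgroup Γ, B ≤ M → (∀ m ∈ B, m * m = 1) → (∀ k ∈ hat φ B, k * w = w * k) →
        B ≤ img φ (centralizer {w}) := fun B h1 h2 h3 m hm => by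
      obtain ⟨k, l, e⟩ := h.lift2 F (h1 hm) (h2 m hm)
      exact mem_img.2 ⟨k, mem_cent_single.2 (h3 k ⟨⟨m, hm, l⟩, e⟩), l⟩
    obtain ⟨h1, h2⟩ := S.gen _ (l2 A1 F.le1 F.sq1 fun k hk => comm_of_sq s2 (mem_sup_right (subset_closure hk)) hw.2)
      (l2 (cj n A1) (by rintro _ ⟨m, hm, rfl⟩; exact mul_mem (mul_mem S.nM (F.le1 hm)) (inv_mem S.nM))
        (fun m hm => by obtain ⟨m, hm', rfl⟩ := mem_cj'.1 hm; rw [conj_mul, F.sq1 m hm']; group) hw.1.1.2)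
    obtain ⟨x, cx, lx⟩ := mem_img.1 h1
    obtain ⟨y, cy, ly⟩ := mem_img.1 h2
    rcases h.nc F lx ly hw.1.1.1 (mem_cent_single.1 cx) (mem_cent_single.1 cy) with e | e
    · exact e
    · exact absurd (e ▸ hw.1) zU
  · have := h.sActCm A (B := cj n A1) (by rw [inv_eq_of_mul_eq_one_right s]; exact nσ) hu.1
    exact ⟨this, by rw [pi3_conj c np h.p3 A.lp this, hu.2]; group⟩

omit S in
theorem sInvol {D : Set G} {ε : Finset GolayPt → G} {θ : 𝐍 (V0 E φ A1) →* Equiv.Perm GolayPt} (T : TM (V0 E φ A1) D ε θ)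
    (hz : ∀ a ∈ hat φ A1, a ≠ 1 → a ≠ z → ¬ IsConj a (a * z)) {U : Subgroup G} (hU : U ≤ E) (cU : Nat.card U = 64)
    (sU : ∀ u ∈ U, u * u = 1) (dU : U ⊓ V0 E φ A1 = ⊥) {l : G} (lN : l ∈ 𝐍 (V0 E φ A1))
    (lp : l * p * l⁻¹ = p⁻¹) (e : l * l = 1 ∨ l * l = z) : l * l = 1 := by
  refine e.resolve_right fun e => ?_
  obtain ⟨s1, s2, -⟩ := h.std F
  have zV : z ∈ V0 E φ A1 := mem_sup_left h.z_Cm
  have UN := hU.trans (h.sEN F)
  have r : ∀ g, θ g ∈ M24 := fun g => T.rng ▸ ⟨g, rfl⟩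
  have inj : Function.Injective (θ.comp (inclusion UN)) := (injective_iff_map_eq_one _).2 fun u k =>
    Subtype.ext (mem_bot.1 (dU.le ⟨u.2, (T.ker _).1 k⟩))
  obtain ⟨q, ⟨u, rfl⟩, k, hk, ek⟩ := sBoth (Q := (θ.comp (inclusion UN)).range) (by rintro _ ⟨u, rfl⟩; exact r _)
    (by rw [← cU, ← Nat.card_congr (MonoidHom.ofInjective inj).toEquiv])
    (by rintro _ ⟨u, rfl⟩; rw [← map_mul, show u * u = 1 from Subtype.ext (sU u u.2), map_one])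
    (r ⟨l, lN⟩) (fun k => h.sOutJ lp ⊤ (h.sVJ le_top ((T.ker _).1 k)))
    (by rw [← map_mul]; exact (T.ker _).2 (by change l * l ∈ _; rw [e]; exact zV))
  rw [← T.rng] at hk
  obtain ⟨k, rfl⟩ := hk
  have hv : l * ((k : G) * u * (k : G)⁻¹)⁻¹ ∈ V0 E φ A1 := (T.ker (⟨l, lN⟩ * (k * inclusion UN u * k⁻¹)⁻¹)).1 (by
    rw [map_mul, map_inv, map_mul, map_mul, map_inv, ek]; exact mul_inv_cancel _)
  have ss : (k : G) * u * (k : G)⁻¹ * ((k : G) * u * (k : G)⁻¹) = 1 := by rw [conj_mul, sU u u.2]; group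
  generalize (k : G) * u * (k : G)⁻¹ = s at hv ss
  obtain ⟨v, rfl⟩ : ∃ v, l = v * s := ⟨l * s⁻¹, by group⟩
  rw [mul_inv_cancel_right] at hv
  have c : ∀ x ∈ V0 E φ A1, ∀ y ∈ V0 E φ A1, x * y = y * x := fun x hx y hy => comm_of_sq s2 hx hy
  have nl : ∀ x ∈ V0 E φ A1, v * s * x * (v * s)⁻¹ ∈ V0 E φ A1 := fun x => (mem_normalizer_iff.1 lN x).1
  have np : ∀ x ∈ V0 E φ A1, p * x * p⁻¹ ∈ V0 E φ A1 := fun x =>
    (mem_normalizer_iff.1 (h.sActV h.Lp.sAct (one_mul 1) fun m hm => by simpa using hm) x).1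
  have e2 : (v * s * v * (v * s)⁻¹) * v = z := by
    rw [← e, mul_inv_rev, inv_eq_of_mul_eq_one_right ss]; group
  have e3 := congrArg (pi3 p) e2
  rw [pi3_mul c np (nl v hv) hv, pi3_conj c np h.p3 (Or.inr lp) (nl v hv), h.pi3_z] at e3
  have aV := pi3_mem c np hv
  have ap := pi3_fix c np h.p3 hv
  generalize pi3 p v = w at e3 aV ap
  obtain ⟨m, lm⟩ := h.tot (mem_KK.2 ⟨s1 w aV, ap.symm⟩)
  refine hz w ⟨⟨m, (h.sLJ lm).1 (h.sVJ le_rfl aV), lm⟩, s2 w aV⟩ ?_ ?_ (isConj_iff.2 ⟨v * s, ?_⟩)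
  · rintro rfl; exact h.es.ne (by rw [← e3]; group)
  · rintro rfl
    have : v * s * w * (v * s)⁻¹ = 1 := by simpa using e3
    exact h.es.ne (conj_eq_one_iff.1 this)
  · rw [s1 w aV, ← e3, mul_assoc _ w w, s2 w aV, mul_one]

omit S in
theorem sCardN {D : Set G} {ε : Finset GolayPt → G} {θ : 𝐍 (V0 E φ A1) →* Equiv.Perm GolayPt} (T : TM (V0 E φ A1) D ε θ) :
    Nat.card (𝐍 (V0 E φ A1)) = 2 ^ 11 * 244823040 := by
  have : θ.ker = (V0 E φ A1).subgroupOf _ := Subgroup.ext fun g => T.ker g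
  rw [← θ.ker.card_mul_index, index_ker, T.rng, card_M24, this, Nat.card_congr (subgroupOfEquivOfLe le_normalizer).toEquiv,
    (h.std F).2.2]

omit S in
theorem sExInv {D : Set G} {ε : Finset GolayPt → G} {θ : 𝐍 (V0 E φ A1) →* Equiv.Perm GolayPt} (T : TM (V0 E φ A1) D ε θ)
    (odd : ¬ 2 ∣ (centralizer {z} ⊓ 𝐍 (V0 E φ A1)).relIndex (𝐍 (V0 E φ A1))) :
    ∃ l, l * z = z * l ∧ l * p * l⁻¹ = p⁻¹ := by
  by_contra hn
  have e : centralizer {z} ≤ E ⊔ KK z p := fun w hw => by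
    obtain ⟨e, he, l, rfl, lz, lp⟩ := h.dec w (mem_cent_single.1 hw)
    exact mul_mem (mem_sup_left he) (mem_sup_right (mem_KK.2
      ⟨lz, mul_inv_eq_iff_eq_mul.1 (lp.resolve_right fun k => hn ⟨l, lz, k⟩)⟩))
  have c1 := card_sup_mul_card_inf' (H := E) (K := KK z p) fun k hk =>
    mem_normalizer_fintype (h.ls.norm k (mem_KK.1 hk).1)
  have c2 : 2 ∣ Nat.card ↥(E ⊓ KK z p) := by
    have : Fact (Nat.Prime 2) := ⟨Nat.prime_two⟩
    rw [← orderOf_eq_prime (x := z) (p := 2) (by rw [pow_two, h.es.sq]) h.es.ne]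
    exact orderOf_dvd_natCard _ ⟨h.es.mem, h.Lz.1⟩
  have c3 := card_inf_mul_relIndex (centralizer {z} ⊓ 𝐍 (V0 E φ A1)) (𝐍 (V0 E φ A1))
  rw [h.sCardN F T, inf_assoc, inf_idem] at c3
  have c4 : 2 ^ 21 ∣ Nat.card ↥(centralizer {z} ⊓ 𝐍 (V0 E φ A1)) :=
    (Nat.Coprime.pow_left 21 ((Nat.Prime.coprime_iff_not_dvd Nat.prime_two).2 odd)).dvd_of_dvd_mul_right
      (by rw [c3]; norm_num)
  have c5 := Nat.mul_dvd_mul (c4.trans (card_dvd_of_le (inf_le_left.trans e))) c2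
  rw [c1, h.card, h.cK] at c5
  revert c5; norm_num

theorem split' {D : Set G} {ε : Finset GolayPt → G} {θ : 𝐍 (V0 E φ A1) →* Equiv.Perm GolayPt} (T : TM (V0 E φ A1) D ε θ)
    (hz : ∀ a ∈ hat φ A1, a ≠ 1 → a ≠ z → ¬ IsConj a (a * z))
    (odd : ¬ 2 ∣ (centralizer {z} ⊓ 𝐍 (V0 E φ A1)).relIndex (𝐍 (V0 E φ A1))) :
    ∃ C ≤ 𝐍 (V0 E φ A1), C ⊓ V0 E φ A1 = ⊥ ∧ Nat.card C = 1024 := by
  obtain ⟨l0, lz0, lp0⟩ := h.sExInv F T odd
  obtain ⟨l, A, lp, l2⟩ := h.sExOut S lz0 lp0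
  obtain ⟨U, UE, cU, sU, dU, nU⟩ := h.sExU F S
  obtain ⟨X, lX, X2⟩ := h.lift2 F S.xM S.x2
  obtain ⟨Y, lY, Y2⟩ := h.lift2 F S.yM S.y2
  have XN := h.sActV lX.sAct S.x2 (S.nA x (Or.inl rfl))
  have YN := h.sActV lY.sAct S.y2 (S.nA y (Or.inr (Or.inl rfl)))
  have lN := h.sActV A S.t2 (S.nA τ (Or.inr (Or.inr rfl)))
  have I := fun w => h.sInvol F T hz UE cU sU dU (l := w)
  replace l2 := I l lN lp l2
  have cm : ∀ k m, L φ k m → k * k = 1 → k ∈ 𝐍 (V0 E φ A1) → τ * m * τ⁻¹ = m → l * k * l⁻¹ = k := by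
    intro k m lk k2 kN e
    refine (h.lift_eq lk ((A.act _ _ lk).of_eq e) k2 (by rw [conj_mul, k2]; group)).resolve_right fun q => h.es.ne ?_
    have : l * k * (l * k) = z := by
      calc _ = l * k * l⁻¹ * (l * l) * k := by group
        _ = _ := by rw [q, l2, mul_one, mul_assoc, ← lk.kz, ← mul_assoc, k2, one_mul]
    rw [← this]
    refine I _ (mul_mem lN kN) ?_ (Or.inr this)
    rw [mul_assoc l k, lk.kp, ← lp]; group
  have lx := cm X x lX X2 XN S.tx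
  have ly := cm Y y lY Y2 YN S.ty
  have lc : L φ ((X * Y) ^ 2) ((x * y) ^ 2) := (lX.mul lY).pow 2
  have Xi := inv_eq_of_mul_eq_one_right X2
  have Yi := inv_eq_of_mul_eq_one_right Y2
  have xr : X * (X * Y) * X⁻¹ = (X * Y)⁻¹ := by rw [mul_inv_rev, Xi, Yi, ← mul_assoc, X2, one_mul]
  have yr : Y * (X * Y) * Y⁻¹ = (X * Y)⁻¹ := by rw [mul_inv_rev, Xi, Yi]; nth_rewrite 3 [← Yi]; group
  have c2 : (X * Y) ^ 2 * (X * Y) ^ 2 = 1 := by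
    have k1 := h.six F lc S.r4
    have k2 := h.ker_comm ((lc.mul lc).of_eq S.r4) lX
    have k3 : X * ((X * Y) ^ 2 * (X * Y) ^ 2) * X⁻¹ = ((X * Y) ^ 2 * (X * Y) ^ 2)⁻¹ := by
      rw [← conj_mul, ← conj_pow, xr, inv_pow, mul_inv_rev ((X * Y) ^ 2)]
    rw [← k2, mul_inv_cancel_right, eq_inv_iff_mul_eq_one] at k3
    generalize (X * Y) ^ 2 = r at k1 k3
    calc _ = r ^ 6 * (r * r * (r * r))⁻¹ := by
          rw [eq_mul_inv_iff_mul_eq]; simp only [pow_succ, pow_zero, one_mul, mul_assoc]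
      _ = 1 := by rw [k1, k3]; group
  have ci := inv_eq_of_mul_eq_one_right c2
  have xc : X * (X * Y) ^ 2 * X⁻¹ = (X * Y) ^ 2 := by rw [← conj_pow, xr, inv_pow, ci]
  have yc : Y * (X * Y) ^ 2 * Y⁻¹ = (X * Y) ^ 2 := by rw [← conj_pow, yr, inv_pow, ci]
  have lc' : l * (X * Y) ^ 2 * l⁻¹ = (X * Y) ^ 2 := by rw [← conj_pow, ← conj_mul, lx, ly]
  have yx : Y * X * Y⁻¹ = X * (X * Y) ^ 2 := by
    rw [Yi, pow_two]; simp only [← mul_assoc]; rw [X2, one_mul]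
  have uX := nU X x lX.sAct S.x2 (S.nB x (Or.inl rfl))
  have uY := nU Y y lY.sAct S.y2 (S.nB y (Or.inr (Or.inl rfl)))
  have ul := nU l τ A S.t2 (S.nB τ (Or.inr (Or.inr rfl)))
  obtain ⟨P1, p1, q1⟩ := S.P1
  obtain ⟨P2, p2, q2, r2⟩ := S.P2
  obtain ⟨P3, p3, q3, r3, s3⟩ := S.P3
  obtain ⟨C1, a1, b1, c1, d1, e1, f1⟩ := sChain2 (C := U) (g := (X * Y) ^ 2) (fun u hu => by
      convert uX _ (uY _ (uX _ (uY _ hu))) using 1; rw [pow_two]; group) (by rw [c2]; exact one_mem _) dU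
    (h.sStepJ p1 (UE.trans (h.sEJ P1)) (by rwa [h.sLJ lc]))
  obtain ⟨C2, a2, b2, c2', d2, e2, f2⟩ := sChain2 (C := C1) (g := X) (f1 X uX (by rwa [xc])) (by rw [X2]; exact one_mem _) d1
    (h.sStepJ p2 (e1 _ (UE.trans (h.sEJ P2)) ((h.sLJ lc).2 q2)) (by rwa [h.sLJ lX]))
  obtain ⟨C3, a3, b3, c3, d3, e3, f3⟩ := sChain2 (C := C2) (g := Y)
    (f2 Y (f1 Y uY (by rwa [yc])) (by rw [yx]; exact mul_mem b2 (a2 b1))) (by rw [Y2]; exact one_mem _) d2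
    (h.sStepJ p3 (e2 _ (e1 _ (UE.trans (h.sEJ P3)) ((h.sLJ lc).2 q3)) ((h.sLJ lX).2 r3)) (by rwa [h.sLJ lY]))
  obtain ⟨C4, -, -, c4, d4, e4, -⟩ := sChain2 (C := C3) (g := l)
    (f3 l (f2 l (f1 l ul (by rwa [lc'])) (by rwa [lx])) (by rwa [ly])) (by rw [l2]; exact one_mem _) d3
    (h.sStepJ le_top (e3 _ (e2 _ (e1 _ (UE.trans (h.sEJ ⊤)) ((h.sLJ lc).2 trivial)) ((h.sLJ lX).2 trivial))
      ((h.sLJ lY).2 trivial)) (h.sOutJ lp ⊤))
  exact ⟨C4, e4 _ (e3 _ (e2 _ (e1 _ (UE.trans (h.sEN F)) (pow_mem (mul_mem XN YN) 2)) XN) YN) lN, d4, by omega⟩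

end JS

/-- the normaliser of the standard `2^11` splits over it with complement `M24`. -/
theorem JS.split [Finite G] {φ : KK z p →* Equiv.Perm GolayPt} (h : JS E z p M22 φ) {D : Set G} {ε : Finset GolayPt → G}
    {θ : 𝐍 (V0 E φ (gc.gen gA)) →* Equiv.Perm GolayPt} (T : TM (V0 E φ (gc.gen gA)) D ε θ)
    (hz : ∀ a ∈ hat φ (gc.gen gA), a ≠ 1 → a ≠ z → ¬ IsConj a (a * z))
    (odd : ¬ 2 ∣ (centralizer {z} ⊓ 𝐍 (V0 E φ (gc.gen gA))).relIndex (𝐍 (V0 E φ (gc.gen gA)))) :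
    ∃ K ≤ 𝐍 (V0 E φ (gc.gen gA)), K ⊓ V0 E φ (gc.gen gA) = ⊥ ∧ K ⊔ V0 E φ (gc.gen gA) = 𝐍 (V0 E φ (gc.gen gA)) ∧
      IsoM24 K := by
  obtain ⟨C, hC, d, c⟩ := h.split' mf sf T hz odd
  have cN := h.sCardN mf T
  have s2 : ∀ v ∈ V0 E φ (gc.gen gA), v * v = 1 := (h.std mf).2.1
  have s3 : Nat.card (V0 E φ (gc.gen gA)) = 2 ^ 11 := (h.std mf).2.2
  generalize V0 E φ (gc.gen gA) = V at *
  have c1 := card_sup_mul_card_inf' hC
  rw [inf_comm, d, card_bot, c, s3] at c1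
  have le : V ⊔ C ≤ 𝐍 V := sup_le le_normalizer hC
  have c2 := card_inf_mul_relIndex (V ⊔ C) (𝐍 V)
  rw [inf_of_le_left le, cN, show Nat.card ↥(V ⊔ C) = 2 ^ 21 by omega] at c2
  obtain ⟨K, k1, k2⟩ := BG1.gaschutz_split (U := V) (V := V ⊔ C) (H := 𝐍 V) (X := C)
    ⟨⟨fun x y => Subtype.ext (comm_of_sq s2 x.2 y.2)⟩⟩ le_sup_left le le_rfl
    (by rw [s3, show (V ⊔ C).relIndex (𝐍 V) = 239085 by omega]; norm_num) rfl (by rw [inf_comm, d])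
  have kN : K ≤ 𝐍 V := k1 ▸ le_sup_right
  refine ⟨K, kN, by rw [inf_comm, k2], by rw [sup_comm, k1], ?_⟩
  have inj : Function.Injective (θ.comp (inclusion kN)) := (injective_iff_map_eq_one _).2 fun u k =>
    Subtype.ext (mem_bot.1 (k2.le ⟨(T.ker _).1 k, u.2⟩))
  have c3 := card_sup_mul_card_inf' kN
  rw [k1, k2, card_bot, cN, s3] at c3
  have : (θ.comp (inclusion kN)).range = M24 := eq_of_le_of_card_ge (by rintro _ ⟨u, rfl⟩; exact T.rng ▸ ⟨_, rfl⟩)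
    (by rw [← Nat.card_congr (MonoidHom.ofInjective inj).toEquiv, card_M24]; omega)
  exact ⟨(MonoidHom.ofInjective inj).trans (MulEquiv.subgroupCongr this)⟩

end Cfsg.Lib.JF
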