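import Cfsg.Agent.Lib.Block2.JG0
import Cfsg.Agent.Lib.Golay.Cls

/-! Permutation facts for the splitting of `2^11 : M24` in groups of Janko-four type. -/

set_option autoImplicit false
set_option maxRecDepth 100000

namespace Cfsg.Lib.JF

open Subgroup Cfsg.Lib.Amalg Cfsg.Lib.Golay Spor
open scoped Pointwise

/-- facts on `Aut(M22)` used for the complement. -/
structure SF {Γ : Type*} [Group Γ] (M A1 : Subgroup Γ) (a b n x y τ : Γ) : Prop where
  nM : n ∈ M
  xM : x ∈ M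
  yM : y ∈ M
  x2 : x * x = 1
  y2 : y * y = 1
  r4 : (x * y) ^ 2 * (x * y) ^ 2 = 1
  t2 : τ * τ = 1
  tx : τ * x * τ⁻¹ = x
  ty : τ * y * τ⁻¹ = y
  nA : ∀ g, g = x ∨ g = y ∨ g = τ → ∀ m ∈ A1, g * m * g⁻¹ ∈ A1
  nB : ∀ g, g = x ∨ g = y ∨ g = τ → ∀ m ∈ cj n A1, g * m * g⁻¹ ∈ cj n A1
  gen : ∀ Y : Subgroup Γ, A1 ≤ Y → cj n A1 ≤ Y → a ∈ Y ∧ b ∈ Y
  P1 : ∃ P : Subgroup Γ, A1 ≤ P ∧ (x * y) ^ 2 ∉ P
  P2 : ∃ P : Subgroup Γ, A1 ≤ P ∧ (x * y) ^ 2 ∈ P ∧ x ∉ P
  P3 : ∃ P : Subgroup Γ, A1 ≤ P ∧ (x * y) ^ 2 ∈ P ∧ x ∈ P ∧ y ∉ P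
  out : ∀ α : MulAut M, α ∉ (MulAut.conj : M →* MulAut M).range →
    ∃ m ∈ M, ∀ g : M, (α g : Γ) = m * τ * g * (m * τ)⁻¹
  cen : ∀ m ∈ M, (∀ g ∈ M, m * g = g * m) → m = 1

def sT : ℕ := 0xf0c141312021016050a150b0d090607080e0401110317
def sX : ℕ := 0x170c0f0b04120e1015110a16140d09060708021303050100
def sY : ℕ := 0x17160c07100411130f050a15090d0b0814060e1201020300
def sC : ℕ := 0x170f0c0b0410021216050d15140a070809060e1303110100
def sN : ℕ := 0x17030e15140b0805071009160d01020c0a11120f04130600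
def sI : ℕ := 0x170c14130205060e04150b0812070d110f01100316090a00
def s7 : ℕ := 0x17070f090a1412040d1110020e0501161308060c03150b00
def sH : List ℕ := [0x170815060916030b14050d100c130a12070f0204010e1100, 0x17090704100b030e050a080c0d111506140f120102131600,
  0x17161514131211100f0e0d0c0b0a09080706050403020100, 0x170d0a120811031607140c09100e0502150f0106040b1300,
  0x170c05020d13031115071008090b14010a0f041206160e00]
noncomputable def sG : List ℕ := [sX, sY, sT, conjN 24 sI sX, conjN 24 sI sY, conjN 24 sI sT]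

theorem sM22 : ∀ g ∈ [sX, sY, sC, sN, sI, s7] ++ sH, gc.InH M22 g := inH_M22 (by decide +kernel)
theorem sM24 : ∀ g ∈ sG, gc.InH M24 g := inH_of_allL (by decide +kernel)

theorem sNorm : ∀ g ∈ gc.gen sG, ∀ x ∈ gc.gen gA, g * x * g⁻¹ ∈ gc.gen gA :=
  (Coding.normal_cert (c := gc) (M := 31) (d := 5) (a := 1) (n := 16) (q := fun y => Nat.beq (mulN 24 y y) (idN 24))
    (fun g hg => (sM24 g hg).1) (fun g hg => (inA g hg).1) (by decide +kernel)).2.2

theorem svX : gc.Valid sX := (sM22 _ (by simp)).1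
theorem svY : gc.Valid sY := (sM22 _ (by simp)).1
theorem svC : gc.Valid sC := (sM22 _ (by simp)).1
theorem svN : gc.Valid sN := (sM22 _ (by simp)).1
theorem svI : gc.Valid sI := (sM22 _ (by simp)).1
theorem sv7 : gc.Valid s7 := (sM22 _ (by simp)).1
theorem svT : gc.Valid sT := (sM24 _ (by simp [sG])).1

theorem sPt23 : gc.pt 23 = none := by decide +kernel
theorem sPt0 : gc.pt 0 = some 0 := by decide +kernel

theorem sI_eq : gc.dec sI = (gc.dec sN)⁻¹ := by
  rw [eq_inv_iff_mul_eq_one, ← svI.dec_mul svN, ← Coding.dec_one, (svI.mul svN).dec_inj Coding.valid_one]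
  decide +kernel

theorem sC_eq : (gc.dec sX * gc.dec sY) ^ 2 = gc.dec sC := by
  rw [pow_two, ← svX.dec_mul svY, ← (svX.mul svY).dec_mul (svX.mul svY), ((svX.mul svY).mul (svX.mul svY)).dec_inj svC]
  decide +kernel

theorem sMem22 {g : Equiv.Perm GolayPt} : g ∈ M22 ↔ g ∈ M24 ∧ g none = none ∧ g (some 0) = some 0 :=
  ⟨fun h => ⟨h.1.1, h.1.2, h.2⟩, fun h => ⟨⟨h.1, h.2.1⟩, h.2.2⟩⟩

theorem sT23 : gc.dec sT none = some 0 := by
  rw [← sPt23, svT.dec_pt (by decide), ← sPt0]; congr 1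
theorem sT0 : gc.dec sT (some 0) = none := by
  rw [← sPt0, svT.dec_pt (by decide), ← sPt23]; congr 1
theorem sT2 : gc.dec sT * gc.dec sT = 1 := (sq_of svT).2 (by decide +kernel)
theorem sT24 : gc.dec sT ∈ M24 := (sM24 _ (by simp [sG])).2

theorem sT_norm : gc.dec sT ∈ 𝐍 M22 := by
  have ti : (gc.dec sT)⁻¹ = gc.dec sT := inv_eq_of_mul_eq_one_right sT2
  have k : ∀ g ∈ M22, gc.dec sT * g * (gc.dec sT)⁻¹ ∈ M22 := fun g hg => by
    obtain ⟨h1, h2, h3⟩ := sMem22.1 hg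
    refine sMem22.2 ⟨mul_mem (mul_mem sT24 h1) (inv_mem sT24), ?_, ?_⟩
    · rw [ti]; simp only [Equiv.Perm.mul_apply, sT23, sT0, h3]
    · rw [ti]; simp only [Equiv.Perm.mul_apply, sT23, sT0, h2]
  refine mem_normalizer_iff.2 fun g => ⟨k g, fun hg => ?_⟩
  have := k _ hg
  rwa [show gc.dec sT * (gc.dec sT * g * (gc.dec sT)⁻¹) * (gc.dec sT)⁻¹ =
    (gc.dec sT * gc.dec sT) * g * (gc.dec sT * gc.dec sT)⁻¹ by group, sT2, one_mul, inv_one, mul_one] at this

theorem sNo_cent {c : Equiv.Perm GolayPt} (hc : c ∈ M24) (h1 : c none = some 0) (h2 : c (some 0) = none)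
    (h : ∀ g ∈ M22, c * g = g * c) : False := by
  have f7 : (Finset.univ.filter fun p => gc.dec s7 p = p) = om 0x800009 := sv7.filter_fix (by decide +kernel)
  have e3 : c (gc.pt 3) = gc.pt 3 := by
    have k : gc.dec s7 (c (gc.pt 3)) = c (gc.pt 3) :=
      fix_of_comm (h _ (sM22 _ (by simp)).2) (by rw [sv7.dec_pt (by decide)]; congr 1)
    have k2 : c (gc.pt 3) ∈ om 0x800009 := f7 ▸ Finset.mem_filter.2 ⟨Finset.mem_univ _, k⟩
    have k3 : ∀ q ∈ om 0x800009, q = none ∨ q = some 0 ∨ q = gc.pt 3 := by decide +kernel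
    rcases k3 _ k2 with e | e | e
    · exact absurd (c.injective (e.trans h2.symm)) (by decide +kernel)
    · exact absurd (c.injective (e.trans h1.symm)) (by decide +kernel)
    · exact e
  have k5 : ∀ q ∈ om 0x5e, c q = q := by
    have : ∀ q ∈ om 0x5e, ∃ g ∈ sH, gc.pt (app g 3) = q := by decide +kernel
    intro q hq
    obtain ⟨g, hg, rfl⟩ := this q hq
    have i := sM22 g (List.mem_append_right _ hg)
    rw [← i.1.dec_pt (by decide), ← Equiv.Perm.mul_apply, h _ i.2, Equiv.Perm.mul_apply, e3]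
  have := smul_octad_eq hc (om_mem_octads (m := 0x84805e) (by decide +kernel)) k5 (by decide +kernel)
  have k : c none ∈ c • om 0x84805e := Finset.smul_mem_smul_finset (by decide +kernel)
  rw [this, h1] at k
  revert k; decide +kernel

theorem sOut22 (α : MulAut M22) (hα : α ∉ (MulAut.conj : M22 →* MulAut M22).range) :
    ∃ m ∈ M22, ∀ g : M22, (α g : Equiv.Perm GolayPt) = m * gc.dec sT * g * (m * gc.dec sT)⁻¹ := by
  let γ : MulAut M22 := M22.normalizerMonoidHom ⟨_, sT_norm⟩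
  have hγ : ∀ g : M22, (γ g : Equiv.Perm GolayPt) = gc.dec sT * g * (gc.dec sT)⁻¹ := fun g => rfl
  have i2 : (MulAut.conj : M22 →* MulAut M22).range.index = 2 := by
    have c := (MulAut.conj : M22 →* MulAut M22).range.card_mul_index
    rw [card_aut, ← Nat.card_congr (MonoidHom.ofInjective conj_inj).toEquiv, card_M22] at c
    omega
  have n : γ ∉ (MulAut.conj : M22 →* MulAut M22).range := by
    rintro ⟨m, e⟩
    obtain ⟨h1, h2, h3⟩ := sMem22.1 (inv_mem m.2)
    refine sNo_cent (c := (m : Equiv.Perm GolayPt)⁻¹ * gc.dec sT) (mul_mem h1 sT24) ?_ ?_ fun g hg => ?_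
    · rw [Equiv.Perm.mul_apply, sT23, h3]
    · rw [Equiv.Perm.mul_apply, sT0, h2]
    · have := hγ ⟨g, hg⟩
      rw [← e] at this
      change (m : Equiv.Perm GolayPt) * g * (m : Equiv.Perm GolayPt)⁻¹ = gc.dec sT * g * _ at this
      calc _ = (m : Equiv.Perm GolayPt)⁻¹ * (gc.dec sT * g * (gc.dec sT)⁻¹) * gc.dec sT := by group
        _ = _ := by rw [← this]; group
  obtain ⟨m, e⟩ := (mul_mem_iff_of_index_two i2 (a := α) (b := γ⁻¹)).2 (by rw [inv_mem_iff]; tauto)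
  refine ⟨m, m.2, fun g => ?_⟩
  have : α = MulAut.conj m * γ := by rw [e]; group
  rw [this, MulAut.mul_apply]
  change (m : Equiv.Perm GolayPt) * γ g * (m : Equiv.Perm GolayPt)⁻¹ = _
  rw [hγ]; group

theorem sStab_of {g m : ℕ} (hg : gc.Valid g) (hm : m < 2 ^ 24) :
    gc.dec g ∈ MulAction.stabilizer (Equiv.Perm GolayPt) (om m) ↔ imgT g m = m := by
  rw [MulAction.mem_stabilizer_iff, hg.smul_om]
  exact gc.ofMask_inj (hg.imgT_lt m) hm

theorem sA_stab {m : ℕ} (h : allL gA (fun g => Nat.beq (imgT g m) m) = true) :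
    gc.gen gA ≤ MulAction.stabilizer (Equiv.Perm GolayPt) (om m) :=
  Coding.gen_le fun g hg => ⟨(inA g hg).1, (inA g hg).1.mem_stab_om (beq_iff.1 (allL_iff.1 h g hg))⟩

theorem sf : SF M22 (gc.gen gA) (gc.dec ua) (gc.dec ub) (gc.dec sN) (gc.dec sX) (gc.dec sY) (gc.dec sT) := by
  have mG := fun g hg => (Coding.inH_gen (fun g hg => (sM24 g hg).1) g hg).2
  have nA : ∀ g ∈ sG, ∀ x ∈ gc.gen gA, gc.dec g * x * (gc.dec g)⁻¹ ∈ gc.gen gA := fun g hg => sNorm _ (mG g hg)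
  have nB : ∀ g, gc.Valid g → conjN 24 sI g ∈ sG → ∀ m ∈ cj (gc.dec sN) (gc.gen gA),
      gc.dec g * m * (gc.dec g)⁻¹ ∈ cj (gc.dec sN) (gc.gen gA) := fun g v hg m hm => by
    have := nA _ hg _ (mem_cj.1 hm)
    rw [show gc.dec (conjN 24 sI g) = _ from (svI.conj v).2, sI_eq] at this
    rw [mem_cj]; convert this using 1; group
  refine ⟨(sM22 _ (by simp)).2, (sM22 _ (by simp)).2, (sM22 _ (by simp)).2, (sq_of svX).2 (by decide +kernel),
    (sq_of svY).2 (by decide +kernel), by rw [sC_eq]; exact (sq_of svC).2 (by decide +kernel), sT2, ?_, ?_, ?_, ?_,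
    fun Y h1 h2 => ?_, ⟨_, sA_stab (m := 0x4) (by decide +kernel), ?_⟩, ⟨_, sA_stab (m := 0x20004) (by decide +kernel), ?_, ?_⟩,
    ⟨_, sA_stab (m := 0x2) (by decide +kernel), ?_, ?_, ?_⟩, sOut22, fun m hm h => ?_⟩
  · rw [← (svT.conj svX).2, (svT.conj svX).1.dec_inj svX]; decide +kernel
  · rw [← (svT.conj svY).2, (svT.conj svY).1.dec_inj svY]; decide +kernel
  · rintro g (rfl | rfl | rfl) <;> exact nA _ (by simp [sG])
  · rintro g (rfl | rfl | rfl)
    exacts [nB _ svX (by simp [sG]), nB _ svY (by simp [sG]), nB _ svT (by simp [sG])]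
  · have a : ∀ g ∈ gA, gc.InH Y g := fun g hg =>
      ⟨(inA g hg).1, h1 (Coding.inH_gen (fun g hg => (inA g hg).1) g hg).2⟩
    have b : ∀ g ∈ gA, gc.InH Y (conjN 24 sN g) := fun g hg => ⟨(svN.conj (inA g hg).1).1, h2 (by
      rw [show gc.dec (conjN 24 sN g) = _ from (svN.conj (inA g hg).1).2]
      exact conj_mem_cj _ (Coding.inH_gen (fun g hg => (inA g hg).1) g hg).2)⟩
    have a0 := a u1 (by simp [gA])
    have a1 := a u2 (by simp [gA])
    have a2 := a u3 (by simp [gA])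
    have a3 := a u4 (by simp [gA])
    have a4 := b u1 (by simp [gA])
    have a5 := b u2 (by simp [gA])
    have a6 := b u3 (by simp [gA])
    have k1 := a1.mul (a5.mul (a3.mul (a4.mul (a0.mul (a1.mul a5)))))
    have k2 := a4.mul (a3.mul (a5.mul (a2.mul (a3.mul (a4.mul (a6.mul (a2.mul a4)))))))
    refine ⟨?_, ?_⟩
    · convert k1.2 using 2; decide +kernel
    · convert k2.2 using 2; decide +kernel
  · rw [sC_eq, sStab_of svC (by norm_num)]; decide +kernel
  · rw [sC_eq, sStab_of svC (by norm_num)]; decide +kernel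
  · rw [sStab_of svX (by norm_num)]; decide +kernel
  · rw [sC_eq, sStab_of svC (by norm_num)]; decide +kernel
  · rw [sStab_of svX (by norm_num)]; decide +kernel
  · rw [sStab_of svY (by norm_num)]; decide +kernel
  · have : (⟨m, hm⟩ : M22) ∈ center M22 := mem_center_iff.2 fun g => Subtype.ext (h g g.2).symm
    rw [center_M22] at this
    exact congrArg Subtype.val (mem_bot.1 this)

/-- an elementary abelian subgroup of order 64 of `M24` meets sBoth classes of involutions. -/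
theorem sBoth {Q : Subgroup (Equiv.Perm GolayPt)} (hQ : Q ≤ M24) (c : Nat.card Q = 64) (e : ∀ q ∈ Q, q * q = 1)
    {σ : Equiv.Perm GolayPt} (hσ : σ ∈ M24) (s1 : σ ≠ 1) (s2 : σ * σ = 1) : ∃ q ∈ Q, ∃ k ∈ M24, σ = k * q * k⁻¹ := by
  classical
  have : Fact (Nat.Prime 2) := ⟨Nat.prime_two⟩
  have : Fintype Q := Fintype.ofFinite _
  have : Fintype (Quotient (MulAction.orbitRel Q GolayPt)) := Fintype.ofFinite _
  have B := MulAction.sum_card_fixedBy_eq_card_orbits_mul_card_group Q GolayPt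
  rw [← Nat.card_eq_fintype_card (α := Q), c] at B
  have fx : ∀ q : Q, Fintype.card (MulAction.fixedBy GolayPt q) = (Finset.univ.filter fun p => (q : Equiv.Perm GolayPt) p = p).card :=
    fun q => by rw [← Fintype.card_subtype]; exact Fintype.card_congr (Equiv.refl _)
  have key : ∀ (w : Equiv.Perm GolayPt) (n : ℕ), (n = 0 ∨ n = 8) → (∀ q ∈ Q, q ≠ 1 → ∃ k ∈ M24, q = k * w * k⁻¹) →
      (∀ k : Equiv.Perm GolayPt, (Finset.univ.filter fun p => (k * w * k⁻¹) p = p).card = n) → False := by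
    intro w n hn h1 h2
    have s : ∑ q : Q, Fintype.card (MulAction.fixedBy GolayPt q) = 24 + 63 * n := by
      rw [← Finset.add_sum_erase _ _ (Finset.mem_univ (1 : Q)), Finset.sum_const_nat (m := n), fx,
        Finset.card_erase_of_mem (Finset.mem_univ _), Finset.card_univ, ← Nat.card_eq_fintype_card, c]
      · simp
      · intro q hq
        obtain ⟨k, -, ek⟩ := h1 q q.2 fun e => (Finset.mem_erase.1 hq).1 (Subtype.ext e)
        rw [fx, ek, h2]
    rw [s] at B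
    rcases hn with rfl | rfl <;> omega
  have cl : ∀ q ∈ Q, q ≠ 1 → _ := fun q hq n => M24_invol (hQ hq) (orderOf_eq_prime (by rw [pow_two, e q hq]) n)
  by_contra hn
  rcases M24_invol hσ (orderOf_eq_prime (by rw [pow_two, s2]) s1) with ⟨k, hk, rfl⟩ | ⟨k, hk, rfl⟩
  · refine key (gc.dec z2B) 0 (Or.inl rfl) (fun q hq n => (cl q hq n).resolve_left ?_)
      fun k => (card_fix_conj k fix_z2B).trans (by decide +kernel)
    rintro ⟨j, hj, rfl⟩
    exact hn ⟨_, hq, k * j⁻¹, mul_mem hk (inv_mem hj), by group⟩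
  · refine key (gc.dec z2A) 8 (Or.inr rfl) (fun q hq n => (cl q hq n).resolve_right ?_)
      fun k => (card_fix_conj k fix_z2A).trans (by decide +kernel)
    rintro ⟨j, hj, rfl⟩
    exact hn ⟨_, hq, k * j⁻¹, mul_mem hk (inv_mem hj), by group⟩

end Cfsg.Lib.JF
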