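import Cfsg.Agent.Lib.Block2.JGs1

/-! Tools for the splitting of `2^11 : M24` in groups of Janko-four type. -/

set_option autoImplicit false
set_option linter.unusedSectionVars false

namespace Cfsg.Lib.JF

open Subgroup Cfsg.Lib.Amalg Cfsg.Lib.Core Cfsg.Lib.Known2
open scoped commutatorElement

variable {G Γ : Type*} [Group G] [Group Γ]

/-- adjoining an element which squares into `C`. -/
theorem sChain2 [Finite G] {C V : Subgroup G} {g : G} (n : ∀ c ∈ C, g * c * g⁻¹ ∈ C) (g2 : g * g ∈ C) (d : C ⊓ V = ⊥)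
    (k : ∀ c ∈ C, c * g ∉ V) : ∃ C' : Subgroup G, C ≤ C' ∧ g ∈ C' ∧ Nat.card C' = 2 * Nat.card C ∧ C' ⊓ V = ⊥ ∧
      (∀ X : Subgroup G, C ≤ X → g ∈ X → C' ≤ X) ∧
      ∀ a, (∀ c ∈ C, a * c * a⁻¹ ∈ C) → a * g * a⁻¹ ∈ C' → ∀ c ∈ C', a * c * a⁻¹ ∈ C' := by
  have gn : g ∈ 𝐍 C := mem_normalizer_fintype n
  have n' : ∀ c ∈ C, g⁻¹ * c * g ∈ C := fun c hc => by
    simpa using (mem_normalizer_iff.1 (inv_mem gn) c).1 hc
  have gC : g ∉ C := fun hg => k _ (inv_mem hg) (by simp)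
  let C' : Subgroup G :=
    { carrier := {w | w ∈ C ∨ w * g⁻¹ ∈ C}
      one_mem' := Or.inl (one_mem _)
      mul_mem' := by
        rintro a b (ha | ha) (hb | hb)
        · exact Or.inl (mul_mem ha hb)
        · exact Or.inr (by rw [mul_assoc]; exact mul_mem ha hb)
        · exact Or.inr (by convert mul_mem ha (n b hb) using 1; group)
        · exact Or.inl (by convert mul_mem (mul_mem ha (n _ hb)) g2 using 1; group)
      inv_mem' := by
        rintro a (ha | ha)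
        · exact Or.inl (inv_mem ha)
        · exact Or.inr (by convert mul_mem (n' _ (inv_mem ha)) (inv_mem g2) using 1; group) }
  have m : ∀ w, w ∈ C' ↔ w ∈ C ∨ w * g⁻¹ ∈ C := fun _ => Iff.rfl
  have le : C ≤ C' := fun c hc => Or.inl hc
  have gm : g ∈ C' := Or.inr (by simp)
  refine ⟨C', le, gm, ?_, (eq_bot_iff_forall _).2 fun w hw => ?_, fun X h1 h2 w hw => ?_, fun a ha hg w hw => ?_⟩
  · have i : C.relIndex C' = 2 := by
      refine index_eq_two_iff.2 ⟨⟨g, gm⟩⁻¹, fun b => ?_⟩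
      change Xor' ((b : G) * g⁻¹ ∈ C) ((b : G) ∈ C)
      have : ¬ ((b : G) * g⁻¹ ∈ C ∧ (b : G) ∈ C) := fun ⟨p, q⟩ => gC (by simpa using mul_mem (inv_mem p) q)
      have := (m b).1 b.2
      unfold Xor'; tauto
    have := card_inf_mul_relIndex C C'
    rw [inf_of_le_left le, i] at this
    omega
  · rcases (m w).1 hw.1 with e | e
    · exact mem_bot.1 (d.le ⟨e, hw.2⟩)
    · exact absurd (by simpa using hw.2) (k _ e)
  · rcases (m w).1 hw with e | e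
    · exact h1 e
    · simpa using mul_mem (h1 e) h2
  · rcases (m w).1 hw with e | e
    · exact le (ha w e)
    · convert mul_mem (le (ha _ e)) hg using 1; group

variable {E : Subgroup G} {z p : G} {M : Subgroup Γ} {φ : KK z p →* Γ}

/-- `l` normalises `K` and induces `τ` on its image. -/
structure ActS (φ : KK z p →* Γ) (l : G) (τ : Γ) : Prop where
  lz : l * z = z * l
  lp : l * p * l⁻¹ = p ∨ l * p * l⁻¹ = p⁻¹
  act : ∀ k m, L φ k m → L φ (l * k * l⁻¹) (τ * m * τ⁻¹)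

theorem sCjK {l k : G} (lz : l * z = z * l) (lp : l * p * l⁻¹ = p ∨ l * p * l⁻¹ = p⁻¹) (hk : k ∈ KK z p) :
    l⁻¹ * k * l ∈ KK z p := by
  obtain ⟨h1, h2⟩ := mem_KK.1 hk
  have : l * p * l⁻¹ * k = k * (l * p * l⁻¹) := by
    rcases lp with e | e <;> rw [e]
    · exact h2.symm
    · exact (Commute.inv_left (show Commute p k from h2.symm)).eq
  refine mem_KK.2 ⟨?_, ?_⟩
  · rw [mul_assoc, lz, ← mul_assoc, mul_assoc _ k, h1, ← mul_assoc, (Commute.inv_left (show Commute l z from lz)).eq]; group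
  · calc _ = l⁻¹ * (k * (l * p * l⁻¹)) * l := by group
      _ = _ := by rw [← this]; group

theorem sLp_inv {l : G} (lp : l * p * l⁻¹ = p ∨ l * p * l⁻¹ = p⁻¹) : l⁻¹ * p * l⁻¹⁻¹ = p ∨ l⁻¹ * p * l⁻¹⁻¹ = p⁻¹ := by
  rcases lp with e | e
  · left; calc _ = l⁻¹ * (l * p * l⁻¹) * l⁻¹⁻¹ := by rw [e]
      _ = _ := by group
  · right; calc _ = (l⁻¹ * p⁻¹ * l⁻¹⁻¹)⁻¹ := by group
      _ = (l⁻¹ * (l * p * l⁻¹) * l⁻¹⁻¹)⁻¹ := by rw [e]
      _ = _ := by group

theorem L.sAct {k : G} {m : Γ} (l : L φ k m) : ActS φ k m :=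
  ⟨l.kz, Or.inl (by rw [l.kp]; group), fun _ _ h => l.cnj h⟩

theorem ActS.inv {l : G} {τ : Γ} (a : ActS φ l τ) : ActS φ l⁻¹ τ⁻¹ := by
  refine ⟨(Commute.inv_left (show Commute l z from a.lz)).eq, sLp_inv a.lp, fun k m h => ?_⟩
  have k1 : L φ (l⁻¹ * k * l) _ := ⟨sCjK a.lz a.lp h.1, rfl⟩
  have := a.act _ _ k1
  rw [show l * (l⁻¹ * k * l) * l⁻¹ = k by group] at this
  rw [inv_inv, inv_inv]
  exact k1.of_eq (by rw [h.uniq this]; group)

theorem ActS.lmul {l k : G} {τ m : Γ} (h : L φ k m) (a : ActS φ l τ) : ActS φ (k * l) (m * τ) := by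
  refine ⟨by rw [mul_assoc, a.lz, ← mul_assoc, h.kz, mul_assoc], ?_, fun j n i => ?_⟩
  · have c : Commute k p := h.kp
    rcases a.lp with e | e
    · left; rw [show k * l * p * (k * l)⁻¹ = k * (l * p * l⁻¹) * k⁻¹ by group, e, c.eq]; group
    · right; rw [show k * l * p * (k * l)⁻¹ = k * (l * p * l⁻¹) * k⁻¹ by group, e, c.inv_right.eq]; group
  · convert h.cnj (a.act _ _ i) using 1 <;> group

theorem ActS.hat {l : G} {τ : Γ} (a : ActS φ l τ) {B : Set Γ} (n : ∀ m ∈ B, τ * m * τ⁻¹ ∈ B) {k : G}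
    (hk : k ∈ hat φ B) : l * k * l⁻¹ ∈ hat φ B := by
  obtain ⟨⟨m, hm, i⟩, e⟩ := hk
  exact ⟨⟨_, n m hm, a.act _ _ i⟩, by rw [conj_mul, e]; group⟩

/-- the preimage of `P` in `E K`. -/
def sJJ (h : JS E z p M φ) (P : Subgroup Γ) : Subgroup G where
  carrier := {w | ∃ e ∈ E, ∃ k m, m ∈ P ∧ L φ k m ∧ w = e * k}
  one_mem' := ⟨1, one_mem _, 1, 1, one_mem _, L.one, by simp⟩
  mul_mem' := by
    rintro _ _ ⟨e, he, k, m, hm, l, rfl⟩ ⟨e', he', k', m', hm', l', rfl⟩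
    exact ⟨e * (k * e' * k⁻¹), mul_mem he (h.nm l he'), _, _, mul_mem hm hm', l.mul l', by group⟩
  inv_mem' := by
    rintro _ ⟨e, he, k, m, hm, l, rfl⟩
    exact ⟨k⁻¹ * e⁻¹ * k⁻¹⁻¹, h.nm l.inv (inv_mem he), _, _, inv_mem hm, l.inv, by group⟩

namespace JS
variable (h : JS E z p M φ)
include h

theorem sActCm {l : G} {τ : Γ} (a : ActS φ l τ) {B : Set Γ} (n : ∀ m ∈ B, τ⁻¹ * m * τ⁻¹⁻¹ ∈ B) {x : G}
    (hx : x ∈ Cm E φ B) : l * x * l⁻¹ ∈ Cm E φ B := by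
  refine ⟨h.ls.norm l a.lz x hx.1, fun k hk => ?_⟩
  have := hx.2 _ (a.inv.hat n hk)
  calc _ = l * (l⁻¹ * k * l⁻¹⁻¹ * x) * l⁻¹ := by group
    _ = _ := by rw [this]; group

theorem sActV [Finite G] {l : G} {τ : Γ} (a : ActS φ l τ) {B : Subgroup Γ} (t : τ * τ = 1)
    (n : ∀ m ∈ B, τ * m * τ⁻¹ ∈ B) : l ∈ 𝐍 (V0 E φ B) := by
  refine mem_normalizer_fintype fun v hv => ?_
  have : V0 E φ B ≤ (V0 E φ B).comap (MulAut.conj l).toMonoidHom := sup_le
    (fun x hx => mem_sup_left (h.sActCm a (by rw [inv_eq_of_mul_eq_one_right t]; exact n) hx))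
    ((closure_le _).2 fun k hk => mem_sup_right (subset_closure (a.hat n hk)))
  exact this hv

theorem sEJ (P : Subgroup Γ) : E ≤ sJJ h P := fun e he => ⟨e, he, 1, 1, one_mem _, L.one, by simp⟩
theorem sLJ {P : Subgroup Γ} {k : G} {m : Γ} (l : L φ k m) : k ∈ sJJ h P ↔ m ∈ P := by
  refine ⟨?_, fun hm => ⟨1, one_mem _, k, m, hm, l, by simp⟩⟩
  rintro ⟨e, he, k', m', hm', l', rfl⟩
  have i := l.mul l'.inv
  rw [mul_inv_cancel_right] at i
  have : L φ e 1 := by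
    rcases h.fp e he i.kp.symm with rfl | rfl
    exacts [L.one, h.Lz]
  rwa [mul_inv_eq_one.1 (i.uniq this)]

theorem sVJ {B P : Subgroup Γ} (hP : B ≤ P) : V0 E φ B ≤ sJJ h P :=
  sup_le (Cm_le.trans (h.sEJ P)) ((closure_le _).2 fun _ ⟨⟨_, hm, l⟩, _⟩ => (h.sLJ l).2 (hP hm))

theorem sOutJ {l : G} (e : l * p * l⁻¹ = p⁻¹) (P : Subgroup Γ) : l ∉ sJJ h P := by
  rintro ⟨a, ha, k, m, -, i, rfl⟩
  have e1 : a * p * a⁻¹ = p⁻¹ := by
    rw [← e, mul_assoc a k, i.kp]; group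
  have k1 : p⁻¹ * p⁻¹ ∈ E := by
    have := mul_mem ha (h.nm h.Lp (inv_mem ha))
    rwa [show a * (p * a⁻¹ * p⁻¹) = (a * p * a⁻¹) * p⁻¹ by group, e1] at this
  have p3 : p⁻¹ * p⁻¹ = p := by
    have := h.p3
    calc _ = p⁻¹ * p⁻¹ * p ^ 3 := by rw [this, mul_one]
      _ = p := by group
  rw [p3] at k1
  rcases h.fp p k1 rfl with k | k
  · exact h.p1 k
  · exact h.p2 (by rw [k]; exact h.es.sq)

theorem sStepJ {B P : Subgroup Γ} (hP : B ≤ P) {C : Subgroup G} (hC : C ≤ sJJ h P) {g : G} (hg : g ∉ sJJ h P) :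
    ∀ c ∈ C, c * g ∉ V0 E φ B := fun _ hc k => hg ((mul_mem_cancel_left (hC hc)).1 (h.sVJ hP k))

theorem sExAut {l : G} (lz : l * z = z * l) (lp : l * p * l⁻¹ = p⁻¹) :
    ∃ α : MulAut M, ∀ k (m : M), L φ k m → L φ (l * k * l⁻¹) (α m) := by
  have key : ∀ l : G, l * z = z * l → (l * p * l⁻¹ = p ∨ l * p * l⁻¹ = p⁻¹) →
      ∃ α : M →* M, ∀ k (m : M), L φ k m → L φ (l⁻¹ * k * l) (α m) := by
    intro l lz lp
    have w : ∀ k k' m, L φ k m → L φ k' m → ∀ n n', L φ (l⁻¹ * k * l) n → L φ (l⁻¹ * k' * l) n' → n = n' := by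
      intro k k' m a b n n' c d
      have q := (c.inv.mul d)
      obtain ⟨u, hu, e⟩ := h.Lker (a.inv.mul b |>.of_eq (inv_mul_cancel m))
      have Lu : L φ (l⁻¹ * u * l) 1 := by
        have lp' := sLp_inv lp
        rw [inv_inv] at lp'
        have : L φ (l⁻¹ * p * l) 1 := by
          rcases lp' with e | e <;> rw [e]
          exacts [h.Lp, h.Lp.inv.of_eq inv_one]
        rcases h.zp hu with rfl | rfl | rfl
        · simpa using L.one
        · exact this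
        · convert this.inv using 1 <;> group
      have : L φ ((l⁻¹ * k * l)⁻¹ * (l⁻¹ * k' * l)) 1 := by
        rw [show (l⁻¹ * k * l)⁻¹ * (l⁻¹ * k' * l) = l⁻¹ * (k⁻¹ * k') * l by group]
        rcases e with e | e <;> rw [e]
        · exact Lu
        · convert Lu.mul h.Lz using 1
          · rw [mul_assoc, mul_assoc, ← lz]; group
          · simp
      exact inv_mul_eq_one.1 (q.uniq this)
    choose s hs using fun m : M => h.ex m.2
    have t : ∀ k m, L φ k m → ∃ n : M, L φ (l⁻¹ * k * l) n := fun k m a =>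
      ⟨⟨_, h.mem ⟨sCjK lz lp a.1, rfl⟩⟩, sCjK lz lp a.1, rfl⟩
    choose f hf using fun m : M => t _ _ (hs m)
    have u : ∀ k (m : M), L φ k m → L φ (l⁻¹ * k * l) (f m) := fun k m a => by
      obtain ⟨n, hn⟩ := t _ _ a
      exact hn.of_eq (w _ _ _ a (hs m) _ _ hn (hf m))
    refine ⟨MonoidHom.mk' f fun a b => Subtype.ext ?_, u⟩
    have i := (hf a).mul (hf b)
    rw [show l⁻¹ * s a * l * (l⁻¹ * s b * l) = l⁻¹ * (s a * s b) * l by group] at i
    exact (u _ (a * b) ((hs a).mul (hs b))).uniq i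
  obtain ⟨α, a⟩ := key l⁻¹ (Commute.inv_left (show Commute l z from lz)).eq (sLp_inv (Or.inr lp))
  obtain ⟨β, b⟩ := key l lz (Or.inr lp)
  refine ⟨α.toMulEquiv β (MonoidHom.ext fun m => Subtype.ext ?_) (MonoidHom.ext fun m => Subtype.ext ?_),
    fun k m i => by simpa using a k m i⟩
  · obtain ⟨k, i⟩ := h.ex m.2
    have := b _ _ (a _ _ i)
    rw [show l⁻¹ * (l⁻¹⁻¹ * k * l⁻¹) * l = k by group] at this
    exact this.uniq i
  · obtain ⟨k, i⟩ := h.ex m.2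
    have := a _ _ (b _ _ i)
    rw [show l⁻¹⁻¹ * (l⁻¹ * k * l) * l⁻¹ = k by group] at this
    exact this.uniq i

/-- an element acting trivially on the image centralises `p`. -/
theorem sTriv {l : G} (a : ActS φ l 1) : l * p * l⁻¹ = p := by
  have k1 : ∀ k ∈ KK z p, ∃ c, (∀ j ∈ KK z p, c * j = j * c) ∧ l * k * l⁻¹ = k * c := fun k hk => by
    obtain ⟨m, i⟩ := h.tot hk
    have q : L φ (k⁻¹ * (l * k * l⁻¹)) 1 := (i.inv.mul (a.act _ _ i)).of_eq (by group)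
    exact ⟨_, fun j hj => by obtain ⟨n, i'⟩ := h.tot hj; exact h.ker_comm q i', by group⟩
  have : ⁅KK z p, KK z p⁆ ≤ centralizer {l} := commutator_le.2 fun x hx y hy => mem_cent_single.2 (by
    obtain ⟨c, hc, e⟩ := k1 x hx
    obtain ⟨d, hd, e'⟩ := k1 y hy
    have c1 : Commute c y := hc y hy
    have c2 : Commute d x := hd x hx
    have c3 : Commute c d := by
      have : d = y⁻¹ * (l * y * l⁻¹) := by rw [e']; group
      obtain ⟨m, i⟩ := h.tot hy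
      exact hc d (this ▸ mul_mem (inv_mem hy) (a.act _ _ i).1)
    have : l * ⁅x, y⁆ * l⁻¹ = ⁅x, y⁆ := by
      rw [conjugate_commutatorElement, e, e', commutatorElement_def, commutatorElement_def]
      calc _ = x * (c * y) * d * c⁻¹ * (x⁻¹ * d⁻¹) * y⁻¹ := by group
        _ = x * y * (c * d) * c⁻¹ * (d⁻¹ * x⁻¹) * y⁻¹ := by rw [c1.eq, c2.inv_inv.eq]; group
        _ = _ := by rw [c3.eq]; group
    exact (mul_inv_eq_iff_eq_mul.1 this).symm)
  rw [← mem_cent_single.1 (this h.com)]; group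

theorem sExOut {A1 : Subgroup Γ} {a b n x y τ : Γ} (S : SF M A1 a b n x y τ) {l : G} (lz : l * z = z * l)
    (lp : l * p * l⁻¹ = p⁻¹) : ∃ l, ActS φ l τ ∧ l * p * l⁻¹ = p⁻¹ ∧ (l * l = 1 ∨ l * l = z) := by
  obtain ⟨α, ha⟩ := h.sExAut lz lp
  have A : ∀ σ : Γ, (∀ g : M, (α g : Γ) = σ * g * σ⁻¹) → ActS φ l σ := fun σ e =>
    ⟨lz, Or.inr lp, fun k m i => (ha k ⟨m, h.mem i⟩ i).of_eq (e _)⟩
  have ip : ∀ {k m}, L φ k m → k * l * p * (k * l)⁻¹ = p⁻¹ := fun {k m} i => by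
    rw [show k * l * p * (k * l)⁻¹ = k * (l * p * l⁻¹) * k⁻¹ by group, lp,
      (show Commute k p from i.kp).inv_right.eq]; group
  obtain ⟨m, hm, e⟩ := S.out α (by
    rintro ⟨m, rfl⟩
    obtain ⟨k, i⟩ := h.ex (inv_mem m.2)
    have := ActS.lmul i (A m fun g => rfl)
    rw [inv_mul_cancel] at this
    have := (h.sTriv this).symm.trans (ip i)
    exact h.p2 (eq_inv_iff_mul_eq_one.1 this))
  obtain ⟨k, i⟩ := h.ex (inv_mem hm)
  have B := ActS.lmul i (A _ e)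
  rw [inv_mul_cancel_left] at B
  have q := ip i
  generalize k * l = w at B q
  refine ⟨w, B, q, ?_⟩
  have wp : w * w * p = p * (w * w) := by
    calc _ = w * (w * p * w⁻¹) * w := by group
      _ = (w * p * w⁻¹)⁻¹ * (w * w) := by rw [q]; nth_rewrite 2 [← q]; group
      _ = _ := by rw [q, inv_inv]
  obtain ⟨r, ir⟩ := h.tot (mem_KK.2 ⟨by rw [mul_assoc, B.lz, ← mul_assoc, B.lz, mul_assoc], wp⟩)
  have r1 : r = 1 := S.cen r (h.mem ir) fun g hg => by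
    obtain ⟨j, ij⟩ := h.ex hg
    have k1 := B.act _ _ (B.act _ _ ij)
    have k2 := ir.cnj ij
    rw [show w * w * j * (w * w)⁻¹ = w * (w * j * w⁻¹) * w⁻¹ by group] at k2
    have := k2.uniq k1
    rw [show τ * (τ * g * τ⁻¹) * τ⁻¹ = (τ * τ) * g * (τ * τ)⁻¹ by group, S.t2] at this
    rw [← mul_inv_eq_iff_eq_mul, this]; group
  subst r1
  obtain ⟨d, hd, e⟩ := h.Lker ir
  have cw : w * d * w⁻¹ = d := by
    rcases e with e | e
    · rw [← e]; group
    · have : w * (d * z) * w⁻¹ = d * z := by rw [← e]; group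
      rwa [cjz B.lz, mul_left_inj] at this
  rcases h.zp hd with rfl | rfl | rfl
  · simpa using e
  · exact absurd (eq_inv_iff_mul_eq_one.1 (cw.symm.trans q)) h.p2
  · refine absurd (eq_inv_iff_mul_eq_one.1 (?_ : p = p⁻¹)) h.p2
    rw [← cw, conj_inv.symm, q, inv_inv]

variable {A1 A2 : Subgroup Γ} {t1 t2 t3 t4 a b i g f : Γ} (F : MF M A1 A2 t1 t2 t3 t4 a b i g f) [Finite G]
include F

theorem sEN : E ≤ 𝐍 (V0 E φ A1) := fun e he => by
  have : Fact (Nat.Prime 2) := ⟨Nat.prime_two⟩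
  obtain ⟨s1, s2, s3⟩ := h.std F
  have n : V0 E φ A1 ≤ 𝐍 E := fun v hv => mem_normalizer_fintype (h.ls.norm v (s1 v hv))
  have zV : z ∈ V0 E φ A1 := mem_sup_left h.z_Cm
  obtain ⟨d, -, k⟩ := h.uniq F (S := E ⊔ V0 E φ A1)
    (IsPGroup.to_sup_of_normal_left' (IsPGroup.of_card h.card) (IsPGroup.of_card s3) n)
    (fun v hv => mem_cent_single.1 ((sup_le (fun x hx => mem_cent_single.2 (h.es.cen x hx))
      fun x hx => mem_cent_single.2 (s1 x hx) : E ⊔ V0 E φ A1 ≤ centralizer {z}) hv))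
  have k1 := (k _ le_sup_right zV s2 s3.ge).1
  have k2 := (k (cj e (V0 E φ A1)) (by
      rintro _ ⟨v, hv, rfl⟩
      exact mul_mem (mul_mem (mem_sup_left he) (mem_sup_right hv)) (inv_mem (mem_sup_left he)))
    (mem_cj'.2 ⟨z, zV, by rw [h.es.cen e he]; group⟩)
    (fun v hv => by obtain ⟨w, hw, rfl⟩ := mem_cj'.1 hv; rw [conj_mul, s2 w hw]; group) (by rw [card_cj]; exact s3.ge)).1
  have : cj e (V0 E φ A1) ≤ V0 E φ A1 := (cj_le_cj_iff (g := d)).1 (k2.trans k1.symm).le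
  exact mem_normalizer_fintype fun v hv => this (conj_mem_cj e hv)

end JS

end Cfsg.Lib.JF
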