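import Cfsg.Agent.Lib.Block2.JG0

/-! Interfaces: more facts on `M22`, and the orbit data on the standard `2^11`. -/

set_option autoImplicit false

namespace Cfsg.Lib.JF

open Subgroup Cfsg.Lib.Amalg

/-- further facts on the hexad group of `M22` (`q` has order 5). -/
structure MF2 {Γ : Type*} [Group Γ] (M A1 : Subgroup Γ) (t1 a b q : Γ) : Prop where
  qM : q ∈ M
  q5 : q ^ 5 = 1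
  q1 : q ≠ 1
  nq : ∀ x ∈ A1, q * x * q⁻¹ ∈ A1
  fp : ∀ x ∈ A1, q * x = x * q → x = 1
  tr : ∀ x ∈ A1, x ≠ 1 → ∃ k ∈ M, k ∈ 𝐍 A1 ∧ k * t1 * k⁻¹ = x
  cN : Nat.card ↥(M ⊓ 𝐍 A1) = 5760
  u1 : ∀ m ∈ M, m * t1 = t1 * m → m ∈ 𝐍 A1
  u2 : ∀ m ∈ M, m ∉ 𝐍 A1 → ∀ Y : Subgroup Γ, A1 ≤ Y →
    (∀ i : ℕ, ∀ x ∈ A1, q ^ i * (m * x * m⁻¹) * (q ^ i)⁻¹ ∈ Y) → ∃ c ∈ M, c * a * c⁻¹ ∈ Y ∧ c * b * c⁻¹ ∈ Y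

variable {G Γ : Type*} [Group G] [Group Γ]

/-- orbit data on `V = V0 E φ A1`. -/
structure OB (E : Subgroup G) {z p : G} (φ : KK z p →* Γ) (A1 : Subgroup Γ) : Prop where
  allK : ∀ W : Subgroup G, z ∈ W → (∀ v ∈ W, v * v = 1) → 2 ^ 11 ≤ Nat.card W → ∃ k ∈ KK z p, cj k W = V0 E φ A1
  memV : ∀ v, v ∈ V0 E φ A1 ↔ ∃ a ∈ hat φ A1, ∃ u ∈ Cm E φ A1, a * u = v
  nDU : {u | u ∈ Cm E φ A1 ∧ u ∈ DD (V0 E φ A1) z}.ncard = 36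
  zD : ∀ u ∈ Cm E φ A1, u ∈ DD (V0 E φ A1) z → u * z ∈ DD (V0 E φ A1) z
  c16 : ∀ a ∈ hat φ A1, a ≠ 1 → a ≠ z → {u | u ∈ Cm E φ A1 ∧ a * u ∈ DD (V0 E φ A1) z}.ncard = 16
  one : ∀ a ∈ hat φ A1, a ≠ 1 → a ≠ z → (a ∈ DD (V0 E φ A1) z ↔ a * z ∉ DD (V0 E φ A1) z)
  H1 : ∀ w ∈ V0 E φ A1, w ≠ 1 → w ∉ DD (V0 E φ A1) z → ∀ t ∈ DD (V0 E φ A1) z,
    centralizer {w} ⊓ centralizer {t} ≤ 𝐍 (V0 E φ A1)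

end Cfsg.Lib.JF
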