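import Cfsg.Agent.Lib.Block2.JH1

/-! Interface: the counting data on the standard `2^11`. -/

set_option autoImplicit false

namespace Cfsg.Lib.JF

open Subgroup Cfsg.Lib.Amalg

variable {G Γ : Type*} [Group G] [Group Γ]

/-- counting data on `V = V0 E φ A1` (`q` of order 5 normalising `A1`). -/
structure OC (E : Subgroup G) {z p : G} (φ : KK z p →* Γ) (A1 : Subgroup Γ) (q : Γ) : Prop where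
  nZ : {v | v ∈ V0 E φ A1 ∧ IsConj z v}.ncard = 1771
  nDU : {u | u ∈ Cm E φ A1 ∧ u ∈ DD (V0 E φ A1) z}.ncard = 36
  c16 : ∀ a ∈ hat φ A1, a ≠ 1 → a ≠ z → {u | u ∈ Cm E φ A1 ∧ a * u ∈ DD (V0 E φ A1) z}.ncard = 16
  one : ∀ a ∈ hat φ A1, a ≠ 1 → a ≠ z → (a ∈ DD (V0 E φ A1) z ↔ a * z ∉ DD (V0 E φ A1) z)
  out : ∀ t ∈ DD (V0 E φ A1) z, t ∉ Cm E φ A1 → ∃ e ∈ E, ∃ a ∈ hat φ A1, a ≠ 1 ∧ a ≠ z ∧ t = e * a * e⁻¹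
  X : ∃ y, L φ y q ∧ y ^ 5 = 1 ∧ Nat.card ↥(Cm E φ A1 ⊓ centralizer {y}) = 8 ∧
    ∀ x ∈ Cm E φ A1 ⊓ centralizer {y}, x ≠ 1 → x ≠ z → x ∈ DD (V0 E φ A1) z
  n9 : ∀ Ω : Set G, Ω ⊆ Cm E φ A1 → 1 ∉ Ω → z ∉ Ω →
    (∀ g, g * z = z * g → g ∈ 𝐍 (V0 E φ A1) → ∀ x ∈ Ω, g * x * g⁻¹ ∈ Ω) → 18 ∣ Ω.ncard
  cN1 : Nat.card ↥(centralizer {z} ⊓ 𝐍 (V0 E φ A1)) = 2 ^ 21 * 135

end Cfsg.Lib.JF
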