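import Cfsg.Agent.Lib.Block2.JH2

/-! The cosets of `U` in the standard `2^11`. -/

set_option autoImplicit false

namespace Cfsg.Lib.JF

open Subgroup Cfsg.Lib.Amalg Cfsg.Lib.Core Cfsg.Lib.Known2

variable {G Γ : Type*} [Group G] [Group Γ] {E : Subgroup G} {z p : G} {M : Subgroup Γ} {φ : KK z p →* Γ}
  {A1 A2 : Subgroup Γ} {t1 t2 t3 t4 a b i g f : Γ}

theorem dbl [Finite G] {W U : Subgroup G} (hW : W ≤ U) (s : ∀ x ∈ U, x * x = 1) {u : G} (hu : u ∈ U) (n : u ∉ W) :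
    ∃ W1 : Subgroup G, W1 ≤ U ∧ Nat.card W1 = 2 * Nat.card W ∧ ∀ x, x ∈ W1 ↔ x ∈ W ∨ x * u ∈ W := by
  have nn : zpowers u ≤ 𝐍 W := zpowers_le.2 (centralizer_le_normalizer _ fun x hx => comm_of_sq s (hW hx) hu)
  have c := card_sup_mul_card_inf' nn
  have b : W ⊓ zpowers u = ⊥ := (eq_bot_iff_forall _).2 fun x hx => by
    rcases (mem_zpowers_invol (s u hu)).1 hx.2 with rfl | rfl
    exacts [rfl, absurd hx.1 n]
  rw [b, card_bot, card_zpowers_invol (s u hu) (by rintro rfl; exact n (one_mem _))] at c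
  refine ⟨W ⊔ zpowers u, sup_le hW (zpowers_le.2 hu), by omega, fun x => ⟨fun hx => ?_, fun hx => ?_⟩⟩
  · obtain ⟨w, hw, y, hy, rfl⟩ := (mem_sup_of_le_normalizer' nn).1 hx
    rcases (mem_zpowers_invol (s u hu)).1 hy with rfl | rfl
    · left; rwa [mul_one]
    · right; rwa [mul_assoc, s _ hu, mul_one]
  · rcases hx with hx | hx
    · exact mem_sup_left hx
    · have := mul_mem (mem_sup_left hx : _ ∈ W ⊔ zpowers u) (mem_sup_right (mem_zpowers u))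
      rwa [mul_assoc, s u hu, mul_one] at this

theorem fib [Finite G] {V U : Subgroup G} (hU : U ≤ V) (P : G → Prop) (n : ℕ)
    (h : ∀ v ∈ V, v ∉ U → {u | u ∈ U ∧ P (v * u)}.ncard = n) :
    {v | v ∈ V ∧ P v}.ncard + n = {u | u ∈ U ∧ P u}.ncard + U.relIndex V * n := by
  classical
  have := Fintype.ofFinite V
  have := Fintype.ofFinite (V ⧸ U.subgroupOf V)
  have e0 : {v | v ∈ V ∧ P v}.ncard = (Finset.univ.filter fun v : V => P v).card := by
    rw [← Set.ncard_coe_finset, ← Set.ncard_image_of_injective _ V.subtype_injective]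
    congr 1; ext x
    exact ⟨fun hx => ⟨⟨x, hx.1⟩, by simpa using hx.2, rfl⟩, by rintro ⟨y, hy, rfl⟩; exact ⟨y.2, by simpa using hy⟩⟩
  have e1 : ∀ v : V, ((Finset.univ.filter fun v : V => P v).filter fun x =>
      (QuotientGroup.mk x : V ⧸ U.subgroupOf V) = QuotientGroup.mk v).card = {u | u ∈ U ∧ P (v * u)}.ncard := fun v => by
    rw [← Set.ncard_coe_finset, ← Set.ncard_image_of_injective _ V.subtype_injective,
      ← Set.ncard_image_of_injective {u | u ∈ U ∧ P (v * u)} (mul_right_injective (v : G))]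
    congr 1; ext x
    constructor
    · rintro ⟨y, hy, rfl⟩
      simp only [Finset.coe_filter, Finset.mem_filter, Finset.mem_univ, true_and, Set.mem_ofPred_eq] at hy
      exact ⟨(v : G)⁻¹ * y, ⟨(QuotientGroup.eq.1 hy.2.symm : v⁻¹ * y ∈ U.subgroupOf V), by simpa using hy.1⟩, by simp⟩
    · rintro ⟨u, hu, rfl⟩
      refine ⟨v * ⟨u, hU hu.1⟩, ?_, rfl⟩
      simp only [Finset.coe_filter, Finset.mem_filter, Finset.mem_univ, true_and, Set.mem_ofPred_eq]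
      exact ⟨hu.2, (QuotientGroup.eq.2 (by simpa [mem_subgroupOf] using hu.1)).symm⟩
  rw [e0, Finset.card_eq_sum_card_fiberwise (f := fun x => (QuotientGroup.mk x : V ⧸ U.subgroupOf V)) (t := Finset.univ)
    (fun _ _ => Finset.mem_coe.2 (Finset.mem_univ _)), ← Finset.add_sum_erase _ _ (Finset.mem_univ (QuotientGroup.mk 1)), e1,
    Finset.sum_congr rfl (g := fun _ => n) fun q hq => by
      obtain ⟨v, rfl⟩ := QuotientGroup.mk_surjective q
      rw [e1]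
      exact h v v.2 fun k => (Finset.mem_erase.1 hq).1 (QuotientGroup.eq.2 (by simpa [mem_subgroupOf] using k)),
    Finset.sum_const, Finset.card_erase_of_mem (Finset.mem_univ _), Finset.card_univ, relIndex, index, Nat.card_eq_fintype_card]
  have : 0 < Fintype.card (V ⧸ U.subgroupOf V) := Fintype.card_pos
  obtain ⟨k, hk⟩ : ∃ k, Fintype.card (V ⧸ U.subgroupOf V) = k + 1 := ⟨_, (Nat.succ_pred_eq_of_pos this).symm⟩
  simp [hk, add_mul, add_assoc]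

namespace JS
variable (h : JS E z p M φ)
include h

theorem quad0 {g x u : G} (gz : g * z = z * g) (hu : u ∈ E) (c : g * u = u * g) (hx : x ∈ E) :
    u * (x⁻¹ * (g * x * g⁻¹)) = x⁻¹ * (g * x * g⁻¹) * u := by
  have e : g * (x * u * x⁻¹) * g⁻¹ = x * u * x⁻¹ := by
    rcases h.es.conj_eq hx hu with r | r <;> rw [r]
    · exact conj_eq_of_comm c
    · rw [cjz gz, conj_eq_of_comm c]
  calc u * (x⁻¹ * (g * x * g⁻¹)) = x⁻¹ * (x * u * x⁻¹) * (g * x * g⁻¹) := by group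
    _ = x⁻¹ * (g * (x * u * x⁻¹) * g⁻¹) * (g * x * g⁻¹) := by rw [e]
    _ = x⁻¹ * (g * x * g⁻¹) * (g * u * g⁻¹) := by group
    _ = _ := by rw [conj_eq_of_comm c]

variable [Finite G]

theorem mod3 {X : Subgroup G} (hX : X ≤ E) (hz : z ∈ X) (hp : ∀ x ∈ X, p * x * p⁻¹ ∈ X) : ∃ r, Nat.card X = 2 + 3 * r := by
  have hp' : ∀ g ∈ zpowers p, ∀ x ∈ X, g * x * g⁻¹ ∈ X := fun g hg x hx => by
    rcases h.zp hg with rfl | rfl | rfl
    · simpa using hx
    · exact hp x hx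
    · have : p⁻¹ = p * p := by rw [inv_eq_iff_mul_eq_one, ← h.p3]; simp [pow_succ, mul_assoc]
      rw [this, show p * p * x * (p * p)⁻¹ = p * (p * x * p⁻¹) * p⁻¹ by group]
      exact hp _ (hp x hx)
  exact h.card_mod (P := zpowers p) (n := 3) hz hp' (fun g hg => by
    obtain ⟨n, rfl⟩ := hg
    exact ((show Commute p z from h.pz).zpow_left n).eq) fun x hx n1 n2 => by
      have d := relIndex_dvd_card (centralizer {x}) (zpowers p)
      rw [h.card_p] at d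
      rcases (Nat.dvd_prime Nat.prime_three).1 d with k | k
      · rcases h.fp x (hX hx) (mem_cent_single.1 (relIndex_eq_one.1 k (mem_zpowers p))) with e | e <;> contradiction
      · rw [k]

theorem three {W X : Subgroup G} (hW : W ≤ X) (hX : X ≤ E) (s : ∀ x ∈ X, x * x = 1) (zW : z ∈ W)
    (pW : ∀ x ∈ W, p * x * p⁻¹ ∈ W) (pX : ∀ x ∈ X, p * x * p⁻¹ ∈ X) (c : Nat.card X = 4 * Nat.card W)
    {u v : G} (hu : u ∈ X) (nu : u ∉ W) (hv : v ∈ X) (nv : v ∉ W) :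
    v * u ∈ W ∨ v * (p * u * p⁻¹) ∈ W ∨ v * (p * (p * u * p⁻¹) * p⁻¹) ∈ W := by
  have t : u * (p * u * p⁻¹) * (p * (p * u * p⁻¹) * p⁻¹) ∈ W := by
    rcases h.tri (hX hu) with e | e <;> rw [e]
    exacts [one_mem _, zW]
  have u1 := pX u hu
  have u2 := pX _ u1
  have p3 : p * (p * (p * u * p⁻¹) * p⁻¹) * p⁻¹ = u := by
    rw [show p * (p * (p * u * p⁻¹) * p⁻¹) * p⁻¹ = p ^ 3 * u * (p ^ 3)⁻¹ by simp [pow_succ, mul_assoc], h.p3]; group
  obtain ⟨W1, l1, c1, m1⟩ := dbl hW s hu nu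
  have n1 : p * u * p⁻¹ ∉ W1 := fun k => by
    rcases (m1 _).1 k with k | k
    · exact nu (p3 ▸ pW _ (pW _ k))
    · rw [comm_of_sq s u1 hu] at k
      exact nu (p3 ▸ pW _ ((W.mul_mem_cancel_left k).1 t))
  obtain ⟨W2, l2, c2, m2⟩ := dbl l1 s u1 n1
  rcases (m2 v).1 ((eq_of_le_of_card_ge l2 (by omega)).ge hv) with k | k <;> rcases (m1 _).1 k with k | k
  · exact absurd k nv
  · exact Or.inl k
  · exact Or.inr (Or.inl k)
  · right; right
    have := W.mul_mem k t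
    rwa [show v * (p * u * p⁻¹) * u * (u * (p * u * p⁻¹) * (p * (p * u * p⁻¹) * p⁻¹)) =
      v * ((p * u * p⁻¹) * (u * u) * (p * u * p⁻¹)) * (p * (p * u * p⁻¹) * p⁻¹) by group, s u hu, mul_one, s _ u1, mul_one] at this

/-- the `E`-orbits of `k` and `k z` fill the coset `W k`. -/
theorem orbW {k : G} {m : Γ} (l : L φ k m) {W : Subgroup G} (hW : W = E ⊓ centralizer (E ⊓ centralizer {k} : Subgroup G)) :
    (∀ w, w ∈ W ↔ ∃ e ∈ E, e * k * e⁻¹ = w * k ∨ e * (k * z) * e⁻¹ = w * k) ∧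
    {w | ∃ e ∈ E, e * k * e⁻¹ = w * k}.ncard * 2 = Nat.card W ∧ {w | ∃ e ∈ E, e * (k * z) * e⁻¹ = w * k}.ncard * 2 = Nat.card W ∧
    Disjoint {w | ∃ e ∈ E, e * k * e⁻¹ = w * k} {w | ∃ e ∈ E, e * (k * z) * e⁻¹ = w * k} ∧
    Nat.card ↥(E ⊓ centralizer {k}) * Nat.card W = 2 ^ 14 := by
  have zC : z ∈ E ⊓ centralizer {k} := ⟨h.es.mem, mem_cent_single.2 l.kz.symm⟩
  have c0 := es_cent h.es inf_le_left zC
  rw [← hW, h.card] at c0
  have zW : z ∈ W := hW ▸ ⟨h.es.mem, fun y hy => h.es.cen y hy.1⟩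
  have s1 : ∀ e ∈ E, ∀ w, e * k * e⁻¹ = w * k → w ∈ W := fun e he w r => by
    rw [show w = e⁻¹⁻¹ * (k * e⁻¹ * k⁻¹) by rw [← mul_left_inj k, ← r]; group, hW]
    exact ⟨E.mul_mem (E.inv_mem (E.inv_mem he)) (h.nm l (inv_mem he)), fun y hy =>
      h.quad0 l.kz hy.1 (mem_cent_single.1 hy.2).symm (inv_mem he)⟩
  have zz : ∀ e ∈ E, ∀ w, e * (k * z) * e⁻¹ = w * k ↔ e * k * e⁻¹ = w * z * k := fun e he w => by
    rw [cjz (h.es.cen e he), mul_assoc w z, ← l.kz, ← mul_assoc]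
    exact ⟨fun r => by rw [← r, mul_assoc _ z z, h.es.sq, mul_one], fun r => by rw [r, mul_assoc _ z z, h.es.sq, mul_one]⟩
  have c1 : ∀ k', E ⊓ centralizer {k'} = E ⊓ centralizer {k} → {w | ∃ e ∈ E, e * k' * e⁻¹ = w * k}.ncard * 2 = Nat.card W :=
    fun k' e => by
      have := card_orb E k'
      rw [e, h.card, show {y | ∃ g ∈ E, g * k' * g⁻¹ = y} = (· * k) '' {w | ∃ e ∈ E, e * k' * e⁻¹ = w * k} from
        Set.ext fun y => ⟨fun ⟨g, hg, r⟩ => ⟨y * k⁻¹, ⟨g, hg, by simpa using r⟩, by simp⟩, by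
          rintro ⟨w, ⟨g, hg, r⟩, rfl⟩; exact ⟨g, hg, r⟩⟩, Set.ncard_image_of_injective _ (mul_left_injective k)] at this
      have p : 0 < Nat.card ↥(E ⊓ centralizer {k}) := Nat.card_pos
      nlinarith
  have d1 := c1 k rfl
  have d2 := c1 (k * z) (by
    ext x
    simp only [mem_inf, mem_cent_single, and_congr_right_iff]
    intro hx
    rw [← mul_assoc, mul_assoc k z, ← h.es.cen x hx, ← mul_assoc, mul_left_inj])
  have dj : Disjoint {w | ∃ e ∈ E, e * k * e⁻¹ = w * k} {w | ∃ e ∈ E, e * (k * z) * e⁻¹ = w * k} := by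
    rw [Set.disjoint_left]
    rintro w ⟨e, he, r⟩ ⟨e', he', r'⟩
    have x := mul_mem (inv_mem he') he
    have q : e'⁻¹ * e * k * (e'⁻¹ * e)⁻¹ = k * z := by
      rw [show e'⁻¹ * e * k * (e'⁻¹ * e)⁻¹ = e'⁻¹ * (e * k * e⁻¹) * e' by group, r, ← r']; group
    generalize e'⁻¹ * e = y at x q
    have q2 : k⁻¹ * y * k⁻¹⁻¹ = y * z := by
      rw [inv_inv, h.es.cen y x, ← mul_right_inj k, ← mul_assoc k z, ← q]; group
    have := h.fix l.inv x (Or.inr q2)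
    rw [this, mul_assoc, mul_inv_cancel, mul_one] at q2
    exact h.es.ne (by simpa using q2)
  have sub : {w | ∃ e ∈ E, e * k * e⁻¹ = w * k} ∪ {w | ∃ e ∈ E, e * (k * z) * e⁻¹ = w * k} ⊆ W := by
    rintro w (⟨e, he, r⟩ | ⟨e, he, r⟩)
    · exact s1 e he w r
    · exact (W.mul_mem_cancel_right zW).1 (s1 e he _ ((zz e he w).1 r))
  have eq := Set.eq_of_subset_of_ncard_le sub (by
    rw [Set.ncard_union_eq dj, ← Nat.card_coe_set_eq]
    change Nat.card W ≤ _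
    omega)
  refine ⟨fun w => ⟨fun hw => ?_, fun ⟨e, he, r⟩ => sub ?_⟩, d1, d2, dj, by omega⟩
  · rcases eq.ge hw with ⟨e, he, r⟩ | ⟨e, he, r⟩
    exacts [⟨e, he, Or.inl r⟩, ⟨e, he, Or.inr r⟩]
  · exact r.imp (fun r => ⟨e, he, r⟩) fun r => ⟨e, he, r⟩

variable (F : MF M A1 A2 t1 t2 t3 t4 a b i g f)
include F

theorem exj : ∃ j ∈ M, j * j = t1 := by
  have : Fact (Nat.Prime 2) := ⟨Nat.prime_two⟩
  have : Finite M := Nat.finite_of_card_ne_zero (by rw [F.card]; norm_num)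
  obtain ⟨S, hS⟩ := exists_syl 2 M
  have c := hS.not_dvd_relIndex
  have c2 := relIndex_mul_relIndex ⊥ S M bot_le hS.le
  rw [relIndex_bot_left, relIndex_bot_left, F.card] at c2
  obtain ⟨x, hx, n⟩ : ∃ x ∈ S, x * x ≠ 1 := by
    by_contra n
    push Not at n
    have := h.le16 F hS.le n
    haveI := hS.finite
    obtain ⟨k, hk⟩ := IsPGroup.iff_card.1 hS.isPGroup
    have k4 : k ≤ 4 := by
      by_contra k4
      have := Nat.pow_le_pow_right two_pos (show 5 ≤ k by omega)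
      omega
    rw [hk] at c2
    interval_cases k <;> omega
  obtain ⟨k, hk⟩ := isPGroup_iff_mem.1 hS.isPGroup x hx
  have key : ∀ k, ∀ x ∈ M, x * x ≠ 1 → x ^ 2 ^ k = 1 → ∃ j ∈ M, j * j ≠ 1 ∧ j * j * (j * j) = 1 := fun k => by
    induction k with
    | zero => intro x _ n e; simp at e; simp [e] at n
    | succ k ih =>
      intro x hx n e
      by_cases q : x * x * (x * x) = 1
      · exact ⟨x, hx, n, q⟩
      · exact ih _ (mul_mem hx hx) q (by rw [← pow_two, ← pow_mul, ← pow_succ', e])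
  obtain ⟨j, hj, n1, n2⟩ := key k x (hS.le hx) n hk
  obtain ⟨c, hc, r⟩ := F.cls _ (mul_mem hj hj) n1 n2
  exact ⟨c⁻¹ * j * c⁻¹⁻¹, mul_mem (mul_mem (inv_mem hc) hj) (inv_mem (inv_mem hc)), by rw [conj_mul, r]; group⟩

theorem c9 : Nat.card (Cm E φ {t1}) = 2 ^ 9 := by
  have le : Cm E φ A1 ≤ Cm E φ {t1} := Cm_anti (Set.singleton_subset_iff.2 F.m1)
  have c1 := h.card_inv F (F.le1 F.m1) F.ne.1 (F.sq1 _ F.m1)
  have c2 := h.ne_256 (X := Cm E φ {t1}) Cm_le h.z_Cm fun x => h.Cm_p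
  have c3 := card_le_of_le le
  obtain ⟨n, hn, e⟩ := h.card_pow (Cm_le (φ := φ) (B := {t1}))
  rw [h.cardU F] at c3
  by_contra c4
  have eq := eq_of_le_of_card_ge le (by rw [h.cardU F]; rw [e] at c1 c2 c3 c4 ⊢; interval_cases n <;> omega)
  obtain ⟨j, hj, jj⟩ := h.exj F
  obtain ⟨k0, l0⟩ := h.ex hj
  have t3 : j ^ 3 * j ^ 3 = t1 := by
    rw [← pow_add, show 3 + 3 = 2 * 3 from rfl, pow_mul, pow_two, jj, pow_succ, pow_two, F.sq1 _ F.m1, one_mul]
  obtain ⟨k, l, kk⟩ : ∃ k, L φ k (j ^ 3) ∧ k * k * (k * k) = 1 := ⟨_, l0.pow 3, by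
    have := h.six F (l0.mul l0) (by rw [jj, F.sq1 _ F.m1])
    rw [← this, ← pow_two k0, ← pow_mul, ← pow_add, ← pow_add]⟩
  have la : L φ (k * k) t1 := (l.mul l).of_eq t3
  rw [h.Cm_one la kk] at eq
  obtain ⟨U, hU⟩ : ∃ U, U = Cm E φ A1 := ⟨_, rfl⟩
  have cU : Nat.card U = 128 := hU ▸ h.cardU F
  have sU : ∀ u ∈ U, u * u = 1 := fun u hu => h.sqU F (hU ▸ hu)
  have UE : U ≤ E := hU ▸ Cm_le
  have zU : z ∈ U := hU ▸ h.z_Cm
  have pU : ∀ u ∈ U, p * u * p⁻¹ ∈ U := fun u hu => hU ▸ h.Cm_p (hU ▸ hu)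
  have WU : U = E ⊓ centralizer (E ⊓ centralizer {k * k} : Subgroup G) := by
    rw [← eq, hU]
    exact le_antisymm (fun x hx => ⟨hx.1, fun y hy => h.abU F y hy x hx⟩) fun x hx => h.CEU F hx.1 hx.2
  rw [← hU] at eq
  have mU : ∀ x ∈ E, (x ∈ U ↔ k * k * x = x * (k * k)) := fun x hx => by
    rw [eq, mem_inf, mem_cent_single]; exact ⟨fun r => r.2.symm, fun r => ⟨hx, r.symm⟩⟩
  have kU : ∀ u ∈ U, k * u * k⁻¹ ∈ U := fun u hu => (mU _ (h.nm l (UE hu))).2 (by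
    calc k * k * (k * u * k⁻¹) = k * (k * k * u) * k⁻¹ := by group
      _ = _ := by rw [(mU u (UE hu)).1 hu]; group)
  obtain ⟨o1, -⟩ := h.orbW la WU
  -- the hom `u ↦ u * u^k`
  let δ : U →* U := MonoidHom.mk' (fun u => u * ⟨_, kU u u.2⟩) fun u v => Subtype.ext (by
    change (u : G) * v * (k * (u * v) * k⁻¹) = u * (k * u * k⁻¹) * (v * (k * v * k⁻¹))
    rw [mul_assoc (u : G) (k * u * k⁻¹), ← mul_assoc (k * u * k⁻¹), comm_of_sq sU (kU u u.2) v.2]; group)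
  have dδ : ∀ u : U, (δ u : G) = u * (k * u * k⁻¹) := fun _ => rfl
  have kδ : ∀ u : U, u ∈ δ.ker ↔ k * u = u * k := fun u => by
    rw [MonoidHom.mem_ker, Subtype.ext_iff, dδ, ← mul_inv_eq_iff_eq_mul]
    exact ⟨fun r => by rw [← mul_right_inj (u : G), r, sU u u.2]; rfl, fun r => by rw [r, sU u u.2]; rfl⟩
  have r1 : δ.range ≤ δ.ker := by
    rintro _ ⟨u, rfl⟩
    rw [kδ, dδ]
    calc k * (u * (k * u * k⁻¹)) = k * u * k⁻¹ * (k * k * u * (k * k)⁻¹) * k := by group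
      _ = _ := by rw [conj_eq_of_comm ((mU u (UE u.2)).1 u.2), comm_of_sq sU (kU u u.2) u.2]
  have nz : (⟨z, zU⟩ : U) ∉ δ.range := by
    rintro ⟨u, r⟩
    have r : (u : G) * (k * u * k⁻¹) = z := congrArg Subtype.val r
    have := h.fix l (UE u.2) (Or.inr (by rw [← r, ← mul_assoc, sU u u.2, one_mul]))
    rw [conj_eq_of_comm this, sU u u.2] at r
    exact h.es.ne r.symm
  obtain ⟨W1, -, cW, mW⟩ := dbl (U := (⊤ : Subgroup U)) le_top (fun x _ => Subtype.ext (sU x x.2)) (mem_top _) nz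
  have e1 : δ.ker = W1 := le_antisymm (fun u hu => by
    have cu := (kδ u).1 hu
    obtain ⟨e, he, r⟩ := (o1 u).1 u.2
    obtain ⟨ζ, hζ, r⟩ : ∃ ζ, (ζ = 1 ∨ ζ = z) ∧ e * (k * k) * e⁻¹ = u * ζ * (k * k) := by
      rcases r with r | r
      · exact ⟨1, Or.inl rfl, by rw [r, mul_one]⟩
      · refine ⟨z, Or.inr rfl, ?_⟩
        rw [cjz (h.es.cen e he)] at r
        rw [mul_assoc _ z, ← la.kz, ← mul_assoc (u : G), ← r, mul_assoc _ z z, h.es.sq, mul_one]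
    have cζ : k * (u * ζ) = u * ζ * k := by
      rcases hζ with rfl | rfl
      · simpa using cu
      · rw [← mul_assoc, cu, mul_assoc, l.kz, mul_assoc]
    have yE : e * (k * e⁻¹ * k⁻¹) ∈ E := mul_mem he (h.nm l (inv_mem he))
    have r2 : e * (k * e⁻¹ * k⁻¹) * (k * (e * (k * e⁻¹ * k⁻¹)) * k⁻¹) = u * ζ := by
      rw [← mul_left_inj (k * k), ← r]; group
    have yU : e * (k * e⁻¹ * k⁻¹) ∈ U := (mU _ yE).2 (by
      generalize e * (k * e⁻¹ * k⁻¹) = y at yE r2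
      have q : y * (k * y * k⁻¹) = k * y * k⁻¹ * (k * k * y * (k * k)⁻¹) := by
        rw [r2, ← conj_eq_of_comm cζ, ← r2]; group
      refine h.fix la yE ?_
      rcases h.es.comm y yE _ (h.nm l yE) with c | c <;> rw [c] at q
      · exact Or.inl (mul_left_cancel q).symm
      · rw [mul_assoc] at q; exact Or.inr (mul_left_cancel q).symm)
    rw [mW]
    rcases hζ with rfl | rfl
    · exact Or.inl ⟨⟨_, yU⟩, Subtype.ext (by rw [dδ]; simpa using r2)⟩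
    · exact Or.inr ⟨⟨_, yU⟩, Subtype.ext (by rw [dδ]; exact r2)⟩) fun u hu => by
      rcases (mW u).1 hu with r | r
      · exact r1 r
      · exact (δ.ker.mul_mem_cancel_right ((kδ ⟨z, zU⟩).2 l.kz)).1 (r1 r)
  have c5 := δ.ker.card_mul_index
  rw [index_ker, cU, e1, cW] at c5
  have c6 : Nat.card δ.range = 8 := by nlinarith
  obtain ⟨r, hr⟩ := h.mod3 (X := δ.ker.map U.subtype) ((map_subtype_le _).trans UE) ⟨⟨z, zU⟩, (kδ _).2 l.kz, rfl⟩ (by
    rintro _ ⟨u, hu, rfl⟩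
    refine ⟨⟨_, pU u u.2⟩, (kδ _).2 ?_, rfl⟩
    change k * (p * u * p⁻¹) = p * u * p⁻¹ * k
    rw [← mul_assoc, ← mul_assoc, l.kp, mul_assoc p, (kδ u).1 hu, mul_assoc _ p⁻¹, show p⁻¹ * k = k * p⁻¹ by
      rw [inv_mul_eq_iff_eq_mul, ← mul_assoc, ← l.kp]; group]
    group)
  rw [card_map_subtype, e1, cW, c6] at hr
  omega

end JS

end Cfsg.Lib.JF
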