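import Cfsg.Agent.Lib.Block2.JH3
import Cfsg.Agent.Lib.Coprime.HallAut

/-! The number of conjugates of `z` in the standard `2^11` is 1771. -/

set_option autoImplicit false

namespace Cfsg.Lib.JF

open Subgroup Cfsg.Lib.Amalg Cfsg.Lib.Core Cfsg.Lib.Known2

variable {G Γ : Type*} [Group G] [Group Γ] {E : Subgroup G} {z p : G} {M : Subgroup Γ} {φ : KK z p →* Γ}
  {A1 A2 : Subgroup Γ} {t1 t2 t3 t4 a b i g f q : Γ}

theorem relIndex_mul_eq {C D H : Subgroup G} (hD : D ≤ H) (h : ∀ g ∈ H, ∃ d ∈ D, d⁻¹ * g ∈ C) :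
    C.relIndex D = C.relIndex H := by
  have k : ∀ M : Subgroup G, C.relIndex M = Nat.card {y : G ⧸ C // ∃ g ∈ M, QuotientGroup.mk g = y} := fun M => by
    refine Nat.card_congr (Equiv.ofBijective (Quotient.lift (fun d : M => (⟨QuotientGroup.mk (d : G), d, d.2, rfl⟩ :
      {y : G ⧸ C // ∃ g ∈ M, QuotientGroup.mk g = y}))
      fun x y e => Subtype.ext (QuotientGroup.eq.mpr (mem_subgroupOf.mp (QuotientGroup.leftRel_apply.mp e)))) ⟨?_, ?_⟩)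
    · rintro ⟨x⟩ ⟨y⟩ e
      exact Quotient.sound (QuotientGroup.leftRel_apply.mpr (mem_subgroupOf.mpr (QuotientGroup.eq.mp (congrArg Subtype.val e))))
    · rintro ⟨_, g, hg, rfl⟩
      exact ⟨Quotient.mk _ ⟨g, hg⟩, rfl⟩
  rw [k, k]
  refine Nat.card_congr (Equiv.subtypeEquivRight fun y => ⟨fun ⟨g, hg, e⟩ => ⟨g, hD hg, e⟩, fun ⟨g, hg, e⟩ => ?_⟩)
  obtain ⟨d, hd, e'⟩ := h g hg
  exact ⟨d, hd, (QuotientGroup.eq.mpr e').trans e⟩

theorem orb_dvd_aut [Finite G] {A : Subgroup G} {a : G} (ha : a ∈ A) :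
    {y | ∃ g ∈ normalizer (A : Set G), g * a * g⁻¹ = y}.ncard ∣ Nat.card (MulAut A) := by
  have h3 := relIndex_mul_relIndex ⊥ (centralizer {a} ⊓ normalizer (A : Set G)) _ bot_le inf_le_right
  rw [relIndex_bot_left, relIndex_bot_left, inf_relIndex_right, card_orb (normalizer (A : Set G)) a, inf_comm, mul_comm] at h3
  have := Nat.eq_of_mul_eq_mul_right Nat.card_pos h3
  rw [← this]
  refine (index_dvd_of_le (H := A.normalizerMonoidHom.ker) fun g e => ?_).trans (index_ker A.normalizerMonoidHom ▸ card_subgroup_dvd_card _)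
  have := congrArg Subtype.val (DFunLike.congr_fun e ⟨a, ha⟩)
  exact mem_cent_single.2 (comm_of_conj_eq this)

theorem ic_cj {z x : G} (g : G) : IsConj z (g * x * g⁻¹) ↔ IsConj z x :=
  ⟨fun h => h.trans (isConj_iff.2 ⟨g, rfl⟩).symm, fun h => h.trans (isConj_iff.2 ⟨g, rfl⟩)⟩

theorem arith {m k r : ℕ} (hm : m = 0 ∨ m = 90 ∨ (m = 36 ∨ m = 126) ∧ 7 ∣ 1 + m + 15 * k)
    (hk : k = 0 ∨ k = 16 ∨ k = 32 ∨ k = 96 ∨ k = 112 ∨ k = 128) (n1 : 1 + m + 15 * k ≠ 1) (hr : r ≤ 11)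
    (d : 1 + m + 15 * k ∣ 2 ^ (r * (11 - r)) * ∏ i ∈ Finset.range r, (2 ^ r - 2 ^ i)) : m = 90 ∧ k = 112 := by
  have d2 : 1 + m + 15 * k ∣ 2 ^ 30 * ∏ i ∈ Finset.range 11, (2 ^ 11 - 2 ^ i) :=
    d.trans (by interval_cases r <;> decide +kernel)
  clear d
  rcases hm with rfl | rfl | ⟨rfl | rfl, s⟩ <;> rcases hk with rfl | rfl | rfl | rfl | rfl | rfl <;>
    first | exact ⟨rfl, rfl⟩ | exact absurd rfl n1 | exact absurd d2 (by decide +kernel) | exact absurd s (by decide)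

namespace JS
variable (h : JS E z p M φ) (F : MF M A1 A2 t1 t2 t3 t4 a b i g f) [Finite G]
include h F

theorem cN1 (F2 : MF2 M A1 t1 a b q) (hH : Nat.card (centralizer ({z} : Set G)) = 21799895040) :
    Nat.card ↥(centralizer {z} ⊓ 𝐍 (V0 E φ A1)) = 2 ^ 21 * 135 := by
  have r1 := relIndex_mul_eq (C := 𝐍 (V0 E φ A1)) (D := KK z p) (H := centralizer {z}) inf_le_left fun g hg => by
    obtain ⟨k, m, l, e⟩ := h.allK F (W := cj g (V0 E φ A1)) (mem_cj'.2 ⟨z, h.zV, conj_eq_of_comm (mem_cent_single.1 hg)⟩)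
      (sq_cj g (h.sqV F)) (by rw [card_cj, h.cardV F])
    exact ⟨k⁻¹, inv_mem l.1, by rw [inv_inv]; exact cj_eq_self_iff.1 (by rw [cj_mul, e])⟩
  have r2 : (𝐍 (V0 E φ A1)).subgroupOf (KK z p) = (𝐍 A1).comap φ := by
    ext k; exact h.KN F ⟨k.2, rfl⟩
  have : Finite M := Nat.finite_of_card_ne_zero (by rw [F.card]; norm_num)
  have r3 := relIndex_mul_relIndex ⊥ (𝐍 A1 ⊓ M) M bot_le inf_le_right
  rw [relIndex_bot_left, relIndex_bot_left, inf_relIndex_right, inf_comm, F2.cN, F.card] at r3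
  rw [relIndex, r2, index_comap, h.rng] at r1
  have r4 := card_inf_mul_relIndex (𝐍 (V0 E φ A1)) (centralizer {z})
  rw [inf_comm, hH, ← r1, show (𝐍 A1).relIndex M = 77 by omega] at r4
  omega

theorem nine0 : ∃ R : Subgroup G, (∀ r ∈ R, r * z = z * r ∧ r ∈ 𝐍 (V0 E φ A1)) ∧
    ∀ x ∈ E, x ≠ 1 → x ≠ z → 9 ∣ (centralizer {x}).relIndex R := by
  have : Fact (Nat.Prime 3) := ⟨Nat.prime_three⟩
  obtain ⟨R, hR, cR, pR, nR⟩ := h.exR F
  have : Finite A1 := Nat.finite_of_card_ne_zero (by rw [F.c1]; norm_num)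
  have nn : closure ({a, b} : Set Γ) ≤ 𝐍 A1 := (closure_le _).2 (by
    rintro _ (rfl | rfl)
    exacts [mem_normalizer_of_cj_le (cj_le_iff'.2 F.na), mem_normalizer_of_cj_le (cj_le_iff'.2 F.nb)])
  refine ⟨R, fun r hr => ?_, fun x hx n1 n2 => ?_⟩
  · obtain ⟨m, hm, l⟩ := hR r hr
    exact ⟨l.kz, (h.KN F l).2 (nn hm)⟩
  have c := card_inf_mul_relIndex (centralizer {x}) R
  have np : p ∉ centralizer {x} ⊓ R := fun k => by
    rcases h.fp x hx (mem_cent_single.1 k.1) with e | e <;> contradiction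
  obtain ⟨S, hS⟩ : ∃ S, S = centralizer {x} ⊓ R := ⟨_, rfl⟩
  rw [← hS, cR] at c
  rw [← hS] at np
  have SR : S ≤ R := hS ▸ inf_le_right
  obtain ⟨k, hk, e⟩ := (Nat.dvd_prime_pow Nat.prime_three (m := 3)).1 (Dvd.intro _ c)
  rw [e] at c
  interval_cases k
  · omega
  · omega
  · exfalso
    have cS := IsPGroup.isMulCommutative_of_card_eq_prime_sq e
    have pc : ∀ s ∈ R, p * s = s * p := fun s hs => by obtain ⟨m, -, l⟩ := hR s hs; exact l.kp.symm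
    have lt : S < S ⊔ zpowers p := lt_of_le_of_ne le_sup_left fun k => np (k ▸ mem_sup_right (mem_zpowers p))
    have le : S ⊔ zpowers p ≤ R := sup_le SR (zpowers_le.2 pR)
    have eq : S ⊔ zpowers p = R := by
      refine eq_of_le_of_card_ge le ?_
      obtain ⟨j, hj, e2⟩ := (Nat.dvd_prime_pow Nat.prime_three (m := 3)).1 (show Nat.card ↥(S ⊔ zpowers p) ∣ 3 ^ 3 from
        (card_dvd_of_le le).trans (by rw [cR]; norm_num))
      have := card_lt_of_lt lt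
      rw [e, e2] at this
      rw [cR, e2]
      interval_cases j <;> omega
    have k1 : ∀ s ∈ S, R ≤ centralizer {s} := fun s hs => eq ▸ sup_le (fun r hr => mem_cent_single.2
      (congrArg Subtype.val (cS.is_comm.comm (⟨r, hr⟩ : S) ⟨s, hs⟩))) (zpowers_le.2 (mem_cent_single.2 (pc s (SR hs))))
    refine nR fun r hr s hs => ?_
    have : R ≤ centralizer {r} := eq ▸ sup_le (fun s hs => mem_cent_single.2 (mem_cent_single.1 (k1 s hs hr)).symm)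
      (zpowers_le.2 (mem_cent_single.2 (pc r hr)))
    exact (mem_cent_single.1 (this hs)).symm
  · exact absurd ((eq_of_le_of_card_ge SR (by rw [e, cR]; norm_num)).ge pR) np

theorem n9 (Ω : Set G) (hU : Ω ⊆ Cm E φ A1) (n1 : 1 ∉ Ω) (nz : z ∉ Ω)
    (hi : ∀ g, g * z = z * g → g ∈ 𝐍 (V0 E φ A1) → ∀ x ∈ Ω, g * x * g⁻¹ ∈ Ω) : 18 ∣ Ω.ncard := by
  obtain ⟨R, hR, d⟩ := h.nine0 F
  have d1 := dvd_ncard (P := R) (k := 9) Ω (fun g hg => hi g (hR g hg).1 (hR g hg).2) fun c hc =>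
    d c (hU hc).1 (fun e => n1 (e ▸ hc)) fun e => nz (e ▸ hc)
  have d2 := dvd_ncard (P := E) (k := 2) Ω (fun g hg => hi g (h.es.cen g hg) (h.EN F hg)) fun c hc => by
    obtain ⟨y, hy, n⟩ := h.es.exists_anti (hU hc).1 (fun e => n1 (e ▸ hc)) fun e => nz (e ▸ hc)
    have e := es_two h.es le_rfl (hU hc).1 hy n
    have c2 := card_inf_mul_relIndex (centralizer {c}) E
    rw [inf_comm] at c2
    have : 0 < Nat.card ↥(E ⊓ centralizer {c}) := Nat.card_pos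
    rw [show (centralizer {c}).relIndex E = 2 by nlinarith]
  omega

/-- the coset `U k` of an involution lift. -/
theorem coset {k : G} (hk : k ∈ hat φ A1) (n1 : k ≠ 1) (nz : k ≠ z) : ∃ n, {u | u ∈ Cm E φ A1 ∧ IsConj z (k * u)}.ncard = n ∧
    (n = 0 ∨ n = 16 ∨ n = 32 ∨ n = 96 ∨ n = 112 ∨ n = 128) ∧ (n = 112 → (IsConj z k ↔ ¬ IsConj z (k * z)) ∧
      ∀ u ∈ Cm E φ A1, ¬ IsConj z (k * u) → ∃ e ∈ E, e * k * e⁻¹ = k * u ∨ e * (k * z) * e⁻¹ = k * u) := by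
  obtain ⟨⟨m, hm, l⟩, kk⟩ := id hk
  have m1 : m ≠ 1 := by
    rintro rfl
    rcases h.ker_two l kk with e | e <;> contradiction
  obtain ⟨W, hW⟩ : ∃ W, W = E ⊓ centralizer (E ⊓ centralizer {k} : Subgroup G) := ⟨_, rfl⟩
  obtain ⟨o1, o2, o3, o4, o5⟩ := h.orbW l hW
  have cC : Nat.card ↥(E ⊓ centralizer {k}) = 2 ^ 9 := by
    obtain ⟨c, hc, rfl⟩ := F.cls m (F.le1 hm) m1 (F.sq1 m hm)
    obtain ⟨d, ld⟩ := h.ex hc
    rw [← h.Cm_one l kk, ← h.cj_Cm (B := {t1}) ld (fun y => by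
      simp only [Set.mem_singleton_iff]
      exact ⟨fun e => by rw [e]; group, fun e => by rw [← e]; group⟩), card_cj, h.c9 F]
  have cW : Nat.card W = 32 := by rw [cC] at o5; omega
  obtain ⟨U, hU⟩ : ∃ U, U = Cm E φ A1 := ⟨_, rfl⟩
  rw [← hU]
  have cU : Nat.card U = 128 := hU ▸ h.cardU F
  have sU : ∀ u ∈ U, u * u = 1 := fun u hu => h.sqU F (hU ▸ hu)
  have UE : U ≤ E := hU ▸ Cm_le
  have pU : ∀ u ∈ U, p * u * p⁻¹ ∈ U := fun u hu => hU ▸ h.Cm_p (hU ▸ hu)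
  have kU : ∀ u ∈ U, k * u = u * k := fun u hu => (hU ▸ hu : u ∈ Cm E φ A1).2 k hk
  have WU : W ≤ U := fun w hw => by
    rw [hW] at hw
    exact hU ▸ h.CEU F hw.1 fun u hu => hw.2 u ⟨hu.1, mem_cent_single.2 (kU u (hU ▸ hu)).symm⟩
  have zW : z ∈ W := hW ▸ ⟨h.es.mem, fun y hy => h.es.cen y hy.1⟩
  have pk : ∀ x, p * (k * x) * p⁻¹ = k * (p * x * p⁻¹) := fun x => by rw [← mul_assoc, ← l.kp]; group
  have pW : ∀ x ∈ W, p * x * p⁻¹ ∈ W := fun x hx => by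
    obtain ⟨e, he, r⟩ := (o1 x).1 hx
    refine (o1 _).2 ⟨p * e * p⁻¹, h.nm h.Lp he, r.imp (fun r => ?_) fun r => ?_⟩
    · rw [← kU _ (pU x (WU hx)), ← pk, kU x (WU hx), ← r]
      conv_lhs => rw [← conj_eq_of_comm l.kp.symm]
      group
    · rw [← kU _ (pU x (WU hx)), ← pk, kU x (WU hx), ← r]
      conv_lhs => rw [← conj_eq_of_comm (l.mul h.Lz).kp.symm]
      group
  have a1 : ∀ u ∈ U, u ∉ W → (IsConj z (k * u * z) ↔ IsConj z (k * u)) := fun u hu n => by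
    obtain ⟨c, hc, nc⟩ : ∃ c ∈ E ⊓ centralizer {k}, c * u ≠ u * c := by
      by_contra q
      push Not at q
      exact n (hW ▸ ⟨UE hu, q⟩)
    rw [← ic_cj c (x := k * u), show c * (k * u) * c⁻¹ = c * k * c⁻¹ * (c * u * c⁻¹) by group,
      conj_eq_of_comm (mem_cent_single.1 hc.2), h.es.conj_anti hc.1 (UE hu) nc, mul_assoc]
  have a2 : ∀ u ∈ U, u ∉ W → ∀ w ∈ W, (IsConj z (k * (w * u)) ↔ IsConj z (k * u)) := fun u hu n w hw => by
    obtain ⟨e, he, r⟩ := (o1 w).1 hw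
    have n2 : w * u ∉ W := fun q => n ((W.mul_mem_cancel_left hw).1 q)
    have b1 := a1 _ (mul_mem (WU hw) hu) n2
    have zc : ∀ x ∈ U, z * x = x * z := fun x hx => (h.es.cen x (UE hx)).symm
    rw [← ic_cj e (x := k * u), show e * (k * u) * e⁻¹ = e * k * e⁻¹ * (e * u * e⁻¹) by group]
    rcases r with r | r
    · rw [r, ← kU w (WU hw)]
      rcases h.es.conj_eq he (UE hu) with s | s <;> rw [s]
      · rw [mul_assoc]
      · rw [← b1]; simp only [mul_assoc]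
    · rw [cjz (h.es.cen e he)] at r
      rw [show e * k * e⁻¹ = w * k * z by rw [← r, mul_assoc _ z z, h.es.sq, mul_one], ← kU w (WU hw)]
      rcases h.es.conj_eq he (UE hu) with s | s <;> rw [s]
      · rw [← b1, mul_assoc _ z, zc u hu]; simp only [mul_assoc]
      · rw [mul_assoc _ z, ← mul_assoc z, zc u hu, mul_assoc u, h.es.sq, mul_one, mul_assoc]
  have a3 : ∀ u ∈ U, u ∉ W → ∀ v ∈ U, v ∉ W → (IsConj z (k * v) ↔ IsConj z (k * u)) := fun u hu n v hv nv => by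
    have b : ∀ x ∈ U, v * x ∈ W → (IsConj z (k * v) ↔ IsConj z (k * x)) := fun x hx r => by
      rw [← a2 x hx (fun q => nv ((W.mul_mem_cancel_right q).1 r)) _ r, mul_assoc v, sU x hx, mul_one]
    rcases h.three WU UE sU zW pW pU (by omega) hu n hv nv with r | r | r
    · exact b _ hu r
    · rw [b _ (pU u hu) r, ← pk, ic_cj]
    · rw [b _ (pU _ (pU u hu)) r, ← pk, ← pk, ic_cj, ic_cj]
  obtain ⟨O1, e1⟩ : ∃ O, O = {w | ∃ e ∈ E, e * k * e⁻¹ = w * k} := ⟨_, rfl⟩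
  obtain ⟨O2, e2⟩ : ∃ O, O = {w | ∃ e ∈ E, e * (k * z) * e⁻¹ = w * k} := ⟨_, rfl⟩
  rw [← e1] at o2 o4
  rw [← e2] at o3 o4
  have w12 : ∀ w, w ∈ W ↔ w ∈ O1 ∨ w ∈ O2 := fun w => by
    rw [o1, e1, e2]
    exact ⟨fun ⟨e, he, r⟩ => r.imp (fun r => ⟨e, he, r⟩) fun r => ⟨e, he, r⟩,
      fun r => r.elim (fun ⟨e, he, r⟩ => ⟨e, he, Or.inl r⟩) fun ⟨e, he, r⟩ => ⟨e, he, Or.inr r⟩⟩
  have i1 : ∀ w ∈ O1, (IsConj z (k * w) ↔ IsConj z k) := fun w hw => by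
    obtain ⟨e, -, r⟩ := (e1 ▸ hw :)
    rw [kU w (WU ((w12 w).2 (Or.inl hw))), ← r, ic_cj]
  have i2 : ∀ w ∈ O2, (IsConj z (k * w) ↔ IsConj z (k * z)) := fun w hw => by
    obtain ⟨e, -, r⟩ := (e2 ▸ hw :)
    rw [kU w (WU ((w12 w).2 (Or.inr hw))), ← r, ic_cj]
  have c3 : ((U : Set G) \ W).ncard = 96 := by
    have := Set.ncard_sdiff_add_ncard_of_subset (show (W : Set G) ⊆ U from WU)
    rw [← Nat.card_coe_set_eq (W : Set G), ← Nat.card_coe_set_eq (U : Set G)] at this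
    change _ + Nat.card W = Nat.card U at this
    omega
  obtain ⟨u0, hu0⟩ := Set.nonempty_of_ncard_ne_zero (s := (U : Set G) \ W) (by omega)
  have sp : ∀ (O : Set G) (P : Prop), (∀ w ∈ O, (IsConj z (k * w) ↔ P)) →
      (P ∧ {w | w ∈ O ∧ IsConj z (k * w)}.ncard = O.ncard) ∨ (¬ P ∧ {w | w ∈ O ∧ IsConj z (k * w)}.ncard = 0) := fun O P hO => by
    by_cases c : P
    · exact Or.inl ⟨c, by congr 1; ext w; exact ⟨fun r => r.1, fun r => ⟨r, (hO w r).2 c⟩⟩⟩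
    · exact Or.inr ⟨c, (Set.ncard_eq_zero (Set.toFinite _)).2 (Set.eq_empty_of_forall_notMem fun w r => c ((hO w r.1).1 r.2))⟩
  have tot : {u | u ∈ U ∧ IsConj z (k * u)}.ncard = {w | w ∈ O1 ∧ IsConj z (k * w)}.ncard +
      {w | w ∈ O2 ∧ IsConj z (k * w)}.ncard + {w | w ∈ (U : Set G) \ W ∧ IsConj z (k * w)}.ncard := by
    rw [← Set.ncard_union_eq (o4.mono (fun _ r => r.1) fun _ r => r.1), ← Set.ncard_union_eq (Set.disjoint_left.2 fun w r r' =>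
      r'.1.2 ((w12 w).2 (r.imp And.left And.left)))]
    congr 1; ext w
    constructor
    · rintro ⟨hw, c⟩
      by_cases q : w ∈ W
      · exact Or.inl (((w12 w).1 q).imp (fun r => ⟨r, c⟩) fun r => ⟨r, c⟩)
      · exact Or.inr ⟨⟨hw, q⟩, c⟩
    · rintro ((⟨r, c⟩ | ⟨r, c⟩) | ⟨r, c⟩)
      exacts [⟨WU ((w12 w).2 (Or.inl r)), c⟩, ⟨WU ((w12 w).2 (Or.inr r)), c⟩, ⟨r.1, c⟩]
  have s1 := sp O1 _ i1
  have s2 := sp O2 _ i2
  have s3 := sp _ _ fun w (hw : w ∈ (U : Set G) \ W) => a3 u0 hu0.1 hu0.2 w hw.1 hw.2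
  refine ⟨_, rfl, by omega, fun n => ⟨?_, fun u hu c => ?_⟩⟩
  · rcases s1 with s1 | s1 <;> rcases s2 with s2 | s2
    · omega
    · exact iff_of_true s1.1 s2.1
    · exact iff_of_false s1.1 (not_not.2 s2.1)
    · omega
  · by_cases q : u ∈ W
    · rw [kU u hu]; exact (o1 u).1 q
    · exact absurd ((a3 u0 hu0.1 hu0.2 u hu q).2 (s3.resolve_right (by omega)).1) c

end JS

end Cfsg.Lib.JF
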