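import Cfsg.Agent.Lib.Block2.JH0
import Cfsg.Agent.Lib.Block2.Gg6A

/-! In a simple group of Janko-four type, `z` has a second conjugate in the standard `2^11`. -/

set_option autoImplicit false

namespace Cfsg.Lib.JF

open Subgroup Cfsg.Lib.Amalg Cfsg.Lib.Core Cfsg.Lib.Known2

variable {G Γ : Type*} [Group G] [Group Γ]

/-- `V` is the unique large elementary abelian subgroup of `T` through `u`, in which `u` is isolated. -/
structure SA (u : G) (T V : Subgroup G) : Prop where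
  uV : u ∈ V
  VT : V ≤ T
  p2 : IsPGroup 2 T
  sq : ∀ v ∈ V, v * v = 1
  card : Nat.card V = 2 ^ 11
  Tc : ∀ t ∈ T, t * u = u * t
  uq : ∀ B ≤ T, u ∈ B → (∀ v ∈ B, v * v = 1) → 2 ^ 11 ≤ Nat.card B → B = V
  iso : ∀ w ∈ V, IsConj u w → w = u

theorem sa_sq_cj (c : G) {V : Subgroup G} (e : ∀ v ∈ V, v * v = 1) : ∀ v ∈ cj c V, v * v = 1 := fun v hv => by
  obtain ⟨w, hw, rfl⟩ := mem_cj'.1 hv
  rw [conj_mul, e w hw]; group

theorem SA.cnj {u : G} {T V : Subgroup G} (h : SA u T V) (g : G) : SA (g * u * g⁻¹) (cj g T) (cj g V) where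
  uV := conj_mem_cj g h.uV
  VT := cj_mono g h.VT
  p2 := isPGroup_cj g h.p2
  sq := sa_sq_cj g h.sq
  card := by rw [card_cj, h.card]
  Tc t ht := by
    obtain ⟨w, hw, rfl⟩ := mem_cj'.1 ht
    rw [conj_mul, conj_mul, h.Tc w hw]
  uq B hB uB e c := by
    rw [← h.uq (cj g⁻¹ B) (le_cj_iff.1 hB) (mem_cj.2 (by simpa using uB)) (sa_sq_cj _ e) (by rwa [card_cj]),
      cj_cj_inv]
  iso w hw e := by
    obtain ⟨v, hv, rfl⟩ := mem_cj'.1 hw
    rw [h.iso v hv (((isConj_iff.2 ⟨g, rfl⟩).trans e).trans (isConj_iff.2 ⟨g, rfl⟩).symm)]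

theorem SA.nm {u : G} {T V : Subgroup G} (h : SA u T V) {t v : G} (ht : t ∈ T) (hv : v ∈ V) : t * v * t⁻¹ ∈ V := by
  rw [← h.uq (cj t V) (cj_le_iff'.2 fun x hx => mul_mem (mul_mem ht (h.VT hx)) (inv_mem ht))
    (mem_cj'.2 ⟨u, h.uV, by rw [h.Tc t ht]; group⟩) (sa_sq_cj _ h.sq) (by rw [card_cj, h.card])]
  exact conj_mem_cj t hv

theorem sa_sq_sup {A B : Subgroup G} (hA : ∀ v ∈ A, v * v = 1) (hB : ∀ v ∈ B, v * v = 1)
    (c : ∀ x ∈ A, ∀ y ∈ B, x * y = y * x) : ∀ v ∈ A ⊔ B, v * v = 1 := fun v hv => by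
  obtain ⟨x, hx, y, hy, rfl⟩ := (mem_sup_of_le_normalizer' (fun y hy =>
    centralizer_le_normalizer _ fun x hx => c x hx y hy)).1 hv
  rw [mul_assoc, ← mul_assoc y, ← c x hx y hy, mul_assoc, hB y hy, mul_one, hA x hx]

theorem SA.key [Finite G] {u y : G} {T V T' V' : Subgroup G} (h : SA u T V) (h' : SA y T' V') (yT : y ∈ T)
    (h1 : ∀ t ∈ T, t * y = y * t → t ∈ T') (h2 : ∀ t ∈ T', t * u = u * t → t ∈ T)
    (hc : Nat.card ↥(V ⊓ centralizer {y}) ≤ Nat.card ↥(V' ⊓ centralizer {u})) : y ∈ V := by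
  have yy := h'.sq y h'.uV
  have yi : y⁻¹ = y := inv_eq_of_mul_eq_one_right yy
  let f : V →* G := MonoidHom.mk' (fun v => v * (y * v * y⁻¹)) fun v w => by
    have := comm_of_sq h.sq (h.nm yT v.2) w.2
    calc ((v : G) * w) * (y * (v * w) * y⁻¹) = v * (w * (y * v * y⁻¹)) * (y * w * y⁻¹) := by group
      _ = _ := by rw [← this]; group
  have hf : ∀ v : V, f v = v * (y * v * y⁻¹) := fun _ => rfl
  have vi : ∀ v ∈ V, v⁻¹ = v := fun v hv => inv_eq_of_mul_eq_one_right (h.sq v hv)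
  have JV : f.range ≤ V := by
    rintro _ ⟨v, rfl⟩
    exact mul_mem v.2 (h.nm yT v.2)
  have Jy : ∀ j ∈ f.range, j * y = y * j := by
    rintro _ ⟨v, rfl⟩
    have := comm_of_sq h.sq (h.nm yT v.2) v.2
    rw [hf]
    calc (v : G) * (y * v * y⁻¹) * y = y * v * y⁻¹ * v * y := by rw [this]
      _ = y * (v * (y⁻¹ * v * y)) := by group
      _ = _ := by rw [yi]
  have JT : f.range ≤ T' := fun j hj => h1 j (h.VT (JV hj)) (Jy j hj)
  have J1 : ∀ j ∈ f.range, j ∈ V' → j = 1 := by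
    rintro _ ⟨v, rfl⟩ hj
    have e : f v * y = v * y * (v : G)⁻¹ := by rw [hf, vi v v.2]; group
    have := h'.iso _ (mul_mem hj h'.uV) (isConj_iff.2 ⟨v, e.symm⟩)
    simpa using this
  have ker : f.ker = (V ⊓ centralizer {y}).subgroupOf V := by
    ext v
    rw [MonoidHom.mem_ker, mem_subgroupOf, mem_inf, mem_cent_single, hf, mul_eq_one_iff_inv_eq, vi v v.2,
      eq_mul_inv_iff_mul_eq]
    exact ⟨fun e => ⟨v.2, e⟩, fun e => e.2⟩
  have cJ : Nat.card f.range * Nat.card ↥(V ⊓ centralizer {y}) = 2 ^ 11 := by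
    rw [← h.card, ← index_ker, ker, ← Nat.card_congr (subgroupOfEquivOfLe (inf_le_left (a := V))).toEquiv,
      index_mul_card]
  have cm : ∀ j ∈ f.range, ∀ d ∈ V' ⊓ centralizer {u}, j * d = d * j := fun j hj d hd => by
    have dT : d ∈ T := h2 d (h'.VT hd.1) (mem_cent_single.1 hd.2)
    have dy : d * y = y * d := comm_of_sq h'.sq hd.1 h'.uV
    have a1 : d * j * d⁻¹ ∈ f.range := by
      obtain ⟨v, rfl⟩ := hj
      refine ⟨⟨_, h.nm dT v.2⟩, ?_⟩
      rw [hf, hf]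
      calc d * v * d⁻¹ * (y * (d * v * d⁻¹) * y⁻¹) = d * v * d⁻¹ * (y * d) * v * (y * d)⁻¹ := by group
        _ = _ := by rw [← dy]; group
    have a2 : j⁻¹ * (d * j * d⁻¹) = 1 := J1 _ (mul_mem (inv_mem hj) a1) (by
      have := mul_mem (h'.nm (inv_mem (JT hj)) hd.1) (inv_mem hd.1)
      simpa [mul_assoc] using this)
    calc j * d = j * (j⁻¹ * (d * j * d⁻¹)) * d := by rw [a2, mul_one]
      _ = _ := by group
  have c := card_sup_mul_card_inf' (H := f.range) (K := V' ⊓ centralizer {u}) fun d hd =>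
    centralizer_le_normalizer _ fun j hj => cm j hj d hd
  rw [show f.range ⊓ (V' ⊓ centralizer {u}) = ⊥ from eq_bot_iff.2 fun j hj => mem_bot.2 (J1 j hj.1 hj.2.1),
    card_bot, mul_one] at c
  have e := h'.uq (f.range ⊔ V' ⊓ centralizer {u}) (sup_le JT (inf_le_left.trans h'.VT))
    (mem_sup_right ⟨h'.uV, mem_cent_single.2 (h.Tc y yT)⟩)
    (sa_sq_sup (fun v hv => h.sq v (JV hv)) (fun v hv => h'.sq v hv.1) cm)
    (by rw [c, ← cJ]; exact Nat.mul_le_mul_left _ hc)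
  have cy : ∀ v ∈ V, v * y = y * v := fun v hv => by
    have : (⟨v, hv⟩ : V) ∈ f.ker := J1 _ ⟨_, rfl⟩ (e ▸ mem_sup_left ⟨_, rfl⟩)
    rw [ker] at this
    exact mem_cent_single.1 this.2
  have zy : ∀ w ∈ zpowers y, w = 1 ∨ w = y := fun w hw => (mem_zpowers_invol yy).1 hw
  rw [← h.uq (V ⊔ zpowers y) (sup_le h.VT (zpowers_le.2 yT)) (mem_sup_left h.uV)
    (sa_sq_sup h.sq (fun w hw => by rcases zy w hw with rfl | rfl; exacts [mul_one _, yy]) fun x hx w hw => by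
      rcases zy w hw with rfl | rfl; exacts [by rw [mul_one, one_mul], cy x hx])
    (by rw [← h.card]; exact card_le_of_le le_sup_left)]
  exact mem_sup_right (mem_zpowers y)

variable {E : Subgroup G} {z p : G} {M : Subgroup Γ} {φ : KK z p →* Γ}
  {A1 A2 : Subgroup Γ} {t1 t2 t3 t4 a b i g f : Γ}

theorem JS.exSA [Finite G] (h : JS E z p M φ) (F : MF M A1 A2 t1 t2 t3 t4 a b i g f)
    (hi : ∀ y ∈ V0 E φ A1, IsConj z y → y = z) {S : Subgroup G} (hS : IsPGroup 2 S) (k : G)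
    (hz : S ≤ centralizer {k * z * k⁻¹}) : ∃ T V, S ≤ T ∧ SA (k * z * k⁻¹) T V := by
  have : Fact (Nat.Prime 2) := ⟨Nat.prime_two⟩
  obtain ⟨s1, s2, s3⟩ := h.std F
  obtain ⟨T, hT, ST⟩ := exists_syl_ge (H := centralizer {z}) (isPGroup_cj k⁻¹ hS) (cj_le_iff'.2 fun x hx => by
    have := mem_cent_single.1 (hz hx)
    rw [mem_cent_single]
    calc k⁻¹ * x * k⁻¹⁻¹ * z = k⁻¹ * (x * (k * z * k⁻¹)) * k := by group
      _ = _ := by rw [this]; group)
  obtain ⟨c, cz, hc⟩ := hT.exists_conj_le (P := V0 E φ A1)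
    (isPGroup_iff_mem.2 fun x hx => ⟨1, by rw [pow_one, pow_two, s2 x hx]⟩) fun v hv => mem_cent_single.2 (s1 v hv)
  have cz' : c * z * c⁻¹ = z := by rw [mem_cent_single.1 cz]; group
  have zV : z ∈ cj c (V0 E φ A1) := mem_cj'.2 ⟨z, mem_sup_left h.z_Cm, cz'⟩
  obtain ⟨d, -, hd⟩ := h.uniq F hT.isPGroup fun v hv => mem_cent_single.1 (hT.le hv)
  have H : SA z T (cj c (V0 E φ A1)) :=
    ⟨zV, hc, hT.isPGroup, sa_sq_cj c s2, by rw [card_cj, s3], fun t ht => mem_cent_single.1 (hT.le ht),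
      fun B hB zB e cB => cj_inj.1 ((hd B hB zB e cB).1.trans
        (hd _ hc zV (sa_sq_cj c s2) (by rw [card_cj, s3])).1.symm), fun w hw e => by
      obtain ⟨v, hv, rfl⟩ := mem_cj'.1 hw
      rw [hi v hv (e.trans (isConj_iff.2 ⟨c, rfl⟩).symm), cz']⟩
  exact ⟨_, _, le_cj_iff.2 ST, H.cnj k⟩

theorem JS.stepA [Finite G] [IsSimpleGroup G] (hG : ¬ IsMulCommutative G) (h : JS E z p M φ)
    (F : MF M A1 A2 t1 t2 t3 t4 a b i g f) : ∃ y ∈ V0 E φ A1, y ≠ z ∧ IsConj z y := by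
  by_contra hn
  have hi : ∀ y ∈ V0 E φ A1, IsConj z y → y = z := fun y hy e => by
    by_contra n
    exact hn ⟨y, hy, n, e⟩
  obtain ⟨T0, hT, QT, Tz⟩ := h.ls.exists_syl
  obtain ⟨y, y0, y1, y2⟩ := Gg6.not_isolated hG hT.toSylowTop (u := z) (QT h.es.mem) h.es.sq h.es.ne
  have yz : y * z = z * y := mem_cent_single.1 (Tz y0)
  obtain ⟨k, hk⟩ := isConj_iff.1 y2
  have yy : y * y = 1 := by rw [← hk, conj_mul, h.es.sq]; group
  have zz := h.es.sq
  have q : ∀ {x w : G}, x * x = 1 → w ∈ zpowers x → w = 1 ∨ w = x := fun hx hw => (mem_zpowers_invol hx).1 hw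
  obtain ⟨S, hS, le⟩ := exists_syl_ge (p := 2) (P := zpowers z ⊔ zpowers y) (H := centralizer {z} ⊓ centralizer {y})
    (isPGroup_iff_mem.2 fun x hx => ⟨1, by
      rw [pow_one, pow_two]
      refine sa_sq_sup (fun w hw => ?_) (fun w hw => ?_) (fun v hv w hw => ?_) x hx
      · rcases q zz hw with rfl | rfl; exacts [mul_one _, zz]
      · rcases q yy hw with rfl | rfl; exacts [mul_one _, yy]
      · rcases q zz hv with rfl | rfl <;> rcases q yy hw with rfl | rfl <;> simp [yz]⟩)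
    (sup_le (zpowers_le.2 ⟨mem_cent_single.2 rfl, mem_cent_single.2 yz.symm⟩)
      (zpowers_le.2 ⟨mem_cent_single.2 yz, mem_cent_single.2 rfl⟩))
  obtain ⟨T, V, ST, H⟩ := h.exSA F hi hS.isPGroup 1 (by simpa using hS.le.trans inf_le_left)
  obtain ⟨T', V', ST', H'⟩ := h.exSA F hi hS.isPGroup k (by rw [hk]; exact hS.le.trans inf_le_right)
  rw [one_mul, inv_one, mul_one] at H
  rw [hk] at H'
  have h1 : ∀ t ∈ T, t * y = y * t → t ∈ T' := fun t ht e => ST' (hS.le_of_le (U := T ⊓ centralizer {y})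
    (le_inf ST (hS.le.trans inf_le_right)) (fun x hx => ⟨mem_cent_single.2 (H.Tc x hx.1), hx.2⟩)
    (H.p2.to_inf_left) ⟨ht, mem_cent_single.2 e⟩)
  have h2 : ∀ t ∈ T', t * z = z * t → t ∈ T := fun t ht e => ST (hS.le_of_le (U := T' ⊓ centralizer {z})
    (le_inf ST' (hS.le.trans inf_le_left)) (fun x hx => ⟨hx.2, mem_cent_single.2 (H'.Tc x hx.1)⟩)
    (H'.p2.to_inf_left) ⟨ht, mem_cent_single.2 e⟩)
  rcases le_total (Nat.card ↥(V ⊓ centralizer {y})) (Nat.card ↥(V' ⊓ centralizer {z})) with c | c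
  · exact y1 (H.iso y (H.key H' (ST (le (mem_sup_right (mem_zpowers y)))) h1 h2 c) y2)
  · exact y1 (H'.iso z (H'.key H (ST' (le (mem_sup_left (mem_zpowers z)))) h2 h1 c) y2.symm).symm

end Cfsg.Lib.JF
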