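import Cfsg.Agent.Lib.Block2.JH0
import Cfsg.Agent.Lib.Block.IsoElt
import Cfsg.Agent.Lib.Coprime.Generation

/-! The centraliser of the 3-element in a group of Janko-four type. -/

set_option autoImplicit false

namespace Cfsg.Lib.JF

open Subgroup Cfsg.Lib.Amalg Cfsg.Lib.Core Cfsg.Lib.Known2 Cfsg.Lib.Golay Spor
open scoped Pointwise symmDiff commutatorElement

variable {G : Type*} [Group G]

theorem card7 {α : Type*} [Fintype α] [DecidableEq α] (a b c : Finset α) :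
    a.card + b.card + c.card + (a ∆ b ∆ c).card =
      (a ∆ b).card + (a ∆ c).card + (b ∆ c).card + 4 * (a ∩ b ∩ c).card := by
  have e : ∀ s : Finset α, s.card = ∑ x, if x ∈ s then 1 else 0 := fun s => by simp
  simp only [e, Finset.mul_sum, ← Finset.sum_add_distrib, Finset.mem_symmDiff, Finset.mem_inter]
  refine Finset.sum_congr rfl fun x _ => ?_
  by_cases x ∈ a <;> by_cases x ∈ b <;> by_cases x ∈ c <;> simp [*]

theorem card3 {α : Type*} [Fintype α] [DecidableEq α] (a b : Finset α) :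
    (a ∆ b).card + 2 * (a ∩ b).card = a.card + b.card := by
  have e : ∀ s : Finset α, s.card = ∑ x, if x ∈ s then 1 else 0 := fun s => by simp
  simp only [e, Finset.mul_sum, ← Finset.sum_add_distrib, Finset.mem_symmDiff, Finset.mem_inter]
  refine Finset.sum_congr rfl fun x _ => ?_
  by_cases x ∈ a <;> by_cases x ∈ b <;> simp [*]

theorem TM.not_pure {V : Subgroup G} {D : Set G} {ε : Finset GolayPt → G} {θ : 𝐍 V →* Equiv.Perm GolayPt}
    (T : TM V D ε θ) {B : Subgroup G} (hB : B ≤ V) (c : Nat.card B = 16) {z : G} (zV : z ∈ V)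
    (hz : ∀ b ∈ B, b ≠ 1 → (b ∈ D ↔ b * z ∉ D)) (z1 : z ∉ B) :
    (∃ w ∈ B, w ≠ 1 ∧ w ∉ D) ∧ ∃ t ∈ B, t ∈ D := by
  classical
  have : Finite B := Nat.finite_of_card_ne_zero (by rw [c]; norm_num)
  have := Fintype.ofFinite B
  have e0 : ε ∅ = 1 := (T.one ∅ (by simp)).2 empty_mem_cw
  have sq : ∀ v ∈ V, v * v = 1 := fun v hv => by
    obtain ⟨S, -, rfl⟩ := (T.mem v).1 hv
    rw [← T.mul, symmDiff_self, Finset.bot_eq_empty, e0]
  have cm : ∀ v ∈ V, ∀ w ∈ V, v * w = w * v := fun v hv w hw => comm_of_sq sq hv hw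
  constructor
  · by_contra hn
    push Not at hn
    have two : ∀ S : Finset GolayPt, Even S.card → S.card ≤ 4 → ε S ∈ B → ε S ≠ 1 → S.card = 2 :=
      fun S ev le m n => by
        obtain ⟨R, h1, h2⟩ := (T.duad _).1 (hn _ m n)
        have h3 := card3 S R
        have h4 := card_cw ((T.one (S ∆ R) (by rw [Nat.even_iff] at *; omega)).1 (by
          rw [T.mul, h2, sq _ (hB m)]))
        rw [symmDiff_eq_bot.1 (Finset.card_eq_zero.1 (show (S ∆ R).card = 0 by omega)), h1]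
    have ex : ∀ s : Finset B, s.card < 16 → ∃ x, x ∉ s := fun s hs => by
      by_contra a
      push Not at a
      rw [Finset.eq_univ_of_forall a, Finset.card_univ, ← Nat.card_eq_fintype_card, c] at hs
      omega
    obtain ⟨x, hx⟩ := ex {1} (by simp)
    obtain ⟨y, hy⟩ := ex {1, x} (Finset.card_le_two.trans_lt (by norm_num))
    obtain ⟨w, hw⟩ := ex {1, x, y, x * y} (Finset.card_le_four.trans_lt (by norm_num))
    simp only [Finset.mem_insert, Finset.mem_singleton, not_or, Subtype.ext_iff, coe_mul, coe_one] at hx hy hw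
    obtain ⟨a, a1, a2⟩ := (T.duad _).1 (hn _ x.2 hx)
    obtain ⟨b, b1, b2⟩ := (T.duad _).1 (hn _ y.2 hy.1)
    obtain ⟨d, d1, d2⟩ := (T.duad _).1 (hn _ w.2 hw.1)
    have ne : ∀ {u v : G}, u ∈ B → v ≠ u → u * v ≠ 1 := fun {u v} hu n e =>
      n (mul_left_cancel (e.trans (sq u (hB hu)).symm))
    have k : ∀ {R S : Finset GolayPt}, R.card = 2 → S.card = 2 → ε R ∈ B → ε S ∈ B → ε S ≠ ε R →
        (R ∆ S).card = 2 := fun {R S} r s m m' n => by
      have := card3 R S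
      exact two _ (by rw [Nat.even_iff]; omega) (by omega) (T.mul R S ▸ mul_mem m m') (T.mul R S ▸ ne m n)
    have k1 := k a1 b1 (a2 ▸ x.2) (b2 ▸ y.2) (a2 ▸ b2 ▸ hy.2)
    have k2 := k a1 d1 (a2 ▸ x.2) (d2 ▸ w.2) (a2 ▸ d2 ▸ hw.2.1)
    have k3 := k b1 d1 (b2 ▸ y.2) (d2 ▸ w.2) (b2 ▸ d2 ▸ hw.2.2.1)
    have k4 := k k1 d1 (by rw [T.mul, a2, b2]; exact mul_mem x.2 y.2) (d2 ▸ w.2)
      (by rw [T.mul, a2, b2, d2]; exact hw.2.2.2)
    have := card7 a b d
    omega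
  · by_contra hn
    push Not at hn
    have h1 : ∀ b : B, ∃ S : Finset GolayPt, b ≠ 1 → S.card = 2 ∧ ε S = b * z := fun b => by
      by_cases e : b = 1
      · exact ⟨∅, fun a => absurd e a⟩
      · obtain ⟨S, hS⟩ := (T.duad _).1 (not_not.1 fun a => hn b b.2
          ((hz b b.2 fun a => e (Subtype.ext a)).2 a))
        exact ⟨S, fun _ => hS⟩
    choose S hS using h1
    have h2 := Finset.card_biUnion (s := Finset.univ.erase (1 : B)) (t := S) fun b hb b' hb' n => by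
      obtain ⟨a1, a2⟩ := hS b (Finset.ne_of_mem_erase hb)
      obtain ⟨b1, b2⟩ := hS b' (Finset.ne_of_mem_erase hb')
      have h3 := card3 (S b) (S b')
      have h4 : ε (S b ∆ S b') = b * b' := by
        rw [T.mul, a2, b2, cm _ (hB b'.2) z zV, mul_assoc, ← mul_assoc z, sq z zV, one_mul]
      refine Finset.disjoint_iff_inter_eq_empty.2 (Finset.card_eq_zero.1 (by_contra fun a => ?_))
      by_cases e : (S b ∆ S b').card = 0
      · rw [Finset.card_eq_zero.1 e, e0] at h4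
        exact n (Subtype.ext (mul_left_cancel ((sq _ (hB b.2)).trans h4)))
      · exact hn _ (mul_mem b.2 b'.2) ((T.duad _).2 ⟨_, by omega, h4⟩)
    rw [Finset.sum_const_nat fun b hb => (hS b (Finset.ne_of_mem_erase hb)).1,
      Finset.card_erase_of_mem (Finset.mem_univ _), Finset.card_univ, ← Nat.card_eq_fintype_card, c] at h2
    have := Finset.card_le_univ ((Finset.univ.erase (1 : B)).biUnion S)
    rw [card_golayPt] at this
    omega

section

variable {Γ : Type*} [Group Γ] [Finite G] {E : Subgroup G} {z p : G} {M A1 A2 : Subgroup Γ}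
  {φ : KK z p →* Γ} {t1 t2 t3 t4 a b i g f : Γ} (h : JS E z p M φ)
  (F : MF M A1 A2 t1 t2 t3 t4 a b i g f)
include h F

omit [Finite G] in
theorem JS.mem_hat {k : G} : k ∈ closure (hat φ A1) ↔ k ∈ hat φ A1 := by
  obtain ⟨A, hA⟩ := h.exists_hat F F.sq1
  exact ⟨fun a => (hA k).1 ((closure_le A).2 (fun x hx => (hA x).2 hx) a), fun a => subset_closure a⟩

theorem JS.iso_p (O : OB E φ A1) {x : G} (hx : x * p = p * x)
    (c : x * z * x⁻¹ * z = z * (x * z * x⁻¹)) : x * z * x⁻¹ = z := by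
  by_contra n
  obtain ⟨s1, s2, s3⟩ := h.std F
  have zz := h.es.sq
  have cp : ∀ {y w : G}, y * p = p * y → w * p = p * w → y * w * y⁻¹ * p = p * (y * w * y⁻¹) :=
    fun {y w} a b => ((show Commute y p from a).mul_left b).mul_left (show Commute y p from a).inv_left
  have sq : ∀ y : G, y * z * y⁻¹ * (y * z * y⁻¹) = 1 := fun y => by rw [conj_mul, zz, mul_one, mul_inv_cancel]
  have n1 : ∀ y : G, y * z * y⁻¹ ≠ 1 := fun y e => h.es.ne (conj_eq_one_iff.1 e)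
  obtain ⟨m, l⟩ := h.tot (mem_KK.2 ⟨c, cp hx h.pz.symm⟩)
  obtain ⟨k, hk, rfl⟩ := F.cls m (h.mem l) (fun e => (h.ker_two (l.of_eq e) (sq x)).elim (n1 x) n)
    ((l.mul l).uniq (sq x ▸ L.one))
  obtain ⟨k', lk⟩ := h.ex hk
  have l2 : L φ (k'⁻¹ * x * z * (k'⁻¹ * x)⁻¹) t1 := by
    have := (lk.inv.cnj l).of_eq (show _ = t1 by group)
    rwa [show k'⁻¹ * (x * z * x⁻¹) * k'⁻¹⁻¹ = k'⁻¹ * x * z * (k'⁻¹ * x)⁻¹ by group] at this
  have n2 : k'⁻¹ * x * z * (k'⁻¹ * x)⁻¹ ≠ z := fun e => n (by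
    calc x * z * x⁻¹ = k' * (k'⁻¹ * x * z * (k'⁻¹ * x)⁻¹) * k'⁻¹ := by group
      _ = z := by rw [e, conj_eq_of_comm lk.kz])
  have hy : k'⁻¹ * x * p = p * (k'⁻¹ * x) := (show Commute k' p from lk.kp).inv_left.mul_left hx
  generalize k'⁻¹ * x = y at l2 n2 hy
  have ha : y * z * y⁻¹ ∈ hat φ A1 := ⟨⟨_, F.m1, l2⟩, sq y⟩
  obtain ⟨k, hk, e⟩ := O.allK (cj y⁻¹ (V0 E φ A1)) (mem_cj.2 (by
    rw [inv_inv]; exact mem_sup_right (subset_closure ha))) (fun v hv => by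
      have := s2 _ (mem_cj.1 hv)
      calc v * v = y⁻¹ * (y⁻¹⁻¹ * v * y⁻¹ * (y⁻¹⁻¹ * v * y⁻¹)) * y := by group
        _ = 1 := by rw [this]; group) (by rw [card_cj, s3])
  rw [← cj_mul] at e
  have hN := inv_mem (cj_eq_self_iff.1 e)
  have e2 : (k * y⁻¹)⁻¹ * z * (k * y⁻¹)⁻¹⁻¹ = y * z * y⁻¹ := by
    rw [show (k * y⁻¹)⁻¹ * z * (k * y⁻¹)⁻¹⁻¹ = y * (k⁻¹ * (z * k)) * y⁻¹ by group, ← (mem_KK.1 hk).1,
      inv_mul_cancel_left]
  have hw : (k * y⁻¹)⁻¹ * p = p * (k * y⁻¹)⁻¹ :=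
    ((show Commute k p from (mem_KK.1 hk).2).mul_left (show Commute y p from hy).inv_left).inv_left
  rw [← e2] at ha n2
  generalize (k * y⁻¹)⁻¹ = w at hN ha n2 hw
  clear e2 e
  have dN : ∀ u ∈ 𝐍 (V0 E φ A1), ∀ d ∈ DD (V0 E φ A1) z, u * d * u⁻¹ ∈ DD (V0 E φ A1) z := fun u hu d hd =>
    ⟨Transfer.conj_mem_of_mem_normalizer hu hd.1, fun e => hd.2.1 (conj_eq_one_iff.1 e),
      fun e => hd.2.2 (e.trans (isConj_iff.2 ⟨u, rfl⟩).symm)⟩
  let τ : G → G := fun u => u * (p * u * p⁻¹) * (p * (p * u * p⁻¹) * p⁻¹)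
  have cV : ∀ {u v}, u ∈ V0 E φ A1 → v ∈ V0 E φ A1 → Commute u v := fun a b => comm_of_sq s2 a b
  have τm : ∀ {u v : G}, u * p = p * u → u * u = 1 → u ∈ V0 E φ A1 → v ∈ Cm E φ A1 → τ (u * v) = u * τ v :=
    fun {u v} a1 a2 a3 a4 => by
      have e : ∀ w, p * (u * w) * p⁻¹ = u * (p * w * p⁻¹) := fun w => by
        rw [← mul_assoc p, ← a1]; simp only [mul_assoc]
      have c1 := cV a3 (mem_sup_left a4)
      have c2 := cV a3 (mem_sup_left (h.Cm_p a4))
      simp only [τ, e]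
      generalize p * (p * v * p⁻¹) * p⁻¹ = v2
      generalize p * v * p⁻¹ = v1 at c2
      calc u * v * (u * v1) * (u * v2) = u * (v * u) * (v1 * u) * v2 := by simp only [mul_assoc]
        _ = u * u * (v * u) * v1 * v2 := by rw [← c1.eq, ← c2.eq]; nth_rw 2 [c1.eq]; simp only [mul_assoc]
        _ = _ := by rw [a2, ← c1.eq]; simp only [mul_assoc, one_mul]
  have U0 : ∀ v ∈ V0 E φ A1, τ v = 1 → v ∈ Cm E φ A1 := fun v hv e => by
    obtain ⟨a, ha, u, hu, rfl⟩ := (O.memV v).1 hv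
    obtain ⟨⟨m, hm, l⟩, a2⟩ := id ha
    rw [τm l.kp a2 (mem_sup_right (subset_closure ha)) hu] at e
    refine mul_mem ?_ hu
    rcases h.tri (Cm_le hu) with c | c <;> rw [show τ u = _ from c] at e
    · rw [mul_one] at e; exact e ▸ one_mem _
    · rw [mul_right_cancel (e.trans zz.symm)]; exact h.z_Cm
  let X : Set G := {u | τ u = 1 ∧ u ∈ DD (V0 E φ A1) z}
  have h1 : X ⊆ {u | u ∈ Cm E φ A1 ∧ w * z * w⁻¹ * u ∈ DD (V0 E φ A1) z} := fun u hu => by
    refine ⟨U0 u hu.2.1 hu.1, ?_⟩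
    have d1 := dN _ (inv_mem hN) u hu.2
    have d2 := dN _ hN _ (O.zD _ (U0 _ d1.1 (by
      have w1 : ∀ u, p * (w⁻¹ * u * w⁻¹⁻¹) * p⁻¹ = w⁻¹ * (p * u * p⁻¹) * w⁻¹⁻¹ := fun u => by
        have c := (show Commute w p from hw).inv_left
        rw [← mul_assoc, ← mul_assoc, ← c.eq, mul_assoc _ w⁻¹⁻¹, c.inv_left.inv_right.eq]; group
      simp only [τ, w1, conj_mul]
      exact conj_eq_one_iff.2 hu.1)) d1)
    rwa [← conj_mul, show w * (w⁻¹ * u * w⁻¹⁻¹) * w⁻¹ = u by group,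
      (cV hu.2.1 (mem_sup_right (subset_closure ha))).eq] at d2
  have h2 : {u | u ∈ Cm E φ A1 ∧ u ∈ DD (V0 E φ A1) z} ⊆ X ∪ (fun u => z * u) '' X := fun u hu => by
    rcases h.tri (Cm_le hu.1) with c | c
    · exact .inl ⟨c, hu.2⟩
    · refine .inr ⟨z * u, ⟨?_, ?_⟩, by simp only; rw [← mul_assoc, zz, one_mul]⟩
      · rw [τm h.pz.symm zz (mem_sup_left h.z_Cm) hu.1, show τ u = _ from c, zz]
      · rw [← s1 u hu.2.1]; exact O.zD u hu.1 hu.2
  have h3 := Set.ncard_le_ncard h1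
  have h4 := (Set.ncard_le_ncard h2).trans (Set.ncard_union_le _ _)
  have h5 := Set.ncard_image_le (f := fun u => z * u) (s := X)
  rw [O.c16 _ ha (n1 w) n2] at h3
  rw [O.nDU] at h4
  omega

theorem JS.card_hat : Nat.card (closure (hat φ A1)) = 32 := by
  rw [h.card_img (fun k hk => let ⟨⟨_, _, l, _⟩, _⟩ := (h.mem_hat F).1 hk; l)
    (subset_closure ⟨⟨1, one_mem _, h.Lz⟩, h.es.sq⟩) fun k hk => ((h.mem_hat F).1 hk).2,
    show img φ (closure (hat φ A1)) = A1 from Subgroup.ext fun m => mem_img.trans ⟨fun ⟨k, hk, l⟩ =>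
      let ⟨⟨_, hm, l'⟩, _⟩ := (h.mem_hat F).1 hk; l.uniq l' ▸ hm, fun hm =>
      let ⟨k, l, e⟩ := h.lift2 F (F.le1 hm) (F.sq1 m hm); ⟨k, subset_closure ⟨⟨m, hm, l⟩, e⟩, l⟩⟩, F.c1]

theorem JS.cen_p (O : OB E φ A1) (np : ∀ B : Subgroup G, B ≤ closure (hat φ A1) → Nat.card B = 16 → z ∉ B →
    (∃ w ∈ B, w ≠ 1 ∧ w ∉ DD (V0 E φ A1) z) ∧ ∃ t ∈ B, t ∈ DD (V0 E φ A1) z) {x : G} (hx : x * p = p * x) :
    x * z = z * x := by
  have := Fact.mk Nat.prime_two
  obtain ⟨s1, s2, s3⟩ := h.std F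
  let Y : Subgroup G := centralizer {p}
  have zY : z ∈ Y := mem_cent_single.2 h.pz.symm
  let Q := (pPrimeCore 2 Y).map Y.subtype
  have nQ : Y ≤ 𝐍 Q := le_normalizer_map_subtype _
  have oQ : ¬ 2 ∣ Nat.card Q := by rw [card_subtype]; exact not_dvd_card_pPrimeCore Nat.prime_two
  have hz := Block.z_star_elt (x := (⟨z, zY⟩ : Y)) (k := 1) (Subtype.ext ((pow_two z).trans h.es.sq))
    fun g c => Subtype.ext (h.iso_p F O (mem_cent_single.1 g.2) (congrArg Subtype.val c.eq).symm)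
  have sq : ∀ k ∈ closure (hat φ A1), k * k = 1 := fun k hk => ((h.mem_hat F).1 hk).2
  have : IsMulCommutative (closure (hat φ A1)) := ⟨⟨fun a b => Subtype.ext (comm_of_sq sq a.2 b.2)⟩⟩
  have c32 := h.card_hat F
  have hQ : Q ≤ centralizer {z} := Coprime.le_of_forall_hyperplane (A := closure (hat φ A1)) (p := 2)
    (fun k hk => (pow_two k).trans (sq k hk)) (fun e => by rw [e, card_bot] at c32; omega)
    (fun k hk => let ⟨⟨_, _, l⟩, _⟩ := (h.mem_hat F).1 hk; nQ (mem_cent_single.2 l.kp))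
    (by rw [c32]; exact ((Nat.Prime.coprime_iff_not_dvd Nat.prime_two).2 oQ).pow_left 5)
    fun B hB r y hy => by
      by_cases a : z ∈ B
      · exact mem_cent_single.2 (hy.2 z a).symm
      have c := card_mul_relIndex hB
      obtain ⟨⟨w, w1, w2, w3⟩, t, u1, u2⟩ := np B hB (by rw [r, c32] at c; omega) a
      have yN := O.H1 w (mem_sup_right (hB w1)) w2 w3 t u2
        ⟨mem_cent_single.2 (hy.2 w w1).symm, mem_cent_single.2 (hy.2 t u1).symm⟩
      have m1 : y * z * y⁻¹ * z⁻¹ ∈ V0 E φ A1 := mul_mem (Transfer.conj_mem_of_mem_normalizer yN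
        (mem_sup_left h.z_Cm)) (inv_mem (mem_sup_left h.z_Cm))
      have m2 : y * z * y⁻¹ * z⁻¹ ∈ Q := by
        have := mul_mem hy.1 (Transfer.conj_mem_of_mem_normalizer (nQ zY) (inv_mem hy.1))
        rwa [← mul_assoc, ← mul_assoc] at this
      have m3 : y * z * y⁻¹ * z⁻¹ = 1 := by_contra fun n => oQ (by
        rw [← orderOf_eq_prime ((pow_two _).trans (s2 _ m1)) n]; exact orderOf_dvd_natCard _ m2)
      exact mem_cent_single.2 (mul_inv_eq_iff_eq_mul.1 (mul_inv_eq_one.1 m3))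
  have m : x * z * x⁻¹ * z⁻¹ * z = z * (x * z * x⁻¹ * z⁻¹) :=
    mem_cent_single.1 (hQ ⟨_, hz ⟨x, mem_cent_single.2 hx⟩, rfl⟩)
  refine mul_inv_eq_iff_eq_mul.1 (h.iso_p F O hx ?_)
  rw [inv_mul_cancel_right, ← mul_assoc z, eq_mul_inv_iff_mul_eq] at m
  exact m

end

theorem JS.s5563 [Finite G] {E : Subgroup G} {z p : G} {φ : KK z p →* Equiv.Perm GolayPt}
    {A1 A2 : Subgroup (Equiv.Perm GolayPt)} {t1 t2 t3 t4 a b i g f q : Equiv.Perm GolayPt}
    (h : JS E z p M22 φ) (_F2 : MF2 M22 A1 t1 a b q) (F : MF M22 A1 A2 t1 t2 t3 t4 a b i g f) (O : OB E φ A1)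
    (np : ∀ B : Subgroup G, B ≤ closure (hat φ A1) → Nat.card B = 16 → z ∉ B →
      (∃ w ∈ B, w ≠ 1 ∧ w ∉ DD (V0 E φ A1) z) ∧ ∃ t ∈ B, t ∈ DD (V0 E φ A1) z) :
    ⁅(centralizer ({z} : Set G) ⊓ centralizer (zpowers p : Set G)),
      (centralizer ({z} : Set G) ⊓ centralizer (zpowers p : Set G))⁆ =
        (centralizer ({z} : Set G) ⊓ centralizer (zpowers p : Set G)) ∧
    IsCyclic ↥(center ↥(centralizer ({z} : Set G) ⊓ centralizer (zpowers p : Set G))) ∧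
    Nat.card ↥(center ↥(centralizer ({z} : Set G) ⊓ centralizer (zpowers p : Set G))) = 6 ∧
    IsoM22 (↥(centralizer ({z} : Set G) ⊓ centralizer (zpowers p : Set G)) ⧸
      center ↥(centralizer ({z} : Set G) ⊓ centralizer (zpowers p : Set G))) ∧
    normalizer (zpowers p : Set G) ≤ centralizer ({z} : Set G) := by
  rw [show centralizer (zpowers p : Set G) = centralizer {p} by rw [zpowers_eq_closure, centralizer_closure]]
  have zz := h.es.sq
  have cM : ∀ {k : G} {m}, L φ k m → (∀ k' ∈ KK z p, k' * k = k * k') → m = 1 := fun {k m} l c => by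
    refine congrArg Subtype.val (center_M22.le (mem_center_iff.2 fun m' => Subtype.ext ?_) :
      (⟨m, h.mem l⟩ : M22) = 1)
    obtain ⟨k', l'⟩ := h.ex m'.2
    exact (l'.mul l).uniq (c k' l'.1 ▸ l.mul l')
  have hc : center (KK z p) = φ.ker := Subgroup.ext fun k => ⟨fun hk => cM ⟨k.2, rfl⟩ fun k' h' =>
    congrArg Subtype.val (mem_center_iff.1 hk ⟨k', h'⟩), fun hk => mem_center_iff.2 fun k' =>
    Subtype.ext (h.ker_comm ⟨k.2, hk⟩ ⟨k'.2, rfl⟩).symm⟩
  have e1 := (QuotientGroup.quotientMulEquivOfEq hc).trans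
    ((QuotientGroup.quotientKerEquivRange φ).trans (MulEquiv.subgroupCongr h.rng))
  have c6 : Nat.card (center (KK z p)) = 6 := by
    have := card_eq_card_quotient_mul_card_subgroup (center (KK z p))
    rw [Nat.card_congr e1.toEquiv, F.card, h.cK] at this
    omega
  have cov : ∀ m ∈ M22, ∃ k ∈ ⁅KK z p, KK z p⁆, L φ k m := fun m hm => by
    have := simple_M22
    have h1 : commutator M22 = ⊤ := (IsSimpleGroup.eq_bot_or_eq_top_of_normal _ inferInstance).resolve_left fun e => by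
      have := (commutator_eq_bot_iff_center_eq_top _).1 e
      rw [center_M22] at this
      exact bot_ne_top this
    have h2 : m ∈ (commutator (KK z p)).map φ := by
      rw [map_commutator_eq, h.rng, ← map_subtype_commutator, h1]
      exact ⟨⟨m, hm⟩, trivial, rfl⟩
    obtain ⟨k, hk, rfl⟩ := h2
    exact ⟨k, map_subtype_commutator (KK z p) ▸ mem_map_of_mem _ hk, k.2, rfl⟩
  have hz : z ∈ ⁅KK z p, KK z p⁆ := by
    by_contra n
    let B := closure (hat φ A1) ⊓ ⁅KK z p, KK z p⁆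
    have hB : ∀ k ∈ B, k ≠ 1 → ∃ c ∈ KK z p, L φ (c * k * c⁻¹) t1 := fun k hk k1 => by
      obtain ⟨⟨m, hm, l⟩, e⟩ := (h.mem_hat F).1 hk.1
      obtain ⟨c, hc, rfl⟩ := F.cls m (F.le1 hm) (fun a => (h.ker_two (l.of_eq a) e).elim k1
        fun a => n (a ▸ hk.2)) (F.sq1 m hm)
      obtain ⟨c', lc⟩ := h.ex hc
      exact ⟨c'⁻¹, lc.inv.1, (lc.inv.cnj l).of_eq (by group)⟩
    have nK : ∀ c ∈ KK z p, ∀ k ∈ ⁅KK z p, KK z p⁆, c * k * c⁻¹ ∈ ⁅KK z p, KK z p⁆ := fun c hc k hk =>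
      Transfer.conj_mem_of_mem_normalizer (normalizer_commutator_ge_left _ _ hc) hk
    obtain ⟨⟨w, w1, w2, w3⟩, t, u1, u2⟩ := np B inf_le_left (by
      rw [← F.c1]
      have hK : ∀ k : B, k.1 ∈ KK z p := fun k => commutator_le_self _ k.2.2
      refine Nat.card_congr (Equiv.ofBijective (fun k : B => (⟨φ ⟨k, hK k⟩,
        let ⟨⟨_, hm, l⟩, _⟩ := (h.mem_hat F).1 k.2.1; l.2 ▸ hm⟩ : A1)) ⟨fun k k' e => Subtype.ext ?_, fun m => ?_⟩)
      · exact (h.lift_eq ⟨hK k', rfl⟩ ⟨hK k, congrArg Subtype.val e⟩ ((h.mem_hat F).1 k'.2.1).2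
          ((h.mem_hat F).1 k.2.1).2).resolve_right fun a => n ((mul_mem_cancel_left (mem_inf.1 k'.2).2).1 (a ▸ (mem_inf.1 k.2).2))
      · obtain ⟨k, hk, l⟩ := cov m (F.le1 m.2)
        have l3 := (l.pow 3).of_eq (show _ = m.1 by rw [pow_succ, pow_two, F.sq1 _ m.2, one_mul])
        exact ⟨⟨k ^ 3, subset_closure ⟨⟨_, m.2, l3⟩, by rw [← pow_add]; exact h.six F l (F.sq1 _ m.2)⟩,
          pow_mem hk 3⟩, Subtype.ext l3.2⟩) fun a => n a.2
    obtain ⟨c, hc, l⟩ := hB w w1 w2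
    obtain ⟨c', hc', l'⟩ := hB t u1 u2.2.1
    have sq : ∀ c, ∀ k ∈ B, c * k * c⁻¹ * (c * k * c⁻¹) = 1 := fun c k hk => by
      rw [conj_mul, ((h.mem_hat F).1 hk.1).2, mul_one, mul_inv_cancel]
    rcases h.lift_eq l l' (sq c w w1) (sq c' t u1) with e | e
    · exact w3 ⟨mem_sup_right w1.1, w2, fun a => u2.2.2 (a.trans ((isConj_iff.2 ⟨c, e.symm⟩).trans
        (isConj_iff.2 ⟨c', rfl⟩).symm))⟩
    · exact n ((mul_mem_cancel_left (nK c hc w w1.2)).1 (e ▸ nK c' hc' t u1.2))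
  refine ⟨le_antisymm (commutator_le_self _) fun k hk => ?_, ?_, c6, ⟨e1⟩, fun n hn => ?_⟩
  · obtain ⟨m, l⟩ := h.tot hk
    obtain ⟨k', hk', l'⟩ := cov m (h.mem l)
    obtain ⟨d, hd, e | e⟩ := h.Lker (h.quo l' l) <;> rw [← mul_mem_cancel_left (inv_mem hk'), e]
    exacts [zpowers_le.2 h.com hd, mul_mem (zpowers_le.2 h.com hd) hz]
  · have l := (h.Lp.mul h.Lz).of_eq (mul_one _)
    refine isCyclic_of_orderOf_eq_card ⟨⟨p * z, l.1⟩, hc.ge l.2⟩ ?_
    have := Fact.mk Nat.prime_three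
    have := Fact.mk Nat.prime_two
    have oz := orderOf_eq_prime ((pow_two z).trans zz) h.es.ne
    rw [c6, ← orderOf_coe, ← orderOf_coe, (show Commute p z from h.pz).orderOf_mul_eq_mul_orderOf_of_coprime
      (by rw [orderOf_eq_prime h.p3 h.p1, oz]; norm_num), orderOf_eq_prime h.p3 h.p1,
      oz]
  · have cp : ∀ n ∈ normalizer (zpowers p : Set G), ∀ k, k * p = p * k → n * k * n⁻¹ * p = p * (n * k * n⁻¹) :=
      fun n hn k c => by
        obtain ⟨j, hj⟩ := Transfer.conj_mem_of_mem_normalizer (inv_mem hn) (mem_zpowers p)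
        have e : p = n * p ^ j * n⁻¹ := by simp only at hj; rw [hj]; group
        nth_rw 1 [e]
        nth_rw 2 [e]
        rw [conj_mul, conj_mul, ((show Commute k p from c).zpow_right j).eq]
    have m := cp n hn z h.pz.symm
    obtain ⟨m', l⟩ := h.tot (mem_KK.2 ⟨h.cen_p F O np m, m⟩)
    have := cM l fun k hk => by
      have := h.cen_p F O np (cp _ (inv_mem hn) k (mem_KK.1 hk).2)
      calc _ = n * (n⁻¹ * k * n⁻¹⁻¹ * z) * n⁻¹ := by group
        _ = _ := by rw [this]; group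
    exact mem_cent_single.2 (mul_inv_eq_iff_eq_mul.1 ((h.ker_two (l.of_eq this) (by
      rw [conj_mul, zz, mul_one, mul_inv_cancel])).resolve_left fun e => h.es.ne (conj_eq_one_iff.1 e)))

end Cfsg.Lib.JF
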