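import Cfsg.Agent.Lib.Block2.JH2

/-! The orbit data `OB` from the counting data `OC`. -/

set_option autoImplicit false
set_option linter.unusedSectionVars false

namespace Cfsg.Lib.JF

open Subgroup Cfsg.Lib.Amalg Cfsg.Lib.Core Cfsg.Lib.Known2

variable {G Γ : Type*} [Group G] [Group Γ] {E : Subgroup G} {z p : G} {M : Subgroup Γ} {φ : KK z p →* Γ}
  {A1 A2 : Subgroup Γ} {t1 t2 t3 t4 a b i g f q : Γ}

theorem DD_cj {V : Subgroup G} {n t : G} (hn : n ∈ 𝐍 V) (ht : t ∈ DD V z) : n * t * n⁻¹ ∈ DD V z :=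
  ⟨(mem_normalizer_iff.1 hn t).1 ht.1, fun e => ht.2.1 (conj_eq_one_iff.1 e),
    fun c => ht.2.2 (c.trans (isConj_iff.2 ⟨n, rfl⟩).symm)⟩

namespace JS
variable [Finite G] (h : JS E z p M φ) (F : MF M A1 A2 t1 t2 t3 t4 a b i g f)
include h F

theorem zD_p {u : G} (hu : u ∈ Cm E φ A1) (hD : u ∈ DD (V0 E φ A1) z) : u * z ∈ DD (V0 E φ A1) z := by
  obtain ⟨e, he, n⟩ := h.es.exists_anti hu.1 hD.2.1 (fun k => hD.2.2 (k ▸ IsConj.refl _))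
  have := DD_cj (h.EN F he) hD
  rcases h.es.conj_eq he hu.1 with r | r
  · exact absurd (comm_of_conj_eq r) (by first | exact n | exact Ne.symm n)
  · rwa [r] at this

theorem U_cj {n u : G} (nz : n * z = z * n) (hn : n ∈ 𝐍 (V0 E φ A1)) (hu : u ∈ Cm E φ A1) : n * u * n⁻¹ ∈ Cm E φ A1 :=
  h.VE F ((mem_normalizer_iff.1 hn u).1 (mem_sup_left hu)) (h.ls.norm n nz u hu.1)

variable (F2 : MF2 M A1 t1 a b q)
include F2

theorem orbU_p (O : OC E φ A1 q) {y : G} (ly : L φ y q) (y5 : y ^ 5 = 1) {t : G} (hu : t ∈ Cm E φ A1)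
    (hD : t ∈ DD (V0 E φ A1) z) : ∃ n, n * z = z * n ∧ n ∈ 𝐍 (V0 E φ A1) ∧ n * t * n⁻¹ ∈ centralizer {y} := by
  have : Finite A1 := Nat.finite_of_card_ne_zero (by rw [F.c1]; norm_num)
  have : Fact (Nat.Prime 5) := ⟨by norm_num⟩
  have yN : y ∈ 𝐍 (V0 E φ A1) := (h.KN F ly).2 (mem_normalizer_of_cj_le (cj_le_iff'.2 F2.nq))
  have y1 : y ≠ 1 := fun e => F2.q1 (ly.uniq (e ▸ L.one))
  obtain ⟨Ω, hΩ⟩ : ∃ Ω : Set G, ∀ u, u ∈ Ω ↔ (u ∈ Cm E φ A1 ∧ u ∈ DD (V0 E φ A1) z) ∧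
      ¬ ∃ n, n * z = z * n ∧ n ∈ 𝐍 (V0 E φ A1) ∧ n * u * n⁻¹ ∈ centralizer {y} := ⟨{u | _}, fun _ => Iff.rfl⟩
  have inv : ∀ g, g * z = z * g → g ∈ 𝐍 (V0 E φ A1) → ∀ x ∈ Ω, g * x * g⁻¹ ∈ Ω := fun g gz gN x hx => by
    obtain ⟨⟨h1, h2⟩, h3⟩ := (hΩ x).1 hx
    refine (hΩ _).2 ⟨⟨h.U_cj F gz gN h1, DD_cj gN h2⟩, fun ⟨n, nz, nN, e⟩ => h3 ⟨n * g, ?_, mul_mem nN gN, ?_⟩⟩
    · rw [mul_assoc, gz, ← mul_assoc, nz, mul_assoc]
    · rwa [show n * g * x * (n * g)⁻¹ = n * (g * x * g⁻¹) * n⁻¹ by group]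
  have d1 := O.n9 Ω (fun u hu => ((hΩ u).1 hu).1.1) (fun e => ((hΩ _).1 e).1.2.2.1 rfl)
    (fun e => ((hΩ _).1 e).1.2.2.2 (IsConj.refl _)) inv
  have d2 : 5 ∣ Ω.ncard := dvd_ncard (P := zpowers y) Ω (fun g hg => inv g (by
      obtain ⟨n, rfl⟩ := hg
      exact ((show Commute y z from ly.kz).zpow_left n).eq) (zpowers_le.2 yN hg)) fun c hc => by
    have d := relIndex_dvd_card (centralizer {c}) (zpowers y)
    rw [Nat.card_zpowers, orderOf_eq_prime y5 y1] at d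
    rcases (Nat.dvd_prime (by norm_num)).1 d with k | k
    · refine (((hΩ c).1 hc).2 ⟨1, by simp, one_mem _, ?_⟩).elim
      rw [one_mul, inv_one, mul_one]
      exact mem_cent_single.2 (mem_cent_single.1 (relIndex_eq_one.1 k (mem_zpowers y))).symm
    · rw [k]
  have d3 : Ω.ncard ≤ 36 := O.nDU ▸ Set.ncard_le_ncard fun u hu => ((hΩ u).1 hu).1
  by_contra n
  have := (Set.ncard_pos (s := Ω)).2 ⟨t, (hΩ t).2 ⟨⟨hu, hD⟩, n⟩⟩
  omega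

theorem h1z (O : OC E φ A1 q) {t : G} (hD : t ∈ DD (V0 E φ A1) z) {c : G} (cz : c * z = z * c) (ct : c * t = t * c) :
    c ∈ 𝐍 (V0 E φ A1) := by
  have main : ∀ t ∈ V0 E φ A1, (∀ k m, L φ k m → k * t * k⁻¹ ∈ V0 E φ A1 → m ∈ 𝐍 A1) → ∀ c, c * z = z * c →
      c * t = t * c → c ∈ 𝐍 (V0 E φ A1) := fun t ht H c cz ct => by
    obtain ⟨k, m, l, e⟩ := h.allK F (W := cj c (V0 E φ A1)) (mem_cj'.2 ⟨z, h.zV, conj_eq_of_comm cz⟩)
      (sq_cj c (h.sqV F)) (by rw [card_cj, h.cardV F])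
    have kN := (h.KN F l).2 (H k m l (e.le (conj_mem_cj k (mem_cj'.2 ⟨t, ht, conj_eq_of_comm ct⟩))))
    rw [← cj_mul, cj_eq_self_iff] at e
    exact (mul_mem_cancel_left kN).1 e
  have tr : ∀ n t c, n * z = z * n → n ∈ 𝐍 (V0 E φ A1) → c * z = z * c → c * t = t * c →
      (∀ c, c * z = z * c → c * (n * t * n⁻¹) = n * t * n⁻¹ * c → c ∈ 𝐍 (V0 E φ A1)) → c ∈ 𝐍 (V0 E φ A1) :=
    fun n t c nz nN cz ct H => by
      have := H (n * c * n⁻¹) (by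
        conv_lhs => rw [← conj_eq_of_comm nz]
        conv_rhs => rw [← conj_eq_of_comm nz]
        rw [conj_mul, conj_mul, cz]) (by rw [conj_mul, conj_mul, ct])
      exact (mul_mem_cancel_left nN).1 ((mul_mem_cancel_right (inv_mem nN)).1 this)
  by_cases hu : t ∈ Cm E φ A1
  · obtain ⟨y, ly, y5, -, -⟩ := O.X
    obtain ⟨n, nz, nN, cy⟩ := h.orbU_p F F2 O ly y5 hu hD
    have hu' := h.U_cj F nz nN hu
    have hD' := DD_cj nN hD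
    refine tr n t c nz nN cz ct (main _ hD'.1 fun k m l e => ?_)
    generalize n * t * n⁻¹ = s at *
    by_contra nm
    have e2 := h.VE F e (h.nm l hu'.1)
    have yY : q ∈ img φ (centralizer {s}) := mem_img.2 ⟨y, mem_cent_single.2 (mem_cent_single.1 cy).symm, ly⟩
    obtain ⟨d, hd, m1, m2⟩ := F2.u2 m⁻¹ (inv_mem (h.mem l)) (fun k => nm (inv_mem_iff.1 k)) (img φ (centralizer {s}))
      (fun x hx => by
        obtain ⟨w, lw, ww⟩ := h.lift2 F (F.le1 hx) (F.sq1 x hx)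
        exact mem_img.2 ⟨w, mem_cent_single.2 ((mem_Cm.1 hu').2 w x hx lw ww), lw⟩)
      (fun j x hx => by
        obtain ⟨w, lw, ww⟩ := h.lift2 F (F.le1 hx) (F.sq1 x hx)
        refine mul_mem (mul_mem (pow_mem yY j) (mem_img.2 ⟨_, mem_cent_single.2 ?_, l.inv.cnj lw⟩)) (inv_mem (pow_mem yY j))
        have := (mem_Cm.1 e2).2 w x hx lw ww
        calc k⁻¹ * w * k⁻¹⁻¹ * s = k⁻¹ * (w * (k * s * k⁻¹)) * k := by group
          _ = _ := by rw [this]; group)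
    obtain ⟨r, lr⟩ := h.ex hd
    obtain ⟨x1, c1, l1⟩ := mem_img.1 m1
    obtain ⟨x2, c2, l2⟩ := mem_img.1 m2
    rcases h.nc F (w := r⁻¹ * s * r⁻¹⁻¹) ((lr.inv.cnj l1).of_eq (by group)) ((lr.inv.cnj l2).of_eq (by group))
      (h.nm lr.inv hu'.1) (by rw [conj_mul, conj_mul, mem_cent_single.1 c1])
      (by rw [conj_mul, conj_mul, mem_cent_single.1 c2]) with k | k
    · exact hD'.2.1 (conj_eq_one_iff.1 k)
    · exact hD'.2.2 (isConj_iff.2 ⟨_, k⟩).symm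
  · obtain ⟨e, he, s, hs, s1, sz, rfl⟩ := O.out t hD hu
    refine tr e⁻¹ _ c (h.es.cen _ (inv_mem he)) (inv_mem (h.EN F he)) cz ct ?_
    rw [show e⁻¹ * (e * s * e⁻¹) * e⁻¹⁻¹ = s by group]
    refine main s (h.hatV F hs) fun k m l e => ?_
    obtain ⟨⟨x, hx, lx⟩, ss⟩ := hs
    obtain ⟨⟨x', hx', lx'⟩, -⟩ := h.VK F e (l.cnj lx).kp.symm
    have x1 : x ≠ 1 := fun k => by
      rcases h.ker_two (lx.of_eq k) ss with r | r
      exacts [s1 r, sz r]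
    have e3 := (l.cnj lx).uniq lx'
    obtain ⟨k1, m1, n1, e1⟩ := F2.tr x hx x1
    obtain ⟨k2, m2, n2, e2⟩ := F2.tr x' hx' (fun k => x1 (conj_eq_one_iff.1 (e3.trans k)))
    have := F2.u1 (k2⁻¹ * m * k1) (mul_mem (mul_mem (inv_mem m2) (h.mem l)) m1) (comm_of_conj_eq (by
      rw [show k2⁻¹ * m * k1 * t1 * (k2⁻¹ * m * k1)⁻¹ = k2⁻¹ * (m * (k1 * t1 * k1⁻¹) * m⁻¹) * k2 by group, e1, e3, ← e2]
      group))
    exact (mul_mem_cancel_left (inv_mem n2)).1 ((mul_mem_cancel_right n1).1 this)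

theorem h1 (O : OC E φ A1 q) : ∀ w ∈ V0 E φ A1, w ≠ 1 → w ∉ DD (V0 E φ A1) z → ∀ t ∈ DD (V0 E φ A1) z,
    centralizer {w} ⊓ centralizer {t} ≤ 𝐍 (V0 E φ A1) := fun w hw w1 wD t ht c hc => by
  obtain ⟨n, nN, rfl⟩ := h.fus F h.zV hw (by_contra fun k => wD ⟨hw, w1, k⟩)
  have c1 := mem_cent_single.1 hc.1
  have c2 := mem_cent_single.1 hc.2
  have := h.h1z F F2 O (DD_cj (inv_mem nN) ht) (c := n⁻¹ * c * n⁻¹⁻¹) (by
    calc n⁻¹ * c * n⁻¹⁻¹ * z = n⁻¹ * (c * (n * z * n⁻¹)) * n := by group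
      _ = _ := by rw [c1]; group) (by rw [conj_mul, conj_mul, c2])
  exact (mul_mem_cancel_left (inv_mem nN)).1 ((mul_mem_cancel_right (inv_mem (inv_mem nN))).1 this)

theorem ob (O : OC E φ A1 q) : OB E φ A1 :=
  ⟨fun _ a b c => (h.allK F a b c).imp fun _ ⟨_, l, e⟩ => ⟨l.1, e⟩, h.memV F, O.nDU, fun _ => h.zD_p F, O.c16, O.one,
    h.h1 F F2 O⟩

end JS

end Cfsg.Lib.JF
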