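import Cfsg.Agent.Lib.Block2.JHp

/-! The fields `mu` and `cot` of the graph data on the standard `2^11`. -/

set_option autoImplicit false
set_option linter.unusedSectionVars false

namespace Cfsg.Lib.JF

open Subgroup Cfsg.Lib.Amalg Cfsg.Lib.Core Cfsg.Lib.Known2

variable {G Γ : Type*} [Group G] [Group Γ] {E : Subgroup G} {z p : G} {M : Subgroup Γ} {φ : KK z p →* Γ}
  {A1 A2 : Subgroup Γ} {t1 t2 t3 t4 a b i g f q : Γ}

theorem DD_cj_iff {V : Subgroup G} {n t : G} (hn : n ∈ 𝐍 V) : n * t * n⁻¹ ∈ DD V z ↔ t ∈ DD V z :=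
  ⟨fun k => by simpa [mul_assoc] using DD_cj (inv_mem hn) k, DD_cj hn⟩

namespace JS
variable [Finite G] (h : JS E z p M φ) (F : MF M A1 A2 t1 t2 t3 t4 a b i g f) (O : OC E φ A1 q)
include h F O

theorem outz_q {t : G} (hD : t ∈ DD (V0 E φ A1) z) (hu : t ∉ Cm E φ A1) : t * z ∉ DD (V0 E φ A1) z := by
  obtain ⟨e, he, s, hs, s1, sz, rfl⟩ := O.out t hD hu
  rw [← cjz (h.es.cen e he), DD_cj_iff (h.EN F he)]
  exact (O.one s hs s1 sz).1 ((DD_cj_iff (h.EN F he)).1 hD)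

omit O in
theorem red_q {t s : G} (ht : t ∈ DD (V0 E φ A1) z) (hs : s ∈ DD (V0 E φ A1) z) (n : t ≠ s)
    (k : t * s ∉ DD (V0 E φ A1) z) : ∃ n ∈ 𝐍 (V0 E φ A1), n * s * n⁻¹ = n * t * n⁻¹ * z := by
  have tt := h.sqV F t ht.1
  obtain ⟨m, hm, e⟩ := h.fus F (mul_mem ht.1 hs.1) h.zV (IsConj.symm (by_contra fun c => k ⟨mul_mem ht.1 hs.1, fun e => n (by
    rw [← mul_one t, ← e, ← mul_assoc, tt, one_mul]), c⟩))
  exact ⟨m, hm, by rw [← e, conj_mul, ← mul_assoc t, tt, one_mul]⟩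

theorem cot_q : ∀ t ∈ DD (V0 E φ A1) z, ∀ s ∈ DD (V0 E φ A1) z, t ≠ s → t * s ∉ DD (V0 E φ A1) z →
    ∀ a ∈ DD (V0 E φ A1) z, a * t ∈ DD (V0 E φ A1) z → (a * s ∈ DD (V0 E φ A1) z ↔ a * t * s ∈ DD (V0 E φ A1) z) := by
  intro t ht s hs n k x hx hxt
  obtain ⟨m, hm, e⟩ := h.red_q F ht hs n k
  rw [← DD_cj_iff hm] at ht hs hx hxt
  rw [← DD_cj_iff hm, ← DD_cj_iff (t := x * t * s) hm]
  rw [← conj_mul] at hxt
  rw [← conj_mul, ← conj_mul, ← conj_mul, e]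
  rw [e] at hs
  generalize m * t * m⁻¹ = t at *
  generalize m * x * m⁻¹ = x at *
  have tU : t ∈ Cm E φ A1 := by_contra fun c => h.outz_q F O ht c hs
  rw [← mul_assoc, ← mul_assoc, mul_assoc x t t, h.sqU F tU, mul_one]
  by_cases c : x ∈ Cm E φ A1
  · exact iff_of_true (h.zD_p F (mul_mem c tU) hxt) (h.zD_p F c hx)
  · exact iff_of_false (h.outz_q F O hxt fun d => c ((mul_mem_cancel_right tU).1 d)) (h.outz_q F O hx c)

variable (F2 : MF2 M A1 t1 a b q)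
include F2

theorem muz_q {y : G} (ly : L φ y q) (y5 : y ^ 5 = 1) {t w : G} (ht : t ∈ Cm E φ A1 ⊓ centralizer {y})
    (tD : t ∈ DD (V0 E φ A1) z) (hw : w ∈ Cm E φ A1) (wD : w ∈ DD (V0 E φ A1) z) (wt : w * t ∈ DD (V0 E φ A1) z) :
    w ∈ Cm E φ A1 ⊓ centralizer {y} := by
  have : Finite A1 := Nat.finite_of_card_ne_zero (by rw [F.c1]; norm_num)
  have : Fact (Nat.Prime 5) := ⟨by norm_num⟩
  have : Fact (Nat.Prime 3) := ⟨by norm_num⟩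
  have yN : y ∈ 𝐍 (V0 E φ A1) := (h.KN F ly).2 (mem_normalizer_of_cj_le (cj_le_iff'.2 F2.nq))
  have y1 : y ≠ 1 := fun e => F2.q1 (ly.uniq (e ▸ L.one))
  have zX : z ∈ Cm E φ A1 ⊓ centralizer {y} := ⟨h.z_Cm, mem_cent_single.2 ly.kz.symm⟩
  have XU : Cm E φ A1 ⊓ centralizer {y} ≤ Cm E φ A1 := inf_le_left
  have Xy : ∀ x ∈ Cm E φ A1 ⊓ centralizer {y}, x * y = y * x := fun x hx => mem_cent_single.1 hx.2
  have pX : p ∈ 𝐍 (Cm E φ A1 ⊓ centralizer {y}) := mem_normalizer_of_cj_le (cj_le_iff'.2 fun x hx =>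
    ⟨h.Cm_p hx.1, (centralizer {y}).mul_mem ((centralizer {y}).mul_mem (mem_cent_single.2 ly.kp.symm) hx.2)
      ((centralizer {y}).inv_mem (mem_cent_single.2 ly.kp.symm))⟩)
  have wX : w * y = y * w → w ∈ Cm E φ A1 ⊓ centralizer {y} := fun e => ⟨hw, mem_cent_single.2 e⟩
  generalize Cm E φ A1 ⊓ centralizer {y} = X at *
  have yX : y ∈ 𝐍 X := centralizer_le_normalizer _ Xy
  by_contra n
  let St : Subgroup G :=
    { carrier := {r | r ∈ 𝐍 X ∧ w⁻¹ * (r * w * r⁻¹) ∈ X}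
      one_mem' := ⟨one_mem _, by simp⟩
      mul_mem' := fun {r s} ⟨a1, a2⟩ ⟨b1, b2⟩ => ⟨mul_mem a1 b1, by
        rw [show w⁻¹ * (r * s * w * (r * s)⁻¹) = w⁻¹ * (r * w * r⁻¹) * (r * (w⁻¹ * (s * w * s⁻¹)) * r⁻¹) by group]
        exact mul_mem a2 ((mem_normalizer_iff.1 a1 _).1 b2)⟩
      inv_mem' := fun {r} ⟨a1, a2⟩ => ⟨inv_mem a1, by
        rw [show w⁻¹ * (r⁻¹ * w * r⁻¹⁻¹) = r⁻¹ * (w⁻¹ * (r * w * r⁻¹))⁻¹ * r by group]
        exact (mem_normalizer_iff''.1 a1 _).1 (inv_mem a2)⟩ }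
  have mS : ∀ r, r ∈ St ↔ r ∈ 𝐍 X ∧ w⁻¹ * (r * w * r⁻¹) ∈ X := fun _ => Iff.rfl
  clear_value St
  have ww := h.sqU F hw
  have np : p ∉ St := fun k => by
    have x1 := ((mS _).1 k).2
    have x2 := ((mS _).1 (mul_mem k k)).2
    have e : w * (p * w * p⁻¹) * (p * (p * w * p⁻¹) * p⁻¹) =
        (w * w) * (w⁻¹ * (p * w * p⁻¹)) * w * (w⁻¹ * (p * p * w * (p * p)⁻¹)) := by group
    have m : w * (p * w * p⁻¹) * (p * (p * w * p⁻¹) * p⁻¹) ∈ X := by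
      rcases h.tri hw.1 with r | r <;> rw [r]
      exacts [one_mem _, zX]
    rw [e, ww, one_mul] at m
    exact n ((mul_mem_cancel_left x1).1 ((mul_mem_cancel_right x2).1 m))
  have ny : y ∉ St := fun k => by
    have x1 := ((mS _).1 k).2
    obtain ⟨x, hx⟩ : ∃ x, x = w⁻¹ * (y * w * y⁻¹) := ⟨_, rfl⟩
    rw [← hx] at x1
    have e : y * w * y⁻¹ = w * x := by rw [hx]; group
    have e2 : Commute (y ^ 2) w := comm_of_conj_eq (by
      rw [show y ^ 2 * w * (y ^ 2)⁻¹ = y * (y * w * y⁻¹) * y⁻¹ by rw [pow_two]; group, e, ← conj_mul, e,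
        conj_eq_of_comm (Xy x x1).symm, mul_assoc, h.sqU F (XU x1), mul_one])
    have e3 := e2.pow_left 3
    rw [← pow_mul, show 2 * 3 = 5 + 1 from rfl, pow_succ, y5, one_mul] at e3
    exact n (wX e3.symm)
  have c : Commute p y := ly.kp.symm
  have op : orderOf p = 3 := orderOf_eq_prime h.p3 h.p1
  have oy : orderOf y = 5 := orderOf_eq_prime y5 y1
  have o15 : orderOf (p * y) = 15 := by
    rw [c.orderOf_mul_eq_mul_orderOf_of_coprime (by rw [op, oy]; norm_num), op, oy]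
  have fr : ∀ r ∈ zpowers (p * y), r ∈ St → r = 1 := by
    rintro _ ⟨k, rfl⟩ hr
    change (p * y) ^ k ∈ St at hr
    change (p * y) ^ k = 1
    rw [c.mul_zpow] at hr ⊢
    have c2 : Commute (p ^ k) (y ^ k) := c.zpow_zpow k k
    have a3 : (p ^ k) ^ 3 = 1 := by rw [← zpow_natCast, ← zpow_mul, mul_comm, zpow_mul, zpow_natCast, h.p3, one_zpow]
    have a5 : (y ^ k) ^ 5 = 1 := by rw [← zpow_natCast, ← zpow_mul, mul_comm, zpow_mul, zpow_natCast, y5, one_zpow]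
    have b1 := pow_mem hr 10
    have b2 := pow_mem hr 6
    rw [c2.mul_pow, show (y ^ k) ^ 10 = 1 by rw [show 10 = 5 * 2 from rfl, pow_mul, a5, one_pow], mul_one,
      show 10 = 3 * 3 + 1 from rfl, pow_succ, pow_mul, a3, one_pow, one_mul] at b1
    rw [c2.mul_pow, show (p ^ k) ^ 6 = 1 by rw [show 6 = 3 * 2 from rfl, pow_mul, a3, one_pow], one_mul,
      show 6 = 5 + 1 from rfl, pow_succ, a5, one_mul] at b2
    have e1 : p ^ k = 1 := by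
      rcases h.zp (zpow_mem_zpowers p k) with r | r | r
      · exact r
      · exact absurd (r ▸ b1) np
      · exact absurd (inv_mem_iff.1 (r ▸ b1)) np
    have e2 : y ^ k = 1 := by
      by_contra r
      obtain ⟨j, e⟩ := mem_zpowers_of_prime_card (G := zpowers y) (p := 5) (by rw [Nat.card_zpowers, oy])
        (g := ⟨_, zpow_mem_zpowers y k⟩) (g' := ⟨y, mem_zpowers y⟩) fun e => r (congrArg Subtype.val e)
      have e : (y ^ k) ^ j = y := by simpa using congrArg Subtype.val e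
      exact ny (e ▸ zpow_mem b2 j)
    rw [e1, e2, one_mul]
  have RN : zpowers (p * y) ≤ 𝐍 X := zpowers_le.2 (mul_mem pX yX)
  have RV : zpowers (p * y) ≤ 𝐍 (V0 E φ A1) := zpowers_le.2 (mul_mem (h.pN F) yN)
  have Rz : zpowers (p * y) ≤ centralizer {z} := zpowers_le.2 (mem_cent_single.2 (h.Lp.mul ly).kz)
  let f : zpowers (p * y) × {x | x ∈ X ∧ w * x ∈ DD (V0 E φ A1) z} → {u | u ∈ Cm E φ A1 ∧ u ∈ DD (V0 E φ A1) z} :=
    fun u => ⟨u.1 * (w * u.2) * (u.1 : G)⁻¹, h.U_cj F (mem_cent_single.1 (Rz u.1.2)) (RV u.1.2) (mul_mem hw (XU u.2.2.1)),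
      DD_cj (RV u.1.2) u.2.2.2⟩
  have inj : Function.Injective f := by
    rintro ⟨⟨r, hr⟩, x, hx⟩ ⟨⟨r', hr'⟩, x', hx'⟩ e
    have e : r * (w * x) * r⁻¹ = r' * (w * x') * r'⁻¹ := congrArg Subtype.val e
    have m := mul_mem (inv_mem hr') hr
    have e1 := fr _ m ((mS _).2 ⟨RN m, by
      rw [show w⁻¹ * (r'⁻¹ * r * w * (r'⁻¹ * r)⁻¹) =
        w⁻¹ * (r'⁻¹ * (r * (w * x) * r⁻¹) * r') * ((r'⁻¹ * r) * x⁻¹ * (r'⁻¹ * r)⁻¹) by group, e]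
      refine mul_mem ?_ ((mem_normalizer_iff.1 (RN m) _).1 (inv_mem hx.1))
      rw [show w⁻¹ * (r'⁻¹ * (r' * (w * x') * r'⁻¹) * r') = x' by group]
      exact hx'.1⟩)
    obtain rfl := inv_mul_eq_one.1 e1
    obtain rfl : x = x' := by simpa using e
    rfl
  have cc := Nat.card_le_card_of_injective f inj
  rw [Nat.card_prod, Nat.card_zpowers, o15, Nat.card_coe_set_eq, Nat.card_coe_set_eq, O.nDU] at cc
  have := (Set.two_lt_ncard_iff (s := {x | x ∈ X ∧ w * x ∈ DD (V0 E φ A1) z})).2 ⟨1, z, t, ⟨one_mem _, by rwa [mul_one]⟩,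
    ⟨zX, h.zD_p F hw wD⟩, ⟨ht, wt⟩, h.es.ne.symm, tD.2.1.symm, fun k => tD.2.2 (k ▸ IsConj.refl _)⟩
  omega

theorem mu_q : ∀ t ∈ DD (V0 E φ A1) z, ∀ s ∈ DD (V0 E φ A1) z, t ≠ s → t * s ∉ DD (V0 E φ A1) z →
    ∃ X : Subgroup G, Nat.card X = 8 ∧ t ∈ X ∧ s ∈ X ∧ (∀ x ∈ X, x ≠ 1 → x ≠ t * s → x ∈ DD (V0 E φ A1) z) ∧
      ∀ w ∈ DD (V0 E φ A1) z, w * t ∈ DD (V0 E φ A1) z → w * s ∈ DD (V0 E φ A1) z → w ∈ X := by
  intro t ht s hs n k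
  obtain ⟨m0, hm0, e0⟩ := h.red_q F ht hs n k
  obtain ⟨y, ly, y5, cX, XD⟩ := O.X
  have tU : ∀ t ∈ DD (V0 E φ A1) z, t * z ∈ DD (V0 E φ A1) z → t ∈ Cm E φ A1 := fun t ht hs =>
    by_contra fun c => h.outz_q F O ht c hs
  have u0 := tU _ (DD_cj hm0 ht) (e0 ▸ DD_cj hm0 hs)
  obtain ⟨m1, z1, hm1, cy⟩ := h.orbU_p F F2 O ly y5 u0 (DD_cj hm0 ht)
  have u1 := h.U_cj F z1 hm1 u0
  have hm := mul_mem hm1 hm0
  have r : ∀ x, m1 * (m0 * x * m0⁻¹) * m1⁻¹ = m1 * m0 * x * (m1 * m0)⁻¹ := fun x => by group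
  have e : m1 * m0 * s * (m1 * m0)⁻¹ = m1 * m0 * t * (m1 * m0)⁻¹ * z := by rw [← r, ← r, e0, cjz z1]
  rw [r] at cy u1
  generalize m1 * m0 = m at *
  have zX : z ∈ Cm E φ A1 ⊓ centralizer {y} := ⟨h.z_Cm, mem_cent_single.2 ly.kz.symm⟩
  have mm : ∀ x, x ∈ cj m⁻¹ (Cm E φ A1 ⊓ centralizer {y}) ↔ m * x * m⁻¹ ∈ Cm E φ A1 ⊓ centralizer {y} := fun x => by
    rw [mem_cj, inv_inv]
  refine ⟨cj m⁻¹ (Cm E φ A1 ⊓ centralizer {y}), by rw [card_cj, cX], (mm _).2 ⟨u1, cy⟩,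
    (mm _).2 (e ▸ mul_mem ⟨u1, cy⟩ zX), fun x hx x1 xz => (DD_cj_iff hm).1 (XD _ ((mm _).1 hx)
      (fun k => x1 (conj_eq_one_iff.1 k)) fun k => xz ?_), fun w hw wt ws => (mm _).2 ?_⟩
  · have : m * (t * s) * m⁻¹ = z := by rw [← conj_mul, e, ← mul_assoc, h.sqU F u1, one_mul]
    simpa using k.trans this.symm
  · have a1 := DD_cj hm wt
    have a2 := DD_cj hm ws
    rw [← conj_mul] at a1 a2
    rw [e, ← mul_assoc] at a2
    exact h.muz_q F O F2 ly y5 ⟨u1, cy⟩ (DD_cj hm ht) ((mul_mem_cancel_right u1).1 (tU _ a1 a2)) (DD_cj hm hw) a1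

end JS

end Cfsg.Lib.JF
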