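import Cfsg.Agent.Lib.Block2.JHq

/-! The graph data on the standard `2^11`. -/

set_option autoImplicit false
set_option linter.unusedSectionVars false

namespace Cfsg.Lib.JF

open Subgroup Cfsg.Lib.Amalg Cfsg.Lib.Core Cfsg.Lib.Known2

variable {G Γ : Type*} [Group G] [Group Γ] {E : Subgroup G} {z p : G} {M : Subgroup Γ} {φ : KK z p →* Γ}
  {A1 A2 : Subgroup Γ} {t1 t2 t3 t4 a b i g f q : Γ}

theorem dc_r {α : Type*} [Finite α] (S T : Set α) (r : α → α → Prop) {m n : ℕ}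
    (h1 : ∀ a ∈ S, {b | b ∈ T ∧ r a b}.ncard = m) (h2 : ∀ b ∈ T, {a | a ∈ S ∧ r a b}.ncard = n) :
    S.ncard * m = T.ncard * n := by
  classical
  have := Fintype.ofFinite α
  rw [Set.ncard_eq_toFinset_card' S, Set.ncard_eq_toFinset_card' T]
  refine Finset.card_mul_eq_card_mul r (fun a ha => ?_) fun b hb => ?_
  · rw [← h1 a (by simpa using ha), ← Set.ncard_coe_finset]
    congr 1; ext; simp
  · rw [← h2 b (by simpa using hb), ← Set.ncard_coe_finset]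
    congr 1; ext; simp

theorem ncard_cj_r (g : G) {S T : Set G} (h : ∀ x, g * x * g⁻¹ ∈ T ↔ x ∈ S) : T.ncard = S.ncard := by
  rw [← Set.ncard_image_of_injective S (MulAut.conj g).injective]
  congr 1
  ext x
  exact ⟨fun k => ⟨g⁻¹ * x * g, (h _).1 (by simpa [mul_assoc] using k), by simp [mul_assoc]⟩,
    fun ⟨y, hy, e⟩ => e ▸ (h y).2 hy⟩

theorem tri_r [Finite G] {V : Subgroup G} (z1 : z ≠ 1) (P : G → Prop) (P1 : P 1) : {v | v ∈ V ∧ P v}.ncard =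
    {v | v ∈ DD V z ∧ P v}.ncard + {v | (v ∈ V ∧ IsConj z v) ∧ P v}.ncard + 1 := by
  rw [← Set.ncard_union_eq (Set.disjoint_left.2 fun v h1 h2 => h1.1.2.2 h2.1.2), ← Set.ncard_insert_of_notMem (a := 1) (by
    rintro (k | k)
    exacts [k.1.2.1 rfl, z1 (isConj_one_left.1 k.1.2)])]
  congr 1
  ext v
  constructor
  · rintro ⟨h1, h2⟩
    by_cases e : v = 1
    · exact Or.inl e
    by_cases c : IsConj z v
    exacts [Or.inr (Or.inr ⟨⟨h1, c⟩, h2⟩), Or.inr (Or.inl ⟨⟨h1, e, c⟩, h2⟩)]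
  · rintro (rfl | k | k)
    exacts [⟨one_mem _, P1⟩, ⟨k.1.1, k.2⟩, ⟨k.1.1, k.2⟩]

namespace JS
variable [Finite G] (h : JS E z p M φ) (F : MF M A1 A2 t1 t2 t3 t4 a b i g f)
include h F

theorem cD_r (O : OC E φ A1 q) : (DD (V0 E φ A1) z).ncard = 276 := by
  have := tri_r (V := V0 E φ A1) h.es.ne (fun _ => True) trivial
  simp only [and_true] at this
  rw [O.nZ] at this
  have c : {v | v ∈ V0 E φ A1}.ncard = 2 ^ 11 := h.cardV F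
  change _ = (DD (V0 E φ A1) z).ncard + _ + _ at this
  omega

theorem cN_r (O : OC E φ A1 q) : Nat.card (𝐍 (V0 E φ A1)) = 2 ^ 11 * 244823040 := by
  rw [card_orb _ z, inf_comm, O.cN1, show {y | ∃ g ∈ 𝐍 (V0 E φ A1), g * z * g⁻¹ = y} = {v | v ∈ V0 E φ A1 ∧ IsConj z v} from
    Set.ext fun v => ⟨fun ⟨n, hn, e⟩ => ⟨e ▸ (mem_normalizer_iff.1 hn z).1 h.zV, isConj_iff.2 ⟨n, e⟩⟩,
      fun k => h.fus F h.zV k.1 k.2⟩, O.nZ]
  norm_num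

theorem exDU_r (O : OC E φ A1 q) : ∃ t ∈ Cm E φ A1, t ∈ DD (V0 E φ A1) z :=
  (Set.ncard_pos (s := {u | u ∈ Cm E φ A1 ∧ u ∈ DD (V0 E φ A1) z})).1 (by rw [O.nDU]; norm_num)

theorem gen_r (O : OC E φ A1 q) : V0 E φ A1 ≤ closure (DD (V0 E φ A1) z) := fun v hv => by
  by_cases e : v = 1
  · exact e ▸ one_mem _
  by_cases c : IsConj z v
  · obtain ⟨t, tU, tD⟩ := h.exDU_r F O
    obtain ⟨n, hn, rfl⟩ := h.fus F h.zV hv c
    rw [show n * z * n⁻¹ = n * t * n⁻¹ * (n * (t * z) * n⁻¹) by rw [conj_mul, ← mul_assoc t, h.sqU F tU, one_mul]]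
    exact mul_mem (subset_closure (DD_cj hn tD)) (subset_closure (DD_cj hn (h.zD_p F tU tD)))
  · exact subset_closure ⟨hv, e, c⟩

variable (F2 : MF2 M A1 t1 a b q) (O : OC E φ A1 q)
include F2 O

theorem trOut_r {t s : G} (ht : t ∈ DD (V0 E φ A1) z) (hs : s ∈ DD (V0 E φ A1) z) (nt : t ∉ Cm E φ A1)
    (ns : s ∉ Cm E φ A1) : ∃ n, n * z = z * n ∧ n ∈ 𝐍 (V0 E φ A1) ∧ n * t * n⁻¹ = s := by
  obtain ⟨e, he, x, hx, x1, xz, rfl⟩ := O.out t ht nt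
  obtain ⟨e', he', x', hx', x1', xz', rfl⟩ := O.out s hs ns
  rw [DD_cj_iff (h.EN F he)] at ht
  rw [DD_cj_iff (h.EN F he')] at hs
  have n1 := (O.one x' hx' x1' xz').1 hs
  obtain ⟨⟨m, hm, l⟩, xx⟩ := hx
  obtain ⟨⟨m', hm', l'⟩, xx'⟩ := hx'
  obtain ⟨k1, m1, n1', rfl⟩ := F2.tr m hm (fun k => by
    rcases h.ker_two (l.of_eq k) xx with r | r
    exacts [x1 r, xz r])
  obtain ⟨k2, m2, n2', rfl⟩ := F2.tr m' hm' (fun k => by
    rcases h.ker_two (l'.of_eq k) xx' with r | r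
    exacts [x1' r, xz' r])
  obtain ⟨d, ld⟩ := h.ex (mul_mem m2 (inv_mem m1))
  have dN := (h.KN F ld).2 (mul_mem n2' (inv_mem n1'))
  rcases h.lift_eq l' ((ld.cnj l).of_eq (by group)) xx' (by rw [conj_mul, xx]; group) with r | r
  · refine ⟨e' * d * e⁻¹, mem_cent_single.1 (mul_mem (mul_mem (mem_cent_single.2 (h.es.cen _ he')) (mem_cent_single.2 ld.kz))
      (inv_mem (mem_cent_single.2 (h.es.cen _ he)))), mul_mem (mul_mem (h.EN F he') dN) (inv_mem (h.EN F he)), ?_⟩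
    rw [← r]; group
  · exact absurd (r ▸ DD_cj dN ht) n1

theorem trIn_r {t s : G} (ht : t ∈ DD (V0 E φ A1) z) (hs : s ∈ DD (V0 E φ A1) z) (ut : t ∈ Cm E φ A1)
    (us : s ∈ Cm E φ A1) : ∃ n, n * z = z * n ∧ n ∈ 𝐍 (V0 E φ A1) ∧ n * t * n⁻¹ = s := by
  obtain ⟨y, ly, y5, cX, -⟩ := O.X
  obtain ⟨n1, z1, N1, c1⟩ := h.orbU_p F F2 O ly y5 ut ht
  obtain ⟨n2, z2, N2, c2⟩ := h.orbU_p F F2 O ly y5 us hs
  have zX : z ∈ Cm E φ A1 ⊓ centralizer {y} := ⟨h.z_Cm, mem_cent_single.2 ly.kz.symm⟩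
  have pc : p ∈ centralizer {y} := mem_cent_single.2 ly.kp.symm
  obtain ⟨Ω, hΩ⟩ : ∃ Ω : Set G, ∀ u, u ∈ Ω ↔ u ∈ Cm E φ A1 ⊓ centralizer {y} ∧
      ∃ n, n * z = z * n ∧ n ∈ 𝐍 (V0 E φ A1) ∧ n * t * n⁻¹ = u := ⟨{u | _}, fun _ => Iff.rfl⟩
  have st : ∀ g u, g * z = z * g → g ∈ 𝐍 (V0 E φ A1) → u ∈ Ω → g * u * g⁻¹ ∈ Cm E φ A1 ⊓ centralizer {y} →
      g * u * g⁻¹ ∈ Ω := fun g u gz gN hu k => by
    obtain ⟨-, n, nz, nN, rfl⟩ := (hΩ u).1 hu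
    exact (hΩ _).2 ⟨k, g * n, by rw [mul_assoc, nz, ← mul_assoc, gz, mul_assoc], mul_mem gN nN, by group⟩
  have ne : ∀ u ∈ Ω, u ≠ 1 ∧ u ≠ z := fun u hu => by
    obtain ⟨-, n, -, nN, rfl⟩ := (hΩ u).1 hu
    have := DD_cj nN ht
    exact ⟨this.2.1, fun k => this.2.2 (k ▸ IsConj.refl _)⟩
  have d2 : 2 ∣ Ω.ncard := dvd_ncard (P := E) Ω (fun e he u hu => st e u (h.es.cen e he) (h.EN F he) hu (by
      have m := ((hΩ u).1 hu).1
      rcases h.es.conj_eq he m.1.1 with r | r <;> rw [r]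
      exacts [m, mul_mem m zX])) fun u hu => by
    have m := ((hΩ u).1 hu).1
    obtain ⟨e, he, n⟩ := h.es.exists_anti m.1.1 (ne u hu).1 (ne u hu).2
    have c := es_two h.es le_rfl m.1.1 he (by first | exact n | exact Ne.symm n)
    have c' := card_inf_mul_relIndex (centralizer {u}) E
    rw [inf_comm, c, mul_comm 2] at c'
    rw [Nat.eq_of_mul_eq_mul_left Nat.card_pos c']
  have d3 : 3 ∣ Ω.ncard := dvd_ncard (P := zpowers p) Ω (fun r hr u hu => by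
      have rz : r * z = z * r := mem_cent_single.1 (zpowers_le.2 (mem_cent_single.2 h.pz) hr)
      have rN := zpowers_le.2 (h.pN F) hr
      have m := ((hΩ u).1 hu).1
      have rc := zpowers_le.2 pc hr
      exact st r u rz rN hu ⟨h.U_cj F rz rN m.1, (centralizer {y}).mul_mem ((centralizer {y}).mul_mem rc m.2)
        ((centralizer {y}).inv_mem rc)⟩) fun u hu => by
    have d := relIndex_dvd_card (centralizer {u}) (zpowers p)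
    rw [h.card_p] at d
    rcases (Nat.dvd_prime Nat.prime_three).1 d with k | k
    · rcases h.fp u ((hΩ u).1 hu).1.1.1 (mem_cent_single.1 (relIndex_eq_one.1 k (mem_zpowers p))) with e | e
      exacts [absurd e (ne u hu).1, absurd e (ne u hu).2]
    · rw [k]
  have s0 : ({1, z} : Set G) ⊆ (Cm E φ A1 ⊓ centralizer {y} : Subgroup G) := by rintro _ (rfl | rfl); exacts [one_mem _, zX]
  have c6 := Set.ncard_sdiff_add_ncard_of_subset s0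
  rw [Set.ncard_pair h.es.ne.symm, show ((Cm E φ A1 ⊓ centralizer {y} : Subgroup G) : Set G).ncard = 8 from cX] at c6
  have sub : Ω ⊆ ((Cm E φ A1 ⊓ centralizer {y} : Subgroup G) : Set G) \ {1, z} := fun u hu =>
    ⟨((hΩ u).1 hu).1, fun k => k.elim (ne u hu).1 (ne u hu).2⟩
  have pos := (Set.ncard_pos (s := Ω)).2 ⟨_, (hΩ _).2 ⟨⟨h.U_cj F z1 N1 ut, c1⟩, n1, z1, N1, rfl⟩⟩
  have eq := Set.eq_of_subset_of_ncard_le sub (by omega)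
  have sD := DD_cj N2 hs
  obtain ⟨-, n, nz, nN, e⟩ := (hΩ _).1 (eq.ge (show n2 * s * n2⁻¹ ∈ _ from ⟨⟨h.U_cj F z2 N2 us, c2⟩, fun k =>
    k.elim sD.2.1 fun k => sD.2.2 (by rw [show n2 * s * n2⁻¹ = z from k])⟩))
  refine ⟨n2⁻¹ * n, mem_cent_single.1 (mul_mem (inv_mem (mem_cent_single.2 z2)) (mem_cent_single.2 nz)),
    mul_mem (inv_mem N2) nN, ?_⟩
  rw [show n2⁻¹ * n * t * (n2⁻¹ * n)⁻¹ = n2⁻¹ * (n * t * n⁻¹) * n2 by group, e]; group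

theorem trD : ∀ t ∈ DD (V0 E φ A1) z, ∀ s ∈ DD (V0 E φ A1) z, ∃ g ∈ 𝐍 (V0 E φ A1), g * t * g⁻¹ = s := by
  obtain ⟨t0, u0, d0, n0, N0, o0⟩ : ∃ t ∈ Cm E φ A1, t ∈ DD (V0 E φ A1) z ∧ ∃ n ∈ 𝐍 (V0 E φ A1), n * t * n⁻¹ ∉ Cm E φ A1 := by
    by_contra k
    push Not at k
    obtain ⟨t, tU, tD⟩ := h.exDU_r F O
    have : {v | v ∈ V0 E φ A1 ∧ IsConj z v} ⊆ Cm E φ A1 := fun v hv => by
      obtain ⟨n, hn, rfl⟩ := h.fus F h.zV hv.1 hv.2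
      rw [show n * z * n⁻¹ = n * t * n⁻¹ * (n * (t * z) * n⁻¹) by rw [conj_mul, ← mul_assoc t, h.sqU F tU, one_mul]]
      exact mul_mem (k t tU tD n hn) (k _ (mul_mem tU h.z_Cm) (h.zD_p F tU tD) n hn)
    have := Set.ncard_le_ncard this
    rw [O.nZ, show (Cm E φ A1 : Set G).ncard = 2 ^ 7 from h.cardU F] at this
    omega
  have key : ∀ t ∈ DD (V0 E φ A1) z, ∃ g ∈ 𝐍 (V0 E φ A1), g * t0 * g⁻¹ = t := fun t ht => by
    by_cases c : t ∈ Cm E φ A1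
    · obtain ⟨n, -, nN, e⟩ := h.trIn_r F F2 O d0 ht u0 c
      exact ⟨n, nN, e⟩
    · obtain ⟨n, -, nN, e⟩ := h.trOut_r F F2 O (DD_cj N0 d0) ht o0 c
      exact ⟨n * n0, mul_mem nN N0, by rw [← e]; group⟩
  intro t ht s hs
  obtain ⟨g1, h1, rfl⟩ := key t ht
  obtain ⟨g2, h2, rfl⟩ := key s hs
  exact ⟨g2 * g1⁻¹, mul_mem h2 (inv_mem h1), by group⟩

theorem val_r : ∀ t ∈ DD (V0 E φ A1) z, {s | s ∈ DD (V0 E φ A1) z ∧ s * t ∈ DD (V0 E φ A1) z}.ncard = 44 := by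
  intro t ht
  have Zc : ∀ n ∈ 𝐍 (V0 E φ A1), ∀ x, (n * x * n⁻¹ ∈ V0 E φ A1 ∧ IsConj z (n * x * n⁻¹)) ↔ x ∈ V0 E φ A1 ∧ IsConj z x :=
    fun n hn x => and_congr (mem_normalizer_iff.1 hn x).symm
      ⟨fun k => k.trans (isConj_iff.2 ⟨n, rfl⟩).symm, fun k => k.trans (isConj_iff.2 ⟨n, rfl⟩)⟩
  have c := dc_r (DD (V0 E φ A1) z) {v | v ∈ V0 E φ A1 ∧ IsConj z v} (fun s w => s * w ∈ DD (V0 E φ A1) z)
    (m := {w | (w ∈ V0 E φ A1 ∧ IsConj z w) ∧ t * w ∈ DD (V0 E φ A1) z}.ncard) (n := 36) (fun s hs => by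
      obtain ⟨n, hn, rfl⟩ := h.trD F F2 O t ht s hs
      exact ncard_cj_r n fun x => and_congr (Zc n hn x) (by rw [conj_mul, DD_cj_iff hn])) fun w hw => by
      obtain ⟨n, hn, rfl⟩ := h.fus F h.zV hw.1 hw.2
      rw [← O.nDU]
      refine ncard_cj_r n fun x => ?_
      change _ ∧ _ ↔ _ ∧ _
      rw [conj_mul, DD_cj_iff hn, DD_cj_iff hn]
      exact ⟨fun k => ⟨by_contra fun c => h.outz_q F O k.1 c k.2, k.1⟩, fun k => ⟨k.2, h.zD_p F k.1 k.2⟩⟩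
  rw [h.cD_r F O, O.nZ] at c
  have c2 := tri_r (V := V0 E φ A1) h.es.ne (fun w => t * w ∈ DD (V0 E φ A1) z) (by rwa [mul_one])
  have c3 : {v | v ∈ V0 E φ A1 ∧ t * v ∈ DD (V0 E φ A1) z}.ncard = 276 := by
    rw [← h.cD_r F O, ← Set.ncard_image_of_injective _ (mul_right_injective t)]
    congr 1
    ext x
    exact ⟨fun ⟨y, hy, e⟩ => e ▸ hy.2, fun k => ⟨t⁻¹ * x, ⟨mul_mem (inv_mem ht.1) k.1, by simpa using k⟩, by simp⟩⟩
  rw [show {s | s ∈ DD (V0 E φ A1) z ∧ s * t ∈ DD (V0 E φ A1) z} = {s | s ∈ DD (V0 E φ A1) z ∧ t * s ∈ DD (V0 E φ A1) z} from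
    Set.ext fun s => and_congr_right fun hs => by rw [h.commV F hs.1 ht.1]]
  omega

theorem gd : GD (V0 E φ A1) (DD (V0 E φ A1) z) :=
  ⟨h.sqV F, h.cardV F, fun _ hd => ⟨hd.1, hd.2.1⟩, h.cD_r F O, h.gen_r F O, fun _ hg _ hd => DD_cj hg hd,
    h.val_r F F2 O, h.mu_q F O F2, h.cot_q F O, h.cenV F, h.cN_r F O⟩

end JS

end Cfsg.Lib.JF
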