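import Cfsg.Agent.Lib.Block2.JGt

/-! The centraliser of a duad involution in a group of Janko-four type. -/

set_option autoImplicit false
set_option maxRecDepth 100000

namespace Cfsg.Lib.JF

open Subgroup Cfsg.Lib.Amalg Cfsg.Lib.Core Cfsg.Lib.Golay Spor MulAction
open scoped Pointwise symmDiff

/-- the stabiliser of a duad in `M24`. -/
abbrev DuS : Subgroup (Equiv.Perm GolayPt) := M24 ⊓ stabilizer (Equiv.Perm GolayPt) ({none, some 0} : Finset GolayPt)

theorem card_DuS : Nat.card DuS = 887040 := by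
  have := (stab_set_cert gen_gM24p inH_gM24p 0x800001 (by norm_num) (n := 276) (N := 887040) card_M24
    (by decide +kernel)).2
  rwa [show om 0x800001 = {none, some 0} by decide +kernel] at this

theorem DuS_mem {g : Equiv.Perm GolayPt} (hg : g ∈ DuS) (x : GolayPt) :
    (g x = none ∨ g x = some 0) ↔ (x = none ∨ x = some 0) := by
  simpa using apply_mem_iff_of_smul_eq hg.2 x

theorem DuS_le : DuS ≤ 𝐍 M22 := le_normalizer_of_cj_le fun g hg => cj_le_iff'.2 fun m hm => by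
  have key : ∀ x, x = none ∨ x = some 0 → (g * m * g⁻¹) x = x := fun x hx => by
    have : m (g⁻¹ x) = g⁻¹ x := by
      rcases (DuS_mem (inv_mem hg) x).2 hx with e | e <;> rw [e]
      exacts [(mem_M22.1 hm).2.1, (mem_M22.1 hm).2.2]
    rw [Equiv.Perm.mul_apply, Equiv.Perm.mul_apply, this]; simp
  exact mem_M22.2 ⟨mul_mem (mul_mem hg.1 (M22_le hm)) (inv_mem hg.1), key _ (Or.inl rfl), key _ (Or.inr rfl)⟩

theorem DuS_iso : Nonempty (DuS ≃* MulAut M22) := by
  let f : DuS →* MulAut M22 := M22.normalizerMonoidHom.comp (inclusion DuS_le)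
  have inj : Function.Injective f := (injective_iff_map_eq_one _).2 fun g e => by
    have c : ∀ m ∈ M22, g.1 * m = m * g.1 := fun m hm =>
      mul_inv_eq_iff_eq_mul.1 (congrArg (fun φ : MulAut M22 => (φ ⟨m, hm⟩ : Equiv.Perm GolayPt)) e)
    have hy := inH_gM21 0x1703121114020f0d090b0a07150c041316050e0810060100 (by simp [gM21])
    have f1 : g.1 (some 1) = some 1 := by
      have a := fix_of_comm (c _ hy.2.1) (mem_M21.1 hy.2).2.2.2
      have b : (Finset.univ.filter fun p => gc.dec 0x1703121114020f0d090b0a07150c041316050e0810060100 p = p) =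
          om 0x800003 := hy.1.filter_fix (by decide +kernel)
      have d : g.1 (some 1) ∈ om 0x800003 := b ▸ Finset.mem_filter.2 ⟨Finset.mem_univ _, a⟩
      rw [show om 0x800003 = {none, some 0, some 1} by decide +kernel] at d
      have := (DuS_mem g.2 (some 1)).not.2 (by decide)
      simp only [Finset.mem_insert, Finset.mem_singleton] at d
      tauto
    have fx : ∀ x, x ≠ none → x ≠ some 0 → g.1 x = x := fun x h1 h2 => by
      obtain ⟨m, hm, rfl⟩ := twoTrans_M22.one x ⟨h1, h2⟩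
      rw [← Equiv.Perm.mul_apply, c m hm, Equiv.Perm.mul_apply, f1]
    have i1 : none ∈ om 0x82402f := by decide +kernel
    have i2 : some 0 ∈ om 0x82402f := by decide +kernel
    refine Subtype.ext (eq_one_of_fix_off ⟨g.2.1, Finset.eq_of_subset_of_card_le (fun p hp => ?_)
      (Finset.card_smul_finset _ _).ge⟩ fun p hp => fx p (fun e => hp (e ▸ i1)) fun e => hp (e ▸ i2))
    obtain ⟨q, hq, rfl⟩ := Finset.mem_smul_finset.mp hp
    change g.1 q ∈ _
    by_cases k : q = none ∨ q = some 0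
    · rcases (DuS_mem g.2 q).2 k with e | e <;> rw [e] <;> assumption
    · rw [fx q (fun e => k (Or.inl e)) fun e => k (Or.inr e)]; exact hq
  exact ⟨MulEquiv.ofBijective f ((Nat.bijective_iff_injective_and_card f).2 ⟨inj, by rw [card_DuS, card_aut]⟩)⟩

variable {G : Type*} [Group G] {V : Subgroup G} {D : Set G} {ε : Finset GolayPt → G}
  {θ : 𝐍 V →* Equiv.Perm GolayPt}

theorem TM.decK (h : TM V D ε θ) {K : Subgroup G} (k1 : K ≤ 𝐍 V) (k3 : K ⊔ V = 𝐍 V) {g : G} (hg : g ∈ 𝐍 V) :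
    ∃ k ∈ K, ∃ v ∈ V, k * v = g ∧ ∀ hk, θ ⟨k, hk⟩ = θ ⟨g, hg⟩ := by
  have : g ∈ (K : Set G) * (V : Set G) := by rw [← coe_mul_of_left_le_normalizer_right K V k1, k3]; exact hg
  obtain ⟨k, hk, v, hv, rfl⟩ := this
  refine ⟨k, hk, v, hv, rfl, fun hk' => ?_⟩
  rw [show (⟨k * v, hg⟩ : 𝐍 V) = ⟨k, hk'⟩ * ⟨v, le_normalizer hv⟩ from rfl, map_mul,
    (h.ker ⟨v, le_normalizer hv⟩).2 hv, mul_one]

theorem TM.s5569 (h : TM V D ε θ) (cV : Nat.card V = 2 ^ 11) (cl : ∀ t ∈ D, centralizer {t} ≤ 𝐍 V)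
    {K : Subgroup G} (k1 : K ≤ 𝐍 V) (k2 : K ⊓ V = ⊥) (k3 : K ⊔ V = 𝐍 V) {t d : G} (hd : d ∈ D) (hc : IsConj t d) :
    ∃ V K : Subgroup G, V ≤ centralizer ({t} : Set G) ∧ K ≤ centralizer ({t} : Set G) ∧
      centralizer ({t} : Set G) ≤ normalizer (V : Set G) ∧ IsElementaryAbelian 2 V ∧ Nat.card V = 2 ^ 11 ∧
      K ⊓ V = ⊥ ∧ K ⊔ V = centralizer ({t} : Set G) ∧ Nonempty (K ≃* MulAut M22) := by
  have ev : Even ({none, some 0} : Finset GolayPt).card := by decide
  have d0 : ε {none, some 0} ∈ D := (h.duad _).2 ⟨_, by decide, rfl⟩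
  obtain ⟨g, hg⟩ : ∃ g : G, g * ε {none, some 0} * g⁻¹ = t := by
    obtain ⟨S, a, rfl⟩ := (h.duad d).1 hd
    obtain ⟨x, y, xy, rfl⟩ := Finset.card_eq_two.1 a
    obtain ⟨σ, hσ, e1, e2⟩ := exists_M24_two (a := none) (b := some 0) (by decide) xy
    obtain ⟨κ, rfl⟩ := h.rng.ge hσ
    have := h.act κ _ ev
    rw [Finset.smul_finset_insert, Finset.smul_finset_singleton] at this
    change _ = ε {θ κ none, θ κ (some 0)} at this
    rw [e1, e2] at this
    exact isConj_iff.1 ((isConj_iff.2 ⟨_, this⟩).trans hc.symm)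
  have vc : V ≤ centralizer {ε {none, some 0}} := fun v hv =>
    mem_centralizer_singleton_iff.2 (h.comm hv (h.emem ev))
  have key : ∀ k : 𝐍 V, (k : G) ∈ centralizer {ε {none, some 0}} ↔ θ k ∈ DuS := fun k => by
    rw [mem_centralizer_singleton_iff, ← mul_inv_eq_iff_eq_mul, h.act k _ ev]
    exact ⟨fun e => ⟨h.mM k, h.inj (by rwa [Finset.card_smul_finset]) ev
      (by rw [Finset.card_smul_finset]; decide) e⟩, fun e => by rw [show θ k • _ = _ from e.2]⟩
  let ψ : ↥(K ⊓ centralizer {ε {none, some 0}}) →* DuS :=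
    (θ.comp (inclusion (inf_le_left.trans k1))).codRestrict _ fun k => (key _).1 k.2.2
  have bij : Function.Bijective ψ := ⟨(injective_iff_map_eq_one _).2 fun k e => Subtype.ext (k2.le
    ⟨k.2.1, (h.ker ⟨k, k1 k.2.1⟩).1 (congrArg Subtype.val e)⟩), fun σ => by
      obtain ⟨κ, e⟩ := h.rng.ge σ.2.1
      obtain ⟨k, hk, v, -, -, e'⟩ := h.decK k1 k3 κ.2
      have e2 : θ ⟨k, k1 hk⟩ = σ := (e' _).trans e
      exact ⟨⟨k, hk, (key ⟨k, k1 hk⟩).2 (e2 ▸ σ.2)⟩, Subtype.ext e2⟩⟩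
  obtain ⟨ι⟩ := DuS_iso
  subst hg
  rw [← cj_centralizer_singleton]
  refine ⟨cj g V, cj g (K ⊓ centralizer {ε {none, some 0}}), cj_mono g vc, cj_mono g inf_le_right,
    (cj_mono g (cl _ d0)).trans (cj_normalizer g V).le,
    ⟨isMulCommutative_cj g ⟨⟨fun x y => Subtype.ext (h.comm x.2 y.2)⟩⟩, fun a ha => ?_⟩, by rw [card_cj, cV], ?_, ?_,
    ⟨((cjEquiv g _).symm.trans (MulEquiv.ofBijective ψ bij)).trans ι⟩⟩
  · obtain ⟨y, hy, rfl⟩ := mem_cj'.1 ha
    rw [conj_pow, pow_two, h.sq hy]; group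
  · rw [← cj_inf, cj_eq_bot_iff, eq_bot_iff, ← k2]
    exact inf_le_inf_right _ inf_le_left
  · rw [← cj_sup, cj_inj]
    refine le_antisymm (sup_le inf_le_right vc) fun x hx => ?_
    obtain ⟨k, hk, v, hv, rfl, -⟩ := h.decK k1 k3 (cl _ d0 hx)
    exact mul_mem (mem_sup_left ⟨hk, (mul_mem_cancel_right (vc hv)).1 hx⟩) (mem_sup_right hv)

end Cfsg.Lib.JF
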