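import Cfsg.Agent.Lib.Block2.JHz
import Cfsg.Agent.Lib.Block2.JHr
import Cfsg.Agent.Lib.Block2.JHq
import Cfsg.Agent.Lib.Block2.JHn
import Cfsg.Agent.Lib.Block2.JHm
import Cfsg.Agent.Lib.Block2.JHa
import Cfsg.Agent.Lib.Block2.JGs
import Cfsg.Agent.Lib.Block2.JJ1

/-! The package `AllD` from the counting data. -/

set_option autoImplicit false

namespace Cfsg.Lib.JF

open Subgroup Cfsg.Lib.Amalg Cfsg.Lib.Core Cfsg.Lib.Known2 Cfsg.Lib.Golay Cfsg.Spor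

variable {G : Type*} [Group G] [Finite G] {E : Subgroup G} {z p : G} {φ : KK z p →* Equiv.Perm GolayPt}
  {q : Equiv.Perm GolayPt}

theorem allD_of (h : JS E z p M22 φ) (F2 : MF2 M22 (gc.gen gA) (gc.dec u1) (gc.dec ua) (gc.dec ub) q)
    (O : OC E φ (gc.gen gA) q) : AllD E z p φ q :=
  ⟨h, F2, O, h.gd mf F2 O, h.trD mf F2 O, h.ob mf F2 O⟩

theorem AllD.s5563 (A : AllD E z p φ q) :
    ⁅(centralizer ({z} : Set G) ⊓ centralizer (zpowers p : Set G)),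
      (centralizer ({z} : Set G) ⊓ centralizer (zpowers p : Set G))⁆ =
      (centralizer ({z} : Set G) ⊓ centralizer (zpowers p : Set G)) ∧
    IsCyclic ↥(center ↥(centralizer ({z} : Set G) ⊓ centralizer (zpowers p : Set G))) ∧
    Nat.card ↥(center ↥(centralizer ({z} : Set G) ⊓ centralizer (zpowers p : Set G))) = 6 ∧
    IsoM22 (↥(centralizer ({z} : Set G) ⊓ centralizer (zpowers p : Set G)) ⧸
      center ↥(centralizer ({z} : Set G) ⊓ centralizer (zpowers p : Set G))) ∧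
    normalizer (zpowers p : Set G) ≤ centralizer ({z} : Set G) := by
  obtain ⟨ε, θ, T⟩ := A.gd.exists_TM
  exact A.js.s5563 A.f2 mf A.ob fun B hB c z1 =>
    T.not_pure (A.np_hyp hB z1).1 c A.js.zV (A.np_hyp hB z1).2 z1

theorem AllD.split (A : AllD E z p φ q) : ∃ K ≤ 𝐍 (V0 E φ (gc.gen gA)), K ⊓ V0 E φ (gc.gen gA) = ⊥ ∧
    K ⊔ V0 E φ (gc.gen gA) = 𝐍 (V0 E φ (gc.gen gA)) ∧ IsoM24 K := by
  obtain ⟨ε, θ, T⟩ := A.gd.exists_TM
  exact A.js.split T A.hz A.odd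

theorem card_H {P : Subgroup G} (hJ : IsOfJankoFourTypeWith z P) :
    Nat.card (centralizer ({z} : Set G)) = 21799895040 := by
  obtain ⟨-, -, c, -, ⟨N, -, h2, -, h4, ⟨_, ⟨e⟩⟩, -⟩, -⟩ := hJ
  rw [card_eq_card_quotient_mul_card_subgroup (N.subgroupOf (centralizer ({z} : Set G))), Nat.card_congr e.toEquiv,
    card_aut, Nat.card_congr (subgroupOfEquivOfLe h2).toEquiv, h4, c]
  norm_num

theorem exists_allD_of [IsSimpleGroup G] (hG : ¬ IsMulCommutative G) {P : Subgroup G}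
    (hJ : IsOfJankoFourTypeWith z P)
    (H : ∀ (p : G) (φ : KK z p →* Equiv.Perm GolayPt) (q : Equiv.Perm GolayPt),
      JS (twoCoreOfCentralizer z) z p M22 φ → MF2 M22 (gc.gen gA) (gc.dec u1) (gc.dec ua) (gc.dec ub) q →
      Nat.card (centralizer ({z} : Set G)) = 21799895040 →
      (∃ y ∈ V0 (twoCoreOfCentralizer z) φ (gc.gen gA), y ≠ z ∧ IsConj z y) →
      OC (twoCoreOfCentralizer z) φ (gc.gen gA) q) :
    ∃ p φ q, P = zpowers p ∧ IsConj p p⁻¹ ∧ AllD (twoCoreOfCentralizer z) z p φ q := by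
  obtain ⟨p, φ, e, h⟩ := exists_JS hJ
  obtain ⟨q, F2⟩ := mf2
  exact ⟨p, φ, q, e, isConj_inv_of hJ e h, allD_of h F2 (H p φ q h F2 (card_H hJ) (h.stepA hG mf))⟩

end Cfsg.Lib.JF
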