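import Cfsg.Agent.Lib.Block2.JH2
import Cfsg.Agent.Lib.Block2.JGt
import Cfsg.Agent.Lib.Block2.JGr
import Cfsg.Agent.Lib.Block2.JGg3

/-! Glue for the statements on groups of Janko-four type. -/

set_option autoImplicit false

namespace Cfsg.Lib.JF

open Subgroup Cfsg.Lib.Amalg Cfsg.Lib.Core Cfsg.Lib.Known2 Cfsg.Lib.Golay Cfsg.Spor

variable {G : Type*} [Group G]

/-- all the data on the standard `2^11`. -/
structure AllD (E : Subgroup G) (z p : G) (φ : KK z p →* Equiv.Perm GolayPt) (q : Equiv.Perm GolayPt) : Prop where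
  js : JS E z p M22 φ
  f2 : MF2 M22 (gc.gen gA) (gc.dec u1) (gc.dec ua) (gc.dec ub) q
  oc : OC E φ (gc.gen gA) q
  gd : GD (V0 E φ (gc.gen gA)) (DD (V0 E φ (gc.gen gA)) z)
  trD : ∀ t ∈ DD (V0 E φ (gc.gen gA)) z, ∀ s ∈ DD (V0 E φ (gc.gen gA)) z,
    ∃ g ∈ 𝐍 (V0 E φ (gc.gen gA)), g * t * g⁻¹ = s
  ob : OB E φ (gc.gen gA)

theorem gl_orb_cj (g x : G) (V : Subgroup G) :
    {v : G | ∃ n ∈ 𝐍 (cj g V), n * (g * x * g⁻¹) * n⁻¹ = v}.ncard = {v : G | ∃ n ∈ 𝐍 V, n * x * n⁻¹ = v}.ncard := by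
  rw [← Set.ncard_image_of_injective {v : G | ∃ n ∈ 𝐍 V, n * x * n⁻¹ = v} (MulAut.conj g).injective]
  congr 1
  ext v
  constructor
  · rintro ⟨n, hn, rfl⟩
    rw [← cj_normalizer] at hn
    obtain ⟨m, hm, rfl⟩ := mem_cj'.1 hn
    exact ⟨_, ⟨m, hm, rfl⟩, by simp [mul_assoc]⟩
  · rintro ⟨_, ⟨m, hm, rfl⟩, rfl⟩
    exact ⟨g * m * g⁻¹, cj_normalizer g V ▸ conj_mem_cj g hm, by simp [mul_assoc]⟩

theorem gl_DD_cj {V : Subgroup G} {z : G} (g : G) {d : G} (hd : d ∈ DD V z) (h : g * d * g⁻¹ ∈ V) :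
    g * d * g⁻¹ ∈ DD V z :=
  ⟨h, fun e => hd.2.1 (by simpa using e), fun e => hd.2.2 (e.trans (isConj_iff.2 ⟨g, rfl⟩).symm)⟩

namespace AllD

variable [Finite G] {E : Subgroup G} {z p : G} {φ : KK z p →* Equiv.Perm GolayPt} {q : Equiv.Perm GolayPt}
  (A : AllD E z p φ q)
include A

theorem std {V : Subgroup G} (hV : IsElementaryAbelian 2 V) (c : Nat.card V = 2 ^ 11) :
    ∃ g, V = cj g (V0 E φ (gc.gen gA)) := by
  have e : ∀ v ∈ V, v * v = 1 := fun v hv => by rw [← pow_two, hV.2 v hv]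
  obtain ⟨g, hg⟩ := A.js.uq2 mf (two_of_sq e)
  exact ⟨g⁻¹, by rw [← hg V le_rfl e c.ge, cj_inv_cj]⟩

theorem cenD : ∀ t ∈ DD (V0 E φ (gc.gen gA)) z, centralizer {t} ≤ 𝐍 (V0 E φ (gc.gen gA)) := by
  obtain ⟨ε, θ, T⟩ := A.gd.exists_TM
  exact T.cent_le (fun g d hd h => gl_DD_cj g hd h) (A.js.uq mf) A.ob.H1

theorem s5568 (V : Subgroup G) (hV : IsElementaryAbelian 2 V) (hcard : Nat.card V = 2 ^ 11) :
    ∃ z' t : G, z' ∈ V ∧ t ∈ V ∧ t ≠ 1 ∧ IsConj z z' ∧ ¬ IsConj z t ∧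
    Set.ncard {v : G | ∃ n ∈ normalizer (V : Set G), n * z' * n⁻¹ = v} = 1771 ∧
    Set.ncard {v : G | ∃ n ∈ normalizer (V : Set G), n * t * n⁻¹ = v} = 276 ∧
    centralizer ({t} : Set G) ≤ normalizer (V : Set G) := by
  obtain ⟨g, rfl⟩ := A.std hV hcard
  obtain ⟨t, ht⟩ : (DD (V0 E φ (gc.gen gA)) z).Nonempty :=
    Set.nonempty_of_ncard_ne_zero (by rw [A.gd.cD]; norm_num)
  refine ⟨g * z * g⁻¹, g * t * g⁻¹, conj_mem_cj g A.js.zV, conj_mem_cj g ht.1, fun e => ht.2.1 (by simpa using e),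
    isConj_iff.2 ⟨g, rfl⟩, fun e => ht.2.2 (e.trans (isConj_iff.2 ⟨g, rfl⟩).symm), ?_, ?_, ?_⟩
  · rw [gl_orb_cj, ← A.oc.nZ]
    congr 1
    ext v
    constructor
    · rintro ⟨n, hn, rfl⟩
      exact ⟨(mem_normalizer_iff.1 hn z).1 A.js.zV, isConj_iff.2 ⟨n, rfl⟩⟩
    · rintro ⟨h1, h2⟩
      exact A.js.fus mf A.js.zV h1 h2
  · rw [gl_orb_cj, ← A.gd.cD]
    congr 1
    ext v
    constructor
    · rintro ⟨n, hn, rfl⟩
      exact A.gd.inv n hn t ht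
    · exact A.trD t ht v
  · rw [← cj_centralizer_singleton, ← cj_normalizer]
    exact cj_mono g (A.cenD t ht)

theorem hz : ∀ a ∈ hat φ (gc.gen gA), a ≠ 1 → a ≠ z → ¬ IsConj a (a * z) := fun a ha a1 az c => by
  have aV := A.js.hatV mf ha
  have e := A.ob.one a ha a1 az
  have n : a * z ≠ 1 := fun e => az (by
    rw [eq_inv_of_mul_eq_one_left e, inv_eq_of_mul_eq_one_right A.js.es.sq])
  by_cases k : IsConj z a
  · exact (e.2 fun y => y.2.2 (k.trans c)).2.2 k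
  · exact e.1 ⟨aV, a1, k⟩ ⟨mul_mem aV A.js.zV, n, fun y => k (y.trans c.symm)⟩

theorem odd : ¬ 2 ∣ (centralizer {z} ⊓ 𝐍 (V0 E φ (gc.gen gA))).relIndex (𝐍 (V0 E φ (gc.gen gA))) := by
  have c := (centralizer {z} ⊓ 𝐍 (V0 E φ (gc.gen gA))).subgroupOf (𝐍 (V0 E φ (gc.gen gA))) |>.index_mul_card
  rw [Nat.card_congr (subgroupOfEquivOfLe inf_le_right).toEquiv, A.oc.cN1, A.gd.cN] at c
  unfold relIndex
  omega

theorem s5567 (hS : ∃ K ≤ 𝐍 (V0 E φ (gc.gen gA)), K ⊓ V0 E φ (gc.gen gA) = ⊥ ∧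
      K ⊔ V0 E φ (gc.gen gA) = 𝐍 (V0 E φ (gc.gen gA)) ∧ IsoM24 K)
    (V : Subgroup G) (hV : IsElementaryAbelian 2 V) (hcard : Nat.card V = 2 ^ 11) :
    centralizer (V : Set G) ≤ V ∧ ∃ K : Subgroup G, K ≤ normalizer (V : Set G) ∧ K ⊓ V = ⊥ ∧
      K ⊔ V = normalizer (V : Set G) ∧ IsoM24 K := by
  obtain ⟨g, rfl⟩ := A.std hV hcard
  obtain ⟨K, k1, k2, k3, ⟨e⟩⟩ := hS
  refine ⟨?_, cj g K, ?_, ?_, ?_, ⟨(cjEquiv g K).symm.trans e⟩⟩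
  · rw [← cj_centralizer]; exact cj_mono g A.gd.cen
  · rw [← cj_normalizer]; exact cj_mono g k1
  · rw [← cj_inf, k2, cj_bot]
  · rw [← cj_sup, k3, cj_normalizer]

theorem np_hyp {B : Subgroup G} (hB : B ≤ closure (hat φ (gc.gen gA))) (z1 : z ∉ B) :
    B ≤ V0 E φ (gc.gen gA) ∧ ∀ b ∈ B, b ≠ 1 →
      (b ∈ DD (V0 E φ (gc.gen gA)) z ↔ b * z ∉ DD (V0 E φ (gc.gen gA)) z) := by
  refine ⟨hB.trans le_sup_right, fun b hb b1 => A.ob.one b ?_ b1 fun e => z1 (e ▸ hb)⟩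
  obtain ⟨H, hH⟩ := A.js.exists_hat mf (B := gc.gen gA) mf.sq1
  exact (hH b).1 ((closure_le _).2 (fun k hk => (hH k).2 hk) (hB hb))

theorem s5564 (hN : 𝐍 (zpowers p) ≤ centralizer {z}) (hi : IsConj p p⁻¹) :
    ∀ x y : G, orderOf x = 3 → orderOf y = 3 → IsConj x y := by
  obtain ⟨ε, θ, T⟩ := A.gd.exists_TM
  exact one_class3 A.js hN T A.gd.sq (A.js.pN mf) hi

end AllD

end Cfsg.Lib.JF
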