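import Cfsg.Agent.Lib.Block2.JHp

/-! Involutions of `E = 2^{1+12}` are conjugate to `z` or into `D`. -/

set_option autoImplicit false
set_option linter.unusedSectionVars false

namespace Cfsg.Lib.JF

open Subgroup Cfsg.Lib.Amalg Cfsg.Lib.Core Cfsg.Lib.Known2

variable {G Γ : Type*} [Group G] [Group Γ] {E : Subgroup G} {z p : G} {M : Subgroup Γ} {φ : KK z p →* Γ}
  {A1 A2 : Subgroup Γ} {t1 t2 t3 t4 a b i g f q : Γ}

open Classical in
theorem ji_sum [Finite G] (h : ES E z) {X : Subgroup G} [Fintype X] (hX : X ≤ E) :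
    (2 * ({x | x ∈ X ∧ x * x = 1}.ncard : ℤ) - Nat.card X) ^ 2 =
      Nat.card X * ∑ y : X, if (∀ x : X, (y : G) * x = x * y) then (if (y : G) * y = 1 then 1 else -1) else 0 := by
  let χ : G → ℤ := fun x => if x * x = 1 then 1 else -1
  let β : X → X →* ℤ := fun y => MonoidHom.mk (OneHom.mk (fun x => if (y : G) * x = x * y then 1 else -1) (by simp)) fun u v => by
    simp only [coe_mul, h.mul_comm_iff (hX y.2) (hX u.2) (hX v.2)]
    by_cases (y : G) * u = u * y <;> by_cases (y : G) * v = v * y <;> simp [*]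
  have hβ : ∀ y x : X, β y x = if (y : G) * x = x * y then 1 else -1 := fun _ _ => rfl
  have s1 : ∑ x : X, χ x = 2 * ({x | x ∈ X ∧ x * x = 1}.ncard : ℤ) - Nat.card X := by
    have : {x | x ∈ X ∧ x * x = 1} = Subtype.val '' ((Finset.univ.filter fun x : X => (x : G) * x = 1 : Finset X) : Set X) := by
      ext x; simp [and_comm]
    rw [this, Set.ncard_image_of_injective _ Subtype.val_injective, Set.ncard_coe_finset, Nat.card_eq_fintype_card,
      Finset.card_filter, ← Finset.card_univ, Finset.card_eq_sum_ones]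
    push_cast
    rw [Finset.mul_sum, ← Finset.sum_sub_distrib]
    exact Finset.sum_congr rfl fun x _ => by by_cases c : (x : G) * x = 1 <;> simp [χ, c]
  have z1 := h.ne
  have zz := h.sq
  have k : ∀ x y : X, χ x * χ (x * y : X) = χ y * β y x := fun x y => by
    have cy := h.cen y (hX y.2)
    rw [hβ]
    by_cases c : (y : G) * x = x * y
    · have : ((x * y : X) : G) * (x * y : X) = (x * x) * (y * y) := by
        rw [coe_mul, mul_assoc, ← mul_assoc (y : G), c]; group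
      simp only [χ, this, c]
      rcases h.sq_mem x (hX x.2) with e | e <;> rcases h.sq_mem y (hX y.2) with e' | e' <;> simp [e, e', z1, zz]
    · have : ((x * y : X) : G) * (x * y : X) = (x * x) * (y * y) * z := by
        rw [coe_mul, mul_assoc, ← mul_assoc (y : G), (h.comm y (hX y.2) x (hX x.2)).resolve_left c, mul_assoc _ z, ← cy]; group
      simp only [χ, this, c]
      rcases h.sq_mem x (hX x.2) with e | e <;> rcases h.sq_mem y (hX y.2) with e' | e' <;> simp [e, e', z1, zz]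
  rw [← s1, pow_two, Finset.sum_mul_sum, Finset.sum_congr rfl fun x _ =>
    (Equiv.sum_comp (Equiv.mulLeft x) fun y : X => χ x * χ y).symm.trans (Finset.sum_congr rfl fun y _ => k x y), Finset.sum_comm,
    Finset.mul_sum]
  refine Finset.sum_congr rfl fun y _ => ?_
  rw [← Finset.mul_sum]
  by_cases c : ∀ x : X, (y : G) * x = x * y
  · simp only [hβ, c, if_true, implies_true, Finset.sum_const, Finset.card_univ, Nat.card_eq_fintype_card]
    simp [χ, mul_comm]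
  · rw [if_neg c, sum_hom_units_eq_zero, mul_zero, mul_zero]
    intro e
    exact c fun x => by_contra fun n => by have := hβ y x; rw [e, if_neg n] at this; simp at this

theorem ji_mod [Finite G] {r : ℕ} (hr : r.Prime) {g : G} (hg : g ^ r = 1) (Ω : Set G) (hΩ : ∀ c ∈ Ω, g * c * g⁻¹ ∈ Ω) :
    ∃ k, Ω.ncard = (Ω ∩ centralizer {g}).ncard + r * k := by
  have := Fact.mk hr
  have inv : ∀ n : ℕ, ∀ c ∈ Ω, g ^ n * c * (g ^ n)⁻¹ ∈ Ω := fun n => by
    induction n with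
    | zero => simp
    | succ n ih => intro c hc; have := hΩ _ (ih c hc); rwa [pow_succ', mul_inv_rev, ← mul_assoc, mul_assoc g, mul_assoc g] 
  obtain ⟨k, e⟩ := dvd_ncard (P := zpowers g) (k := r) (Ω \ centralizer {g}) (fun u hu c hc => by
    obtain ⟨n, rfl⟩ := (mem_powers_iff_mem_zpowers.2 hu)
    refine ⟨inv n c hc.1, fun e => hc.2 ?_⟩
    have m : g ^ n ∈ centralizer {g} := mem_cent_single.2 ((Commute.refl g).pow_left n).eq
    have := mul_mem (mul_mem (inv_mem m) e) m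
    simpa [mul_assoc] using this) fun c hc => by
      have g1 : g ≠ 1 := fun e => hc.2 (mem_cent_single.2 (by rw [e]; simp))
      have c1 := card_inf_mul_relIndex (centralizer {c}) (zpowers g)
      rw [Nat.card_zpowers, orderOf_eq_prime hg g1] at c1
      rcases (Nat.dvd_prime hr).1 (Dvd.intro _ c1) with e | e
      · rw [e, one_mul] at c1; rw [c1]
      · have := eq_of_le_of_card_ge (inf_le_right : centralizer {c} ⊓ zpowers g ≤ zpowers g)
          (by rw [e, Nat.card_zpowers, orderOf_eq_prime hg g1])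
        exact (hc.2 (mem_cent_single.2 (mem_cent_single.1 (this.ge (mem_zpowers g)).1).symm)).elim
  exact ⟨k, by rw [← e, Set.ncard_inter_add_ncard_diff_eq_ncard]⟩

namespace JS
variable [Finite G] (h : JS E z p M φ)
include h

theorem ji_sqcj {X : Subgroup G} {g : G} (hg : ∀ x ∈ X, g * x * g⁻¹ ∈ X) :
    ∀ c ∈ {x | x ∈ X ∧ x * x = 1}, g * c * g⁻¹ ∈ {x | x ∈ X ∧ x * x = 1} :=
  fun c hc => ⟨hg c hc.1, by rw [conj_mul, hc.2]; simp⟩

theorem ji_mod3 {X : Subgroup G} (hX : X ≤ E) (_hz : z ∈ X) (_hp : ∀ x ∈ X, p * x * p⁻¹ ∈ X) (Ω : Set G) (s : Ω ⊆ X) (h1 : 1 ∈ Ω)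
    (h2 : z ∈ Ω) (hΩ : ∀ c ∈ Ω, p * c * p⁻¹ ∈ Ω) : ∃ k, Ω.ncard = 2 + 3 * k := by
  obtain ⟨k, e⟩ := ji_mod Nat.prime_three h.p3 Ω hΩ
  refine ⟨k, ?_⟩
  rw [e, show Ω ∩ centralizer {p} = {1, z} from ?_, Set.ncard_pair h.es.ne.symm]
  ext x
  refine ⟨fun c => h.fp x (hX (s c.1)) (mem_cent_single.1 c.2).symm, ?_⟩
  rintro (rfl | rfl)
  exacts [⟨h1, one_mem _⟩, ⟨h2, mem_cent_single.2 h.pz.symm⟩]

theorem n4160 : {x | x ∈ E ∧ x * x = 1}.ncard = 4160 := by
  classical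
  have := Fintype.ofFinite E
  have s := ji_sum h.es (le_refl E)
  obtain ⟨k, e⟩ := h.ji_mod3 le_rfl h.es.mem (fun x hx => h.nm h.Lp hx) {x | x ∈ E ∧ x * x = 1} (fun _ c => c.1)
    ⟨one_mem _, mul_one _⟩ ⟨h.es.mem, h.es.sq⟩ (h.ji_sqcj fun x hx => h.nm h.Lp hx)
  rw [Finset.sum_eq_add (1 : E) ⟨z, h.es.mem⟩ (fun c => h.es.ne (congrArg Subtype.val c).symm) (fun c _ n => if_neg fun k => by
    rcases h.es.of_cen c c.2 (fun y hy => k ⟨y, hy⟩) with e | e
    exacts [n.1 (Subtype.ext e), n.2 (Subtype.ext e)]) (by simp) (by simp), if_pos (by simp), if_pos (by simp),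
    if_pos (fun x : E => (h.es.cen x x.2).symm), if_pos h.es.sq, h.card] at s
  generalize {x | x ∈ E ∧ x * x = 1}.ncard = n at s e
  have : ((2 * (n : ℤ) - 2 ^ 13) - 128) * ((2 * (n : ℤ) - 2 ^ 13) + 128) = 0 := by push_cast at s; linarith
  rcases mul_eq_zero.1 this with c | c <;> omega

theorem ji_free {g : G} (hg : g ∈ KK z p) (g1 : g ≠ 1) (h7 : g ^ 7 = 1 ∨ g ^ 11 = 1) {x : G} (hx : x ∈ E) (x2 : x * x = 1)
    (c : g * x = x * g) : x = 1 ∨ x = z := by
  classical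
  have gz := (mem_KK.1 hg).1
  have gp := (mem_KK.1 hg).2
  have nE := h.ls.norm g gz
  have g2 : ¬ ∀ x ∈ E, g * g * x = x * (g * g) := fun c => by
    have : g ^ 4 = 1 := by
      rcases h.ls.selfc _ c with e | e
      · rw [show g ^ 4 = g * g * (g * g) by simp [pow_succ, mul_assoc], e, one_mul]
      · rw [show g ^ 4 = g * g * (g * g) by simp [pow_succ, mul_assoc], e, h.es.sq]
    rcases h7 with e | e
    · exact g1 (by rw [← pow_one g, ← show Nat.gcd 4 7 = 1 from rfl, pow_gcd_eq_one]; exact ⟨this, e⟩)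
    · exact g1 (by rw [← pow_one g, ← show Nat.gcd 4 11 = 1 from rfl, pow_gcd_eq_one]; exact ⟨this, e⟩)
  set C := E ⊓ centralizer {g} with hC
  have zC : z ∈ C := ⟨h.es.mem, mem_cent_single.2 gz.symm⟩
  have pC : ∀ x ∈ C, p * x * p⁻¹ ∈ C := fun x hx => ⟨h.nm h.Lp hx.1, by
    have := mem_cent_single.2 gp.symm
    exact (centralizer {g}).mul_mem ((centralizer {g}).mul_mem this hx.2) ((centralizer {g}).inv_mem this)⟩
  obtain ⟨n, hn, cC⟩ := h.card_pow (inf_le_left : C ≤ E)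
  have n13 : n ≠ 13 := fun e => g2 fun x hx => by
    have := mem_cent_single.1 ((eq_of_le_of_card_ge (inf_le_left : C ≤ E) (by rw [cC, e, h.card])).ge hx).2
    rw [mul_assoc, ← this, ← mul_assoc, ← this, mul_assoc]
  have e1 : {x | x ∈ E ∧ x * x = 1} ∩ (centralizer {g} : Subgroup G) = {x | x ∈ C ∧ x * x = 1} := by
    ext x; exact ⟨fun c => ⟨⟨c.1.1, c.2⟩, c.1.2⟩, fun c => ⟨⟨c.1.1, c.2⟩, c.1.2⟩⟩
  have le : {x | x ∈ C ∧ x * x = 1}.ncard ≤ 2 ^ n := by
    rw [← cC]; exact Set.ncard_le_ncard fun _ c => c.1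
  have key : {x | x ∈ C ∧ x * x = 1}.ncard ≤ 2 := by
    have cE : (E : Set G).ncard = 2 ^ 13 := h.card
    have cC' : ((E : Set G) ∩ (centralizer {g} : Subgroup G)).ncard = 2 ^ n := cC
    rcases h7 with e | e
    · obtain ⟨k1, m1⟩ := ji_mod (by norm_num : Nat.Prime 7) e E nE
      obtain ⟨k2, m2⟩ := ji_mod (by norm_num : Nat.Prime 7) e _ (h.ji_sqcj nE)
      obtain ⟨k3, m3⟩ := h.ji_mod3 inf_le_left zC pC C subset_rfl (one_mem _) zC pC
      obtain ⟨k4, m4⟩ := h.ji_mod3 inf_le_left zC pC {x | x ∈ C ∧ x * x = 1} (fun _ c => c.1) ⟨one_mem _, mul_one _⟩ ⟨zC, h.es.sq⟩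
        (h.ji_sqcj pC)
      rw [cE, cC'] at m1
      rw [h.n4160, e1] at m2
      rw [show (C : Set G).ncard = 2 ^ n from cC] at m3
      obtain rfl | rfl : n = 1 ∨ n = 7 := by interval_cases n <;> omega
      · exact le
      have := Fintype.ofFinite C
      have s := ji_sum h.es (inf_le_left : C ≤ E)
      rw [cC] at s
      generalize (∑ y : C, _ : ℤ) = w at s
      have m128 : {x | x ∈ C ∧ x * x = 1}.ncard = 128 := by
        generalize {x | x ∈ C ∧ x * x = 1}.ncard = m at *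
        have : m = 2 ∨ m = 23 ∨ m = 44 ∨ m = 65 ∨ m = 86 ∨ m = 107 ∨ m = 128 := by omega
        rcases this with rfl | rfl | rfl | rfl | rfl | rfl | rfl <;> first | rfl | (push_cast at s; omega)
      have sq : ∀ x ∈ C, x * x = 1 := fun x hx =>
        ((Set.eq_of_subset_of_ncard_le (fun _ c => c.1 : {x | x ∈ C ∧ x * x = 1} ⊆ C) (by rw [m128]; exact cC.le)).ge hx).2
      have c2 := es_cent h.es (inf_le_left : C ≤ E) zC
      rw [cC, h.card] at c2
      have CC : C = E ⊓ centralizer (C : Set G) :=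
        eq_of_le_of_card_ge (fun x hx => ⟨hx.1, fun y hy => comm_of_sq sq hy hx⟩) (by
          rw [cC]; exact (Nat.eq_of_mul_eq_mul_left (by norm_num : 0 < 2 ^ 7) (c2.trans (by norm_num))).le)
      refine (g2 fun x hx => comm_of_conj_eq ?_).elim
      have m : x⁻¹ * (g * x * g⁻¹) ∈ C := CC.ge ⟨E.mul_mem (E.inv_mem hx) (nE x hx), fun u hu => by
        have uu := conj_eq_of_comm (mem_cent_single.1 hu.2).symm
        refine ((h.es.mul_comm_iff hu.1 (inv_mem hx) (nE x hx)).2 ?_)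
        rw [show u * (g * x * g⁻¹) = g * (u * x) * g⁻¹ by conv_lhs => rw [← uu, conj_mul],
          show g * x * g⁻¹ * u = g * (x * u) * g⁻¹ by conv_lhs => rw [← uu, conj_mul], mul_left_inj, mul_right_inj,
          mul_inv_eq_iff_eq_mul, mul_assoc, eq_inv_mul_iff_mul_eq, eq_comm]⟩
      calc g * g * x * (g * g)⁻¹ = g * (x * (x⁻¹ * (g * x * g⁻¹))) * g⁻¹ := by group
        _ = x * (x⁻¹ * (g * x * g⁻¹)) * (x⁻¹ * (g * x * g⁻¹)) := by
          rw [← conj_mul, conj_eq_of_comm (mem_cent_single.1 m.2).symm]; group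
        _ = x := by rw [mul_assoc, sq _ m, mul_one]
    · obtain ⟨k1, m1⟩ := ji_mod (by norm_num : Nat.Prime 11) e E nE
      obtain ⟨k2, m2⟩ := ji_mod (by norm_num : Nat.Prime 11) e _ (h.ji_sqcj nE)
      rw [cE, cC'] at m1
      rw [h.n4160, e1] at m2
      obtain rfl : n = 3 := by interval_cases n <;> omega
      omega
  have := Set.eq_of_subset_of_ncard_le (s := {1, z}) (t := {x | x ∈ C ∧ x * x = 1}) (by
    rintro _ (rfl | rfl); exacts [⟨one_mem _, mul_one _⟩, ⟨zC, h.es.sq⟩]) (by rwa [Set.ncard_pair h.es.ne.symm])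
  exact this.ge ⟨⟨hx, mem_cent_single.2 c.symm⟩, x2⟩

variable (F : MF M A1 A2 t1 t2 t3 t4 a b i g f)
include F

theorem ji_nine : ∃ R : Subgroup G, (∀ r ∈ R, r * z = z * r) ∧ ∀ x ∈ E, x ≠ 1 → x ≠ z → 9 ∣ (centralizer {x}).relIndex R := by
  have : Fact (Nat.Prime 3) := ⟨Nat.prime_three⟩
  obtain ⟨R, hR, cR, pR, nR⟩ := h.exR F
  refine ⟨R, fun g hg => by obtain ⟨m, -, l⟩ := hR g hg; exact l.kz, fun x hx n1 n2 => ?_⟩
  have c := card_inf_mul_relIndex (centralizer {x}) R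
  have np : p ∉ centralizer {x} ⊓ R := fun k => by
    rcases h.fp x hx (mem_cent_single.1 k.1) with e | e <;> contradiction
  obtain ⟨S, hS⟩ : ∃ S, S = centralizer {x} ⊓ R := ⟨_, rfl⟩
  rw [← hS, cR] at c
  rw [← hS] at np
  have SR : S ≤ R := hS ▸ inf_le_right
  obtain ⟨k, hk, e⟩ := (Nat.dvd_prime_pow Nat.prime_three (m := 3)).1 (Dvd.intro _ c)
  rw [e] at c
  interval_cases k
  · omega
  · omega
  · exfalso
    have cS := IsPGroup.isMulCommutative_of_card_eq_prime_sq e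
    have pc : ∀ s ∈ R, p * s = s * p := fun s hs => by obtain ⟨m, -, l⟩ := hR s hs; exact l.kp.symm
    have lt : S < S ⊔ zpowers p := lt_of_le_of_ne le_sup_left fun k => np (k ▸ mem_sup_right (mem_zpowers p))
    have le : S ⊔ zpowers p ≤ R := sup_le SR (zpowers_le.2 pR)
    have eq : S ⊔ zpowers p = R := by
      refine eq_of_le_of_card_ge le ?_
      obtain ⟨j, hj, e2⟩ := (Nat.dvd_prime_pow Nat.prime_three (m := 3)).1 (show Nat.card ↥(S ⊔ zpowers p) ∣ 3 ^ 3 from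
        (card_dvd_of_le le).trans (by rw [cR]; norm_num))
      have := card_lt_of_lt lt
      rw [e, e2] at this
      rw [cR, e2]
      interval_cases j <;> omega
    have k1 : ∀ s ∈ S, R ≤ centralizer {s} := fun s hs => eq ▸ sup_le (fun r hr => mem_cent_single.2
      (congrArg Subtype.val (cS.is_comm.comm (⟨r, hr⟩ : S) ⟨s, hs⟩))) (zpowers_le.2 (mem_cent_single.2 (pc s (SR hs))))
    refine nR fun r hr s hs => ?_
    have : R ≤ centralizer {r} := eq ▸ sup_le (fun s hs => mem_cent_single.2 (mem_cent_single.1 (k1 s hs hr)).symm)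
      (zpowers_le.2 (mem_cent_single.2 (pc r hr)))
    exact (mem_cent_single.1 (this hs)).symm
  · exact absurd ((eq_of_le_of_card_ge SR (by rw [e, cR]; norm_num)).ge pR) np

theorem d1386 (Ω : Set G) (s : ∀ x ∈ Ω, x ∈ E ∧ x * x = 1 ∧ x ≠ 1 ∧ x ≠ z)
    (hΩ : ∀ g, g * z = z * g → ∀ c ∈ Ω, g * c * g⁻¹ ∈ Ω) : 1386 ∣ Ω.ncard := by
  have pr : ∀ r : ℕ, r.Prime → r = 7 ∨ r = 11 → r ∣ Ω.ncard := fun r hr e => by
    have := Fact.mk hr
    obtain ⟨g, hg⟩ := exists_prime_orderOf_dvd_card' (G := KK z p) r (by rw [h.cK]; rcases e with rfl | rfl <;> norm_num)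
    have gr : (g : G) ^ r = 1 := by rw [← hg]; exact congrArg Subtype.val (pow_orderOf_eq_one g)
    have g1 : (g : G) ≠ 1 := fun c => hr.ne_one (by rw [← hg, show g = 1 from Subtype.ext c, orderOf_one])
    obtain ⟨k, m⟩ := ji_mod hr gr Ω (hΩ g (mem_KK.1 g.2).1)
    rw [show Ω ∩ (centralizer {(g : G)} : Subgroup G) = ∅ from Set.eq_empty_of_forall_notMem fun x c => by
      obtain ⟨x1, x2, x3, x4⟩ := s x c.1
      rcases h.ji_free g.2 g1 (by rcases e with rfl | rfl; exacts [Or.inl gr, Or.inr gr]) x1 x2 (mem_cent_single.1 c.2).symm with e | e <;>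
        contradiction] at m
    exact ⟨k, by simpa using m⟩
  have h7 := pr 7 (by norm_num) (Or.inl rfl)
  have h11 := pr 11 (by norm_num) (Or.inr rfl)
  obtain ⟨R, Rz, hR⟩ := h.ji_nine F
  have h9 := dvd_ncard (k := 9) Ω (fun g hg => hΩ g (Rz g hg)) fun c hc => hR c (s c hc).1 (s c hc).2.2.1 (s c hc).2.2.2
  have h2 := dvd_ncard (k := 2) (P := E) Ω (fun g hg => hΩ g (h.es.cen g hg)) fun c hc => by
    obtain ⟨y, hy, n⟩ := h.es.exists_anti (s c hc).1 (s c hc).2.2.1 (s c hc).2.2.2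
    have c1 := es_two h.es le_rfl (s c hc).1 hy n
    have c2 := card_inf_mul_relIndex (centralizer {c}) E
    rw [inf_comm] at c2
    rw [← c2, mul_comm] at c1
    rw [Nat.eq_of_mul_eq_mul_right Nat.card_pos c1]
  exact (by norm_num : Nat.Coprime 14 99).mul_dvd_of_dvd_of_dvd ((by norm_num : Nat.Coprime 2 7).mul_dvd_of_dvd_of_dvd h2 h7)
    ((by norm_num : Nat.Coprime 9 11).mul_dvd_of_dvd_of_dvd h9 h11)

theorem invE (nDU : {u | u ∈ Cm E φ A1 ∧ u ∈ DD (V0 E φ A1) z}.ncard = 36)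
    (cl : ∀ t ∈ DD (V0 E φ A1) z, centralizer {t} ≤ 𝐍 (V0 E φ A1)) {e : G} (he : e ∈ E) (e2 : e * e = 1) (e1 : e ≠ 1)
    (ez : ¬ IsConj z e) : ∃ d ∈ DD (V0 E φ A1) z, IsConj e d := by
  classical
  set V := V0 E φ A1
  set D := DD V z
  let B : Set G := {e | e ∈ E ∧ ∃ g, g * z = z * g ∧ g * e * g⁻¹ ∈ D}
  let Z : Set G := {e | e ∈ E ∧ e ≠ z ∧ IsConj z e}
  have hN : ∀ n t, t ∈ D → n * t * n⁻¹ ∈ D → n ∈ 𝐍 V := fun n t ht c => cj_eq_self_iff.1 (h.uq F n (le_trans (fun w hw =>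
    mem_cent_single.2 (comm_of_sq (sq_cj n (h.sqV F)) hw (conj_mem_cj n ht.1))) (cl _ c)))
  have sB : ∀ x ∈ B, x ∈ E ∧ x * x = 1 ∧ x ≠ 1 ∧ x ≠ z ∧ ¬ IsConj z x := by
    rintro x ⟨hx, g, gz, c⟩
    have n : ¬ IsConj z x := fun k => c.2.2 (k.trans (isConj_iff.2 ⟨g, rfl⟩))
    refine ⟨hx, ?_, fun e => c.2.1 (by simp [e]), fun e => n (e ▸ IsConj.refl _), n⟩
    have := h.sqV F _ c.1
    rwa [conj_mul, conj_eq_one_iff] at this
  have sZ : ∀ x ∈ Z, x ∈ E ∧ x * x = 1 ∧ x ≠ 1 ∧ x ≠ z := by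
    rintro x ⟨hx, n, c⟩
    obtain ⟨g, rfl⟩ := isConj_iff.1 c
    exact ⟨hx, by rw [conj_mul, h.es.sq]; simp, fun e => h.es.ne (conj_eq_one_iff.1 e), n⟩
  have dB := h.d1386 F B (fun x hx => ⟨(sB x hx).1, (sB x hx).2.1, (sB x hx).2.2.1, (sB x hx).2.2.2.1⟩)
    fun g gz c ⟨hc, k, kz, m⟩ => ⟨h.ls.norm g gz c hc, k * g⁻¹, ((show Commute k z from kz).mul_left (show Commute g z from gz).inv_left).eq,
      by simpa [mul_assoc] using m⟩
  have dZ := h.d1386 F Z sZ fun g gz c ⟨hc, n, m⟩ => ⟨h.ls.norm g gz c hc, fun e => n (by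
    have e : g * c * g⁻¹ = g * z * g⁻¹ := by rw [conj_eq_of_comm gz]; exact e
    simpa using e), m.trans (isConj_iff.2 ⟨g, rfl⟩)⟩
  have d36 : 36 ∣ B.ncard := by
    have ex : ∀ x, ∃ g, x ∈ B → g * z = z * g ∧ g * x * g⁻¹ ∈ D := fun x => by
      by_cases c : x ∈ B
      · obtain ⟨g, m⟩ := c.2; exact ⟨g, fun _ => m⟩
      · exact ⟨1, fun k => absurd k c⟩
    choose κ hκ using ex
    let c : G → Set G := fun x => {y | y ∈ E ∧ κ x * y * (κ x)⁻¹ ∈ D}
    rw [Set.ncard_eq_toFinset_card B, Finset.card_eq_sum_card_image c]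
    refine Finset.dvd_sum fun S hS => ?_
    obtain ⟨x, hx, rfl⟩ := Finset.mem_image.1 hS
    rw [Set.Finite.mem_toFinset] at hx
    obtain ⟨kz, kD⟩ := hκ x hx
    have kz' : (κ x)⁻¹ * z = z * (κ x)⁻¹ := (show Commute (κ x) z from kz).inv_left.eq
    apply dvd_of_eq
    rw [← Set.ncard_coe_finset, ← Set.ncard_image_of_injective _ (MulAut.conj (κ x)).injective, ← nDU]
    congr 1
    ext w
    simp only [Set.mem_image, Finset.coe_filter, Set.Finite.mem_toFinset, Set.mem_setOf_eq, MulAut.conj_apply]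
    refine Iff.symm ⟨?_, ?_⟩
    · rintro ⟨y, ⟨yB, e⟩, rfl⟩
      have : y ∈ c x := e ▸ (⟨yB.1, (hκ y yB).2⟩ : y ∈ c y)
      exact ⟨h.VE F this.2.1 (h.ls.norm _ kz y yB.1), this.2⟩
    · rintro ⟨w1, w2⟩
      have yE := h.ls.norm _ kz' w w1.1
      have m : κ x * ((κ x)⁻¹ * w * (κ x)⁻¹⁻¹) * (κ x)⁻¹ = w := by group
      have yB : (κ x)⁻¹ * w * (κ x)⁻¹⁻¹ ∈ B := ⟨yE, κ x, kz, m.symm ▸ w2⟩
      refine ⟨_, ⟨yB, ?_⟩, m⟩
      generalize (κ x)⁻¹ * w * (κ x)⁻¹⁻¹ = y at *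
      have n := hN (κ y * (κ x)⁻¹) w w2 (by rw [← m]; simpa [mul_assoc] using (hκ y yB).2)
      ext u
      refine and_congr_right fun _ => ⟨fun k => ?_, fun k => ?_⟩
      · simpa [mul_assoc] using DD_cj (inv_mem n) k
      · simpa [mul_assoc] using DD_cj n k
  have pB : 0 < B.ncard := by
    obtain ⟨u, hu⟩ := (Set.ncard_pos).1 (by rw [nDU]; norm_num : 0 < {u | u ∈ Cm E φ A1 ∧ u ∈ D}.ncard)
    exact (Set.ncard_pos).2 ⟨u, hu.1.1, 1, by simp, by simpa using hu.2⟩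
  have pZ : 0 < Z.ncard := by
    obtain ⟨u, hu, n⟩ := Set.exists_mem_notMem_of_ncard_lt_ncard (s := insert 1 (insert z {u | u ∈ Cm E φ A1 ∧ u ∈ D}))
      (t := Cm E φ A1) (by
        have a1 := Set.ncard_insert_le 1 (insert z {u | u ∈ Cm E φ A1 ∧ u ∈ D})
        have a2 := Set.ncard_insert_le z {u | u ∈ Cm E φ A1 ∧ u ∈ D}
        rw [show (Cm E φ A1 : Set G).ncard = 2 ^ 7 from h.cardU F]; omega)
    simp only [Set.mem_insert_iff, not_or] at n
    exact (Set.ncard_pos).2 ⟨u, hu.1, n.2.1, by_contra fun c => n.2.2 ⟨hu, mem_sup_left hu, n.1, c⟩⟩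
  have tot : B ∪ Z = {x | x ∈ E ∧ x * x = 1} \ {1, z} := by
    have c := Set.ncard_sdiff_add_ncard_of_subset (s := {1, z}) (t := {x | x ∈ E ∧ x * x = 1}) (by
      rintro _ (rfl | rfl); exacts [⟨one_mem _, mul_one _⟩, ⟨h.es.mem, h.es.sq⟩])
    rw [Set.ncard_pair h.es.ne.symm, h.n4160] at c
    refine Set.eq_of_subset_of_ncard_le ?_ ?_
    · rintro x (hx | hx)
      · exact ⟨⟨(sB x hx).1, (sB x hx).2.1⟩, fun c => c.elim (sB x hx).2.2.1 (sB x hx).2.2.2.1⟩
      · exact ⟨⟨(sZ x hx).1, (sZ x hx).2.1⟩, fun c => c.elim (sZ x hx).2.2.1 (sZ x hx).2.2.2⟩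
    · rw [Set.ncard_union_eq (Set.disjoint_left.2 fun x hx c => (sB x hx).2.2.2.2 c.2.2)]
      omega
  rcases tot.ge ((Set.mem_sdiff e).2 ⟨⟨he, e2⟩, fun c => c.elim e1 fun k => ez (by rw [show e = z from k])⟩) with ⟨-, g, -, c⟩ | c
  · exact ⟨_, c, isConj_iff.2 ⟨g, rfl⟩⟩
  · exact absurd c.2.2 ez

end JS

end Cfsg.Lib.JF
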