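import Cfsg.Agent.Lib.Block2.JI4
import Cfsg.Agent.Lib.Block2.JHy
import Cfsg.Agent.Lib.Block2.JJ2
import Cfsg.Agent.Lib.Invol.Strong

/-! A group of Janko-four type is generated by `C(z)` and `N(2^11)`. -/

set_option autoImplicit false
set_option linter.unusedSectionVars false

namespace Cfsg.Lib.JF

open Subgroup Cfsg.Lib.Amalg Cfsg.Lib.Core Cfsg.Lib.Known2 Cfsg.Lib.Golay

variable {G Γ : Type*} [Group G] [Group Γ] {E : Subgroup G} {z p : G} {M : Subgroup Γ} {φ : KK z p →* Γ}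
  {A1 A2 : Subgroup Γ} {t1 t2 t3 t4 a b i g f q : Γ}

namespace JS
variable [Finite G] (h : JS E z p M φ) (F : MF M A1 A2 t1 t2 t3 t4 a b i g f)
include h F

theorem kInvE (nDU : {u | u ∈ Cm E φ A1 ∧ u ∈ DD (V0 E φ A1) z}.ncard = 36)
    (cl : ∀ t ∈ DD (V0 E φ A1) z, centralizer {t} ≤ 𝐍 (V0 E φ A1)) {e : G} (he : e ∈ E) (e2 : e * e = 1) :
    ∃ g, g * z = z * g ∧ g * e * g⁻¹ ∈ V0 E φ A1 := by
  classical
  set V := V0 E φ A1
  set D := DD V z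
  let B : Set G := {e | e ∈ E ∧ ∃ g, g * z = z * g ∧ g * e * g⁻¹ ∈ D}
  let Z : Set G := {e | e ∈ E ∧ e ≠ z ∧ IsConj z e ∧ ∃ g, g * z = z * g ∧ g * e * g⁻¹ ∈ V}
  have hN : ∀ n t, t ∈ D → n * t * n⁻¹ ∈ D → n ∈ 𝐍 V := fun n t ht c => cj_eq_self_iff.1 (h.uq F n (le_trans (fun w hw =>
    mem_cent_single.2 (comm_of_sq (sq_cj n (h.sqV F)) hw (conj_mem_cj n ht.1))) (cl _ c)))
  have sB : ∀ x ∈ B, x ∈ E ∧ x * x = 1 ∧ x ≠ 1 ∧ x ≠ z ∧ ¬ IsConj z x := by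
    rintro x ⟨hx, g, gz, c⟩
    have n : ¬ IsConj z x := fun k => c.2.2 (k.trans (isConj_iff.2 ⟨g, rfl⟩))
    refine ⟨hx, ?_, fun e => c.2.1 (by simp [e]), fun e => n (e ▸ IsConj.refl _), n⟩
    have := h.sqV F _ c.1
    rwa [conj_mul, conj_eq_one_iff] at this
  have sZ : ∀ x ∈ Z, x ∈ E ∧ x * x = 1 ∧ x ≠ 1 ∧ x ≠ z := by
    rintro x ⟨hx, n, c, -⟩
    obtain ⟨g, rfl⟩ := isConj_iff.1 c
    exact ⟨hx, by rw [conj_mul, h.es.sq]; simp, fun e => h.es.ne (conj_eq_one_iff.1 e), n⟩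
  have dB := h.d1386 F B (fun x hx => ⟨(sB x hx).1, (sB x hx).2.1, (sB x hx).2.2.1, (sB x hx).2.2.2.1⟩)
    fun g gz c ⟨hc, k, kz, m⟩ => ⟨h.ls.norm g gz c hc, k * g⁻¹, ((show Commute k z from kz).mul_left (show Commute g z from gz).inv_left).eq,
      by simpa [mul_assoc] using m⟩
  have dZ := h.d1386 F Z sZ fun g gz c ⟨hc, n, m, k, kz, kV⟩ => ⟨h.ls.norm g gz c hc, fun e => n (by
    have e : g * c * g⁻¹ = g * z * g⁻¹ := by rw [conj_eq_of_comm gz]; exact e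
    simpa using e), m.trans (isConj_iff.2 ⟨g, rfl⟩), k * g⁻¹,
      ((show Commute k z from kz).mul_left (show Commute g z from gz).inv_left).eq, by simpa [mul_assoc] using kV⟩
  have d36 : 36 ∣ B.ncard := by
    have ex : ∀ x, ∃ g, x ∈ B → g * z = z * g ∧ g * x * g⁻¹ ∈ D := fun x => by
      by_cases c : x ∈ B
      · obtain ⟨g, m⟩ := c.2; exact ⟨g, fun _ => m⟩
      · exact ⟨1, fun k => absurd k c⟩
    choose κ hκ using ex
    let c : G → Set G := fun x => {y | y ∈ E ∧ κ x * y * (κ x)⁻¹ ∈ D}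
    rw [Set.ncard_eq_toFinset_card B, Finset.card_eq_sum_card_image c]
    refine Finset.dvd_sum fun S hS => ?_
    obtain ⟨x, hx, rfl⟩ := Finset.mem_image.1 hS
    rw [Set.Finite.mem_toFinset] at hx
    obtain ⟨kz, kD⟩ := hκ x hx
    have kz' : (κ x)⁻¹ * z = z * (κ x)⁻¹ := (show Commute (κ x) z from kz).inv_left.eq
    apply dvd_of_eq
    rw [← Set.ncard_coe_finset, ← Set.ncard_image_of_injective _ (MulAut.conj (κ x)).injective, ← nDU]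
    congr 1
    ext w
    simp only [Set.mem_image, Finset.coe_filter, Set.Finite.mem_toFinset, Set.mem_setOf_eq, MulAut.conj_apply]
    refine Iff.symm ⟨?_, ?_⟩
    · rintro ⟨y, ⟨yB, e⟩, rfl⟩
      have : y ∈ c x := e ▸ (⟨yB.1, (hκ y yB).2⟩ : y ∈ c y)
      exact ⟨h.VE F this.2.1 (h.ls.norm _ kz y yB.1), this.2⟩
    · rintro ⟨w1, w2⟩
      have yE := h.ls.norm _ kz' w w1.1
      have m : κ x * ((κ x)⁻¹ * w * (κ x)⁻¹⁻¹) * (κ x)⁻¹ = w := by group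
      have yB : (κ x)⁻¹ * w * (κ x)⁻¹⁻¹ ∈ B := ⟨yE, κ x, kz, m.symm ▸ w2⟩
      refine ⟨_, ⟨yB, ?_⟩, m⟩
      generalize (κ x)⁻¹ * w * (κ x)⁻¹⁻¹ = y at *
      have n := hN (κ y * (κ x)⁻¹) w w2 (by rw [← m]; simpa [mul_assoc] using (hκ y yB).2)
      ext u
      refine and_congr_right fun _ => ⟨fun k => ?_, fun k => ?_⟩
      · simpa [mul_assoc] using DD_cj (inv_mem n) k
      · simpa [mul_assoc] using DD_cj n k
  have pB : 0 < B.ncard := by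
    obtain ⟨u, hu⟩ := (Set.ncard_pos).1 (by rw [nDU]; norm_num : 0 < {u | u ∈ Cm E φ A1 ∧ u ∈ D}.ncard)
    exact (Set.ncard_pos).2 ⟨u, hu.1.1, 1, by simp, by simpa using hu.2⟩
  have pZ : 0 < Z.ncard := by
    obtain ⟨u, hu, n⟩ := Set.exists_mem_notMem_of_ncard_lt_ncard (s := insert 1 (insert z {u | u ∈ Cm E φ A1 ∧ u ∈ D}))
      (t := Cm E φ A1) (by
        have a1 := Set.ncard_insert_le 1 (insert z {u | u ∈ Cm E φ A1 ∧ u ∈ D})
        have a2 := Set.ncard_insert_le z {u | u ∈ Cm E φ A1 ∧ u ∈ D}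
        rw [show (Cm E φ A1 : Set G).ncard = 2 ^ 7 from h.cardU F]; omega)
    simp only [Set.mem_insert_iff, not_or] at n
    exact (Set.ncard_pos).2 ⟨u, hu.1, n.2.1, by_contra fun c => n.2.2 ⟨hu, mem_sup_left hu, n.1, c⟩,
      1, by simp, by simpa using (mem_sup_left hu : u ∈ V)⟩
  have tot : B ∪ Z = {x | x ∈ E ∧ x * x = 1} \ {1, z} := by
    have c := Set.ncard_sdiff_add_ncard_of_subset (s := {1, z}) (t := {x | x ∈ E ∧ x * x = 1}) (by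
      rintro _ (rfl | rfl); exacts [⟨one_mem _, mul_one _⟩, ⟨h.es.mem, h.es.sq⟩])
    rw [Set.ncard_pair h.es.ne.symm, h.n4160] at c
    refine Set.eq_of_subset_of_ncard_le ?_ ?_
    · rintro x (hx | hx)
      · exact ⟨⟨(sB x hx).1, (sB x hx).2.1⟩, fun c => c.elim (sB x hx).2.2.1 (sB x hx).2.2.2.1⟩
      · exact ⟨⟨(sZ x hx).1, (sZ x hx).2.1⟩, fun c => c.elim (sZ x hx).2.2.1 (sZ x hx).2.2.2⟩
    · rw [Set.ncard_union_eq (Set.disjoint_left.2 fun x hx c => (sB x hx).2.2.2.2 c.2.2.1)]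
      omega
  by_cases k : e = 1 ∨ e = z
  · refine ⟨1, by simp, ?_⟩
    rcases k with rfl | rfl
    · simp
    · simpa using h.zV
  rcases tot.ge ((Set.mem_sdiff e).2 ⟨⟨he, e2⟩, k⟩) with ⟨-, g, gz, c⟩ | c
  · exact ⟨g, gz, c.1⟩
  · exact c.2.2.2

theorem kConjN {J : Subgroup G} (hJ : V0 E φ A1 ≤ J) {t : G} (tJ : t ∈ J) (t2 : t * t = 1) :
    ∃ k ∈ J, k * t * k⁻¹ ∈ 𝐍 (V0 E φ A1) := by
  have : Fact (Nat.Prime 2) := ⟨Nat.prime_two⟩
  obtain ⟨P, hP, l⟩ := exists_syl_ge (two_of_sq (h.sqV F)) hJ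
  obtain ⟨k, hk, l'⟩ := hP.exists_conj_le (isPGroup_zpowers_of_pow (show t ^ 2 ^ 1 = 1 by rw [pow_one, pow_two, t2]))
    (zpowers_le.2 tJ)
  obtain ⟨w, hw⟩ := h.uq2 F hP.isPGroup
  have m : k * t * k⁻¹ ∈ P := l' (conj_mem_cj k (mem_zpowers t))
  exact ⟨k, hk, cj_eq_self_iff.1 (cj_inj.1 ((hw _ (cj_le_iff'.2 fun v hv => mul_mem (mul_mem m (l hv)) (inv_mem m))
    (sq_cj _ (h.sqV F)) (by rw [card_cj, h.cardV F])).trans (hw _ l (h.sqV F) (h.cardV F).ge).symm))⟩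

end JS

theorem AllD.top [Finite G] {φ : KK z p →* Equiv.Perm GolayPt} {q : Equiv.Perm GolayPt} (A : AllD E z p φ q)
    {J : Subgroup G} (h1 : centralizer {z} ≤ J) (h2 : 𝐍 (V0 E φ (gc.gen gA)) ≤ J) : J = ⊤ := by
  have : Fact (Nat.Prime 2) := ⟨Nat.prime_two⟩
  have h := A.js
  obtain ⟨ε, θ, T⟩ := A.gd.exists_TM
  obtain ⟨K, k1, k2, k3, -⟩ := A.split
  have oz : orderOf z = 2 := orderOf_eq_prime (by rw [pow_two, h.es.sq]) h.es.ne
  have cV : ∀ t ∈ J, t * t = 1 → ∃ k ∈ J, k * t * k⁻¹ ∈ V0 E φ (gc.gen gA) := fun t tJ t2 => by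
    obtain ⟨k, hk, m⟩ := h.kConjN mf (le_normalizer.trans h2) tJ t2
    obtain ⟨g, hg, m' | m'⟩ := h.fuseE mf T k1 k2 k3 m (by rw [conj_mul, t2]; group)
    · exact ⟨g * k, mul_mem (h2 hg) hk, by convert m' using 1; group⟩
    · obtain ⟨c, cz, m''⟩ := h.kInvE mf A.oc.nDU A.cenD m' (by rw [conj_mul, conj_mul, t2]; group)
      exact ⟨c * g * k, mul_mem (mul_mem (h1 (mem_cent_single.2 cz)) (h2 hg)) hk, by convert m'' using 1; group⟩
  have cC : ∀ w ∈ V0 E φ (gc.gen gA), w ≠ 1 → centralizer {w} ≤ J := fun w hw w1 x hx => by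
    by_cases c : IsConj z w
    · obtain ⟨n, hn, rfl⟩ := h.fus mf h.zV hw c
      have : n⁻¹ * x * n ∈ J := h1 (mem_cent_single.2 (by
        calc _ = n⁻¹ * (x * (n * z * n⁻¹)) * n := by group
          _ = _ := by rw [mem_cent_single.1 hx]; group))
      simpa [mul_assoc] using mul_mem (mul_mem (h2 hn) this) (inv_mem (h2 hn))
    · exact h2 (A.cenD w ⟨hw, w1, c⟩ hx)
  by_contra n
  have se : IsStronglyEmbedded J := Invol.stronglyEmbedded_iff.2 ⟨n, even_iff_two_dvd.2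
    (oz ▸ orderOf_dvd_natCard _ (h1 (mem_cent_single.2 rfl))), fun t g o tJ gJ => by
      have t2 : t * t = 1 := by rw [← pow_two, ← o, pow_orderOf_eq_one]
      obtain ⟨j, hj, m⟩ := cV t tJ t2
      obtain ⟨k, hk, m'⟩ := cV _ gJ (by rw [conj_mul, t2]; group)
      obtain ⟨n, hn, e⟩ := h.fus mf m m' (isConj_iff.2 ⟨k * g * j⁻¹, by group⟩)
      have : n⁻¹ * (k * g * j⁻¹) ∈ J := cC _ m (fun e => by
        rw [conj_eq_one_iff.1 e] at o; simp at o) (mem_cent_single.2 (by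
          calc _ = n⁻¹ * (k * (g * t * g⁻¹) * k⁻¹) * (k * g * j⁻¹) := by group
            _ = _ := by rw [← e]; group))
      simpa [mul_assoc] using mul_mem (mul_mem (inv_mem hk) (mul_mem (h2 hn) this)) hj⟩
  obtain ⟨d, hd⟩ := (Set.ncard_pos).1 (by rw [A.gd.cD]; norm_num : 0 < (DD (V0 E φ (gc.gen gA)) z).ncard)
  exact hd.2.2 (Invol.se_isConj se oz (orderOf_eq_prime (by rw [pow_two, h.sqV mf d hd.1]) hd.2.1))

end Cfsg.Lib.JF
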