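import Cfsg.Agent.Lib.Block2.JI1

/-! An element of order 3 centralised by `M22` acts fixed-point-freely on `2^{1+12}`. -/

set_option autoImplicit false

namespace Cfsg.Lib.JF

open Subgroup Cfsg.Lib.Amalg Cfsg.Lib.Core Cfsg.Lib.Known2

variable {G : Type*} [Group G] [Finite G] {Q : Subgroup G} {z p : G}

theorem k2_tri (h : ES Q z) (p3 : p ^ 3 = 1) (pz : p * z = z * p) (nQ : ∀ x ∈ Q, p * x * p⁻¹ ∈ Q) {x : G} (hx : x ∈ Q)
    (px : p * x = x * p) (c : ∀ d ∈ Q, p * d = d * p → x * d = d * x) : x = 1 ∨ x = z := by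
  refine h.of_cen x hx fun q hq => ?_
  have q1 := nQ q hq
  have q2 := nQ _ q1
  have e3 : p * (p * (p * q * p⁻¹) * p⁻¹) * p⁻¹ = q := by
    rw [show p * (p * (p * q * p⁻¹) * p⁻¹) * p⁻¹ = p ^ 3 * q * (p ^ 3)⁻¹ by
      simp only [pow_succ, pow_zero, one_mul, mul_inv_rev, mul_assoc], p3]; group
  have cq : ∀ y, x * (p * y * p⁻¹) = (p * y * p⁻¹) * x ↔ x * y = y * x := fun y => by
    have : x = p * x * p⁻¹ := by rw [px]; group
    rw [this, conj_mul, conj_mul, ← this]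
    simp
  have n := mul_mem (mul_mem hq q1) q2
  have fx : p * (q * (p * q * p⁻¹) * (p * (p * q * p⁻¹) * p⁻¹)) = q * (p * q * p⁻¹) * (p * (p * q * p⁻¹) * p⁻¹) * p := by
    have k : p * (q * (p * q * p⁻¹) * (p * (p * q * p⁻¹) * p⁻¹)) * p⁻¹ =
        q⁻¹ * (q * (p * q * p⁻¹) * (p * (p * q * p⁻¹) * p⁻¹)) * q⁻¹⁻¹ := by
      rw [← conj_mul, ← conj_mul, e3]; group
    generalize q * (p * q * p⁻¹) * (p * (p * q * p⁻¹) * p⁻¹) = w at k n
    rcases h.conj_eq (inv_mem hq) n with e | e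
    · rw [← mul_inv_eq_iff_eq_mul, k, e]
    · exfalso
      rw [e] at k
      have k2 : p * (p * w * p⁻¹) * p⁻¹ = w := by
        rw [k, JS.cjz pz, k, mul_assoc, h.sq, mul_one]
      have k3 : p * (p * (p * w * p⁻¹) * p⁻¹) * p⁻¹ = w := by
        rw [show p * (p * (p * w * p⁻¹) * p⁻¹) * p⁻¹ = p ^ 3 * w * (p ^ 3)⁻¹ by
          simp only [pow_succ, pow_zero, one_mul, mul_inv_rev, mul_assoc], p3]; group
      rw [k2, k] at k3
      exact h.ne (by simpa using k3)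
  have := c _ n fx
  rw [h.mul_comm_iff hx (mul_mem hq q1) q2, h.mul_comm_iff hx hq q1, cq, cq, cq] at this
  tauto

theorem fp12 (h : ES Q z) (cQ : Nat.card Q = 2 ^ 13) {u v : G} (p3 : p ^ 3 = 1) (u7 : u ^ 7 = 1) (v11 : v ^ 11 = 1)
    (nQ : ∀ g, g * z = z * g → ∀ x ∈ Q, g * x * g⁻¹ ∈ Q) (pz : p * z = z * p) (uz : u * z = z * u) (vz : v * z = z * v)
    (up : u * p = p * u) (vp : v * p = p * v) (hu : ¬ Q ⊓ 𝐂 (Q ⊓ centralizer {p}) ≤ centralizer {u})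
    (hv : ¬ Q ⊓ 𝐂 (Q ⊓ centralizer {p}) ≤ centralizer {v}) : ∀ c ∈ Q, p * c = c * p → c = 1 ∨ c = z := by
  classical
  have : Fact (Nat.Prime 2) := ⟨Nat.prime_two⟩
  by_contra hn
  set D := Q ⊓ centralizer {p}
  set R := Q ⊓ 𝐂 D
  have zD : z ∈ D := ⟨h.mem, mem_cent_single.2 pz.symm⟩
  have zR : z ∈ R := ⟨h.mem, fun d hd => h.cen d hd.1⟩
  have cD : Nat.card D * Nat.card R = 2 * Nat.card Q := es_cent h (inf_le_left : D ≤ Q) zD
  have pw : ∀ X ≤ Q, ∃ n ≤ 13, Nat.card X = 2 ^ n := fun X hX =>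
    (Nat.dvd_prime_pow Nat.prime_two).1 (cQ ▸ card_dvd_of_le hX)
  have nR : ∀ g, g * z = z * g → g * p = p * g → ∀ x ∈ R, g * x * g⁻¹ ∈ R := fun g gz gp x hx => ⟨nQ g gz x hx.1, fun d hd => by
    have gi : g⁻¹ ∈ centralizer {p} := inv_mem (mem_cent_single.2 gp)
    have := hx.2 (g⁻¹ * d * g⁻¹⁻¹) ⟨nQ _ (Commute.inv_left (show Commute g z from gz)).eq d hd.1,
      (centralizer {p}).mul_mem ((centralizer {p}).mul_mem gi hd.2) ((centralizer {p}).inv_mem gi)⟩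
    calc _ = g * (g⁻¹ * d * g⁻¹⁻¹ * x) * g⁻¹ := by group
      _ = _ := by rw [this]; group⟩
  have fR : ∀ x ∈ R, p * x = x * p → x = 1 ∨ x = z := fun x hx px =>
    k2_tri h p3 pz (nQ p pz) hx.1 px fun d hd pd => (hx.2 d ⟨hd, mem_cent_single.2 pd.symm⟩).symm
  have m3 : ∀ Ω : Set G, Ω ⊆ R → 1 ∈ Ω → z ∈ Ω → (∀ c ∈ Ω, p * c * p⁻¹ ∈ Ω) → ∃ k, Ω.ncard = 2 + 3 * k := by
    intro Ω s h1 h2 hΩ
    obtain ⟨k, e⟩ := ji_mod Nat.prime_three p3 Ω hΩ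
    refine ⟨k, ?_⟩
    rw [e, show Ω ∩ centralizer {p} = {1, z} from ?_, Set.ncard_pair h.ne.symm]
    ext x
    refine ⟨fun c => fR x (s c.1) (mem_cent_single.1 c.2).symm, ?_⟩
    rintro (rfl | rfl)
    exacts [⟨h1, one_mem _⟩, ⟨h2, mem_cent_single.2 pz.symm⟩]
  obtain ⟨d, -, hd⟩ := pw D inf_le_left
  obtain ⟨a, a13, ha⟩ := pw R inf_le_left
  have d2 : 2 < Nat.card D := by
    push Not at hn
    obtain ⟨c, hc, pc, c1, cz⟩ := hn
    have := Set.ncard_le_ncard (s := {1, z, c}) (t := (D : Set G)) (by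
      rintro _ (rfl | rfl | rfl); exacts [one_mem _, zD, ⟨hc, mem_cent_single.2 pc.symm⟩])
    rw [Set.ncard_eq_three.2 ⟨1, z, c, h.ne.symm, c1.symm, cz.symm, rfl⟩] at this
    exact this
  have fx : ∀ g r, r.Prime → g ^ r = 1 → g * z = z * g → g * p = p * g → ¬ R ≤ centralizer {g} →
      ∃ b k, 1 ≤ b ∧ b < a ∧ Nat.card ↥(R ⊓ centralizer {g}) = 2 ^ b ∧ 2 ^ a = 2 ^ b + r * k := by
    intro g r hr gr gz gp n
    obtain ⟨b, -, hb⟩ := pw (R ⊓ centralizer {g}) (inf_le_left.trans inf_le_left)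
    obtain ⟨k, e⟩ := ji_mod hr gr (R : Set G) (nR g gz gp)
    change Nat.card R = Nat.card ↥(R ⊓ centralizer {g}) + _ at e
    refine ⟨b, k, ?_, ?_, hb, by rw [← ha, ← hb, e]⟩
    · by_contra b0
      have : R ⊓ centralizer {g} = ⊥ := card_eq_one.1 (by rw [hb, show b = 0 by omega]; rfl)
      exact h.ne (mem_bot.1 (this.le ⟨zR, mem_cent_single.2 gz.symm⟩))
    · by_contra b0
      exact n ((eq_of_le_of_card_ge (inf_le_left : R ⊓ centralizer {g} ≤ R) (by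
        rw [ha, hb]; exact Nat.pow_le_pow_right (by norm_num) (by omega))).ge.trans inf_le_right)
  obtain ⟨k3, e3⟩ := m3 R le_rfl (one_mem _) zR (nR p pz rfl)
  change Nat.card R = _ at e3
  obtain ⟨b, k, b1, ba, -, eb⟩ := fx v 11 (by norm_num) v11 vz vp hv
  have a11 : a = 11 := by
    rw [ha, cQ] at cD
    rw [ha] at e3
    interval_cases a <;> first | rfl | omega | (interval_cases b <;> omega)
  subst a11
  obtain ⟨s, j, s1, sa, hs, es⟩ := fx u 7 (by norm_num) u7 uz up hu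
  have nS : ∀ x ∈ R ⊓ centralizer {u}, p * x * p⁻¹ ∈ R ⊓ centralizer {u} := fun x hx => ⟨nR p pz rfl x hx.1,
    (centralizer {u}).mul_mem ((centralizer {u}).mul_mem (mem_cent_single.2 up.symm) hx.2)
      ((centralizer {u}).inv_mem (mem_cent_single.2 up.symm))⟩
  obtain ⟨k4, e4⟩ := m3 (R ⊓ centralizer {u} : Subgroup G) (fun _ c => c.1) (one_mem _) ⟨zR, mem_cent_single.2 uz.symm⟩ nS
  change Nat.card ↥(R ⊓ centralizer {u}) = _ at e4
  have s5 : s = 5 := by rw [hs] at e4; interval_cases s <;> omega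
  subst s5
  have := Fintype.ofFinite R
  have := Fintype.ofFinite ↥(R ⊓ centralizer {u})
  have sR := ji_sum h (inf_le_left : R ≤ Q)
  have sS := ji_sum h (X := R ⊓ centralizer {u}) (inf_le_left.trans inf_le_left)
  have DC : D = Q ⊓ 𝐂 R := eq_of_le_of_card_ge (fun x hx => ⟨hx.1, fun r hr => (hr.2 x hx).symm⟩) (by
    have : Nat.card R * Nat.card ↥(Q ⊓ 𝐂 R) = 2 * Nat.card Q := es_cent h (inf_le_left : R ≤ Q) zR
    rw [ha, cQ] at this cD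
    omega)
  rw [Finset.sum_eq_add (1 : R) ⟨z, zR⟩ (fun c => h.ne (congrArg Subtype.val c).symm) (fun c _ n => if_neg fun k => by
    rcases fR c c.2 (mem_cent_single.1 (DC.ge ⟨c.2.1, fun y hy => (k ⟨y, hy⟩).symm⟩).2).symm with e | e
    exacts [n.1 (Subtype.ext e), n.2 (Subtype.ext e)]) (by simp) (by simp), if_pos (by simp), if_pos (by simp),
    if_pos (fun x : R => (h.cen x x.2.1).symm), if_pos h.sq, ha] at sR
  have sq : ∀ g, ∀ X : Subgroup G, (∀ x ∈ X, g * x * g⁻¹ ∈ X) → ∀ c ∈ {x | x ∈ X ∧ x * x = 1},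
      g * c * g⁻¹ ∈ {x | x ∈ X ∧ x * x = 1} := fun g X hg c hc => ⟨hg c hc.1, by rw [conj_mul, hc.2]; simp⟩
  obtain ⟨k5, e5⟩ := m3 {x | x ∈ R ∧ x * x = 1} (fun _ c => c.1) ⟨one_mem _, mul_one _⟩ ⟨zR, h.sq⟩ (sq p R (nR p pz rfl))
  obtain ⟨k6, e6⟩ := m3 {x | x ∈ R ⊓ centralizer {u} ∧ x * x = 1} (fun _ c => c.1.1) ⟨one_mem _, mul_one _⟩
    ⟨⟨zR, mem_cent_single.2 uz.symm⟩, h.sq⟩ (sq p _ nS)
  obtain ⟨k7, e7⟩ := ji_mod (by norm_num : Nat.Prime 7) u7 _ (sq u R (nR u uz up))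
  rw [show {x | x ∈ R ∧ x * x = 1} ∩ (centralizer {u} : Subgroup G) = {x | x ∈ R ⊓ centralizer {u} ∧ x * x = 1} from by
    ext x; exact ⟨fun c => ⟨⟨c.1.1, c.2⟩, c.1.2⟩, fun c => ⟨⟨c.1.1, c.2⟩, c.1.2⟩⟩] at e7
  have le : {x | x ∈ R ⊓ centralizer {u} ∧ x * x = 1}.ncard ≤ 2 ^ 5 := by
    rw [← hs]; exact Set.ncard_le_ncard fun _ c => c.1
  rw [hs] at sS
  generalize {x | x ∈ R ∧ x * x = 1}.ncard = n at *
  generalize {x | x ∈ R ⊓ centralizer {u} ∧ x * x = 1}.ncard = m at *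
  have : ((2 * (n : ℤ) - 2 ^ 11) - 64) * ((2 * (n : ℤ) - 2 ^ 11) + 64) = 0 := by push_cast at sR; linarith
  have n992 : n = 992 := by rcases mul_eq_zero.1 this with c | c <;> omega
  have : m = 5 ∨ m = 26 := by omega
  rcases this with rfl | rfl <;> norm_num at sS <;> omega

end Cfsg.Lib.JF
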