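import Cfsg.Agent.Lib.Block2.JK2
import Cfsg.Agent.Lib.Block2.JGs1

/-! Involution centralisers of shape `2^{1+12}.3.Aut(M22)` give Janko-four type. -/

set_option autoImplicit false
set_option maxRecDepth 100000

namespace Cfsg.Lib.JF

open Subgroup Cfsg.Lib.Amalg Cfsg.Lib.Core Cfsg.Lib.Known2 Cfsg.Lib.Golay Spor
open scoped commutatorElement

def k3w : ℕ := 0xa040f12090e0c06030d0b100816130714011505110217
def k3b : ℕ := 0x1706040a1614031009020d0c0b12080f15130e0701051100

theorem k3_det : ∃ A B σ : MulAut M22, A * B = B * A ∧ A ^ 3 = 1 ∧ σ * A * σ⁻¹ = A ∧ σ * B * σ⁻¹ = B⁻¹ ∧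
    Nat.card (closure ({A, B} : Set (MulAut M22))) = 9 := by
  have i : ∀ g ∈ [ua, k3b], gc.InH M22 g := inH_M22 (by decide +kernel)
  have ia := i ua (by simp)
  have ib := i k3b (by simp)
  have iw : gc.InH M24 k3w := inH_of_inM24 (by decide +kernel)
  have w1 : gc.dec k3w none = some 0 := by rw [← sPt23, iw.1.dec_pt (by decide), ← sPt0]; congr 1
  have w2 : gc.dec k3w (some 0) = none := by rw [← sPt0, iw.1.dec_pt (by decide), ← sPt23]; congr 1
  have wN : gc.dec k3w ∈ 𝐍 M22 := mem_normalizer_fintype fun g hg => by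
    obtain ⟨h1, h2, h3⟩ := sMem22.1 hg
    refine sMem22.2 ⟨mul_mem (mul_mem iw.2 h1) (inv_mem iw.2), ?_, ?_⟩
    · rw [Equiv.Perm.mul_apply, Equiv.Perm.mul_apply, Equiv.Perm.inv_eq_iff_eq.2 w2.symm, h3, w2]
    · rw [Equiv.Perm.mul_apply, Equiv.Perm.mul_apply, Equiv.Perm.inv_eq_iff_eq.2 w1.symm, h2, w1]
  let σ : MulAut M22 := M22.normalizerMonoidHom ⟨_, wN⟩
  have hσ : ∀ g : M22, σ * MulAut.conj g * σ⁻¹ = MulAut.conj (σ g) := fun g => by ext1 x; simp
  let a : M22 := ⟨_, ia.2⟩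
  let b : M22 := ⟨_, ib.2⟩
  refine ⟨MulAut.conj a, MulAut.conj b, σ, ?_, ?_, ?_, ?_, ?_⟩
  · rw [← map_mul, ← map_mul]; congr 1; refine Subtype.ext ?_
    change gc.dec ua * gc.dec k3b = gc.dec k3b * gc.dec ua
    rw [← ia.1.dec_mul ib.1, ← ib.1.dec_mul ia.1, (ia.1.mul ib.1).dec_inj (ib.1.mul ia.1)]; decide +kernel
  · rw [← map_pow, show a ^ 3 = 1 from Subtype.ext mf.a3, map_one]
  · rw [hσ]; congr 1; refine Subtype.ext ?_
    change gc.dec k3w * gc.dec ua * (gc.dec k3w)⁻¹ = gc.dec ua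
    rw [← (iw.1.conj ia.1).2, (iw.1.conj ia.1).1.dec_inj ia.1]; decide +kernel
  · rw [hσ, ← map_inv]; congr 1; refine Subtype.ext ?_
    change gc.dec k3w * gc.dec k3b * (gc.dec k3w)⁻¹ = (gc.dec k3b)⁻¹
    rw [← (iw.1.conj ib.1).2, ← ib.1.inv.2, (iw.1.conj ib.1).1.dec_inj ib.1.inv.1]; decide +kernel
  · have c : Nat.card (gc.gen [ua, k3b]) = 9 := Coding.card_gen (c := gc) (M := 31) (d := 5) (a := 1)
      (fun g hg => (i g hg).1) (by decide +kernel)
    rw [show ({MulAut.conj a, MulAut.conj b} : Set (MulAut M22)) = (MulAut.conj : M22 →* MulAut M22) '' {a, b} by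
      simp [Set.image_pair], ← MonoidHom.map_closure, card_map_of_injective conj_inj, ← card_map_subtype,
      MonoidHom.map_closure, ← c, Set.image_pair,
      show ({M22.subtype a, M22.subtype b} : Set _) = {σ | ∃ g ∈ [ua, k3b], gc.dec g = σ} from
        Set.ext fun x => by simp [a, b, eq_comm]]
    rfl

variable {G : Type*} [Group G] [Finite G]

theorem k3_nonab {K : Type*} [Group K] [Finite K] (ψ : K →* MulAut M22) (s : Function.Surjective ψ)
    (c : ∀ k, ψ k = 1 → ∀ g, k * g = g * k) (cK : Nat.card K = 6 * 887040) {q : K} (q3 : q ^ 3 = 1) (hq : ψ q = 1)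
    (com : q ∈ commutator K) : q = 1 := by
  have : Fact (Nat.Prime 3) := ⟨Nat.prime_three⟩
  obtain ⟨A, B, σ, ab, a3, sa, sb, c9⟩ := k3_det
  obtain ⟨x, rfl⟩ := s A
  obtain ⟨y, rfl⟩ := s B
  obtain ⟨l, rfl⟩ := s σ
  have xy : x * y = y * x := by
    have c0 := c ⁅x, y⁆ (by rw [map_commutatorElement, commutatorElement_eq_one_iff_mul_comm, ab])
    have c1 := c (x⁻¹ * (l * x * l⁻¹)) (by simp [sa])
    have c2 := c (y * (l * y * l⁻¹)) (by simp [sb])
    have c3 := c (x ^ 3) (by rw [map_pow, a3])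
    obtain ⟨d, hd⟩ : ∃ d, l * x * l⁻¹ = x * d := ⟨x⁻¹ * (l * x * l⁻¹), by group⟩
    obtain ⟨e, he⟩ : ∃ e, l * y * l⁻¹ = y⁻¹ * e := ⟨y * (l * y * l⁻¹), by group⟩
    rw [hd, inv_mul_cancel_left] at c1
    rw [he, mul_inv_cancel_left] at c2
    obtain ⟨w, hw⟩ : ∃ w, x * y * x⁻¹ = w * y := ⟨⁅x, y⁆, by rw [commutatorElement_def]; group⟩
    have w0 : ⁅x, y⁆ = w := by rw [commutatorElement_def, hw]; group
    rw [w0] at c0
    have k1 : l * w * l⁻¹ = w := by rw [← c0]; group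
    have k2 : l * w * l⁻¹ = w⁻¹ := by
      rw [← w0, conjugate_commutatorElement, hd, he, commutatorElement_def, w0]
      calc _ = x * (d * (y⁻¹ * e)) * d⁻¹ * x⁻¹ * e⁻¹ * y := by group
        _ = x * y⁻¹ * (e * x⁻¹) * e⁻¹ * y := by rw [c1]; group
        _ = (x * y * x⁻¹)⁻¹ * y := by rw [c2]; group
        _ = y⁻¹ * (w⁻¹ * y) := by rw [hw]; group
        _ = _ := by rw [(Commute.inv_left (show Commute w y from c0 y)).eq]; group
    have k3 : w ^ 3 = 1 := by
      have st : ∀ t, x * (w * t) * x⁻¹ = w * (x * t * x⁻¹) := fun t => by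
        rw [← mul_assoc x, ← c0 x]; group
      have : x * (x * (x * y * x⁻¹) * x⁻¹) * x⁻¹ = w * (w * (w * y)) := by
        rw [hw, st, hw, st, st, hw]
      rw [show x * (x * (x * y * x⁻¹) * x⁻¹) * x⁻¹ = x ^ 3 * y * (x ^ 3)⁻¹ by
        simp only [pow_succ, pow_zero, one_mul, mul_inv_rev, mul_assoc], c3, mul_inv_cancel_right] at this
      simpa [pow_succ, ← mul_assoc] using this.symm
    have k4 : w * w = 1 := eq_inv_iff_mul_eq_one.1 (k1.symm.trans k2)
    have : w = 1 := by rwa [pow_succ, pow_two, k4, one_mul] at k3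
    rw [← mul_inv_eq_iff_eq_mul, hw, this, one_mul]
  let X : Subgroup K := (closure ({ψ x, ψ y} : Set (MulAut M22))).comap ψ
  have key : ∀ r, r * x = x * r → r * y = y * r → X ≤ centralizer {r} := fun r h1 h2 => by
    have : closure ({ψ x, ψ y} : Set (MulAut M22)) ≤ (centralizer {r}).map ψ := (closure_le _).2 (by
      rintro _ (rfl | rfl)
      exacts [⟨x, mem_cent_single.2 h1.symm, rfl⟩, ⟨y, mem_cent_single.2 h2.symm, rfl⟩])
    refine (comap_mono this).trans ?_
    rw [comap_map_eq]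
    exact sup_le le_rfl fun k hk => mem_cent_single.2 (c k hk r)
  have ab : ∀ r ∈ X, X ≤ centralizer {r} := fun r hr =>
    key r (mem_cent_single.1 (key x rfl xy hr)) (mem_cent_single.1 (key y xy.symm rfl hr))
  have iX : X.index = 98560 := by
    have := (closure ({ψ x, ψ y} : Set (MulAut M22))).card_mul_index
    rw [c9, card_aut] at this
    rw [index_comap_of_surjective _ s]; omega
  obtain ⟨R, hR, hp⟩ := exists_syl_ge (p := 3) (P := zpowers q) (H := X)
    (isPGroup_zpowers_of_pow (k := 1) (by simpa using q3)) (zpowers_le.2 (by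
      change ψ q ∈ Subgroup.closure _; rw [hq]; exact one_mem _))
  have hR' : Syl 3 R ⊤ := hR.of_le_of_not_dvd le_top (by rw [relIndex_top_right, iX]; norm_num)
  have cR : Nat.card R = 27 := by
    rw [hR'.card_eq_pow, card_top, cK, show 6 * 887040 = 3 ^ 3 * 197120 from rfl, Nat.factorization_mul (by norm_num) (by norm_num),
      Nat.Prime.factorization_pow Nat.prime_three]
    simp [Nat.factorization_eq_zero_of_not_dvd (show ¬ 3 ∣ 197120 by norm_num)]
  have e : ⁅R, R⁆ = ⊥ := commutator_eq_bot_iff_le_centralizer.2 fun r hr s hs =>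
    mem_cent_single.1 (ab r (hR.le hr) (hR.le hs))
  have := Cfsg.Lib.Transfer.inf_commutator_inf_center_le R (by
    have := R.card_mul_index
    rw [cR, cK] at this
    rw [e, relIndex_bot_left, cR, show R.index = 197120 by omega]; norm_num)
    (show q ∈ R ⊓ commutator _ ⊓ center _ from ⟨⟨hp (mem_zpowers q), com⟩, mem_center_iff.2 fun y => (c q hq y).symm⟩)
  rwa [e, mem_bot] at this

end Cfsg.Lib.JF
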