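import Cfsg.Agent.Lib.Block2.JK3

/-! The core of the reduction of `2^{1+12}.3.Aut(M22)` centralisers to Janko-four type. -/

set_option autoImplicit false

namespace Cfsg.Lib.JF

open Subgroup Cfsg.Lib.Amalg Cfsg.Lib.Core Cfsg.Lib.Known2 Spor
open scoped commutatorElement

theorem k4_core {C : Type*} [Group C] [Finite C] {Q N M : Subgroup C} [nQ : Q.Normal] {z : C} (es : ES Q z)
    (zc : ∀ g, g * z = z * g) (cQ : Nat.card Q = 2 ^ 13) (sc : 𝐂 Q ≤ Q) (QN : Q ≤ N) (cN : Nat.card N = 3 * Nat.card Q)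
    (π : C →* MulAut M22) (sπ : Function.Surjective π) (kπ : ∀ g, π g = 1 ↔ g ∈ N)
    (hM : ∀ g, g ∈ M ↔ π g ∈ (MulAut.conj : M22 →* MulAut M22).range) (cent : ⁅M, N⁆ ≤ Q) (perf : M ≤ ⁅M, M⁆ ⊔ Q) :
    ∃ p ∈ N, orderOf p = 3 ∧ (∀ c ∈ Q, p * c = c * p → c = 1 ∨ c = z) ∧ (∃ l, l * p * l⁻¹ = p⁻¹) ∧
      p ∈ ⁅centralizer {p}, centralizer {p}⁆ := by
  have : Fact (Nat.Prime 3) := ⟨Nat.prime_three⟩
  have := Golay.simple_M22
  obtain ⟨⟨p, pN⟩, op⟩ := exists_prime_orderOf_dvd_card' (G := N) 3 (by rw [cN]; exact dvd_mul_right _ _)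
  rw [← orderOf_coe] at op
  change orderOf p = 3 at op
  have NM : N ≤ M := fun n hn => (hM n).2 (by rw [(kπ n).2 hn]; exact one_mem _)
  have nN : N.Normal := by rw [show N = π.ker from Subgroup.ext fun g => (kπ g).symm]; infer_instance
  have cP : Nat.card (zpowers p) = 3 := by rw [Nat.card_zpowers, op]
  have PN := zpowers_le.2 pN
  have p3 : p ^ 3 = 1 := op ▸ pow_orderOf_eq_one p
  have p1 : p ≠ 1 := by rintro rfl; simp at op
  have pE : p ∉ Q := fun k => by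
    have := card_dvd_of_le (zpowers_le.2 k)
    rw [cP, cQ] at this
    omega
  have zp : ∀ c ∈ zpowers p, c = 1 ∨ c = p ∨ c = p⁻¹ := by
    rintro _ ⟨n, rfl⟩
    have h3 : p ^ (3 : ℤ) = 1 := by exact_mod_cast p3
    have k : n = 3 * (n / 3) + 0 ∨ n = 3 * (n / 3) + 1 ∨ n = 3 * (n / 3 + 1) + -1 := by omega
    rcases k with k | k | k
    · left; change p ^ n = 1; rw [k, zpow_add, zpow_mul, h3, one_zpow, one_mul, zpow_zero]
    · right; left; change p ^ n = p; rw [k, zpow_add, zpow_mul, h3, one_zpow, one_mul, zpow_one]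
    · right; right; change p ^ n = p⁻¹; rw [k, zpow_add, zpow_mul, h3, one_zpow, one_mul, zpow_neg_one]
  have nP : zpowers p ≤ 𝐍 Q := by rw [normalizer_eq_top]; exact le_top
  have dj : Q ⊓ zpowers p = ⊥ := (eq_bot_iff_forall _).2 fun c hc => by
    rcases zp c hc.2 with rfl | rfl | rfl
    exacts [rfl, absurd hc.1 pE, absurd (by simpa using hc.1) pE]
  have NE : N = Q ⊔ zpowers p := by
    have := card_sup_mul_card_inf' nP
    rw [dj, card_bot, cP] at this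
    exact (eq_of_le_of_card_ge (sup_le QN PN) (by omega)).symm
  have mN : ∀ n ∈ N, ∃ e ∈ Q, ∃ c ∈ zpowers p, e * c = n := fun n hn => (mem_sup_of_le_normalizer' nP).1 (NE ▸ hn)
  have sy : Syl 3 (zpowers p) N := syl_of_not_dvd PN (IsPGroup.of_card (n := 1) cP) (by
    have := card_inf_mul_relIndex (zpowers p) N
    rw [inf_of_le_left PN, cP, cN, cQ] at this
    omega)
  have pm : ∀ l ∈ 𝐍 (zpowers p), l * p * l⁻¹ = p ∨ l * p * l⁻¹ = p⁻¹ := fun l hl =>
    (zp _ ((mem_normalizer_iff.1 hl p).1 (mem_zpowers p))).resolve_left fun k => p1 (conj_eq_one_iff.1 k)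
  have dec : ∀ g, ∃ e ∈ Q, ∃ l, g = e * l ∧ (l * p * l⁻¹ = p ∨ l * p * l⁻¹ = p⁻¹) := fun g => by
    obtain ⟨n, hn, a, ha, rfl⟩ := sy.frattini_mem (show g ∈ 𝐍 N by rw [normalizer_eq_top]; trivial)
    obtain ⟨e, he, c, hc, rfl⟩ := mN n hn
    exact ⟨e, he, c * a, mul_assoc _ _ _, pm _ (mul_mem (le_normalizer hc) ha)⟩
  have cp : ∀ c ∈ zpowers p, ∀ g ∈ centralizer {p}, c * g = g * c := by
    rintro _ ⟨n, rfl⟩ g hg
    exact (Commute.zpow_left (show Commute p g from (mem_cent_single.1 hg).symm) n).eq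
  have mD : ∀ n ∈ N, n ∈ centralizer {p} → ∃ e ∈ Q ⊓ centralizer {p}, ∃ c ∈ zpowers p, e * c = n := fun n hn np => by
    obtain ⟨e, he, c, hc, rfl⟩ := mN n hn
    exact ⟨e, ⟨he, (mul_mem_cancel_right (mem_cent_single.2 (cp c hc p (mem_cent_single.2 rfl)))).1 np⟩, c, hc, rfl⟩
  set K := M ⊓ centralizer {p} with hK
  have decM : ∀ m ∈ M, ∃ e ∈ Q, ∃ l ∈ K, m = e * l := fun m hm => by
    obtain ⟨e, he, l, rfl, hl⟩ := dec m
    have lM : l ∈ M := (mul_mem_cancel_left (NM (QN he))).1 hm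
    refine ⟨e, he, l, ⟨lM, mem_cent_single.2 (comm_of_conj_eq (hl.resolve_right fun k => pE ?_))⟩, rfl⟩
    have := cent (commutator_mem_commutator lM pN)
    rwa [commutatorElement_def, k, ← mul_inv_rev, inv_eq_of_mul_eq_one_right (show p * p * p = 1 by
      rw [← p3, pow_succ, pow_two])] at this
  have lift : ∀ a : M22, ∃ k ∈ K, π k = MulAut.conj a := fun a => by
    obtain ⟨m, hm⟩ := sπ (MulAut.conj a)
    obtain ⟨e, he, l, hl, rfl⟩ := decM m ((hM m).2 ⟨a, hm.symm⟩)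
    exact ⟨l, hl, by rwa [map_mul, (kπ e).2 (QN he), one_mul] at hm⟩
  obtain ⟨k, hk, q, hq, kq⟩ : ∃ k ∈ ⁅K, K⁆, ∃ q ∈ Q, k * q = p := by
    have e : M.map (QuotientGroup.mk' Q) = K.map (QuotientGroup.mk' Q) := le_antisymm (by
      rintro _ ⟨m, hm, rfl⟩
      obtain ⟨e, he, l, hl, rfl⟩ := decM m hm
      exact ⟨l, hl, by rw [map_mul, show QuotientGroup.mk' Q e = 1 from (QuotientGroup.eq_one_iff _).2 he, one_mul]⟩)
      (map_mono inf_le_left)
    have e2 : ⁅M, M⁆ ⊔ Q = ⁅K, K⁆ ⊔ Q := by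
      have := congrArg (comap (QuotientGroup.mk' Q)) (show ⁅M, M⁆.map (QuotientGroup.mk' Q) = ⁅K, K⁆.map (QuotientGroup.mk' Q) by
        rw [map_commutator, map_commutator, e])
      rwa [comap_map_eq, comap_map_eq, QuotientGroup.ker_mk'] at this
    exact mem_sup_of_normal_right.1 (e2 ▸ perf (NM pN))
  have kK : k ∈ K := commutator_le.2 (fun a ha b hb => mul_mem (mul_mem (mul_mem ha hb) (inv_mem ha)) (inv_mem hb)) hk
  have qp : q ∈ centralizer {p} := (mul_mem_cancel_left (mem_inf.1 kK).2).1 (kq ▸ mem_cent_single.2 rfl)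
  set D := Q ⊓ centralizer {p} with hD
  set R := Q ⊓ 𝐂 D with hR
  have nR : ∀ g ∈ centralizer {p}, ∀ x ∈ R, g * x * g⁻¹ ∈ R := fun g gp x hx => ⟨nQ.conj_mem x hx.1 g, fun d hd => by
    have := hx.2 (g⁻¹ * d * g⁻¹⁻¹) (mem_inf.2 ⟨nQ.conj_mem d hd.1 _,
      mul_mem (mul_mem (inv_mem gp) (mem_inf.1 hd).2) (inv_mem (inv_mem gp))⟩ : _ ∈ D)
    calc d * (g * x * g⁻¹) = g * (g⁻¹ * d * g⁻¹⁻¹ * x) * g⁻¹ := by group
      _ = _ := by rw [this]; group⟩
  have nc : ∀ x ∈ K, π x ≠ 1 → ¬ R ≤ centralizer {x} := fun x hx x1 hc => by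
    let W : Subgroup M22 := ((K ⊓ 𝐂 R).map π).comap MulAut.conj
    have nW : W.Normal := ⟨fun a ⟨w, hw, e⟩ b => by
      obtain ⟨l, hl, el⟩ := lift b
      refine ⟨l * w * l⁻¹, ⟨K.mul_mem (K.mul_mem hl hw.1) (K.inv_mem hl), fun r hr => ?_⟩, by
        simp only [map_mul, map_inv, el, e]⟩
      have := hw.2 (l⁻¹ * r * l⁻¹⁻¹) (nR _ (inv_mem (mem_inf.1 hl).2) r hr)
      calc r * (l * w * l⁻¹) = l * (l⁻¹ * r * l⁻¹⁻¹ * w) * l⁻¹ := by group
        _ = _ := by rw [this]; group⟩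
    have WT : W = ⊤ := nW.eq_bot_or_eq_top.resolve_left fun e => by
      obtain ⟨a, ha⟩ := (hM x).1 hx.1
      have : a ∈ W := ⟨x, ⟨hx, fun r hr => mem_cent_single.1 (hc hr)⟩, ha.symm⟩
      rw [e, mem_bot] at this
      exact x1 (by rw [← ha, this, map_one])
    have sp : ∀ l ∈ K, ∃ w ∈ 𝐂 R, w ∈ centralizer {p} ∧ ∃ c ∈ zpowers p, l = w * c := fun l hl => by
      obtain ⟨a, ha⟩ := (hM l).1 hl.1
      obtain ⟨w, hw, e⟩ : a ∈ W := WT.ge (mem_top a)
      obtain ⟨d, hd, c, hc, r⟩ := mD (w⁻¹ * l) ((kπ _).1 (by rw [map_mul, map_inv, e, ha, inv_mul_cancel]))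
        (mul_mem (inv_mem (mem_inf.1 (mem_inf.1 hw).1).2) (mem_inf.1 hl).2)
      exact ⟨w * d, mul_mem (mem_inf.1 hw).2 fun r hr => (hr.2 d hd).symm, mul_mem (mem_inf.1 (mem_inf.1 hw).1).2 (mem_inf.1 hd).2, c, hc, by rw [mul_assoc, r]; group⟩
    have kR : k ∈ 𝐂 R := commutator_le.2 (fun a ha b hb => by
      obtain ⟨w, hw, wp, c, hc, rfl⟩ := sp a ha
      obtain ⟨w', hw', wp', c', hc', r⟩ := sp b hb
      have : ⁅w * c, b⁆ = ⁅w, w'⁆ := by
        calc _ = w * (c * b) * c⁻¹ * w⁻¹ * b⁻¹ := by rw [commutatorElement_def]; group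
          _ = w * w' * (c' * w⁻¹) * c'⁻¹ * w'⁻¹ := by rw [cp c hc b hb.2, r]; group
          _ = _ := by rw [cp c' hc' _ (inv_mem wp), commutatorElement_def]; group
      rw [this]
      exact mul_mem (mul_mem (mul_mem hw hw') (inv_mem hw)) (inv_mem hw')) hk
    have pR : p ∈ 𝐂 R := kq ▸ mul_mem kR fun r hr => (hr.2 q ⟨hq, qp⟩).symm
    have R2 : R ≤ zpowers z := fun r hr => es.mem_zp.2 (k2_tri es p3 (zc p) (fun x hx => nQ.conj_mem x hx p) hr.1
      (pR r hr).symm fun d hd dp => (hr.2 d ⟨hd, mem_cent_single.2 dp.symm⟩).symm)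
    have cD : Nat.card D * Nat.card R = 2 * Nat.card Q := es_cent es (inf_le_left : D ≤ Q) ⟨es.mem, mem_cent_single.2 (zc p).symm⟩
    have c2 := card_le_of_le R2
    rw [card_zpowers_invol es.sq es.ne] at c2
    have : D = Q := eq_of_le_of_card_ge inf_le_left (by nlinarith)
    exact pE (sc fun x hx => mem_cent_single.1 (this.ge hx).2)
  have el : ∀ r : ℕ, r.Prime → r ∣ 443520 → ¬ r ∣ 3 * 2 ^ 13 → ∃ u ∈ K, u ^ r = 1 ∧ π u ≠ 1 := fun r hr h1 h2 => by
    have : Fact r.Prime := ⟨hr⟩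
    obtain ⟨a, oa⟩ := exists_prime_orderOf_dvd_card' (G := M22) r (by rw [Golay.card_M22]; exact h1)
    obtain ⟨u, hu, e⟩ := lift a
    refine ⟨u ^ Nat.card N, pow_mem hu _, ?_, fun t => h2 ?_⟩
    · rw [← pow_mul, mul_comm, pow_mul]
      exact congrArg Subtype.val (pow_card_eq_one' (G := N) (x := ⟨u ^ r, (kπ _).1 (by
        rw [map_pow, e, ← map_pow, ← oa, pow_orderOf_eq_one, map_one])⟩))
    · rw [map_pow, e, ← map_pow, map_eq_one_iff _ conj_inj, ← orderOf_dvd_iff_pow_eq_one, oa, cN, cQ] at t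
      exact t
  obtain ⟨u, hu, u7, u1⟩ := el 7 (by norm_num) (by norm_num) (by norm_num)
  obtain ⟨v, hv, v11, v1⟩ := el 11 (by norm_num) (by norm_num) (by norm_num)
  have fp := fp12 es cQ p3 u7 v11 (fun g _ x hx => nQ.conj_mem x hx g) (zc p) (zc u) (zc v) (mem_cent_single.1 hu.2)
    (mem_cent_single.1 hv.2) (nc u hu u1) (nc v hv v1)
  have com : p ∈ ⁅centralizer {p}, centralizer {p}⁆ := by
    refine commutator_mono (inf_le_right : K ≤ _) (inf_le_right : K ≤ _) ?_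
    rcases fp q hq (mem_cent_single.1 qp).symm with rfl | rfl
    · rw [mul_one] at kq
      have := hk
      rwa [kq] at this
    · have e : k = p * q := by rw [← kq, mul_assoc, es.sq, mul_one]
      have : k ^ 4 = p := by
        rw [e, (show Commute p q from zc p).mul_pow, pow_succ, p3, one_mul, show 4 = 2 * 2 from rfl, pow_mul, pow_two q,
          es.sq, one_pow, mul_one]
      have t := pow_mem hk 4
      rwa [this] at t
  refine ⟨p, pN, op, fp, ?_, com⟩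
  by_contra! hl
  let ψ := π.comp (centralizer {p}).subtype
  have kψ : ∀ x ∈ N, x ∈ centralizer {p} → ∃ c ∈ zpowers p, ∃ y ∈ zpowers z, c * y = x := fun x hx xp => by
    obtain ⟨d, hd, c, hc, r⟩ := mD x hx xp
    exact ⟨c, hc, d, es.mem_zp.2 (fp d hd.1 (mem_cent_single.1 hd.2).symm), by rw [cp c hc d hd.2, r]⟩
  have sψ : Function.Surjective ψ := fun b => by
    obtain ⟨g, rfl⟩ := sπ b
    obtain ⟨e, he, l, rfl, lp⟩ := dec g
    exact ⟨⟨l, mem_cent_single.2 (comm_of_conj_eq (lp.resolve_right (hl l)))⟩, by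
      rw [map_mul, (kπ e).2 (QN he), one_mul]; rfl⟩
  refine p1 (congrArg Subtype.val (k3_nonab ψ sψ (fun x hx g => Subtype.ext ?_) ?_ (q := ⟨p, mem_cent_single.2 rfl⟩)
    (Subtype.ext p3) ((kπ p).2 pN) ?_))
  · obtain ⟨c, hc, y, hy, r⟩ := kψ x ((kπ _).1 hx) x.2
    change (x : C) * g = g * x
    rcases es.mem_zp.1 hy with rfl | rfl
    · rw [← r, mul_one, cp c hc g g.2]
    · rw [← r, mul_assoc, ← zc, ← mul_assoc, cp c hc g g.2, mul_assoc]
  · have c0 := card_map_mul_card_inf_ker ψ ⊤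
    have nz : zpowers z ≤ 𝐍 (zpowers p) := zpowers_le.2 (centralizer_le_normalizer _ (mem_cent_zpowers.2 (zc p).symm))
    have : ψ.ker.map (centralizer {p}).subtype = zpowers p ⊔ zpowers z := by
      ext x
      rw [mem_sup_of_le_normalizer' nz]
      constructor
      · rintro ⟨x, hx, rfl⟩
        exact kψ x ((kπ _).1 hx) x.2
      · rintro ⟨c, hc, y, hy, rfl⟩
        exact ⟨⟨c * y, mul_mem (zpowers_le.2 (mem_cent_single.2 rfl) hc) (zpowers_le.2 (mem_cent_single.2 (zc p).symm) hy)⟩,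
          (kπ _).2 (mul_mem (PN hc) (zpowers_le.2 (QN es.mem) hy)), rfl⟩
    have c2 := card_sup_mul_card_inf' nz
    rw [show zpowers p ⊓ zpowers z = ⊥ from eq_bot_iff.2 (dj ▸ le_inf (inf_le_right.trans (zpowers_le.2 es.mem)) inf_le_left),
      card_bot, cP, card_zpowers_invol es.sq es.ne, ← this, card_map_subtype] at c2
    rw [← MonoidHom.range_eq_map, MonoidHom.range_eq_top.2 sψ, card_top, card_aut, inf_top_eq, card_top] at c0
    omega
  · rw [← map_subtype_commutator] at com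
    obtain ⟨x, hx, e⟩ := com
    rwa [show x = ⟨p, mem_cent_single.2 rfl⟩ from Subtype.ext e] at hx

end Cfsg.Lib.JF
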