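import Cfsg.Agent.Lib.Block2.JF5
import Cfsg.Agent.Lib.Layer.FStar

/-! A non-split `3·Aut(M₂₂)` quotient: the index-two subgroup. -/

set_option autoImplicit false

namespace Cfsg.Lib.JF

open Subgroup Spor
open scoped commutatorElement

theorem k5_M {C : Type*} [Group C] [Finite C] {Q N : Subgroup C} [Q.Normal] [N.Normal] (hQN : Q ≤ N)
    (hN3 : Nat.card N = 3 * Nat.card Q) (hns : ∀ K : Subgroup C, K ⊓ N = Q → K ⊔ N = ⊤ → False) (e : C ⧸ N ≃* MulAut M22) :
    ∃ M : Subgroup C, M.Normal ∧ N ≤ M ∧ M.index = 2 ∧ ⁅M, N⁆ ≤ Q ∧ M ≤ ⁅M, M⁆ ⊔ Q ∧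
      (∀ c : C, (∀ m ∈ M, c * m * c⁻¹ * m⁻¹ ∈ N) → c ∈ M) ∧ Spor.IsoM22 (M ⧸ N.subgroupOf M) := by
  let ψ : C →* MulAut M22 := e.toMonoidHom.comp (QuotientGroup.mk' N)
  have hs : Function.Surjective ψ := e.surjective.comp (QuotientGroup.mk'_surjective N)
  have hk : ∀ c, ψ c = 1 ↔ c ∈ N := fun c => by
    simp [ψ]
  have hk' : ψ.ker = N := Subgroup.ext hk
  let I := (MulAut.conj : M22 →* MulAut M22).range
  have hI : I.index = 2 := by
    have := I.index_mul_card
    rw [card_aut, ← Nat.card_congr (MonoidHom.ofInjective conj_inj).toEquiv, Golay.card_M22] at this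
    omega
  let M := I.comap ψ
  have hM : M.index = 2 := (I.index_comap_of_surjective hs).trans hI
  have hMn : M.Normal := normal_of_index_eq_two hM
  have hNM : N ≤ M := fun n hn => by
    change ψ n ∈ I
    rw [(hk n).2 hn]; exact one_mem _
  have r3 : Q.relIndex N = 3 := by
    have := (Q.subgroupOf N).index_mul_card
    rw [Nat.card_congr (subgroupOfEquivOfLe hQN).toEquiv, hN3] at this
    exact Nat.eq_of_mul_eq_mul_right Nat.card_pos this
  have hMm : M.map ψ = I := map_comap_eq_self_of_surjective hs I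
  refine ⟨M, hMn, hNM, hM, ?_, ?_, fun c hc => hNM ((hk c).1 (MulEquiv.ext fun g => conj_inj ?_)), ?_⟩
  · let Nb := N.map (QuotientGroup.mk' Q)
    have : Nb.Normal := Subgroup.Normal.map inferInstance _ (QuotientGroup.mk'_surjective Q)
    have c3 : Nat.card Nb = 3 := by
      rw [← r3, ← relIndex_ker, QuotientGroup.ker_mk']
    have : Fact (Nat.Prime 3) := ⟨by norm_num⟩
    have cy : IsCyclic Nb := isCyclic_of_prime_card c3
    let χ : C →* MulAut Nb := (MulAut.conjNormal (H := Nb)).comp (QuotientGroup.mk' Q)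
    have c2 : χ.ker.index ∣ 2 := by
      rw [index_ker]
      have := χ.range.card_subgroup_dvd_card
      rwa [IsCyclic.card_mulAut, c3] at this
    have h1 : N ≤ χ.ker := fun n hn => MulEquiv.ext fun x => Subtype.ext (by
      have := congrArg Subtype.val (cy.commGroup.mul_comm ⟨_, mem_map_of_mem _ hn⟩ x)
      exact mul_inv_eq_iff_eq_mul.2 this)
    have h2 : M ≤ χ.ker := by
      rcases (Nat.dvd_prime Nat.prime_two).1 c2 with t | t
      · rw [index_eq_one.1 t]; exact le_top
      · have t2 := idx2 ((index_map_eq χ.ker hs (hk' ▸ h1)).trans t)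
        intro m hm
        have : m ∈ (χ.ker.map ψ).comap ψ := t2 ▸ hm
        rwa [comap_map_eq_self (hk' ▸ h1)] at this
    refine commutator_le.2 fun m hm n hn => (QuotientGroup.eq_one_iff _).1 ?_
    have := congrArg Subtype.val (DFunLike.congr_fun (h2 hm) ⟨_, mem_map_of_mem (QuotientGroup.mk' Q) hn⟩)
    rw [commutatorElement_def]
    exact mul_inv_eq_one.2 this
  · let K0 := ⁅M, M⁆ ⊔ Q
    have : K0.Normal := inferInstance
    have p1 : ⁅I, I⁆ = I := by
      have := Golay.simple_M22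
      have t : ⁅(⊤ : Subgroup M22), (⊤ : Subgroup M22)⁆ = ⊤ := by
        refine ((inferInstance : (⁅(⊤ : Subgroup M22), (⊤ : Subgroup M22)⁆).Normal).eq_bot_or_eq_top).resolve_left fun t => ?_
        have t2 : center M22 = ⊤ := eq_top_iff.2 fun a _ => mem_center_iff.2 fun g =>
          commutatorElement_eq_one_iff_mul_comm.1 (mem_bot.1 (t ▸ commutator_mem_commutator (mem_top g) (mem_top a)))
        exact bot_ne_top (center_M22.symm.trans t2)
      simp only [I, MonoidHom.range_eq_map, ← map_commutator, t]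
    have p2 : M ≤ K0 ⊔ N := by
      have : M = ⁅M, M⁆ ⊔ N := by
        rw [← hk', ← comap_map_eq, map_commutator, hMm, p1]
      exact this.le.trans (sup_le_sup_right le_sup_left _)
    have p3 : K0 ≤ M := sup_le (commutator_le_left _ _) (hQN.trans hNM)
    by_contra hc
    have p4 : K0 ⊓ N = Q := by
      have t := relIndex_mul_relIndex Q (K0 ⊓ N) N (le_inf le_sup_right hQN) inf_le_right
      rw [r3] at t
      rcases (Nat.dvd_prime Nat.prime_three).1 (Dvd.intro _ t) with t1 | t1
      · exact le_antisymm (relIndex_eq_one.1 t1) (le_inf le_sup_right hQN)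
      · rw [t1] at t
        have t2 : N ≤ K0 ⊓ N := relIndex_eq_one.1 (by omega)
        exact absurd (p2.trans (sup_le le_rfl (t2.trans inf_le_left))) hc
    have p5 : ∀ m ∈ M, m ^ 3 ∈ K0 := fun m hm => by
      obtain ⟨k, hk1, n, hn, rfl⟩ := mem_sup_of_normal_left.1 (p2 hm)
      have t : n ^ 3 ∈ K0 := (le_sup_right : Q ≤ K0) (r3 ▸ Q.pow_relIndex_mem hn)
      rw [← QuotientGroup.eq_one_iff] at hk1 t ⊢
      rwa [QuotientGroup.mk_pow, QuotientGroup.mk_mul, hk1, one_mul, ← QuotientGroup.mk_pow]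
    obtain ⟨c, hc'⟩ : ∃ c, c ∉ M := by
      by_contra! t
      rw [(eq_top_iff' _).2 t, index_top] at hM
      omega
    have q1 : c ^ 3 ∉ M := fun t => hc' (by
      have := M.mul_mem t (M.inv_mem (sq_mem_of_index_two hM c))
      rwa [show c ^ 3 * (c ^ 2)⁻¹ = c by group] at this)
    have q2 : (QuotientGroup.mk' K0 (c ^ 3)) ^ 2 = 1 := by
      rw [← map_pow, ← pow_mul, mul_comm, pow_mul]
      exact (QuotientGroup.eq_one_iff _).2 (p5 _ (sq_mem_of_index_two hM c))
    refine hns ((zpowers (QuotientGroup.mk' K0 (c ^ 3))).comap (QuotientGroup.mk' K0)) (le_antisymm ?_ ?_) ?_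
    · rintro x ⟨⟨k, hx⟩, hx'⟩
      refine p4.le ⟨?_, hx'⟩
      have hx2 : QuotientGroup.mk' K0 (c ^ 3) ^ k = QuotientGroup.mk' K0 x := hx
      rw [zpow_eq_zpow_emod' k q2] at hx2
      rcases Int.emod_two_eq_zero_or_one k with t | t
      · rw [show k % ((2 : ℕ) : ℤ) = 0 from t, zpow_zero] at hx2
        exact (QuotientGroup.eq_one_iff _).1 hx2.symm
      · rw [show k % ((2 : ℕ) : ℤ) = 1 from t, zpow_one] at hx2
        exact absurd (by simpa using M.mul_mem (hNM hx') (M.inv_mem (p3 (QuotientGroup.eq.1 hx2)))) q1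
    · refine le_inf (fun x hx => ?_) hQN
      change QuotientGroup.mk' K0 x ∈ zpowers _
      rw [show QuotientGroup.mk' K0 x = 1 from (QuotientGroup.eq_one_iff _).2 ((le_sup_right : Q ≤ K0) hx)]
      exact one_mem _
    · have t1 : M ≤ (zpowers (QuotientGroup.mk' K0 (c ^ 3))).comap (QuotientGroup.mk' K0) ⊔ N :=
        p2.trans (sup_le_sup_right (fun x hx => by
          change QuotientGroup.mk' K0 x ∈ zpowers _
          rw [show QuotientGroup.mk' K0 x = 1 from (QuotientGroup.eq_one_iff _).2 hx]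
          exact one_mem _) _)
      have t2 : c ^ 3 ∈ (zpowers (QuotientGroup.mk' K0 (c ^ 3))).comap (QuotientGroup.mk' K0) ⊔ N :=
        mem_sup_left (mem_zpowers _)
      refine (eq_top_iff' _).2 fun x => ?_
      by_cases hx : x ∈ M
      · exact t1 hx
      · have := mul_mem (t1 ((mul_mem_iff_of_index_two hM (a := x) (b := (c ^ 3)⁻¹)).2 (by simp [hx, q1]))) t2
        rwa [inv_mul_cancel_right] at this
  · obtain ⟨m, hm⟩ := hs (MulAut.conj g)
    have t := (hk _).2 (hc m (show ψ m ∈ I from hm ▸ ⟨g, rfl⟩))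
    rw [map_mul, map_mul, map_mul, map_inv, map_inv, mul_inv_eq_one, hm] at t
    rw [MulAut.one_apply, ← t]
    ext x
    simp
  · let f : M →* M22 := (MonoidHom.ofInjective conj_inj).symm.toMonoidHom.comp (ψ.subgroupComap I)
    have f1 : Function.Surjective f := (MonoidHom.ofInjective conj_inj).symm.surjective.comp
      (ψ.subgroupComap_surjective_of_surjective I hs)
    have f2 : N.subgroupOf M = f.ker := Subgroup.ext fun x => by
      rw [mem_subgroupOf, ← hk, MonoidHom.mem_ker]
      simp only [f, MonoidHom.comp_apply, MulEquiv.coe_toMonoidHom, MulEquiv.map_eq_one_iff]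
      exact ⟨fun t => Subtype.ext t, fun t => congrArg Subtype.val t⟩
    exact ⟨(QuotientGroup.quotientMulEquivOfEq f2).trans (QuotientGroup.quotientKerEquivOfSurjective f f1)⟩

theorem k5_cen {G : Type*} [Group G] [Finite G] {τ : G} {Q : Subgroup (centralizer ({τ} : Set G))} {w : ℕ}
    (hS : Cfsg.IsExtraspecialCentralizerSetting τ Q w) : centralizer (Q : Set (centralizer ({τ} : Set G))) ≤ Q := by
  rw [← hS.2.1]
  exact Layer.centralizer_fstar_le

end Cfsg.Lib.JF
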