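import Cfsg.Agent.Lib.Block2.JK4

/-! Involution centralisers of shape `2^{1+12}.3.Aut(M22)` give Janko-four type. -/

set_option autoImplicit false

namespace Cfsg.Lib.JF

open Subgroup Cfsg.Lib.Amalg Cfsg.Lib.Core Cfsg.Lib.Known2 Spor
open scoped commutatorElement

theorem k6_xs {G H : Type*} [Group G] [Group H] {p : ℕ} (e : G ≃* H) (h : IsExtraspecial p G) : IsExtraspecial p H := by
  have h1 : (center G).map (e : G →* H) = center H := by
    rw [← Core.centralizer_top_eq_center, ← Core.centralizer_top_eq_center, Core.map_equiv_centralizer,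
      map_top_of_surjective _ e.surjective]
  refine ⟨⟨h.1.1.of_equiv e, ?_, ?_⟩, by rw [← h1, card_map_of_injective e.injective, h.2]⟩
  · rw [← h1, ← h.1.2.1]
    refine le_antisymm (fun x hx => ⟨e.symm x, frattini_le_comap_frattini_of_surjective (φ := (e.symm : H →* G))
      e.symm.surjective hx, by simp⟩) (map_le_iff_le_comap.2 (frattini_le_comap_frattini_of_surjective e.surjective))
  · rw [← h1, ← h.1.2.2, _root_.commutator_def, _root_.commutator_def, map_commutator, map_top_of_surjective _ e.surjective]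

theorem k6_pi {C : Type*} [Group C] [Finite C] {N M : Subgroup C} [nN : N.Normal] [nM : M.Normal] (hNM : N ≤ M)
    (hM : M.index = 2) (hout : ∀ c : C, (∀ m ∈ M, c * m * c⁻¹ * m⁻¹ ∈ N) → c ∈ M) (hM22 : IsoM22 (M ⧸ N.subgroupOf M)) :
    ∃ π : C →* MulAut M22, Function.Surjective π ∧ (∀ g, π g = 1 ↔ g ∈ N) ∧
      ∀ g, g ∈ M ↔ π g ∈ (MulAut.conj : M22 →* MulAut M22).range := by
  obtain ⟨e⟩ := hM22
  have hc : ∀ c : C, (N.subgroupOf M).map (MulAut.conjNormal (H := M) c : M →* M) = N.subgroupOf M := fun c => by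
    ext x
    refine ⟨?_, fun hx => ⟨MulAut.conjNormal (H := M) c⁻¹ x, ?_, by simp⟩⟩
    · rintro ⟨y, hy, rfl⟩
      exact nN.conj_mem _ hy c
    · exact nN.conj_mem _ hx c⁻¹
  let ρ : C →* MulAut (M ⧸ N.subgroupOf M) := MonoidHom.mk' (fun c => QuotientGroup.congr _ _ (MulAut.conjNormal c) (hc c))
    fun a b => MulEquiv.ext fun x => QuotientGroup.induction_on x fun y => by
      simp only [map_mul, MulAut.mul_apply, QuotientGroup.congr_mk]
  let π : C →* MulAut M22 := (MulAut.congr e).toMonoidHom.comp ρ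
  let f : M →* M22 := e.toMonoidHom.comp (QuotientGroup.mk' _)
  have sf : Function.Surjective f := e.surjective.comp (QuotientGroup.mk'_surjective _)
  have kf : ∀ m, f m = 1 ↔ (m : C) ∈ N := fun m => by
    simp only [f, MonoidHom.comp_apply, MulEquiv.coe_toMonoidHom, map_eq_one_iff e e.injective, QuotientGroup.mk'_apply,
      QuotientGroup.eq_one_iff, mem_subgroupOf]
  have key : ∀ c m, π c (f m) = f (MulAut.conjNormal c m) := fun c m => by
    change e (ρ c (e.symm (e (QuotientGroup.mk m)))) = _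
    rw [e.symm_apply_apply]; rfl
  clear_value π f
  have inn : ∀ m : M, π m = MulAut.conj (f m) := fun m => MulEquiv.ext fun a => by
    obtain ⟨y, rfl⟩ := sf a
    rw [key, MulAut.conj_apply, ← map_inv, ← map_mul, ← map_mul]; rfl
  have kπ : ∀ g, π g = 1 ↔ g ∈ N := fun g => by
    refine ⟨fun h => ?_, fun h => by rw [show π g = _ from inn ⟨g, hNM h⟩, (kf _).2 h, map_one]⟩
    have gM : g ∈ M := hout g fun m hm => (kf (MulAut.conjNormal g ⟨m, hm⟩ * (⟨m, hm⟩ : M)⁻¹)).1 (by
      rw [map_mul, map_inv, ← key, h, MulAut.one_apply, mul_inv_cancel])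
    exact (kf ⟨g, gM⟩).1 (conj_inj (by rw [← inn, map_one]; exact h))
  refine ⟨π, MonoidHom.range_eq_top.1 (eq_top_of_card_eq _ ?_), kπ, fun g => ⟨fun h => ⟨_, (inn ⟨g, h⟩).symm⟩, ?_⟩⟩
  · rw [← index_ker, show π.ker = N from Subgroup.ext kπ, ← relIndex_mul_index hNM, hM, card_aut,
      show N.relIndex M = Nat.card M22 from Nat.card_congr e.toEquiv, Golay.card_M22]
  · rintro ⟨a, ha⟩
    obtain ⟨m, rfl⟩ := sf a
    exact (mul_mem_cancel_left (M.inv_mem m.2)).1 (hNM ((kπ _).1 (by rw [map_mul, map_inv, inn, ha, inv_mul_cancel])))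

theorem k6_core {C : Type*} [Group C] [Finite C] {Q N : Subgroup C} [Q.Normal] (cQ : Nat.card Q = 2 ^ 13)
    (cN : Nat.card N = 3 * Nat.card Q) (π : C →* MulAut M22) (sπ : Function.Surjective π) (kπ : ∀ g, π g = 1 ↔ g ∈ N) :
    pCore 2 C = Q := by
  have : Fact (Nat.Prime 2) := ⟨Nat.prime_two⟩
  have := Golay.simple_M22
  have n1 : ((pCore 2 C).map π).Normal := Subgroup.Normal.map inferInstance _ sπ
  have p1 : IsPGroup 2 (((pCore 2 C).map π).comap (MulAut.conj : M22 →* MulAut M22)) :=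
    ((isPGroup_pCore 2 C).map π).comap_of_injective _ conj_inj
  have b : ((pCore 2 C).map π).comap (MulAut.conj : M22 →* MulAut M22) = ⊥ :=
    (Subgroup.Normal.eq_bot_or_eq_top inferInstance).resolve_right fun t => by
      obtain ⟨n, hn⟩ := p1.exists_card_eq
      rw [t, card_top, Golay.card_M22] at hn
      have : 3 ∣ 2 ^ n := hn ▸ by norm_num
      have := Nat.prime_three.dvd_of_dvd_pow this
      omega
  have ON : pCore 2 C ≤ N := fun o ho => (kπ o).1 (MulEquiv.ext fun a => by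
    have m : π o ∈ (pCore 2 C).map π := ⟨o, ho, rfl⟩
    have : π o a * a⁻¹ ∈ ((pCore 2 C).map π).comap (MulAut.conj : M22 →* MulAut M22) := by
      rw [mem_comap, show MulAut.conj (π o a * a⁻¹) = π o * (MulAut.conj a * (π o)⁻¹ * (MulAut.conj a)⁻¹) by ext1 x; simp [mul_assoc]]
      exact mul_mem m (n1.conj_mem _ (inv_mem m) _)
    rw [b, mem_bot, mul_inv_eq_one] at this
    exact this)
  obtain ⟨n, hn⟩ := (isPGroup_pCore 2 C).exists_card_eq
  refine (eq_of_le_of_card_ge (le_pCore (IsPGroup.of_card cQ)) (Nat.le_of_dvd Nat.card_pos ?_)).symm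
  have := card_dvd_of_le ON
  rw [cN, hn] at this
  rw [hn]
  exact Nat.Coprime.dvd_of_dvd_mul_left (Nat.Coprime.pow_left n (by norm_num)) this

theorem janko_of_1670 {G : Type*} [Group G] [Finite G] (t : G) (ht : orderOf t = 2)
    (Q N M : Subgroup (centralizer ({t} : Set G))) [Q.Normal] [nN : N.Normal] [M.Normal] (hQN : Q ≤ N) (hNM : N ≤ M)
    (hM : M.index = 2) (hQ : IsExtraspecial 2 Q) (hcard : Nat.card Q = 2 ^ 13) (hN : Nat.card N = 3 * Nat.card Q)
    (hcent : ⁅M, N⁆ ≤ Q) (hperf : M ≤ ⁅M, M⁆ ⊔ Q) (h2c : centralizer (Q : Set (centralizer ({t} : Set G))) ≤ Q)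
    (hout : ∀ c : centralizer ({t} : Set G), (∀ m ∈ M, c * m * c⁻¹ * m⁻¹ ∈ N) → c ∈ M)
    (hM22 : IsoM22 (M ⧸ N.subgroupOf M)) : ¬ IsMulCommutative G ∧ IsOfJankoFourTypeAt t := by
  obtain ⟨π, sπ, kπ, mπ⟩ := k6_pi hNM hM hout hM22
  let z : centralizer ({t} : Set G) := ⟨t, mem_cent_single.2 rfl⟩
  have zc : ∀ g, g * z = z * g := fun g => Subtype.ext (mem_cent_single.1 g.2)
  obtain ⟨w, -, es⟩ := exists_ES hQ
  obtain rfl : z = w := (es.of_cen z (h2c fun x _ => zc x) fun y _ => (zc y).symm).resolve_left fun k =>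
    ne_one_of_orderOf_two ht (congrArg Subtype.val k)
  obtain ⟨p, pN, op, fp, ⟨l, hl⟩, com⟩ := k4_core es zc hcard h2c hQN hN π sπ kπ mπ hcent hperf
  have tc : twoCoreOfCentralizer t = Q.map (Subgroup.subtype _) := by
    rw [twoCoreOfCentralizer, k6_core hcard hN π sπ kπ]
  have cz : centralizer (zpowers (p : G) : Set G) = centralizer {(p : G)} := by ext; rw [mem_cent_zpowers, mem_cent_single]
  have sN : (N.map (Subgroup.subtype _)).subgroupOf (centralizer ({t} : Set G)) = N :=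
    comap_map_eq_self_of_injective (subtype_injective _) N
  have hl' : (l : G) * p * (l : G)⁻¹ = (p : G)⁻¹ := congrArg Subtype.val hl
  refine ⟨fun hc => ?_, zpowers (p : G), ht, ?_, ?_, ?_, ⟨N.map (Subgroup.subtype _), ?_, map_subtype_le _, fun g hg => ?_, ?_,
    ⟨by rw [sN]; exact nN, ⟨?_⟩⟩, zpowers_le.2 ⟨p, pN, rfl⟩⟩, ?_, ?_, fun e => ?_, ?_⟩
  · obtain ⟨x, -, y, -, e⟩ := es.nonab
    exact e (Subtype.ext (hc.is_comm.comm _ _))
  · rw [tc]; exact k6_xs (equivMapOfInjective Q _ (subtype_injective _)) hQ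
  · rw [tc, card_map_subtype, hcard]
  · rw [tc]
    exact fun g hg => ⟨⟨g, hg.1⟩, h2c fun x hx => Subtype.ext (hg.2 x ⟨x, hx, rfl⟩), rfl⟩
  · rw [tc]; exact map_mono hQN
  · refine mem_normalizer_fintype ?_
    rintro _ ⟨n, hn, rfl⟩
    exact ⟨_, nN.conj_mem n hn ⟨g, hg⟩, rfl⟩
  · rw [tc, card_map_subtype, card_map_subtype, hN]
  · have : ((N.map (Subgroup.subtype _)).subgroupOf (centralizer ({t} : Set G))).Normal := by rw [sN]; exact nN
    exact (QuotientGroup.quotientMulEquivOfEq (sN.trans (Subgroup.ext fun g => (kπ g).symm : N = π.ker))).trans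
      (QuotientGroup.quotientKerEquivOfSurjective π sπ)
  · rw [Nat.card_zpowers, orderOf_coe, op]
  · rw [tc, cz]
    refine le_antisymm ?_ (zpowers_le.2 ⟨⟨z, es.mem, rfl⟩, mem_cent_single.2 (congrArg Subtype.val (zc p)).symm⟩)
    rintro _ ⟨⟨c, hc, rfl⟩, cp⟩
    rcases fp c hc (Subtype.ext (mem_cent_single.1 cp).symm) with rfl | rfl
    exacts [one_mem _, mem_zpowers t]
  · have m : (l : G) ∈ centralizer ({t} : Set G) ⊓ 𝐍 (zpowers (p : G)) := ⟨l.2, mem_normalizer_fintype (by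
      rintro _ ⟨n, rfl⟩
      exact ⟨-n, by rw [← conj_zpow, hl']; simp⟩)⟩
    rw [e, cz] at m
    rw [conj_eq_of_comm (mem_cent_single.1 m.2), eq_inv_iff_mul_eq_one, ← pow_two, ← orderOf_dvd_iff_pow_eq_one,
      orderOf_coe, op] at hl'
    omega
  · rw [cz]
    have := mem_map_of_mem (Subgroup.subtype _) com
    rw [map_commutator] at this
    have k : (centralizer {p}).map (Subgroup.subtype _) ≤ centralizer ({t} : Set G) ⊓ centralizer {(p : G)} := by
      rintro _ ⟨x, hx, rfl⟩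
      exact ⟨x.2, mem_cent_single.2 (congrArg Subtype.val (mem_cent_single.1 hx))⟩
    exact zpowers_le.2 (commutator_mono k k this)

end Cfsg.Lib.JF
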