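import Cfsg.Prelude.Def_Spor_J4

/-! Recognition of the presented fourth Janko group from generators and relators. -/

set_option autoImplicit false

namespace Cfsg.Lib.JF

open Cfsg.Spor

/-- The twelve relations. -/
structure RelJ4 {G : Type*} [Group G] (x y t : G) : Prop where
  r1 : x ^ 2 = 1
  r2 : y ^ 3 = 1
  r3 : (x * y) ^ 23 = 1
  r4 : (x⁻¹ * y⁻¹ * x * y) ^ 12 = 1
  r5 : (x⁻¹ * (y * x * y)⁻¹ * x * (y * x * y)) ^ 5 = 1
  r6 : (x * y * ((x * y * x * (y⁻¹)) ^ 3)) ^ 4 = 1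
  r7 : ((x * y * x * y * x * (y⁻¹)) ^ 3) * ((x * y * x * (y⁻¹) * x * (y⁻¹)) ^ 3) = 1
  r8 : t ^ 2 = 1
  r9 : t⁻¹ * (y * x * y * ((x * (y⁻¹)) ^ 2) * ((x * y) ^ 3))⁻¹ * t * (y * x * y * ((x * (y⁻¹)) ^ 2) * ((x * y) ^ 3)) = 1
  r10 : t⁻¹ * x⁻¹ * t * x = 1
  r11 : (y * ((y * x * (y⁻¹) * x * y * x * (y⁻¹) * x)⁻¹ * t * (y * x * (y⁻¹) * x * y * x * (y⁻¹) * x))) ^ 3 = 1
  r12 : (((y * x * y * x * y * x * y) ^ 3) * t * ((((x * y) ^ 3) * y * ((x * y) ^ 6) * y)⁻¹ * t *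
    (((x * y) ^ 3) * y * ((x * y) ^ 6) * y))) ^ 2 = 1

theorem RelJ4.iso {G : Type*} [Group G] [Nontrivial G] [IsSimpleGroup J4] {x y t : G} (h : RelJ4 x y t)
    (hg : ∀ J : Subgroup G, x ∈ J → y ∈ J → t ∈ J → J = ⊤) : IsoJ4 G := by
  let f : J4.Gen → G := fun a => match a with
    | .x => x
    | .y => y
    | .t => t
  have hf : ∀ r ∈ coxRelators J4.edges ∪ {r | r ∈ J4.extra}, FreeGroup.lift f r = 1 := by
    rintro r (⟨a, ha, -⟩ | hr)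
    · simp [coxNodes, J4.edges] at ha
    simp only [J4.extra, Set.mem_setOf_eq, List.mem_cons, List.not_mem_nil, or_false] at hr
    rcases hr with rfl | rfl | rfl | rfl | rfl | rfl | rfl | rfl | rfl | rfl | rfl | rfl <;>
      simp only [map_mul, map_pow, map_inv, FreeGroup.lift_apply_of, f]
    exacts [h.r1, h.r2, h.r3, h.r4, h.r5, h.r6, h.r7, h.r8, h.r9, h.r10, h.r11, h.r12]
  let φ : J4 →* G := PresentedGroup.toGroup hf
  have hs : φ.range = ⊤ := hg _ ⟨_, PresentedGroup.toGroup.of hf (x := .x)⟩ ⟨_, PresentedGroup.toGroup.of hf (x := .y)⟩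
    ⟨_, PresentedGroup.toGroup.of hf (x := .t)⟩
  refine ⟨(MulEquiv.ofBijective φ ⟨(MonoidHom.ker_eq_bot_iff φ).1 ((IsSimpleGroup.eq_bot_or_eq_top_of_normal φ.ker inferInstance).resolve_right
    fun e => ?_), MonoidHom.range_eq_top.1 hs⟩).symm⟩
  obtain ⟨g, hg⟩ := exists_ne (1 : G)
  obtain ⟨a, rfl⟩ := MonoidHom.range_eq_top.1 hs g
  exact hg (e.ge (Subgroup.mem_top a))

end Cfsg.Lib.JF
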