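import Mathlib

/-! A recognition lemma for `PGL₂(23)` from three generators and the Bruhat relations. -/

set_option autoImplicit false

namespace Cfsg.Lib.JF.JKp

open Subgroup

/-- The relations. -/
structure PR {G : Type*} [Group G] (a h w : G) : Prop where
  ap : a ^ 23 = 1
  hp : h ^ 22 = 1
  ha : h * a = a ^ 21 * h
  ww : w * w = 1
  wh : h * w * h = w
  wa : (w * a) ^ 3 = 1

section
variable {G : Type*} [Group G] {a h w : G}

/-- Borel normal form. -/
def Bf (a h d : G) : Prop := ∃ i j : ℕ, d = a ^ i * h ^ j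

/-- Bruhat normal form. -/
def Pf (a h w d : G) : Prop := Bf a h d ∨ ∃ b, Bf a h b ∧ ∃ l : ℕ, d = b * w * a ^ l

theorem PR.h1 (R : PR a h w) (n : ℕ) : h * a ^ n = a ^ (21 * n) * h := by
  induction n with
  | zero => simp
  | succ n ih => rw [pow_succ, ← mul_assoc, ih, mul_assoc, R.ha, ← mul_assoc, ← pow_add]; rfl

theorem PR.hk (R : PR a h w) (k n : ℕ) : h ^ k * a ^ n = a ^ (21 ^ k * n) * h ^ k := by
  induction k with
  | zero => simp
  | succ k ih =>
    rw [pow_succ' h, mul_assoc, ih, ← mul_assoc, R.h1, mul_assoc, pow_succ' 21, mul_assoc]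

theorem PR.bmul (R : PR a h w) {b c : G} (hb : Bf a h b) (hc : Bf a h c) : Bf a h (b * c) := by
  obtain ⟨i, j, rfl⟩ := hb
  obtain ⟨k, l, rfl⟩ := hc
  exact ⟨i + 21 ^ j * k, j + l, by
    rw [mul_assoc, ← mul_assoc (h ^ j), R.hk, pow_add, pow_add]; simp only [mul_assoc]⟩

theorem bfa (n : ℕ) : Bf a h (a ^ n) := ⟨n, 0, by simp⟩

theorem bfh (n : ℕ) : Bf a h (h ^ n) := ⟨0, n, by simp⟩

theorem PR.hi (R : PR a h w) : h⁻¹ = h ^ 21 := inv_eq_of_mul_eq_one_right (by rw [← pow_succ', R.hp])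

theorem PR.ai (R : PR a h w) : a⁻¹ = a ^ 22 := inv_eq_of_mul_eq_one_right (by rw [← pow_succ', R.ap])

theorem PR.wi (R : PR a h w) : w⁻¹ = w := inv_eq_of_mul_eq_one_right R.ww

theorem PR.wh1 (R : PR a h w) : w * h = h⁻¹ * w := by
  rw [eq_inv_mul_iff_mul_eq, ← mul_assoc, R.wh]

theorem PR.whk (R : PR a h w) (k : ℕ) : w * h ^ k = (h ^ k)⁻¹ * w := by
  induction k with
  | zero => simp
  | succ k ih => rw [pow_succ, ← mul_assoc, ih, mul_assoc, R.wh1, ← mul_assoc, ← mul_inv_rev, ← pow_succ', pow_succ]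

theorem PR.pa (_R : PR a h w) {d : G} (hd : Pf a h w d) : Pf a h w (d * a) := by
  rcases hd with hb | ⟨b, hb, l, rfl⟩
  · exact Or.inl (_R.bmul hb (by simpa using bfa (a := a) (h := h) 1))
  · exact Or.inr ⟨b, hb, l + 1, by rw [pow_succ, mul_assoc]⟩

theorem PR.ph (R : PR a h w) {d : G} (hd : Pf a h w d) : Pf a h w (d * h) := by
  rcases hd with hb | ⟨b, hb, l, rfl⟩
  · exact Or.inl (R.bmul hb (by simpa using bfh (a := a) (h := h) 1))
  · refine Or.inr ⟨b * h ^ 21, R.bmul hb (bfh 21), 11 * l, ?_⟩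
    have e : a ^ l * h = h * a ^ (11 * l) := by
      rw [R.h1, show 21 * (11 * l) = 23 * (10 * l) + l by ring, pow_add, pow_mul, R.ap, one_pow, one_mul]
    rw [mul_assoc, e, ← R.hi, mul_assoc b h⁻¹, ← R.wh1]
    simp only [mul_assoc]

theorem PR.phk (R : PR a h w) {d : G} (hd : Pf a h w d) (k : ℕ) : Pf a h w (d * h ^ k) := by
  induction k with
  | zero => simpa using hd
  | succ k ih => rw [pow_succ, ← mul_assoc]; exact R.ph ih

theorem PR.pak (R : PR a h w) {d : G} (hd : Pf a h w d) (k : ℕ) : Pf a h w (d * a ^ k) := by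
  induction k with
  | zero => simpa using hd
  | succ k ih => rw [pow_succ, ← mul_assoc]; exact R.pa ih

theorem PR.waw (R : PR a h w) : w * a * w = a ^ 22 * w * a ^ 22 := by
  have e := R.wa
  rw [← R.ai]
  calc w * a * w = (w * a) ^ 3 * a⁻¹ * w⁻¹ * a⁻¹ := by rw [pow_three]; group
    _ = _ := by rw [e, R.wi, one_mul]

theorem PR.pw (R : PR a h w) {d : G} (hd : Pf a h w d) : Pf a h w (d * w) := by
  rcases hd with hb | ⟨b, hb, l, rfl⟩
  · exact Or.inr ⟨d, hb, 0, by simp⟩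
  have m : a ^ l = a ^ (l % 23) := by
    conv_lhs => rw [← Nat.div_add_mod l 23, pow_add, pow_mul, R.ap, one_pow, one_mul]
  rcases (by decide : ∀ r < 23, r = 0 ∨ ∃ j < 22, 21 ^ j % 23 = r) (l % 23) (Nat.mod_lt _ (by norm_num)) with e | ⟨j, -, e⟩
  · rw [m, e, pow_zero, mul_one, mul_assoc, R.ww, mul_one]
    exact Or.inl hb
  have m2 : a ^ l = h ^ j * a * (h ^ j)⁻¹ := by
    have := R.hk j 1
    rw [pow_one, mul_one] at this
    rw [this, mul_inv_cancel_right, m, ← e]
    conv_rhs => rw [← Nat.div_add_mod (21 ^ j) 23, pow_add, pow_mul, R.ap, one_pow, one_mul]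
  have m3 : b * w * a ^ l * w = (b * (h ^ j)⁻¹ * a ^ 22) * w * a ^ 22 * h ^ j := by
    calc _ = b * (w * h ^ j) * a * ((h ^ j)⁻¹ * w) := by rw [m2]; simp only [mul_assoc]
      _ = b * ((h ^ j)⁻¹ * w) * a * (w * h ^ j) := by rw [← R.whk j, R.whk j]
      _ = b * (h ^ j)⁻¹ * (w * a * w) * h ^ j := by simp only [mul_assoc]
      _ = _ := by rw [R.waw]; simp only [mul_assoc]
  rw [m3]
  refine R.phk (Or.inr ⟨_, R.bmul (R.bmul hb ?_) (bfa 22), 22, rfl⟩) j
  rw [← inv_pow, R.hi, ← pow_mul]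
  exact bfh _

theorem PR.all (R : PR a h w) {d : G} (hd : d ∈ closure ({a, h, w} : Set G)) : Pf a h w d := by
  induction hd using closure_induction_right with
  | one => exact Or.inl ⟨0, 0, by simp⟩
  | mul_right x _ y hy ih =>
    rcases hy with rfl | rfl | rfl
    exacts [R.pa ih, R.ph ih, R.pw ih]
  | mul_inv_cancel x _ y hy ih =>
    rcases hy with rfl | rfl | rfl
    · rw [R.ai]; exact R.pak ih _
    · rw [R.hi]; exact R.phk ih _
    · rw [R.wi]; exact R.pw ih

theorem PR.inj (R : PR a h w) {X : Type*} [Group X] (f : G →* X) (h1 : f a ≠ 1)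
    (h2 : ¬ Commute (f a) (f w * f a * f w)) {d : G} (hd : d ∈ closure ({a, h, w} : Set G)) (e : f d = 1) : d = 1 := by
  have : Fact (Nat.Prime 23) := ⟨by norm_num⟩
  have o : orderOf (f a) = 23 := orderOf_eq_prime (by rw [← map_pow, R.ap, map_one]) h1
  rcases R.all hd with ⟨i, j, rfl⟩ | ⟨b, hb, l, rfl⟩
  · have k := congrArg f (R.hk j 1)
    rw [map_mul, map_pow, map_pow] at e
    have e' : f h ^ j = (f a ^ i)⁻¹ := eq_inv_of_mul_eq_one_right e
    simp only [map_mul, map_pow, pow_one, mul_one] at k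
    rw [e', ((Commute.refl (f a)).pow_left i).inv_left.eq, mul_left_inj] at k
    have k2 : 1 ≡ 21 ^ j [MOD 23] := by
      rw [← o, ← pow_eq_pow_iff_modEq, pow_one]; exact k
    have k3 : 21 ^ (j % 22) % 23 = 1 := by
      have : 21 ^ j ≡ 21 ^ (j % 22) [MOD 23] := by
        conv_lhs => rw [← Nat.div_add_mod j 22, pow_add, pow_mul]
        have : (21 ^ 22) ^ (j / 22) ≡ 1 ^ (j / 22) [MOD 23] := Nat.ModEq.pow _ (by decide)
        simpa using this.mul_right (21 ^ (j % 22))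
      exact (k2.trans this).symm
    have k4 : j % 22 = 0 :=
      (by decide : ∀ r < 22, 21 ^ r % 23 = 1 → r = 0) _ (Nat.mod_lt _ (by norm_num)) k3
    have k5 : h ^ j = 1 := by
      rw [← Nat.div_add_mod j 22, k4, add_zero, pow_mul, R.hp, one_pow]
    rw [← map_pow f h, k5, map_one, mul_one, ← orderOf_dvd_iff_pow_eq_one, o] at e
    obtain ⟨m, rfl⟩ := e
    rw [k5, pow_mul, R.ap, one_pow, one_mul]
  · obtain ⟨i, j, k⟩ := R.bmul (bfa l) hb
    have e1 : f w = f (a ^ l * b) := by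
      rw [← R.wi, map_inv, map_mul]
      rw [map_mul, map_mul] at e
      refine inv_eq_of_mul_eq_one_right ?_
      calc _ = (f b)⁻¹ * (f b * f w * f (a ^ l)) * f b := by group
        _ = 1 := by rw [e]; group
    have e2 : a ^ l * b * a = a ^ (21 ^ j) * (a ^ l * b) := by
      have := R.hk j 1
      rw [pow_one, mul_one] at this
      rw [k, mul_assoc, this, ← mul_assoc, ← mul_assoc, ← pow_add, ← pow_add, add_comm]
    refine absurd ?_ h2
    have e3 : f w * f a * f w = f a ^ (21 ^ j) := by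
      have := congrArg f e2
      rw [map_mul, ← e1, map_mul, ← e1, map_pow] at this
      rw [this, mul_assoc, ← map_mul, R.ww, map_one, mul_one]
    rw [e3]
    exact (Commute.refl _).pow_right _

end

/-- The group `GL₂(23)`. -/
abbrev GG : Type := GL (Fin 2) (ZMod 23)

/-- The group `PGL₂(23)`. -/
abbrev PG : Type := GG ⧸ center GG

instance jkp23 : Fact (Nat.Prime 23) := ⟨by norm_num⟩

/-- The transvection. -/
def mA : GG := ⟨!![1, 1; 0, 1], !![1, -1; 0, 1], by decide, by decide⟩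

/-- The torus generator. -/
def mH : GG := ⟨!![21, 0; 0, 1], !![11, 0; 0, 1], by decide, by decide⟩

/-- The Weyl element. -/
def mW : GG := ⟨!![0, -1; 1, 0], !![0, 1; -1, 0], by decide, by decide⟩

theorem mk_eq {x y : GG} (c : ZMod 23) (e : (x : Matrix (Fin 2) (Fin 2) (ZMod 23)) = c • (y : Matrix (Fin 2) (Fin 2) (ZMod 23))) :
    (x : PG) = (y : PG) := by
  refine (QuotientGroup.eq.2 (mem_center_iff.2 fun g => Units.ext ?_)).symm
  have k : ((y⁻¹ * x : GG) : Matrix (Fin 2) (Fin 2) (ZMod 23)) = c • (1 : Matrix (Fin 2) (Fin 2) (ZMod 23)) := by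
    rw [Units.val_mul, e, Matrix.mul_smul, Units.inv_mul]
  rw [Units.val_mul g, Units.val_mul _ g, k]
  simp

theorem mA_pow (n : ℕ) : ((mA ^ n : GG) : Matrix (Fin 2) (Fin 2) (ZMod 23)) = !![1, (n : ZMod 23); 0, 1] := by
  induction n with
  | zero => simp [Matrix.one_fin_two]
  | succ n ih => rw [pow_succ, Units.val_mul, ih]; simp [mA, add_comm]

theorem mH_pow (n : ℕ) : ((mH ^ n : GG) : Matrix (Fin 2) (Fin 2) (ZMod 23)) = !![21 ^ n, 0; 0, 1] := by
  induction n with
  | zero => simp [Matrix.one_fin_two]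
  | succ n ih => rw [pow_succ, Units.val_mul, ih]; simp [mH, pow_succ]

theorem prP : PR (mA : PG) (mH : PG) (mW : PG) where
  ap := mk_eq (x := mA ^ 23) (y := 1) 1 (by rw [mA_pow]; decide)
  hp := mk_eq (x := mH ^ 22) (y := 1) 1 (by rw [mH_pow]; decide)
  ha := mk_eq (x := mH * mA) (y := mA ^ 21 * mH) 1 (by rw [Units.val_mul, Units.val_mul, mA_pow]; decide)
  ww := mk_eq (x := mW * mW) (y := 1) (-1) (by decide)
  wh := mk_eq (x := mH * mW * mH) (y := mW) 21 (by decide)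
  wa := mk_eq (x := (mW * mA) ^ 3) (y := 1) (-1) (by decide)

theorem nePA : (mA : PG) ≠ 1 := fun e => by
  have := mem_center_iff.1 ((QuotientGroup.eq_one_iff _).1 e) mW
  revert this; decide

theorem ncP : ¬ Commute (mA : PG) ((mW : PG) * (mA : PG) * (mW : PG)) := fun e => by
  have e' : ((mA * (mW * mA * mW) : GG) : PG) = ((mW * mA * mW * mA : GG) : PG) := e
  have := mem_center_iff.1 (QuotientGroup.eq.1 e') mW
  revert this; decide

theorem upper {g : GG} (e : (g : Matrix (Fin 2) (Fin 2) (ZMod 23)) 1 0 = 0) :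
    (g : PG) ∈ Subgroup.closure ({(mA : PG), (mH : PG), (mW : PG)} : Set PG) := by
  have d := g.det_ne_zero
  rw [Matrix.det_fin_two, e, mul_zero, sub_zero] at d
  have d1 := left_ne_zero_of_mul d
  have d2 := right_ne_zero_of_mul d
  obtain ⟨j, -, hj⟩ := (by decide : ∀ x : ZMod 23, x ≠ 0 → ∃ j < 22, (21 : ZMod 23) ^ j = x)
    ((g : Matrix (Fin 2) (Fin 2) (ZMod 23)) 0 0 / (g : Matrix (Fin 2) (Fin 2) (ZMod 23)) 1 1) (div_ne_zero d1 d2)
  have k : (g : PG) = ((mA ^ ((g : Matrix (Fin 2) (Fin 2) (ZMod 23)) 0 1 / (g : Matrix (Fin 2) (Fin 2) (ZMod 23)) 1 1).val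
      * mH ^ j : GG) : PG) := mk_eq ((g : Matrix (Fin 2) (Fin 2) (ZMod 23)) 1 1) (by
    rw [Units.val_mul, mA_pow, mH_pow, hj, ZMod.natCast_zmod_val]
    ext a b
    fin_cases a <;> fin_cases b <;> simp [e] <;> field_simp)
  rw [k, QuotientGroup.mk_mul, QuotientGroup.mk_pow, QuotientGroup.mk_pow]
  exact mul_mem (pow_mem (Subgroup.subset_closure (by simp)) _) (pow_mem (Subgroup.subset_closure (by simp)) _)

theorem genP (q : PG) : q ∈ Subgroup.closure ({(mA : PG), (mH : PG), (mW : PG)} : Set PG) := by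
  obtain ⟨g, rfl⟩ := QuotientGroup.mk_surjective q
  by_cases e : (g : Matrix (Fin 2) (Fin 2) (ZMod 23)) 1 0 = 0
  · exact upper e
  have k := upper (g := mW * mA ^ (-(g : Matrix (Fin 2) (Fin 2) (ZMod 23)) 0 0 / (g : Matrix (Fin 2) (Fin 2) (ZMod 23)) 1 0).val * g) (by
    rw [Units.val_mul, Units.val_mul, mA_pow, ZMod.natCast_zmod_val]
    simp [mW, Matrix.mul_apply, Fin.sum_univ_two]
    field_simp
    ring)
  rw [QuotientGroup.mk_mul, QuotientGroup.mk_mul, QuotientGroup.mk_pow] at k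
  exact (mul_mem_cancel_left (mul_mem (Subgroup.subset_closure (by simp)) (pow_mem (Subgroup.subset_closure (by simp)) _))).1 k

theorem PR.pgl {G : Type*} [Group G] {a h w : G} (R : PR a h w) (h1 : a ≠ 1) (h2 : ¬ Commute a (w * a * w)) :
    ∃ K : Subgroup G, Nonempty (↥K ≃* PG) := by
  have Q : PR ((a, (mA : PG)) : G × PG) (h, (mH : PG)) (w, (mW : PG)) :=
    ⟨Prod.ext R.ap prP.ap, Prod.ext R.hp prP.hp, Prod.ext R.ha prP.ha, Prod.ext R.ww prP.ww, Prod.ext R.wh prP.wh,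
      Prod.ext R.wa prP.wa⟩
  let D := Subgroup.closure ({((a, (mA : PG)) : G × PG), (h, (mH : PG)), (w, (mW : PG))} : Set (G × PG))
  have i1 : Function.Injective ((MonoidHom.fst G PG).comp D.subtype) :=
    (injective_iff_map_eq_one _).2 fun d e => Subtype.ext (Q.inj (MonoidHom.fst G PG) h1 h2 d.2 e)
  have i2 : Function.Injective ((MonoidHom.snd G PG).comp D.subtype) :=
    (injective_iff_map_eq_one _).2 fun d e => Subtype.ext (Q.inj (MonoidHom.snd G PG) nePA ncP d.2 e)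
  have s2 : Function.Surjective ((MonoidHom.snd G PG).comp D.subtype) := fun q => by
    have : q ∈ D.map (MonoidHom.snd G PG) := by
      rw [MonoidHom.map_closure]
      simpa [Set.image_insert_eq] using genP q
    obtain ⟨d, hd, e⟩ := this
    exact ⟨⟨d, hd⟩, e⟩
  exact ⟨_, ⟨(MonoidHom.ofInjective i1).symm.trans (MulEquiv.ofBijective _ ⟨i2, s2⟩)⟩⟩

end Cfsg.Lib.JF.JKp
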