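import Cfsg.Agent.Lib.Block2.JKp
import Cfsg.Agent.Lib.Comp.J4o.Base

/-! `PGL₂(23)` inside the presented fourth Janko group. -/

set_option autoImplicit false
set_option maxRecDepth 100000

namespace Cfsg.Lib.JF.JKp

open Cfsg.Lib.Comp Cfsg.Lib.Comp.J4o

theorem jkq_rel : PR (ev δ [9]) (ev δ [5, 7, 6]) (ev δ [8, 8, 8, 8, 8, 6, 11, 11]) where
  ap := by rw [ev_single, ← ords.1, pow_orderOf_eq_one]
  hp := by
    have e : ev δ [5, 7, 6] * ev δ [5, 7, 6] = δ 5 ^ 2 := by
      rw [← ev_append, pow_two, ← ev_single δ 5, ← ev_append]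
      exact m_eq (by decide +kernel)
    rw [show 22 = 2 * 11 from rfl, pow_mul, pow_two, e, ← pow_mul, mul_comm, pow_mul, ← ords.2.1, pow_orderOf_eq_one, one_pow]
  ha := by
    rw [ev_single, ← ev_rpl, ← ev_single δ 9, ← ev_append]
    exact m_eq (by decide +kernel)
  ww := by rw [← ev_append, ← ev_nil δ]; exact m_eq (by decide +kernel)
  wh := by rw [← ev_append, ← ev_append]; exact m_eq (by decide +kernel)
  wa := by rw [pow_three, ← ev_append, ← ev_append, ← ev_append, ← ev_nil δ]; exact m_eq (by decide +kernel)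

theorem jkq_J4 : ∃ K : Subgroup Spor.J4, Nonempty (↥K ≃* PG) :=
  jkq_rel.pgl (by rw [← ev_nil δ]; exact m_ne (by decide +kernel)) fun e => by
    have := e.eq
    simp only [← ev_append] at this
    exact m_ne (by decide +kernel) this

theorem jkq_iso {G : Type*} [Group G] (h : Spor.IsoJ4 G) :
    ∃ K : Subgroup G, Nonempty (↥K ≃* GL (Fin 2) (ZMod 23) ⧸ Subgroup.center (GL (Fin 2) (ZMod 23))) := by
  obtain ⟨e⟩ := h
  obtain ⟨K, ⟨f⟩⟩ := jkq_J4
  exact ⟨K.map e.symm.toMonoidHom, ⟨(e.symm.subgroupMap K).symm.trans f⟩⟩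

end Cfsg.Lib.JF.JKp
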