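import Cfsg.Agent.Lib.Block2.JL1
import Cfsg.Agent.Lib.Block2.JJ2

/-! The standard self-centralising `2^10` in a group of Janko-four type and its normaliser. -/

set_option autoImplicit false
set_option maxRecDepth 100000

namespace Cfsg.Lib.JF

open Subgroup Cfsg.Lib.Amalg Cfsg.Lib.Core Cfsg.Lib.Golay Spor
open scoped Pointwise symmDiff

variable {G : Type*} [Group G] {V : Subgroup G} {D : Set G} {ε : Finset GolayPt → G}
  {θ : 𝐍 V →* Equiv.Perm GolayPt}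

/-- a section of `N(V) → M24`. -/
structure LK (D : Set G) (ε : Finset GolayPt → G) (θ : 𝐍 V →* Equiv.Perm GolayPt) (κ : M24 →* G) : Prop where
  T : TM V D ε θ
  mem : ∀ σ, κ σ ∈ 𝐍 V
  th : ∀ σ, θ ⟨κ σ, mem σ⟩ = σ

theorem TM.exists_LK (T : TM V D ε θ) {K : Subgroup G} (k1 : K ≤ 𝐍 V) (k2 : K ⊓ V = ⊥) (k3 : K ⊔ V = 𝐍 V) :
    ∃ κ, LK D ε θ κ := by
  let ψ : K →* M24 := (θ.comp (inclusion k1)).codRestrict _ fun k => T.mM _
  have bij : Function.Bijective ψ := ⟨(injective_iff_map_eq_one _).2 fun k e => Subtype.ext (k2.le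
    ⟨k.2, (T.ker ⟨k, k1 k.2⟩).1 (congrArg Subtype.val e)⟩), fun σ => by
      obtain ⟨κ, e⟩ := T.rng.ge σ.2
      obtain ⟨k, hk, e'⟩ := T.lift k1 k3 κ
      exact ⟨⟨k, hk⟩, Subtype.ext (e'.trans e)⟩⟩
  let e := MulEquiv.ofBijective ψ bij
  exact ⟨K.subtype.comp e.symm.toMonoidHom, T, fun σ => k1 (e.symm σ).2,
    fun σ => congrArg Subtype.val (e.apply_symm_apply σ)⟩

theorem even_jP (a b : GolayPt) : Even ({a} ∆ {b} : Finset GolayPt).card := by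
  have := card_symmDiff_add ({a} : Finset GolayPt) {b}
  simp only [Finset.card_singleton] at this
  rw [Nat.even_iff]; omega

theorem card_jP (a b : GolayPt) : ({a} ∆ {b} : Finset GolayPt).card ≤ 2 := by
  have := card_symmDiff_add ({a} : Finset GolayPt) {b}
  simp only [Finset.card_singleton] at this
  omega

theorem smul_jP (σ : Equiv.Perm GolayPt) (a b : GolayPt) : σ • ({a} ∆ {b} : Finset GolayPt) = {σ a} ∆ {σ b} := by
  rw [smul_symmDiff, Finset.smul_finset_singleton, Finset.smul_finset_singleton]; rfl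

theorem E16_comm {a b : Equiv.Perm GolayPt} (ha : a ∈ E16) (hb : b ∈ E16) : a * b = b * a :=
  comm_of_sq (fun _ => E16_sq) ha hb

theorem E16_fix {a : Equiv.Perm GolayPt} (ha : a ∈ E16) {R : Finset GolayPt} (hR : R ⊆ om 0x82402f) : a • R = R :=
  smul_eq_of_fix fun x hx => (mem_E16.1 ha).2 x (hR hx)

theorem E16_conj {a c : Equiv.Perm GolayPt} (ha : a ∈ E16) (hc : c ∈ HO) : c * a * c⁻¹ ∈ E16 :=
  mem_E16.mpr ⟨mul_mem (mul_mem hc.1 ha.1) (inv_mem hc.1), fun p hp => by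
    have := (apply_mem_iff_of_smul_eq (inv_mem hc).2 p).mpr hp
    rw [Equiv.Perm.mul_apply, Equiv.Perm.mul_apply, (mem_E16.mp ha).2 _ this]; simp⟩

theorem jl_q1 : gc.dec z2A ≠ 1 := fun e => by simpa [e] using orderOf_z2A

theorem TM.mem_Zs (T : TM V D ε θ) {A : Finset GolayPt} {v : G} :
    v ∈ T.Zs A ↔ ∃ S ⊆ A, Even S.card ∧ ε S = v := by
  change (∃ S ∈ _, _) ↔ _
  simp only [Finset.mem_filter, Finset.mem_powerset, and_assoc]

theorem TM.Zs_le (T : TM V D ε θ) (A : Finset GolayPt) : T.Zs A ≤ V := fun _ h => by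
  obtain ⟨S, -, a, rfl⟩ := T.mem_Zs.1 h; exact T.emem a

theorem TM.card_W [Finite G] (T : TM V D ε θ) : Nat.card (T.Zs (om 0x82402f)) = 64 := by
  refine le_antisymm ?_ ?_
  · have : T.Zs (om 0x82402f) ≤ T.Zs (om 0x2402f) := fun v hv => by
      obtain ⟨S, a, b, rfl⟩ := T.mem_Zs.1 hv
      have k : ∀ p ∈ om 0x82402f, p ≠ none → p ∈ om 0x2402f := by decide +kernel
      have e : Even (om 0x82402f).card := by rw [O0_mem.2]; decide
      by_cases h : none ∈ S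
      · refine T.mem_Zs.2 ⟨S ∆ om 0x82402f, fun p hp => k p (symmDiff_le_sup.trans (sup_le a le_rfl) hp) ?_,
          even_sd b e, by rw [T.mul, (T.one _ e).2 O0_mem.1, mul_one]⟩
        rintro rfl
        simp [Finset.mem_symmDiff, h, a h] at hp
      · exact T.mem_Zs.2 ⟨S, fun p hp => k p (a hp) (by rintro rfl; exact h hp), b, rfl⟩
    exact (card_le_of_le this).trans ((T.card_Zs _).trans (by decide +kernel))
  · have k : ∀ i < 64, fA i &&& 0x82402f = fA i := by decide +kernel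
    have ev : ∀ i : Fin 64, Even (om (fA i)).card := fun i => by
      rw [card_om, Nat.even_iff]; exact (lbA i (by omega)).2.1
    simpa using Nat.card_le_card_of_injective (fun i : Fin 64 => (⟨ε (om (fA i)), T.mem_Zs.2
      ⟨_, gc.ofMask_subset_of_land (k i i.2), ev i, rfl⟩⟩ : T.Zs (om 0x82402f))) fun i j e => by
        have h1 := T.cw_of (ev i) (ev j) (congrArg Subtype.val e)
        have h2 := (lbA i (by omega)).2.2 j (by omega)
        rw [om, om, ← gc.ofMask_xor] at h1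
        exact Fin.ext (h2.2 ((om_mem_cw_iff h2.1).1 h1))

theorem TM.normW (T : TM V D ε θ) {S : Finset GolayPt} (hS : Even S.card)
    (H : ε S * ε (gc.dec z2A • S) ∈ T.Zs (om 0x82402f)) :
    ∃ y ∉ om 0x82402f, ∃ w ∈ T.Zs (om 0x82402f), ε S = ε ({gc.pt 4} ∆ {y}) * w := by
  obtain ⟨y, hy, R, hR, h | h⟩ := jl_G S
  · obtain ⟨R', a, b, c⟩ := T.mem_Zs.1 H
    have h1 := T.cw_of b (even_sd hS (by rwa [Finset.card_smul_finset])) (c.trans (T.mul _ _).symm)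
    have h2 := (smul_mem_cw_iff inH_z2A.2).2 h
    rw [smul_symmDiff, smul_symmDiff, E16_fix jl_q hR, Finset.smul_finset_singleton] at h2
    have k : ∀ S Q A B R R' : Finset GolayPt, ((S ∆ (A ∆ R)) ∆ (Q ∆ (B ∆ R))) ∆ (R' ∆ (S ∆ Q)) = (A ∆ B) ∆ R' :=
      fun S Q A B R R' => by
        ext p; simp only [Finset.mem_symmDiff]
        by_cases p ∈ S <;> by_cases p ∈ Q <;> by_cases p ∈ A <;> by_cases p ∈ B <;> by_cases p ∈ R <;>
          by_cases p ∈ R' <;> simp [*]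
    have h3 := symmDiff_mem_cw (symmDiff_mem_cw h h2) h1
    rw [k] at h3
    exact absurd (E16_eq_one jl_q hy (jl_H hy ((apply_mem_iff_of_smul_eq (E16_le jl_q).2 y).not.2 hy) a h3).symm) jl_q1
  · have e : Even R.card := by
      have a := card_cw h
      have b := card_symmDiff_add S ({gc.pt 4} ∆ {y} ∆ R)
      have c := card_symmDiff_add ({gc.pt 4} ∆ {y}) R
      have d := even_jP (gc.pt 4) y
      rw [Nat.even_iff] at *; omega
    exact ⟨y, hy, _, T.mem_Zs.2 ⟨R, hR, e, rfl⟩, by rw [← T.mul]; exact T.eq_of hS (even_sd (even_jP _ _) e) h⟩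

namespace LK
variable {κ : M24 →* G} (h : LK D ε θ κ)
include h

theorem act (σ : M24) {S : Finset GolayPt} (hS : Even S.card) : κ σ * ε S = ε (σ.1 • S) * κ σ := by
  have := h.T.act ⟨_, h.mem σ⟩ S hS
  rw [h.th] at this
  rw [← this]; simp

theorem thm {v : G} (hv : v ∈ V) (σ : M24) (H : v * κ σ ∈ 𝐍 V) : θ ⟨v * κ σ, H⟩ = σ := by
  rw [show (⟨v * κ σ, H⟩ : 𝐍 V) = ⟨v, le_normalizer hv⟩ * ⟨κ σ, h.mem σ⟩ from rfl, map_mul,
    (h.T.ker ⟨v, le_normalizer hv⟩).2 hv, one_mul, h.th]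

theorem uq {v w : G} (hv : v ∈ V) (hw : w ∈ V) {σ τ : M24} (e : v * κ σ = w * κ τ) : σ = τ ∧ v = w := by
  have : σ = τ := Subtype.ext (by
    rw [← h.thm hv σ (mul_mem (le_normalizer hv) (h.mem σ)), ← h.thm hw τ (mul_mem (le_normalizer hw) (h.mem τ))]
    simp only [e])
  subst this
  exact ⟨rfl, mul_right_cancel e⟩

theorem dec {g : G} (hg : g ∈ 𝐍 V) : ∃ σ : M24, ∃ S : Finset GolayPt, Even S.card ∧ g = ε S * κ σ := by
  obtain ⟨S, a, b⟩ := (h.T.mem _).1 ((h.T.ker (⟨g, hg⟩ * (⟨_, h.mem ⟨_, h.T.mM ⟨g, hg⟩⟩⟩ : 𝐍 V)⁻¹)).1 (by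
    rw [map_mul, map_inv, h.th, mul_inv_cancel]))
  exact ⟨⟨_, h.T.mM ⟨g, hg⟩⟩, S, a, by rw [b]; simp⟩

theorem cW {r : M24} (hr : r.1 ∈ E16) {w : G} (hw : w ∈ h.T.Zs (om 0x82402f)) : κ r * w = w * κ r := by
  obtain ⟨S, a, b, rfl⟩ := h.T.mem_Zs.1 hw
  rw [h.act r b, E16_fix hr a]

/-- the standard `2^10`. -/
def A : Subgroup G where
  carrier := {g | ∃ w ∈ h.T.Zs (om 0x82402f), ∃ r : M24, r.1 ∈ E16 ∧ g = w * κ r}
  one_mem' := ⟨1, one_mem _, 1, one_mem _, by simp⟩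
  mul_mem' := by
    rintro _ _ ⟨w, a, r, b, rfl⟩ ⟨w', a', r', b', rfl⟩
    exact ⟨_, mul_mem a a', r * r', mul_mem b b', by
      rw [mul_assoc, ← mul_assoc (κ r), h.cW b a', map_mul]; group⟩
  inv_mem' := by
    rintro _ ⟨w, a, r, b, rfl⟩
    exact ⟨_, inv_mem a, r⁻¹, inv_mem b, by rw [mul_inv_rev, ← map_inv, h.cW (r := r⁻¹) (inv_mem b) (inv_mem a)]⟩

theorem W_le : h.T.Zs (om 0x82402f) ≤ h.A := fun w a => ⟨w, a, 1, one_mem _, by simp⟩

theorem k_mem {r : M24} (hr : r.1 ∈ E16) : κ r ∈ h.A := ⟨1, one_mem _, r, hr, by simp⟩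

theorem A_sq (a : G) (ha : a ∈ h.A) : a * a = 1 := by
  obtain ⟨w, a, r, b, rfl⟩ := ha
  rw [mul_assoc, ← mul_assoc (κ r), h.cW b a, mul_assoc, ← map_mul, show r * r = 1 from Subtype.ext (E16_sq b),
    map_one, mul_one, h.T.sq (h.T.Zs_le _ a)]

theorem A_comm {a b : G} (ha : a ∈ h.A) (hb : b ∈ h.A) : a * b = b * a := comm_of_sq h.A_sq ha hb

theorem of_mem {v : G} (hv : v ∈ V) {σ : M24} (H : v * κ σ ∈ h.A) : v ∈ h.T.Zs (om 0x82402f) ∧ σ.1 ∈ E16 := by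
  obtain ⟨w, a, r, b, e⟩ := H
  obtain ⟨rfl, rfl⟩ := h.uq hv (h.T.Zs_le _ a) e
  exact ⟨a, b⟩

theorem card_A [Finite G] : Nat.card h.A = 2 ^ 10 := by
  rw [← Nat.card_eq_of_bijective (fun x : h.T.Zs (om 0x82402f) × E16 =>
    (⟨x.1 * κ ⟨x.2, x.2.2.1⟩, x.1, x.1.2, _, x.2.2, rfl⟩ : h.A)) ⟨fun x y e => by
      obtain ⟨a, b⟩ := h.uq (h.T.Zs_le _ x.1.2) (h.T.Zs_le _ y.1.2) (congrArg Subtype.val e)
      exact Prod.ext (Subtype.ext b) (Subtype.ext (congrArg (fun s : M24 => s.1) a)), by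
      rintro ⟨_, w, a, r, b, rfl⟩
      exact ⟨⟨⟨w, a⟩, ⟨r, b⟩⟩, rfl⟩⟩, Nat.card_prod, h.T.card_W, card_E16]
  norm_num

theorem fixP {y : GolayPt} {s : M24} (e : κ s * ε ({gc.pt 4} ∆ {y}) = ε ({gc.pt 4} ∆ {y}) * κ s) (n : y ≠ gc.pt 4) :
    s.1 (gc.pt 4) = gc.pt 4 ∨ s.1 (gc.pt 4) = y := by
  rw [h.act s (even_jP _ _), mul_left_inj, smul_jP] at e
  have := h.T.inj (even_jP _ _) (even_jP _ _) (by
    have := card_jP (s.1 (gc.pt 4)) (s.1 y); have := card_jP (gc.pt 4) y; omega) e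
  have k : s.1 (gc.pt 4) ∈ ({gc.pt 4} ∆ {y} : Finset GolayPt) := by
    rw [← this]; simp [Finset.mem_symmDiff, n.symm]
  simp only [Finset.mem_symmDiff, Finset.mem_singleton] at k
  tauto

theorem cen_A (cl : ∀ t ∈ D, centralizer {t} ≤ 𝐍 V) : centralizer (h.A : Set G) = h.A := by
  refine le_antisymm (fun g hg => ?_) fun a ha b hb => h.A_comm hb ha
  have hW : g ∈ 𝐂 (h.T.Zs (om 0x82402f)) := fun w hw => hg w (h.W_le hw)
  have h3 : om 3 ⊆ om 0x82402f := (om_subset_iff (by norm_num)).2 (by decide)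
  have c3 : (om 3).card = 2 := by rw [card_om]; decide +kernel
  have gN := cl _ ((h.T.duad _).2 ⟨_, c3, rfl⟩) (mem_centralizer_singleton_iff.2
    (hW _ (h.T.mem_Zs.2 ⟨_, h3, by rw [c3]; decide, rfl⟩)).symm)
  obtain ⟨σ, S, a, rfl⟩ := h.dec gN
  have s1 : σ.1 ∈ E16 := mem_E16.2 ⟨σ.2, fun p hp => by
    obtain ⟨x, hx, y, hy, n1, n2, n3⟩ : ∃ x ∈ om 0x82402f, ∃ y ∈ om 0x82402f, x ≠ y ∧ p ≠ x ∧ p ≠ y := by
      revert p; decide +kernel
    have a1 := h.T.fixp ⟨_, gN⟩ hW (S := {p, x}) (by simp [Finset.insert_subset_iff, hp, hx]) (Finset.card_pair n2)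
      (p := p) (by simp)
    have a2 := h.T.fixp ⟨_, gN⟩ hW (S := {p, y}) (by simp [Finset.insert_subset_iff, hp, hy]) (Finset.card_pair n3)
      (p := p) (by simp)
    rw [h.thm (h.T.emem a)] at a1 a2
    simp only [Finset.mem_insert, Finset.mem_singleton] at a1 a2
    rcases a1 with a1 | a1
    · exact a1
    · exact a2.resolve_right fun a2 => n1 (a1.symm.trans a2)⟩
  have s2 : ε S ∈ centralizer (h.A : Set G) :=
    (mul_mem_cancel_right (show κ σ ∈ centralizer (h.A : Set G) from fun b hb => h.A_comm hb (h.k_mem s1))).1 hg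
  obtain ⟨y, hy, w, hw, e⟩ := h.T.normW a (by
    have := s2 _ (h.k_mem (r := ⟨_, jl_q.1⟩) jl_q)
    rw [h.act _ a, mul_left_inj] at this
    rw [show ε (gc.dec z2A • S) = ε S from this, h.T.esq]; exact one_mem _)
  refine mul_mem ?_ (h.k_mem s1)
  rw [e] at s2 ⊢
  by_cases n : y = gc.pt 4
  · rw [n, symmDiff_self, show ε ⊥ = 1 from (h.T.one ∅ (by simp)).2 empty_mem_cw, one_mul]; exact h.W_le hw
  obtain ⟨x, hx, n1, n2⟩ : ∃ x ∉ om 0x82402f, x ≠ gc.pt 4 ∧ x ≠ y := by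
    clear * -; revert y; decide +kernel
  obtain ⟨s, hs, rfl⟩ := exists_E16 pt4_not_mem hx
  have := (mul_mem_cancel_right (show w ∈ centralizer (h.A : Set G) from fun b hb => h.A_comm hb (h.W_le hw))).1 s2
  exact ((h.fixP (s := ⟨s, hs.1⟩) (this _ (h.k_mem hs)) n).elim n1 n2).elim

theorem k_norm [Finite G] {σ : M24} (hσ : σ.1 ∈ HO) : κ σ ∈ 𝐍 h.A := mem_normalizer_fintype (by
  rintro _ ⟨w, a, r, b, rfl⟩
  obtain ⟨S, c, d, rfl⟩ := h.T.mem_Zs.1 a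
  exact ⟨ε (σ.1 • S), h.T.mem_Zs.2 ⟨_, hσ.2 ▸ (smul_subset_smul' σ.1 _ _).2 c, by rwa [Finset.card_smul_finset], rfl⟩,
    σ * r * σ⁻¹, E16_conj b hσ, by rw [← mul_assoc, h.act σ d, map_mul, map_mul, map_inv]; group⟩)

theorem e_norm [Finite G] {y : GolayPt} (hy : y ∉ om 0x82402f) : ε ({gc.pt 4} ∆ {y}) ∈ 𝐍 h.A :=
  mem_normalizer_fintype (by
    rintro _ ⟨w, a, r, b, rfl⟩
    obtain ⟨R, c, d⟩ := jl_F1 b hy
    have ev := even_jP (gc.pt 4) y
    have ev' : Even (r.1 • ({gc.pt 4} ∆ {y} : Finset GolayPt)).card := by rwa [Finset.card_smul_finset]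
    have e : Even R.card := by
      have a := card_cw d
      have b := card_symmDiff_add (({gc.pt 4} ∆ {y}) ∆ (r.1 • ({gc.pt 4} ∆ {y} : Finset GolayPt))) R
      have c := even_sd ev ev'
      rw [Nat.even_iff] at *; omega
    refine ⟨w * ε R, mul_mem a (h.T.mem_Zs.2 ⟨R, c, e, rfl⟩), r, b, ?_⟩
    rw [← h.T.eq_of (even_sd ev ev') e d, h.T.mul _ (r.1 • _), inv_eq_of_mul_eq_one_right (h.T.esq _), mul_assoc, mul_assoc,
      h.act r ev, ← mul_assoc, h.T.comm (h.T.emem ev) (h.T.Zs_le _ a)]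
    group)

/-- the second complement. -/
def k' : M24 →* G := MonoidHom.mk' (fun σ => ε ({gc.pt 4} ∆ {σ.1 (gc.pt 4)}) * κ σ) fun σ τ => by
  rw [mul_assoc, ← mul_assoc (κ σ), h.act σ (even_jP _ _), smul_jP, map_mul, ← mul_assoc, ← mul_assoc, ← mul_assoc,
    ← h.T.mul, symmDiff_assoc, symmDiff_symmDiff_cancel_left]
  rfl

theorem k'_def (σ : M24) : h.k' σ = ε ({gc.pt 4} ∆ {σ.1 (gc.pt 4)}) * κ σ := rfl

theorem k'_norm [Finite G] {σ : M24} (hσ : σ.1 ∈ HO) : h.k' σ ∈ 𝐍 h.A :=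
  mul_mem (h.e_norm ((apply_mem_iff_of_smul_eq hσ.2 _).not.2 pt4_not_mem)) (h.k_norm hσ)

theorem k'_one {σ : M24} (H : h.k' σ ∈ h.A) : σ = 1 := by
  obtain ⟨a, b⟩ := h.of_mem (h.T.emem (even_jP _ _)) H
  obtain ⟨R, c, d, e⟩ := h.T.mem_Zs.1 a
  exact Subtype.ext (E16_eq_one b pt4_not_mem (jl_H pt4_not_mem
    ((apply_mem_iff_of_smul_eq (E16_le b).2 _).not.2 pt4_not_mem) c (h.T.cw_of (even_jP _ _) d e.symm)).symm)

end LK

end Cfsg.Lib.JF
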