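import Cfsg.Agent.Lib.Block2.JL2

/-! The standard self-centralising `2^10` in a group of Janko-four type: the parabolic `2^10 : 2^4 : A8`. -/

set_option autoImplicit false
set_option maxRecDepth 100000

namespace Cfsg.Lib.JF

open Subgroup Cfsg.Lib.Amalg Cfsg.Lib.Core Cfsg.Lib.Golay Spor
open scoped Pointwise symmDiff

variable {G : Type*} [Group G] {V : Subgroup G} {D : Set G} {ε : Finset GolayPt → G}
  {θ : 𝐍 V →* Equiv.Perm GolayPt}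

namespace LK
variable {κ : M24 →* G} (h : LK D ε θ κ)
include h

theorem cA {g a : G} (hg : g ∈ 𝐍 h.A) (ha : a ∈ h.A) : g * a * g⁻¹ ∈ h.A := (mem_normalizer_iff.1 hg _).1 ha

theorem A_le : h.A ≤ 𝐍 V := by
  rintro _ ⟨w, a, r, -, rfl⟩
  exact mul_mem (le_normalizer (h.T.Zs_le _ a)) (h.mem r)

theorem k'_mem (σ : M24) : h.k' σ ∈ 𝐍 V := mul_mem (le_normalizer (h.T.emem (even_jP _ _))) (h.mem σ)

theorem decV {v : G} (hv : v ∈ V ⊓ 𝐍 h.A) :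
    ∃ y ∉ om 0x82402f, ∃ w ∈ h.T.Zs (om 0x82402f), v = ε ({gc.pt 4} ∆ {y}) * w := by
  obtain ⟨S, a, rfl⟩ := (h.T.mem v).1 hv.1
  exact h.T.normW a (h.of_mem (σ := ⟨_, jl_q.1⟩) (mul_mem (h.T.emem a) (h.T.emem (by
    rwa [Finset.card_smul_finset]))) (by
      convert h.cA hv.2 (h.k_mem (r := ⟨_, jl_q.1⟩) jl_q) using 1
      rw [mul_assoc, ← h.act ⟨_, jl_q.1⟩ a, inv_eq_of_mul_eq_one_right (h.T.esq S), mul_assoc])).1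

theorem decV' {v : G} (hv : v ∈ V ⊓ 𝐍 h.A) : ∃ r : M24, r.1 ∈ E16 ∧ ∃ a ∈ h.A, v = h.k' r * a := by
  obtain ⟨y, hy, w, hw, rfl⟩ := h.decV hv
  obtain ⟨r, hr, rfl⟩ := exists_E16 pt4_not_mem hy
  exact ⟨⟨r, hr.1⟩, hr, _, mul_mem (inv_mem (h.k_mem (r := ⟨r, hr.1⟩) hr)) (h.W_le hw), by rw [h.k'_def]; group⟩

theorem decN [Finite G] {n : G} (hn : n ∈ 𝐍 h.A ⊓ 𝐍 V) : ∃ σ : M24, σ.1 ∈ HO ∧ ∃ a ∈ h.A, n = a * h.k' σ := by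
  obtain ⟨σ, S, a, rfl⟩ := h.dec hn.2
  let q : M24 := ⟨_, jl_q.1⟩
  have e0 : ε S * κ σ * κ q * (ε S * κ σ)⁻¹ = ε S * ε ((σ * q * σ⁻¹).1 • S) * κ (σ * q * σ⁻¹) := by
    rw [mul_assoc (ε S) (ε _), ← h.act _ a, mul_inv_rev, inv_eq_of_mul_eq_one_right (h.T.esq S), map_mul, map_mul,
      map_inv]
    group
  have s1 := (h.of_mem (mul_mem (h.T.emem a) (h.T.emem (S := (σ * q * σ⁻¹).1 • S) (by
    rwa [Finset.card_smul_finset]))) (e0 ▸ h.cA hn.1 (h.k_mem (r := q) jl_q))).2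
  have s2 : σ.1 ∈ HO := ⟨σ.2, Finset.eq_of_subset_of_card_le (fun p hp => by
    obtain ⟨p, hp', rfl⟩ := Finset.mem_smul_finset.1 hp
    by_contra n
    have := E16_eq_one s1 n (by
      change σ.1 (gc.dec z2A (σ.1⁻¹ (σ.1 p))) = σ.1 p
      rw [show σ.1⁻¹ (σ.1 p) = p by simp, (mem_O0_iff p).1 hp'])
    exact jl_q1 (congrArg (fun s : M24 => s.1) (show q = 1 by simpa using (Subtype.ext this : σ * q * σ⁻¹ = 1))))
    (Finset.card_smul_finset _ _).ge⟩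
  obtain ⟨y, hy, w, hw, e⟩ := h.decV ⟨h.T.emem a, (mul_mem_cancel_right (h.k_norm s2)).1 hn.1⟩
  obtain ⟨r, hr, rfl⟩ := exists_E16 ((apply_mem_iff_of_smul_eq s2.2 _).not.2 pt4_not_mem) hy
  refine ⟨⟨r, hr.1⟩ * σ, mul_mem (E16_le hr) s2, _,
    h.cA (h.e_norm hy) (mul_mem (h.W_le hw) (inv_mem (h.k_mem (r := ⟨r, hr.1⟩) hr))), ?_⟩
  rw [e, h.k'_def, map_mul]
  change _ = _ * (ε ({gc.pt 4} ∆ {r (σ.1 (gc.pt 4))}) * _)
  group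

theorem A_inf : h.A ⊓ V = h.T.Zs (om 0x82402f) :=
  le_antisymm (fun v hv => (h.of_mem hv.2 (σ := 1) (by simpa using hv.1)).1) (le_inf h.W_le (h.T.Zs_le _))

theorem duad {d : G} : d ∈ h.A ∧ d ∈ D ↔ ∃ S ∈ (om 0x82402f).powersetCard 2, ε S = d := by
  simp only [Finset.mem_powersetCard]
  refine ⟨fun ⟨a, b⟩ => ?_, fun ⟨S, a, e⟩ => e ▸ ⟨h.W_le (h.T.mem_Zs.2 ⟨S, a.1, by rw [a.2]; decide, rfl⟩),
    (h.T.duad _).2 ⟨S, a.2, rfl⟩⟩⟩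
  obtain ⟨t, c, rfl⟩ := (h.T.duad _).1 b
  have ev : Even t.card := by rw [c]; decide
  obtain ⟨S, s1, s2, e⟩ := h.T.mem_Zs.1 (h.A_inf.le ⟨a, h.T.emem ev⟩)
  have k := h.T.cw_of ev s2 e.symm
  refine ⟨t, ⟨?_, c⟩, rfl⟩
  obtain ⟨x, y, xy, rfl⟩ := Finset.card_eq_two.1 c
  have k1 : ∀ x y : GolayPt, x ≠ y → ({x, y} : Finset GolayPt) ∆ S ∈ cw → x ∈ om 0x82402f := fun x y xy k => by
    by_contra hx
    by_cases hy : y ∈ om 0x82402f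
    · have a1 := even_card_inter k O0_mem.1
      rw [show ({x, y} ∆ S) ∩ om 0x82402f = {y} ∆ S by
        ext p; simp only [Finset.mem_inter, Finset.mem_symmDiff, Finset.mem_insert, Finset.mem_singleton]
        have := @s1 p
        by_cases p = x <;> by_cases p = y <;> by_cases p ∈ S <;> simp_all] at a1
      have a2 := card_symmDiff_add {y} S
      rw [Finset.card_singleton] at a2
      rw [Nat.even_iff] at *; omega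
    · refine xy (jl_H hx hy s1 ?_)
      rwa [show ({x} ∆ {y} : Finset GolayPt) = {x, y} by
        ext p; simp only [Finset.mem_symmDiff, Finset.mem_insert, Finset.mem_singleton]
        by_cases p = x <;> by_cases p = y <;> simp_all]
  rw [Finset.insert_subset_iff, Finset.singleton_subset_iff]
  exact ⟨k1 x y xy k, k1 y x xy.symm (by rwa [Finset.pair_comm])⟩

end LK

theorem TM.ten_std9 [Finite G] (T : TM V D ε θ) (cV : Nat.card V = 2^11) (cl : ∀ t ∈ D, centralizer {t} ≤ 𝐍 V)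
    {K : Subgroup G} (k1 : K ≤ 𝐍 V) (k2 : K ⊓ V = ⊥) (k3 : K ⊔ V = 𝐍 V) : ∃ A Y : Subgroup G, (∀ a ∈ A, a*a = 1) ∧
    Nat.card A = 2^10 ∧ centralizer (A : Set G) = A ∧ A ≤ 𝐍 V ∧ Nat.card ↥(𝐍 A ⊓ 𝐍 V) = 2^10*322560 ∧
    Nat.card ↥(V ⊓ 𝐍 A) = 2^10 ∧ Nat.card ↥(A ⊓ V) = 64 ∧
    (∀ q ∈ V ⊓ 𝐍 A, ∀ r ∈ V ⊓ 𝐍 A, q ∉ A → r ∉ A → ∃ p ∈ 𝐍 A ⊓ 𝐍 V, p*q*p⁻¹*r⁻¹ ∈ A) ∧
    (∀ p ∈ 𝐍 A ⊓ 𝐍 V, (∀ q ∈ V ⊓ 𝐍 A, p*q*p⁻¹*q⁻¹ ∈ A) → p ∈ A ⊔ (V ⊓ 𝐍 A)) ∧ Y ≤ 𝐍 A ⊓ 𝐍 V ∧ Y ⊓ A = ⊥ ∧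
    Y ⊔ A = 𝐍 A ⊓ 𝐍 V ∧ {d | d ∈ A ∧ d ∈ D}.ncard = 28 ∧
    ∀ d ∈ A, d ∈ D → ∀ e ∈ A, e ∈ D → ∃ p ∈ 𝐍 A ⊓ 𝐍 V, p*d*p⁻¹ = e := by
  obtain ⟨κ, h⟩ := T.exists_LK k1 k2 k3
  have kN : ∀ σ : M24, σ.1 ∈ HO → h.k' σ ∈ 𝐍 h.A ⊓ 𝐍 V := fun σ a => ⟨h.k'_norm a, h.k'_mem σ⟩
  have AN : h.A ≤ 𝐍 h.A ⊓ 𝐍 V := le_inf le_normalizer h.A_le
  have YN : (HO.subgroupOf M24).map h.k' ≤ 𝐍 h.A ⊓ 𝐍 V := by rintro _ ⟨σ, a, rfl⟩; exact kN σ a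
  have eV : ∀ r ∈ E16, ε ({gc.pt 4} ∆ {r (gc.pt 4)}) ∈ V ⊓ 𝐍 h.A := fun r hr =>
    ⟨T.emem (even_jP _ _), h.e_norm ((apply_mem_iff_of_smul_eq (E16_le hr).2 _).not.2 pt4_not_mem)⟩
  have WV : T.Zs (om 0x82402f) ≤ V ⊓ 𝐍 h.A := le_inf (T.Zs_le _) (h.W_le.trans le_normalizer)
  refine ⟨h.A, (HO.subgroupOf M24).map h.k', h.A_sq, h.card_A, h.cen_A cl, h.A_le, ?_, ?_, by rw [h.A_inf, T.card_W],
    fun q hq r hr q1 r1 => ?_, fun p hp H => ?_, YN, eq_bot_iff.2 ?_, le_antisymm (sup_le YN AN) fun n hn => ?_, ?_,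
    fun d d1 d2 e e1 e2 => ?_⟩
  · rw [← Nat.card_eq_of_bijective (fun x : h.A × HO => (⟨x.1 * h.k' ⟨x.2, x.2.2.1⟩,
      mul_mem (AN x.1.2) (kN _ x.2.2)⟩ : ↥(𝐍 h.A ⊓ 𝐍 V))) ⟨fun x y e => by
        have e1 : (x.1 : G) * h.k' ⟨x.2, x.2.2.1⟩ = y.1 * h.k' ⟨y.2, y.2.2.1⟩ := congrArg Subtype.val e
        have e2 := mul_inv_eq_one.1 (h.k'_one (σ := ⟨x.2, x.2.2.1⟩ * (⟨y.2, y.2.2.1⟩ : M24)⁻¹) (by
          convert mul_mem (inv_mem x.1.2) y.1.2 using 1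
          rw [map_mul, map_inv, mul_inv_eq_iff_eq_mul, mul_assoc, ← e1]; group))
        rw [e2] at e1
        exact Prod.ext (Subtype.ext (mul_right_cancel e1)) (Subtype.ext (congrArg (fun s : M24 => s.1) e2)), fun n => by
        obtain ⟨σ, s, a, b, e⟩ := h.decN n.2
        exact ⟨⟨⟨a, b⟩, ⟨σ, s⟩⟩, Subtype.ext e.symm⟩⟩, Nat.card_prod, h.card_A, card_HO]
  · rw [← Nat.card_eq_of_bijective (fun x : E16 × T.Zs (om 0x82402f) => (⟨ε ({gc.pt 4} ∆ {x.1.1 (gc.pt 4)}) * x.2,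
      mul_mem (eV _ x.1.2) (WV x.2.2)⟩ : ↥(V ⊓ 𝐍 h.A))) ⟨fun x y e => by
        have e1 : ε ({gc.pt 4} ∆ {x.1.1 (gc.pt 4)}) * x.2 = ε ({gc.pt 4} ∆ {y.1.1 (gc.pt 4)}) * y.2 :=
          congrArg Subtype.val e
        have e2 := inv_mul_eq_one.1 (h.k'_one (σ := (⟨y.1, y.1.2.1⟩ : M24)⁻¹ * ⟨x.1, x.1.2.1⟩) (by
          convert mul_mem (mul_mem (inv_mem (h.k_mem (r := ⟨y.1, y.1.2.1⟩) y.1.2)) (mul_mem (h.W_le y.2.2)
            (inv_mem (h.W_le x.2.2)))) (h.k_mem (r := ⟨x.1, x.1.2.1⟩) x.1.2) using 1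
          rw [map_mul, map_inv, h.k'_def, h.k'_def, eq_mul_inv_of_mul_eq e1]; group))
        have e3 : x.1 = y.1 := Subtype.ext (congrArg (fun s : M24 => s.1) e2).symm
        rw [e3] at e1
        exact Prod.ext e3 (Subtype.ext (mul_left_cancel e1)), fun v => by
        obtain ⟨y, hy, w, hw, e⟩ := h.decV v.2
        obtain ⟨r, hr, rfl⟩ := exists_E16 pt4_not_mem hy
        exact ⟨⟨⟨r, hr⟩, ⟨w, hw⟩⟩, Subtype.ext e.symm⟩⟩, Nat.card_prod, T.card_W, card_E16]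
    norm_num
  · obtain ⟨s, s1, a, a1, rfl⟩ := h.decV' hq
    obtain ⟨t, t1, b, b1, rfl⟩ := h.decV' hr
    obtain ⟨-, σ, c1, c2, c3⟩ := m24_Qc O0_mem s.2 t.2 (E16_sq s1) (E16_sq t1)
      (fun e => q1 (by simpa [show s = 1 from Subtype.ext e] using a1))
      (fun e => r1 (by simpa [show t = 1 from Subtype.ext e] using b1)) (mem_E16.1 s1).2 (mem_E16.1 t1).2
    have c4 := kN ⟨σ, c1⟩ ⟨c1, c2⟩
    refine ⟨_, c4, ?_⟩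
    convert h.cA (h.k'_norm (E16_le t1)) (mul_mem (h.cA c4.1 a1) (inv_mem b1)) using 1
    rw [show t = ⟨σ, c1⟩ * s * (⟨σ, c1⟩ : M24)⁻¹ from Subtype.ext c3.symm, map_mul, map_mul, map_inv]
    group
  · obtain ⟨σ, s, a, b, rfl⟩ := h.decN hp
    have s1 : σ.1 ∈ E16 := by
      have k : ∀ r ∈ E16, σ.1 * r = r * σ.1 := fun r hr => by
        have a1 := h.k_mem (r := ⟨r, hr.1⟩) hr
        have := h.k'_one (σ := σ * ⟨r, hr.1⟩ * σ⁻¹ * (⟨r, hr.1⟩ : M24)⁻¹) (by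
          convert mul_mem (mul_mem (inv_mem b) (H _ (eV r hr))) (h.cA (eV r hr).2 (mul_mem (mul_mem b
            (h.cA (h.k'_norm s) a1)) (inv_mem a1))) using 1
          rw [map_mul, map_mul, map_mul, map_inv, map_inv, h.k'_def ⟨r, hr.1⟩]
          group)
        exact congrArg (fun s : M24 => s.1) (mul_inv_eq_iff_eq_mul.1 (mul_inv_eq_one.1 this))
      exact (centCon_2A le_rfl fun _ a => a.1).self _ σ.2 (k _ jl_q) k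
    exact mul_mem (mem_sup_left b) (mul_mem (mem_sup_right (eV _ s1)) (mem_sup_left (h.k_mem s1)))
  · rintro _ ⟨⟨σ, -, rfl⟩, a⟩
    rw [h.k'_one a]; simp
  · obtain ⟨σ, s, a, b, rfl⟩ := h.decN hn
    exact mul_mem (mem_sup_right b) (mem_sup_left ⟨σ, s, rfl⟩)
  · rw [show {d | d ∈ h.A ∧ d ∈ D} = ε '' ((om 0x82402f).powersetCard 2 : Finset _) from Set.ext fun d => h.duad,
      Set.InjOn.ncard_image fun S a R b e => by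
        have a1 := (Finset.mem_powersetCard.1 a).2
        have b1 := (Finset.mem_powersetCard.1 b).2
        exact T.inj (by rw [a1]; decide) (by rw [b1]; decide) (by omega) e,
      Set.ncard_coe_finset, Finset.card_powersetCard, O0_mem.2]
    decide
  · obtain ⟨S, a, rfl⟩ := h.duad.1 ⟨d1, d2⟩
    obtain ⟨R, b, rfl⟩ := h.duad.1 ⟨e1, e2⟩
    rw [Finset.mem_powersetCard] at a b
    obtain ⟨x, y, xy, rfl⟩ := Finset.card_eq_two.1 a.2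
    obtain ⟨u, v, uv, rfl⟩ := Finset.card_eq_two.1 b.2
    obtain ⟨σ, c1, c2, c3, -⟩ := std_octad_list O0_mem (l := [x, y]) (l' := [u, v]) (by simpa) (by simpa) rfl
      (by simp) (fun p hp => a.1 (by simpa using hp)) (fun p hp => b.1 (by simpa using hp)) pt4_not_mem pt4_not_mem
    simp only [List.map_cons, List.map_nil, List.cons.injEq, and_true] at c3
    refine ⟨κ ⟨σ, c1⟩, ⟨h.k_norm ⟨c1, c2.symm⟩, h.mem _⟩, ?_⟩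
    rw [h.act _ (by rw [a.2]; decide), mul_inv_cancel_right, smul_pair, c3.1, c3.2]
    rfl

end Cfsg.Lib.JF
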