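import Cfsg.Agent.Lib.Known2.LE

/-! Groups of the order of `J4`: the Sylow `p`-subgroups for `p = 23, 29, 31, 37, 43`. -/

set_option autoImplicit false
set_option linter.unusedSectionVars false
set_option synthInstance.maxSize 4096
set_option maxRecDepth 10000

namespace Cfsg.Lib.JF

open Subgroup Cfsg.Lib.Amalg Cfsg.Lib.Core Cfsg.Lib.Known2

variable {G : Type*} [Group G] [Finite G]

/-- the five large primes. -/
def o7B (p : ℕ) : Prop := p = 23 ∨ p = 29 ∨ p = 31 ∨ p = 37 ∨ p = 43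

/-- the four small primes. -/
def o7S (r : ℕ) : Prop := r = 2 ∨ r = 3 ∨ r = 5 ∨ r = 7

theorem o7B.prime {p : ℕ} (h : o7B p) : p.Prime := by rcases h with rfl | rfl | rfl | rfl | rfl <;> norm_num
theorem o7S.prime {p : ℕ} (h : o7S p) : p.Prime := by rcases h with rfl | rfl | rfl | rfl <;> norm_num

/-- the arithmetic. -/
def o7D (p e0 : ℕ) (X K : List ℕ) (c e : ℕ) : Prop :=
  p ∣ c → e ∣ p - 1 → 86775571046077562880 / (c * e) % p = 1 → (∀ k ∈ K, k ^ e % p = 1) →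
    (∀ q ∈ [23, 29, 31, 37, 43], q ∣ c → (q ∈ X → q = p) ∧ ∀ r ∈ [2, 3, 5, 7], r ∣ e → r ∣ q - 1) → c = p ∧ e = e0

instance o7Ddec (p e0 : ℕ) (X K : List ℕ) (c e : ℕ) : Decidable (o7D p e0 X K c e) := by
  unfold o7D; infer_instance

/-- the hypotheses. -/
structure O7 (G : Type*) [Group G] : Prop where
  ord : Nat.card G = 86775571046077562880
  cen : ∀ y : G, o7S (orderOf y) → Nat.card (centralizer ({y} : Set G)) ∣ 2 ^ 21 * 27 * 5 * 7 * 11

namespace O7
variable (h : O7 G)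
include h

theorem syl {x : G} (b : o7B (orderOf x)) {H : Subgroup G} (hx : x ∈ H) :
    haveI := Fact.mk b.prime; Syl (orderOf x) (zpowers x) H := by
  have := Fact.mk b.prime
  refine (syl_of_not_dvd le_top (Amalg.isPGroup_zpowers_of_orderOf (k := 1) (pow_one _).symm) fun d => ?_).of_le
    (zpowers_le.2 hx) le_top
  have c := (zpowers x).index_mul_card
  rw [relIndex_top_right] at d
  have := Nat.mul_dvd_mul_right d (orderOf x)
  rw [Nat.card_zpowers, h.ord] at c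
  rw [c] at this
  rcases b with e | e | e | e | e <;> rw [e] at this <;> norm_num at this

theorem cop {x : G} (b : o7B (orderOf x)) {r : ℕ} (s : o7S r) : ¬ r ∣ Nat.card (centralizer ({x} : Set G)) := fun d => by
  have := Fact.mk s.prime
  obtain ⟨y, hy⟩ := exists_prime_orderOf_dvd_card' r d
  rw [← orderOf_coe] at hy
  have c := (orderOf_dvd_natCard (⟨x, mem_cent_single.2 (mem_cent_single.1 y.2).symm⟩ : centralizer {(y : G)})).trans
    (h.cen y (hy ▸ s))
  rw [← orderOf_coe] at c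
  change orderOf x ∣ _ at c
  rcases b with e | e | e | e | e <;> rw [e] at c <;> norm_num at c

theorem num {x : G} (b : o7B (orderOf x)) : ∃ e m, e ∣ orderOf x - 1 ∧
    Nat.card (𝐍 (zpowers x)) = Nat.card (centralizer ({x} : Set G)) * e ∧
    m * Nat.card (𝐍 (zpowers x)) = 86775571046077562880 ∧ m % orderOf x = 1 ∧
    ∀ g k, g * x * g⁻¹ = x ^ k → k ^ e % orderOf x = 1 := by
  have := Fact.mk b.prime
  let f := (zpowers x).normalizerMonoidHom
  have k : f.ker = (centralizer {x}).subgroupOf _ := by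
    rw [normalizerMonoidHom_ker]; congr 1; ext g; rw [mem_cent_zpowers, mem_cent_single]
  have le : centralizer {x} ≤ 𝐍 (zpowers x) := fun g hg =>
    centralizer_le_normalizer _ (mem_cent_zpowers.2 (mem_cent_single.1 hg))
  have o1 : 1 % orderOf x = 1 := Nat.mod_eq_of_lt b.prime.one_lt
  refine ⟨f.ker.index, (𝐍 (zpowers x)).index, ?_, ?_, by rw [index_mul_card, h.ord], ?_, fun g j e => ?_⟩
  · rw [index_ker, ← Nat.totient_prime b.prime, ← Nat.card_zpowers, ← IsCyclic.card_mulAut]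
    exact card_subgroup_dvd_card _
  · rw [← f.ker.card_mul_index, k, Nat.card_congr (subgroupOfEquivOfLe le).toEquiv]
  · have S := h.syl b (mem_top x)
    have := card_sylow_modEq_one (orderOf x) G
    rw [S.toSylowTop.card_eq_index_normalizer] at this
    exact Eq.trans this o1
  · have gN : g ∈ 𝐍 (zpowers x) := mem_normalizer_of_cj_le (by
      rw [cj_zpowers, e]; exact zpowers_le.2 (pow_mem (mem_zpowers x) j))
    have c := f.ker.pow_index_mem ⟨g, gN⟩
    rw [k] at c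
    have c : g ^ _ * x = x * g ^ _ := mem_cent_single.1 c
    have i : ∀ n : ℕ, g ^ n * x * (g ^ n)⁻¹ = x ^ j ^ n := fun n => by
      induction n with
      | zero => simp
      | succ n ih => rw [pow_succ', pow_succ', pow_mul, ← e, conj_pow, ← ih]; group
    have := i f.ker.index
    rw [k, conj_eq_of_comm c] at this
    rw [k]
    exact Eq.trans (pow_eq_pow_iff_modEq.1 (this.symm.trans (pow_one x).symm)) o1

theorem fra {x w : G} (b : o7B (orderOf x)) (b' : o7B (orderOf w)) (c : w * x = x * w) {r : ℕ} (s : o7S r)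
    (d : r ∣ Nat.card (𝐍 (zpowers x))) : r ∣ orderOf w - 1 := by
  have := Fact.mk s.prime
  have := Fact.mk b'.prime
  obtain ⟨e, m, e1, e2, -⟩ := h.num b'
  refine dvd_trans (((Nat.Prime.dvd_mul s.prime).1 (e2 ▸ ?_)).resolve_left (h.cop b' s)) e1
  by_contra n
  obtain ⟨y, hy⟩ := exists_prime_orderOf_dvd_card' r d
  rw [← orderOf_coe] at hy
  have nC : ∀ u ∈ centralizer {x}, (y : G) * u * (y : G)⁻¹ ∈ centralizer {x} := fun u hu => by
    obtain ⟨i, hi⟩ := (mem_normalizer_iff.1 (inv_mem y.2) x).1 (mem_zpowers x)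
    have : Commute u ((y : G)⁻¹ * x * (y : G)⁻¹⁻¹) := hi ▸ (show Commute u x from mem_cent_single.1 hu).zpow_right i
    simpa [mul_assoc] using mem_cent_single.2 (this.conj (y : G)).eq
  obtain ⟨u, hu, a, ha, ya⟩ := (h.syl b' (mem_cent_single.2 c)).frattini_mem
    (mem_normalizer_of_cj_le (g := (y : G)) (cj_le_iff'.2 nC))
  have i : ∀ j : ℕ, (y : G) ^ j * (a ^ j)⁻¹ ∈ centralizer {x} := fun j => by
    induction j with
    | zero => simp
    | succ j ih =>
      rw [show (y : G) ^ (j + 1) * (a ^ (j + 1))⁻¹ = y * ((y : G) ^ j * (a ^ j)⁻¹) * (y : G)⁻¹ * (y * a⁻¹) by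
        rw [pow_succ', pow_succ']; group]
      exact mul_mem (nC _ ih) (by rw [ya, mul_inv_cancel_right]; exact hu)
  have k := i (Nat.card (𝐍 (zpowers w)))
  rw [show a ^ Nat.card (𝐍 (zpowers w)) = 1 from congrArg Subtype.val (pow_card_eq_one' (x := (⟨a, ha⟩ : 𝐍 (zpowers w)))),
    inv_one, mul_one] at k
  have := zpowers_le.2 k (mem_zpowers_pow_iff.2 (hy ▸ ((Nat.Prime.coprime_iff_not_dvd s.prime).2 n).symm))
  exact h.cop b s (hy ▸ orderOf_coe (⟨y, this⟩ : centralizer {x}) ▸ orderOf_dvd_natCard _)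

theorem tr {x x0 g : G} {k : ℕ} (b : o7B (orderOf x)) (o : orderOf x0 = orderOf x) (e : g * x0 * g⁻¹ = x0 ^ k) :
    ∃ g, g * x * g⁻¹ = x ^ k := by
  have := Fact.mk (o ▸ b).prime
  obtain ⟨c, -, l⟩ := (h.syl (o ▸ b) (mem_top x0)).exists_conj_le
    (Amalg.isPGroup_zpowers_of_orderOf (k := 1) (by rw [pow_one, o] : orderOf x = _)) le_top
  obtain ⟨i, hi⟩ := l (conj_mem_cj c (mem_zpowers x))
  have hx : x = c⁻¹ * x0 ^ i * c⁻¹⁻¹ := by rw [show x0 ^ i = c * x * c⁻¹ from hi]; group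
  refine ⟨c⁻¹ * g * c, ?_⟩
  rw [hx, conj_pow, ← zpow_natCast, ← zpow_mul, mul_comm i, zpow_mul, zpow_natCast, ← e, conj_zpow]
  group

theorem key {x : G} (b : o7B (orderOf x)) {e0 : ℕ} (X : List ℕ) (K : List ℕ)
    (hX : ∀ q ∈ X, ∀ w : G, orderOf w = q → Nat.card (centralizer ({w} : Set G)) = q)
    (hK : ∀ k ∈ K, ∃ x0 g : G, orderOf x0 = orderOf x ∧ g * x0 * g⁻¹ = x0 ^ k)
    (dec : ∀ a < 4, ∀ b1 < 2, ∀ b2 < 2, ∀ b3 < 2, ∀ b4 < 2, ∀ b5 < 2, ∀ e < 43,
      o7D (orderOf x) e0 X K (11 ^ a * (23 ^ b1 * (29 ^ b2 * (31 ^ b3 * (37 ^ b4 * 43 ^ b5))))) e) :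
    Nat.card (centralizer ({x} : Set G)) = orderOf x ∧ Nat.card (𝐍 (zpowers x)) = orderOf x * e0 := by
  obtain ⟨e, m, e1, e2, e3, e4, e5⟩ := h.num b
  have d : Nat.card (centralizer ({x} : Set G)) ∣ 11 ^ 3 * (23 ^ 1 * (29 ^ 1 * (31 ^ 1 * (37 ^ 1 * 43 ^ 1)))) := by
    have c := card_subgroup_dvd_card (centralizer ({x} : Set G))
    rw [h.ord, show 86775571046077562880 = 2 ^ 21 * (3 ^ 3 * (5 * (7 *
      (11 ^ 3 * (23 ^ 1 * (29 ^ 1 * (31 ^ 1 * (37 ^ 1 * 43 ^ 1)))))))) by norm_num] at c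
    have p : ∀ r, o7S r → (Nat.card (centralizer ({x} : Set G))).Coprime r := fun r s =>
      ((Nat.Prime.coprime_iff_not_dvd s.prime).2 (h.cop b s)).symm
    exact (p 7 (by simp [o7S])).dvd_of_dvd_mul_left ((p 5 (by simp [o7S])).dvd_of_dvd_mul_left
      (((p 3 (by simp [o7S])).pow_right 3).dvd_of_dvd_mul_left (((p 2 (by simp [o7S])).pow_right 21).dvd_of_dvd_mul_left c)))
  obtain ⟨_, _, d1, f1, c1⟩ := exists_dvd_and_dvd_of_dvd_mul d
  obtain ⟨_, _, d2, f2, rfl⟩ := exists_dvd_and_dvd_of_dvd_mul f1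
  obtain ⟨_, _, d3, f3, rfl⟩ := exists_dvd_and_dvd_of_dvd_mul f2
  obtain ⟨_, _, d4, f4, rfl⟩ := exists_dvd_and_dvd_of_dvd_mul f3
  obtain ⟨_, _, d5, d6, rfl⟩ := exists_dvd_and_dvd_of_dvd_mul f4
  obtain ⟨a, l1, rfl⟩ := (Nat.dvd_prime_pow (by norm_num)).1 d1
  obtain ⟨b1, l2, rfl⟩ := (Nat.dvd_prime_pow (by norm_num)).1 d2
  obtain ⟨b2, l3, rfl⟩ := (Nat.dvd_prime_pow (by norm_num)).1 d3
  obtain ⟨b3, l4, rfl⟩ := (Nat.dvd_prime_pow (by norm_num)).1 d4
  obtain ⟨b4, l5, rfl⟩ := (Nat.dvd_prime_pow (by norm_num)).1 d5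
  obtain ⟨b5, l6, rfl⟩ := (Nat.dvd_prime_pow (by norm_num)).1 d6
  have xc : orderOf x ∣ Nat.card (centralizer ({x} : Set G)) :=
    orderOf_coe (⟨x, mem_cent_single.2 rfl⟩ : centralizer {x}) ▸ orderOf_dvd_natCard _
  have lt : e < 43 := by
    have := Nat.le_of_dvd (Nat.sub_pos_of_lt b.prime.one_lt) e1
    rcases b with e | e | e | e | e <;> omega
  have pos : 0 < Nat.card (𝐍 (zpowers x)) := Nat.card_pos
  obtain ⟨r1, rfl⟩ := dec a (by omega) b1 (by omega) b2 (by omega) b3 (by omega) b4 (by omega) b5 (by omega) e lt (c1 ▸ xc) e1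
    (by rw [← c1, ← e2, ← e3, Nat.mul_div_cancel _ pos]; exact e4)
    (fun k hk => by
      obtain ⟨x0, g, o, e⟩ := hK k hk
      obtain ⟨g, e⟩ := h.tr b o e
      exact e5 g k e) fun q hq d => by
      have bq : o7B q := by simpa [o7B] using hq
      have := Fact.mk bq.prime
      obtain ⟨w, hw⟩ := exists_prime_orderOf_dvd_card' q (c1 ▸ d : q ∣ Nat.card (centralizer ({x} : Set G)))
      rw [← orderOf_coe] at hw
      have c := mem_cent_single.1 w.2
      refine ⟨fun k => ?_, fun r hr d => hw ▸ h.fra b (hw ▸ bq) c (by simpa [o7S] using hr) (e2 ▸ d.mul_left _)⟩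
      have : orderOf x ∣ q := hX q k w hw ▸ orderOf_coe (⟨x, mem_cent_single.2 c.symm⟩ : centralizer {(w : G)}) ▸
        orderOf_dvd_natCard _
      exact ((Nat.prime_dvd_prime_iff_eq b.prime bq.prime).1 this).symm
  exact ⟨c1.trans r1, by rw [e2, c1, r1]⟩

theorem fin {p e : ℕ} (b : o7B p) (d : p ∣ 86775571046077562880)
    (k : ∀ x : G, orderOf x = p → Nat.card (centralizer ({x} : Set G)) = p ∧ Nat.card (𝐍 (zpowers x)) = p * e)
    (U : Sylow p G) : centralizer ((U : Subgroup G) : Set G) = (U : Subgroup G) ∧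
      Nat.card (normalizer ((U : Subgroup G) : Set G)) = p * e := by
  have := Fact.mk b.prime
  obtain ⟨x, hx⟩ := exists_prime_orderOf_dvd_card' p (U.dvd_card_of_dvd_card (h.ord ▸ d))
  obtain ⟨y, hy, o⟩ : ∃ y : G, y ∈ (U : Subgroup G) ∧ orderOf y = p := ⟨x, x.2, (orderOf_coe x).trans hx⟩
  clear hx x
  subst o
  have e : (U : Subgroup G) = zpowers y :=
    le_antisymm ((h.syl b (mem_top _)).le_of_le (zpowers_le.2 hy) le_top U.isPGroup') (zpowers_le.2 hy)
  obtain ⟨k1, k2⟩ := k y rfl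
  rw [e]
  refine ⟨?_, k2⟩
  rw [show centralizer (zpowers y : Set G) = centralizer {y} by ext g; rw [mem_cent_zpowers, mem_cent_single]]
  exact (eq_of_le_of_card_ge (zpowers_le.2 (mem_cent_single.2 rfl)) (by rw [k1, Nat.card_zpowers])).symm

theorem main (h1 : ∃ g x : G, orderOf x = 31 ∧ g * x * g⁻¹ = x⁻¹) (h2 : ∃ g x : G, orderOf x = 31 ∧ g * x * g⁻¹ = x ^ 2)
    (h3 : ∃ g x : G, orderOf x = 23 ∧ g * x * g⁻¹ = x ^ 2) :
    (∀ U : Sylow 23 G, centralizer ((U : Subgroup G) : Set G) = (U : Subgroup G) ∧ Nat.card ↥(normalizer ((U : Subgroup G) : Set G)) = 23 * 22) ∧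
    (∀ U : Sylow 29 G, centralizer ((U : Subgroup G) : Set G) = (U : Subgroup G) ∧ Nat.card ↥(normalizer ((U : Subgroup G) : Set G)) = 29 * 28) ∧
    (∀ U : Sylow 31 G, centralizer ((U : Subgroup G) : Set G) = (U : Subgroup G) ∧ Nat.card ↥(normalizer ((U : Subgroup G) : Set G)) = 31 * 10) ∧
    (∀ U : Sylow 37 G, centralizer ((U : Subgroup G) : Set G) = (U : Subgroup G) ∧ Nat.card ↥(normalizer ((U : Subgroup G) : Set G)) = 37 * 12) ∧
    (∀ U : Sylow 43 G, centralizer ((U : Subgroup G) : Set G) = (U : Subgroup G) ∧ Nat.card ↥(normalizer ((U : Subgroup G) : Set G)) = 43 * 14) := by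
  have k31 : ∀ x : G, orderOf x = 31 → Nat.card (centralizer ({x} : Set G)) = 31 ∧ Nat.card (𝐍 (zpowers x)) = 31 * 10 :=
    fun x o => o ▸ h.key (by simp [o, o7B]) [] [30, 2] (by simp) (by
      obtain ⟨g, y, a, b⟩ := h1
      obtain ⟨g', y', a', b'⟩ := h2
      simp only [List.forall_mem_cons]
      exact ⟨⟨y, g, a.trans o.symm, b.trans (inv_eq_of_mul_eq_one_left (by rw [← pow_succ, show 30 + 1 = orderOf y from a.symm, pow_orderOf_eq_one]))⟩,
        ⟨y', g', a'.trans o.symm, b'⟩, by simp⟩) (by rw [o]; decide +kernel)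
  have k43 : ∀ x : G, orderOf x = 43 → Nat.card (centralizer ({x} : Set G)) = 43 ∧ Nat.card (𝐍 (zpowers x)) = 43 * 14 :=
    fun x o => o ▸ h.key (by simp [o, o7B]) [31] [] (by simpa using fun w o => (k31 w o).1) (by simp) (by rw [o]; decide +kernel)
  have k23 : ∀ x : G, orderOf x = 23 → Nat.card (centralizer ({x} : Set G)) = 23 ∧ Nat.card (𝐍 (zpowers x)) = 23 * 22 :=
    fun x o => o ▸ h.key (by simp [o, o7B]) [31, 43] [2]
      (by simpa using ⟨fun w o => (k31 w o).1, fun w o => (k43 w o).1⟩) (by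
      obtain ⟨g, y, a, b⟩ := h3
      simpa using ⟨y, a.trans o.symm, g, b⟩) (by rw [o]; decide +kernel)
  have k37 : ∀ x : G, orderOf x = 37 → Nat.card (centralizer ({x} : Set G)) = 37 ∧ Nat.card (𝐍 (zpowers x)) = 37 * 12 :=
    fun x o => o ▸ h.key (by simp [o, o7B]) [31, 43, 23] []
      (by simpa using ⟨fun w o => (k31 w o).1, fun w o => (k43 w o).1, fun w o => (k23 w o).1⟩) (by simp)
      (by rw [o]; decide +kernel)
  have k29 : ∀ x : G, orderOf x = 29 → Nat.card (centralizer ({x} : Set G)) = 29 ∧ Nat.card (𝐍 (zpowers x)) = 29 * 28 :=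
    fun x o => o ▸ h.key (by simp [o, o7B]) [31, 43, 23, 37] []
      (by simpa using ⟨fun w o => (k31 w o).1, fun w o => (k43 w o).1, fun w o => (k23 w o).1, fun w o => (k37 w o).1⟩)
      (by simp) (by rw [o]; decide +kernel)
  exact ⟨h.fin (by simp [o7B]) (by norm_num) k23, h.fin (by simp [o7B]) (by norm_num) k29,
    h.fin (by simp [o7B]) (by norm_num) k31, h.fin (by simp [o7B]) (by norm_num) k37, h.fin (by simp [o7B]) (by norm_num) k43⟩

end O7

end Cfsg.Lib.JF
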