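import Cfsg.Agent.Lib.Block2.JXk0

/-! Near-offenders of `M24` on the even cocode module: kernel checks. -/

set_option autoImplicit false
set_option maxRecDepth 100000

namespace Cfsg.Lib.JF

open Subgroup Cfsg.Lib.Amalg Cfsg.Lib.Core Cfsg.Lib.Known2 Cfsg.Lib.Golay Spor MulAction
open scoped Pointwise symmDiff

theorem xchk1 : allN 191 (fun i => forceN (xcd i) fun g => band (inM24 g) (band (forceN (xcm i) fun c =>
    allN 191 fun k => bor (tb c k) (forceN (xcd k) fun h => anyN 24 fun p =>
      bnot (Nat.beq (app g (app h p)) (app h (app g p)))))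
    (band (forceN (xfm i) fun f => allN 128 fun j => bor (tb f j) (forceN (xrp j) fun m => bnot (isCw (Nat.xor (imgT g m) m))))
      (bimp (tb xQ i) (allN 24 fun p => bimp (tb 0x82402f p) (Nat.beq (app g p) p)))))) = true := by
  decide +kernel

end Cfsg.Lib.JF
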