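import Cfsg.Agent.Lib.Block2.JXk0

/-! Near-offenders of `M24` on the even cocode module: kernel checks. -/

set_option autoImplicit false
set_option maxRecDepth 100000

namespace Cfsg.Lib.JF

open Subgroup Cfsg.Lib.Amalg Cfsg.Lib.Core Cfsg.Lib.Known2 Cfsg.Lib.Golay Spor MulAction
open scoped Pointwise symmDiff

theorem xchk2 : bfsH 1021 10 (mapL (mulN gc.n) gS2) 17 (idN gc.n) (fun _ L => allL L fun y =>
    bimp (Nat.beq (mulN 24 y y) (idN 24)) (bor (Nat.beq y (idN 24)) (anyN 191 fun i => Nat.beq (xcd i) y))) = true := by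
  decide +kernel

theorem xchk3 : allN 4096 (fun j => forceN (Nat.mul 4096 j) fun m => bimp (band (Nat.beq (Nat.mod (pop24 m) 2) 0)
    (isCw (Nat.xor (imgT z2A m) m))) (anyN 128 fun k => isCw (Nat.xor (xrp k) m))) = true := by
  decide +kernel

theorem xchk4 : countN 4096 (fun j => forceN (Nat.mul 4096 j) fun m => band (Nat.beq (Nat.mod (pop24 m) 2) 0)
    (isCw (Nat.xor (imgT z2B m) m))) = 64 := by
  decide +kernel

theorem xchk5 : allN 64 (fun j => Nat.beq (Nat.land (xrp j) 0x82402f) (xrp j)) = true := by decide +kernel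

end Cfsg.Lib.JF
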