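import Cfsg.Agent.Lib.Block2.JXk1
import Cfsg.Agent.Lib.Block2.JXk2
import Cfsg.Agent.Lib.Block2.JXk3

/-! Near-offenders of `M24` on the even cocode module. -/

set_option autoImplicit false
set_option maxRecDepth 100000

namespace Cfsg.Lib.JF

open Subgroup Cfsg.Lib.Amalg Cfsg.Lib.Core Cfsg.Lib.Known2 Cfsg.Lib.Golay Spor MulAction
open scoped Pointwise symmDiff

theorem xdfs_succ (i c f : ℕ) : xdfs (i + 1) c f = bif' (tb c i) (bor (xfin c f)
    (band (xdfs i (Nat.land c (xcm i)) (Nat.land f (xfm i))) (xdfs i (Nat.xor c (Nat.shiftLeft 1 i)) f))) (xdfs i c f) := rfl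

theorem xdfs_spec {Bs Ws : Finset ℕ} (hB : ∀ i ∈ Bs, i < 191) (hW : ∀ j ∈ Ws, j < 128)
    (h1 : ∀ i ∈ Bs, ∀ k ∈ Bs, (xcm i).testBit k = true) (h2 : ∀ i ∈ Bs, ∀ j ∈ Ws, (xfm i).testBit j = true)
    (hc : 1024 ≤ (Bs.card + 1) * Ws.card) : (∀ i ∈ Bs, xQ.testBit i = true) ∧ ∀ j ∈ Ws, j < 64 := by
  have fin : ∀ c f, xfin c f = true → (∀ i ∈ Bs, c.testBit i = true) → (∀ j ∈ Ws, f.testBit j = true) →
      (∀ i ∈ Bs, xQ.testBit i = true) ∧ ∀ j ∈ Ws, j < 64 := fun c f h a b => by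
    rw [xfin, bor_iff] at h
    rcases h with h | h
    · exfalso
      rw [ble_iff, Nat.mul_eq, Nat.succ_eq_add_one] at h
      have p1 := card_le_xpop (k := 8) (c := c) (s := Bs) fun i hi => ⟨by have := hB i hi; omega, a i hi⟩
      have p2 := card_le_xpop (k := 6) (c := f) (s := Ws) fun i hi => ⟨by have := hW i hi; omega, b i hi⟩
      have := Nat.mul_le_mul (Nat.add_le_add_right p1 1) p2
      omega
    · obtain ⟨e1, e2⟩ := band_iff.1 h
      rw [beq_iff, land_eq'] at e1 e2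
      rw [show 0xffffffffffffffff = 2 ^ 64 - 1 by norm_num] at e2
      refine ⟨fun i hi => ?_, fun j hj => ?_⟩
      · have := a i hi
        rw [← e1, Nat.testBit_and, Bool.and_eq_true] at this
        exact this.2
      · have := b j hj
        rw [← e2, Nat.testBit_and, Bool.and_eq_true, Nat.testBit_two_pow_sub_one] at this
        simpa using this.2
  have key : ∀ n c f, xdfs n c f = true → (∀ i ∈ Bs, c.testBit i = true) → (∀ j ∈ Ws, f.testBit j = true) →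
      (∀ i ∈ Bs, xQ.testBit i = true) ∧ ∀ j ∈ Ws, j < 64 := fun n => by
    induction n with
    | zero => exact fin
    | succ n ih =>
      intro c f h a b
      rw [xdfs_succ, land_eq', land_eq', xor_eq', shl_eq'] at h
      cases e : tb c n <;> rw [e] at h
      · exact ih c f (by rwa [bif'_false] at h) a b
      rw [bif'_true] at h
      rcases bor_iff.1 h with h | h
      · exact fin c f h a b
      obtain ⟨k1, k2⟩ := band_iff.1 h
      by_cases m : n ∈ Bs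
      · exact ih _ _ k1 (fun i hi => by rw [Nat.testBit_and, a i hi, h1 n m i hi]; rfl)
          fun j hj => by rw [Nat.testBit_and, b j hj, h2 n m j hj]; rfl
      · refine ih _ _ k2 (fun i hi => ?_) b
        rw [Nat.testBit_xor, a i hi, Nat.one_shiftLeft, Nat.testBit_two_pow_of_ne (fun k : n = i => m (k ▸ hi))]; rfl
  exact key _ _ _ xdfs_ok (fun i hi => by rw [Nat.testBit_two_pow_sub_one]; simpa using hB i hi)
    fun j hj => by rw [Nat.testBit_two_pow_sub_one]; simpa using hW j hj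

theorem xrp_lt (j : ℕ) : xrp j < 2 ^ 24 := ent_lt 24 xRp j

theorem cw_tr {S R Q : Finset GolayPt} (h : S ∆ R ∈ cw) (h' : S ∆ Q ∈ cw) : R ∆ Q ∈ cw := by
  have := symmDiff_mem_cw h h'
  rwa [symmDiff_comm S R, symmDiff_assoc, symmDiff_symmDiff_cancel_left] at this

theorem fx_tr {b : Equiv.Perm GolayPt} (hb : b ∈ M24) {S R : Finset GolayPt} (h : R ∆ S ∈ cw) (f : (b • S) ∆ S ∈ cw) :
    (b • R) ∆ R ∈ cw := by
  have h1 := (smul_mem_cw_iff hb).2 h
  rw [smul_symmDiff, symmDiff_comm] at h1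
  have h2 := cw_tr h1 f
  rw [symmDiff_comm] at h h2
  exact cw_tr h2 h

theorem ev_tr {S R : Finset GolayPt} (h : R ∆ S ∈ cw) (e : Even S.card) : Even R.card := by
  have := even_sd (show Even (R ∆ S).card by rcases card_cw h with c | c | c | c | c <;> rw [c] <;> decide) e
  rwa [symmDiff_symmDiff_cancel_right] at this

theorem rep_q {τ : ℕ} (hτ : gc.InH M24 τ) {S : Finset GolayPt} (e : Even S.card) (f : (gc.dec τ • S) ∆ S ∈ cw) :
    ∃ j < 4096, om (4096 * j) ∆ S ∈ cw ∧ band (Nat.beq (Nat.mod (pop24 (4096 * j)) 2) 0)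
      (isCw (Nat.xor (imgT τ (4096 * j)) (4096 * j))) = true := by
  obtain ⟨j, hj, k⟩ := exists_rep S
  refine ⟨j, hj, k, band_iff.2 ⟨beq_iff.2 ?_, ?_⟩⟩
  · have := ev_tr k e
    rw [card_om] at this
    exact Nat.even_iff.1 this
  · have := fx_tr hτ.2 k f
    rw [hτ.1.smul_om, ← gc.ofMask_xor] at this
    exact (om_mem_cw_iff (Nat.xor_lt_two_pow (hτ.1.imgT_lt _) (by omega))).1 this

theorem off_core {B : Subgroup (Equiv.Perm GolayPt)} (hB : B ≤ gc.gen gS2) (e : ∀ b ∈ B, b * b = 1) (z : gc.dec z2A ∈ B)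
    {W : Finset (Finset GolayPt)} (ev : ∀ S ∈ W, Even S.card) (inj : ∀ S ∈ W, ∀ R ∈ W, S ∆ R ∈ cw → S = R)
    (fx : ∀ b ∈ B, ∀ S ∈ W, (b • S) ∆ S ∈ cw) (c : 2 ^ 10 ≤ Nat.card B * W.card) :
    (∀ b ∈ B, ∀ x ∈ om 0x82402f, b x = x) ∧ W.card ≤ 64 ∧ ∀ S ∈ W, ∃ R ⊆ om 0x82402f, S ∆ R ∈ cw := by
  classical
  have ck := xchk1
  simp only [forceN_eq] at ck
  replace ck : ∀ i < 191, _ := fun i hi => band_iff.1 (allN_iff.1 ck i hi)
  have iv : ∀ i < 191, gc.InH M24 (xcd i) := fun i hi => inH_of_inM24 (ck i hi).1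
  let Bs := (Finset.range 191).filter fun i => gc.dec (xcd i) ∈ B
  let Ws := (Finset.range 128).filter fun j => ∃ S ∈ W, om (xrp j) ∆ S ∈ cw
  have mB : ∀ i, i ∈ Bs ↔ i < 191 ∧ gc.dec (xcd i) ∈ B := fun i => by simp [Bs]
  have mW : ∀ j, j ∈ Ws ↔ j < 128 ∧ ∃ S ∈ W, om (xrp j) ∆ S ∈ cw := fun i => by simp [Ws]
  clear_value Bs Ws
  have cB : ∀ b ∈ B, b ≠ 1 → ∃ i ∈ Bs, gc.dec (xcd i) = b := fun b hb n => by
    obtain ⟨y, v, rfl, q⟩ := Coding.forall_mem_gen (fun g hg => (inH_gS2 g hg).1) xchk2 (hB hb)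
    rcases bor_iff.1 (bimp_iff.1 q (beq_iff.2 ((sq_of v).1 (e _ hb)))) with k | k
    · exact absurd (by rw [beq_iff.1 k]; exact Coding.dec_one) n
    · obtain ⟨i, hi, k⟩ := anyN_iff.1 k
      rw [← beq_iff.1 k] at hb ⊢
      exact ⟨i, (mB i).2 ⟨hi, hb⟩, rfl⟩
  have cW : ∀ S ∈ W, ∃ j ∈ Ws, om (xrp j) ∆ S ∈ cw := fun S hS => by
    obtain ⟨j, hj, k, q⟩ := rep_q inH_z2A (ev S hS) (fx _ z S hS)
    obtain ⟨i, hi, r⟩ := anyN_iff.1 (bimp_iff.1 (allN_iff.1 xchk3 j hj) q)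
    have r := om_mem_cw r
    rw [xor_eq', Nat.mul_eq, om, gc.ofMask_xor, symmDiff_comm] at r
    exact ⟨i, (mW i).2 ⟨hi, S, hS, cw_tr r k⟩, cw_tr r k⟩
  have c1 : Nat.card B ≤ Bs.card + 1 := by
    have s : (B : Set (Equiv.Perm GolayPt)) ⊆ (insert 1 (Bs.image fun i => gc.dec (xcd i)) : Finset _) := fun b hb => by
      by_cases n : b = 1
      · simp [n]
      · obtain ⟨i, hi, rfl⟩ := cB b hb n
        exact Finset.mem_coe.2 (Finset.mem_insert_of_mem (Finset.mem_image_of_mem _ hi))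
    have := Set.ncard_le_ncard s
    rw [Set.ncard_coe_finset] at this
    exact this.trans ((Finset.card_insert_le _ _).trans (Nat.add_le_add_right Finset.card_image_le 1))
  have c2 : W.card ≤ Ws.card := Finset.card_le_card_of_forall_subsingleton (fun S j => om (xrp j) ∆ S ∈ cw)
    (fun S hS => cW S hS) fun j _ S hS R hR => inj S hS.1 R hR.1 (cw_tr hS.2 hR.2)
  obtain ⟨r1, r2⟩ := xdfs_spec (Bs := Bs) (Ws := Ws) (fun i hi => ((mB i).1 hi).1) (fun i hi => ((mW i).1 hi).1)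
    (fun i hi k hk => by
      obtain ⟨i1, i2⟩ := (mB i).1 hi
      obtain ⟨k1, k2⟩ := (mB k).1 hk
      rcases bor_iff.1 (allN_iff.1 (band_iff.1 (ck i i1).2).1 k k1) with r | r
      · rwa [tb_eq] at r
      · exfalso
        obtain ⟨p, hp, r⟩ := anyN_iff.1 r
        refine bnot_iff.1 r (beq_iff.2 ?_)
        have vi := (iv i i1).1
        have vk := (iv k k1).1
        have := congrArg (fun σ : Equiv.Perm GolayPt => σ (gc.pt p)) (comm_of_sq e i2 k2)
        simp only [Equiv.Perm.mul_apply] at this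
        rw [vk.dec_pt hp, vi.dec_pt hp, vi.dec_pt (vk.app_lt hp), vk.dec_pt (vi.app_lt hp)] at this
        exact (gc.pt_inj (vi.app_lt (vk.app_lt hp)) (vk.app_lt (vi.app_lt hp))).1 this)
    (fun i hi j hj => by
      obtain ⟨i1, i2⟩ := (mB i).1 hi
      obtain ⟨j1, S, hS, k⟩ := (mW j).1 hj
      rcases bor_iff.1 (allN_iff.1 (band_iff.1 (band_iff.1 (ck i i1).2).2).1 j j1) with r | r
      · rwa [tb_eq] at r
      · exfalso
        refine bnot_iff.1 r ?_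
        have := fx_tr (iv i i1).2 k (fx _ i2 S hS)
        rw [(iv i i1).1.smul_om, ← gc.ofMask_xor] at this
        exact (om_mem_cw_iff (Nat.xor_lt_two_pow ((iv i i1).1.imgT_lt _) (xrp_lt j))).1 this)
    (c.trans (Nat.mul_le_mul c1 c2))
  refine ⟨fun b hb x hx => ?_, c2.trans ?_, fun S hS => ?_⟩
  · by_cases n : b = 1
    · rw [n]; rfl
    obtain ⟨i, hi, rfl⟩ := cB b hb n
    have i1 := ((mB i).1 hi).1
    obtain ⟨p, hp, rfl⟩ := gc.exists_pt x
    have := bimp_iff.1 (allN_iff.1 (bimp_iff.1 (band_iff.1 (band_iff.1 (ck i i1).2).2).2 (by rw [tb_eq]; exact r1 i hi)) p hp)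
      ((pt_mem_om hp).1 hx)
    rw [(iv i i1).1.dec_pt hp, beq_iff.1 this]
  · exact (Finset.card_le_card fun j hj => Finset.mem_range.2 (r2 j hj)).trans (Finset.card_range 64).le
  · obtain ⟨j, hj, k⟩ := cW S hS
    exact ⟨om (xrp j), gc.ofMask_subset_of_land (beq_iff.1 (allN_iff.1 xchk5 j (r2 j hj))), by rwa [symmDiff_comm]⟩

theorem off_cj {B : Subgroup (Equiv.Perm GolayPt)} {k : Equiv.Perm GolayPt} (hk : k ∈ M24)
    {W : Finset (Finset GolayPt)} (ev : ∀ S ∈ W, Even S.card) (inj : ∀ S ∈ W, ∀ R ∈ W, S ∆ R ∈ cw → S = R)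
    (fx : ∀ b ∈ B, ∀ S ∈ W, (b • S) ∆ S ∈ cw) : (∀ S ∈ k • W, Even S.card) ∧
      (∀ S ∈ k • W, ∀ R ∈ k • W, S ∆ R ∈ cw → S = R) ∧ ∀ b ∈ cj k B, ∀ S ∈ k • W, (b • S) ∆ S ∈ cw := by
  refine ⟨fun S0 hS0 => ?_, fun S0 hS0 R0 hR0 h => ?_, fun b0 hb0 S0 hS0 => ?_⟩
  · obtain ⟨S, hS, rfl⟩ := Finset.mem_smul_finset.1 hS0
    rw [Finset.card_smul_finset]; exact ev S hS
  · obtain ⟨S, hS, rfl⟩ := Finset.mem_smul_finset.1 hS0
    obtain ⟨R, hR, rfl⟩ := Finset.mem_smul_finset.1 hR0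
    rw [← smul_symmDiff, smul_mem_cw_iff hk] at h
    rw [inj S hS R hR h]
  · obtain ⟨S, hS, rfl⟩ := Finset.mem_smul_finset.1 hS0
    obtain ⟨b, hb, rfl⟩ := mem_cj'.1 hb0
    rw [← mul_smul, inv_mul_cancel_right, mul_smul, ← smul_symmDiff, smul_mem_cw_iff hk]
    exact fx b hb S hS

theorem m24_off {B : Subgroup (Equiv.Perm GolayPt)} (hB : B ≤ M24) (e : ∀ b ∈ B, b * b = 1) (n : B ≠ ⊥)
    {W : Finset (Finset GolayPt)} (ev : ∀ S ∈ W, Even S.card) (inj : ∀ S ∈ W, ∀ R ∈ W, S ∆ R ∈ cw → S = R)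
    (fx : ∀ b ∈ B, ∀ S ∈ W, (b • S) ∆ S ∈ cw) (c : 2 ^ 10 ≤ Nat.card B * W.card) :
    ∃ O ∈ octads, (∀ b ∈ B, ∀ x ∈ O, b x = x) ∧ W.card ≤ 64 ∧ ∀ S ∈ W, ∃ R ⊆ O, S ∆ R ∈ cw := by
  classical
  have : Fact (Nat.Prime 2) := ⟨Nat.prime_two⟩
  have cl := fun b hb n => M24_invol (hB hb) (orderOf_eq_prime (by rw [pow_two, e b hb]) n)
  by_cases A : ∃ b ∈ B, ∃ k ∈ M24, b = k * gc.dec z2A * k⁻¹
  · obtain ⟨_, hb, k, hk, rfl⟩ := A
    have z1 : gc.dec z2A ∈ cj k⁻¹ B := mem_cj'.2 ⟨_, hb, by group⟩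
    have hT : Syl 2 (gc.gen gS2) (M24 ⊓ centralizer {gc.dec z2A}) := by
      have : Syl 2 (gc.gen gS2) M24 := by
        refine syl_of_not_dvd (Coding.gen_le inH_gS2) (IsPGroup.of_card (n := 10) card_S2) ?_
        have := Cfsg.Lib.Core.card_inf_mul_relIndex (gc.gen gS2) M24
        rw [inf_of_le_left (Coding.gen_le inH_gS2), card_S2, card_M24] at this
        omega
      exact this.of_le (Coding.gen_le (inH_inf_cent inH_gS2 inH_z2A.1 (by decide +kernel))) inf_le_left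
    obtain ⟨g, hg, le⟩ := hT.exists_conj_le (two_of_sq (sq_cj k⁻¹ e)) (le_inf (cj_le_of_le_of_mem hB (inv_mem hk))
      fun x hx => mem_cent_single.2 (comm_of_sq (sq_cj k⁻¹ e) hx z1))
    have z2 : gc.dec z2A ∈ cj g (cj k⁻¹ B) := mem_cj'.2 ⟨_, z1, conj_eq_of_comm (mem_cent_single.1 hg.2)⟩
    rw [← cj_mul] at le z2
    have hm : g * k⁻¹ ∈ M24 := mul_mem hg.1 (inv_mem hk)
    generalize g * k⁻¹ = m at *
    obtain ⟨a1, a2, a3⟩ := off_cj hm ev inj fx
    obtain ⟨r1, r2, r3⟩ := off_core le (sq_cj m e) z2 a1 a2 a3 (by rwa [card_cj, Finset.card_smul_finset])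
    refine ⟨m⁻¹ • om 0x82402f, (smul_mem_octads_iff (inv_mem hm)).2 O0_mem, fun b hb x hx => ?_,
      by rwa [Finset.card_smul_finset] at r2, fun S hS => ?_⟩
    · have := r1 _ (conj_mem_cj m hb) (m x) (by rwa [← Finset.inv_smul_mem_iff, inv_inv] at hx)
      simpa using this
    · obtain ⟨R, hR, k⟩ := r3 _ (Finset.smul_mem_smul_finset hS)
      refine ⟨m⁻¹ • R, Finset.smul_finset_subset_smul_finset hR, ?_⟩
      rwa [← smul_mem_cw_iff (inv_mem hm), smul_symmDiff, inv_smul_smul] at k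
  · exfalso
    have pb : ∀ b ∈ B, b ≠ 1 → ∃ k ∈ M24, b = k * gc.dec z2B * k⁻¹ := fun b hb n =>
      (cl b hb n).resolve_left fun k => A ⟨b, hb, k⟩
    have d : Nat.card B ∣ 24 := by
      have := Nat.card_congr (selfEquivOrbitsQuotientProd (G := B) (X := GolayPt) fun x => (eq_bot_iff_forall _).2 fun b hb => by
        by_contra n
        obtain ⟨k, -, r⟩ := pb b b.2 fun e => n (Subtype.ext e)
        have := card_fix_conj k fix_z2B
        rw [← r, show pop24 0 = 0 by decide +kernel] at this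
        exact card_fix_eq_zero.1 this x hb)
      rw [Nat.card_prod, Nat.card_eq_fintype_card, card_golayPt] at this
      exact Dvd.intro_left _ this.symm
    obtain ⟨b, hb, n1⟩ := (B.bot_or_exists_ne_one).resolve_left n
    obtain ⟨k, hk, rfl⟩ := pb b hb n1
    obtain ⟨a1, a2, a3⟩ := off_cj (inv_mem hk) ev inj fx
    have z1 : gc.dec z2B ∈ cj k⁻¹ B := mem_cj'.2 ⟨_, hb, by group⟩
    have c2 : (k⁻¹ • W).card ≤ 64 := by
      rw [← xchk4, countN_eq]
      refine Finset.card_le_card_of_forall_subsingleton (fun S j => om (4096 * j) ∆ S ∈ cw) (fun S hS => ?_)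
        fun j _ S hS R hR => a2 S hS.1 R hR.1 (cw_tr hS.2 hR.2)
      obtain ⟨j, hj, k, q⟩ := rep_q inH_z2B (a1 S hS) (a3 _ z1 S hS)
      exact ⟨j, Finset.mem_filter.2 ⟨Finset.mem_range.2 hj, q⟩, k⟩
    rw [Finset.card_smul_finset] at c2
    obtain ⟨j, ej⟩ := (two_of_sq e).exists_card_eq
    have l := Nat.le_of_dvd (by norm_num) d
    have : 16 ≤ Nat.card B := by nlinarith
    rw [ej] at d l this
    have : j < 5 := by
      by_contra q
      have := Nat.pow_le_pow_right (show 0 < 2 by norm_num) (show 5 ≤ j by omega)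
      omega
    interval_cases j <;> omega

end Cfsg.Lib.JF
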