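import Cfsg.Agent.Lib.Block2.JX2
import Cfsg.Agent.Lib.Block2.JHy

/-! Fusion in the self-centralising `2^10` of a group of Janko-four type. -/

set_option autoImplicit false

namespace Cfsg.Lib.JF

open Subgroup Cfsg.Lib.Amalg Cfsg.Lib.Core Cfsg.Lib.Known2 Cfsg.Lib.Golay Cfsg.Spor

variable {G : Type*} [Group G]

theorem x_orb (H : Subgroup G) (x : G) :
    {v | ∃ n ∈ H, n * x * n⁻¹ = v}.ncard * Nat.card ↥(centralizer {x} ⊓ H) = Nat.card H := by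
  letI : MulAction H G := MulAction.compHom G (MulAut.conj.comp H.subtype)
  have h2 := (MulAction.stabilizer H x).index_mul_card
  have e1 : MulAction.orbit H x = {v | ∃ n ∈ H, n * x * n⁻¹ = v} :=
    Set.ext fun v => ⟨fun ⟨n, e⟩ => ⟨n, n.2, e⟩, fun ⟨n, hn, e⟩ => ⟨⟨n, hn⟩, e⟩⟩
  have e2 : MulAction.stabilizer H x = (centralizer {x} ⊓ H).subgroupOf H := Subgroup.ext fun n =>
    ⟨fun e => ⟨mem_cent_single.2 (mul_inv_eq_iff_eq_mul.1 e), n.2⟩,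
      fun e => mul_inv_eq_iff_eq_mul.2 (mem_cent_single.1 e.1)⟩
  rwa [MulAction.index_stabilizer, e1, e2, Nat.card_congr (subgroupOfEquivOfLe inf_le_right).toEquiv] at h2

theorem x_arith : ∀ j < 68, 1023 - (15 * j + 13) ∣ 1023 * (2 ^ 11 * 244823040) →
    15 * j + 13 ∣ 1023 * 21799895040 → j = 57 := by decide +kernel

namespace AllD

variable [Finite G] {E : Subgroup G} {z p : G} {φ : KK z p →* Equiv.Perm GolayPt} {q : Equiv.Perm GolayPt}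
  (A : AllD E z p φ q) (cH : Nat.card (centralizer ({z} : Set G)) = 21799895040)
include A cH

theorem x_into {w : G} (hw : w = z ∨ w ∈ DD (V0 E φ (gc.gen gA)) z) {B : Subgroup G} (hB : ST10 B) (m : w ∈ B) :
    ∃ g, g * w = w * g ∧ cj g B ≤ 𝐍 (V0 E φ (gc.gen gA)) := by
  have := Fact.mk Nat.prime_two
  have l : B ≤ centralizer {w} := fun b hb => mem_cent_single.2 (comm_of_sq hB.sq hb m)
  rcases hw with rfl | hw
  · obtain ⟨S, hS⟩ := exists_syl 2 (centralizer {w} ⊓ 𝐍 (V0 E φ (gc.gen gA)))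
    obtain ⟨g, g1, g2⟩ := (hS.of_le_of_not_dvd inf_le_left (by
      have c := card_mul_relIndex (inf_le_left : centralizer {w} ⊓ 𝐍 (V0 E φ (gc.gen gA)) ≤ _)
      rw [A.oc.cN1, cH] at c
      omega)).exists_conj_le (two_of_sq hB.sq) l
    exact ⟨g, mem_cent_single.1 g1, g2.trans (hS.le.trans inf_le_right)⟩
  · exact ⟨1, by rw [one_mul, mul_one], by rw [cj_one]; exact l.trans (A.cenD w hw)⟩

/-- the `2^10` subgroups through conjugate elements are conjugate. -/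
theorem x_conj [Fact Off24] {w : G} (hw : w = z ∨ w ∈ DD (V0 E φ (gc.gen gA)) z) {B B' : Subgroup G} (hB : ST10 B)
    (hB' : ST10 B') {x y : G} (hx : x ∈ B) (hy : y ∈ B') (c : IsConj w x) (c' : IsConj w y) :
    ∃ n, cj n B = B' ∧ n * x * n⁻¹ = y := by
  obtain ⟨ε, θ, T⟩ := A.gd.exists_TM
  have wV : w ∈ V0 E φ (gc.gen gA) ∧ w ≠ 1 := by
    rcases hw with e | e
    · rw [e]; exact ⟨A.js.zV, A.js.es.ne⟩
    · exact ⟨e.1, e.2.1⟩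
  obtain ⟨g, rfl⟩ := isConj_iff.1 c
  obtain ⟨k, rfl⟩ := isConj_iff.1 c'
  have m : ∀ {g : G} {B : Subgroup G}, g * w * g⁻¹ ∈ B → w ∈ cj g⁻¹ B := fun a => mem_cj.2 (by rwa [inv_inv] )
  have m2 : ∀ {g : G} {B : Subgroup G}, g * w = w * g → w ∈ B → w ∈ cj g B := fun {g B} a b => by
    have := conj_mem_cj g b
    rwa [a, mul_inv_cancel_right] at this
  obtain ⟨h1, a1, a2⟩ := A.x_into cH hw (hB.cj g⁻¹) (m hx)
  obtain ⟨h2, b1, b2⟩ := A.x_into cH hw (hB'.cj k⁻¹) (m hy)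
  obtain ⟨c, c1, c2⟩ := T.ten_conj A.gd.card ((hB.cj _).cj _) ((hB'.cj _).cj _) a2 b2
    wV.1 wV.2
    (m2 a1 (m hx)) (m2 b1 (m hy))
  refine ⟨k * (h2⁻¹ * (c * (h1 * g⁻¹))), by rw [cj_mul, cj_mul, cj_mul, cj_mul, c2, cj_inv_cj, cj_cj_inv], ?_⟩
  have : Commute (h2⁻¹ * (c * h1)) w := (show Commute h2 w from b1).inv_left.mul_left
    ((show Commute c w from c1).mul_left a1)
  calc _ = k * (h2⁻¹ * (c * h1) * w * (h2⁻¹ * (c * h1))⁻¹) * k⁻¹ := by group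
    _ = _ := by rw [this.eq, mul_inv_cancel_right]

variable (two : ∀ t : G, orderOf t = 2 → ¬ IsConj z t → ∃ d ∈ DD (V0 E φ (gc.gen gA)) z, IsConj t d)
include two

theorem x_std {B : Subgroup G} (hB : ST10 B) : ∃ g, cj g B ≤ 𝐍 (V0 E φ (gc.gen gA)) := by
  have := Fact.mk Nat.prime_two
  obtain ⟨⟨x, hx⟩, x1⟩ := (ne_bot_iff_exists_ne_one (H := B)).1 (fun e => by
    have := hB.card; rw [e, card_bot] at this; omega)
  replace x1 : x ≠ 1 := fun e => x1 (Subtype.ext e)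
  obtain ⟨w, hw, c⟩ : ∃ w, (w = z ∨ w ∈ DD (V0 E φ (gc.gen gA)) z) ∧ IsConj x w := by
    by_cases c : IsConj z x
    · exact ⟨z, .inl rfl, c.symm⟩
    · obtain ⟨d, d1, d2⟩ := two x (orderOf_eq_prime ((pow_two x).trans (hB.sq x hx)) x1) c
      exact ⟨d, .inr d1, d2⟩
  obtain ⟨g, rfl⟩ := isConj_iff.1 c
  obtain ⟨k, -, l⟩ := A.x_into cH hw (hB.cj g) (conj_mem_cj g hx)
  exact ⟨k * g, by rwa [cj_mul]⟩

theorem s5571_le [Fact Off24] {B : Subgroup G} (hB : ST10 B) (l : B ≤ 𝐍 (V0 E φ (gc.gen gA))) :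
    ∃ a b : G, a ∈ B ∧ b ∈ B ∧ IsConj z a ∧ b ∈ DD (V0 E φ (gc.gen gA)) z ∧
      {v : G | ∃ n ∈ 𝐍 B, n * a * n⁻¹ = v}.ncard = 155 ∧ {v : G | ∃ n ∈ 𝐍 B, n * b * n⁻¹ = v}.ncard = 868 := by
  have := Fact.mk Nat.prime_two
  obtain ⟨ε, θ, T⟩ := A.gd.exists_TM
  obtain ⟨c15, ⟨v, v1, v2, v3, v4⟩, d, d1, d2⟩ := T.ten_cnt A.gd.card hB l (X := {x | x ≠ 1 ∧ ¬ IsConj z x})
    (fun g x hx => ⟨fun e => hx.1 (conj_eq_one_iff.1 e), fun e => hx.2 (e.trans (isConj_iff.2 ⟨g, rfl⟩).symm)⟩)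
    fun v hv => ⟨fun a => ⟨hv, a⟩, fun a => a.2⟩
  have zv : IsConj z v := not_not.1 fun e => v4 ⟨v2, v3, e⟩
  have e1 : {x : G | ∃ n ∈ 𝐍 B, n * v * n⁻¹ = x} = {x | x ∈ B ∧ IsConj z x} := Set.ext fun x =>
    ⟨fun ⟨n, hn, e⟩ => e ▸ ⟨(mem_normalizer_iff.1 hn v).1 v1, zv.trans (isConj_iff.2 ⟨n, rfl⟩)⟩, fun hx =>
      let ⟨n, n1, n2⟩ := A.x_conj cH (.inl rfl) hB hB v1 hx.1 zv hx.2; ⟨n, cj_eq_self_iff.1 n1, n2⟩⟩
  have e2 : {x : G | ∃ n ∈ 𝐍 B, n * d * n⁻¹ = x} = {x | x ∈ B ∧ x ∈ {x | x ≠ 1 ∧ ¬ IsConj z x}} := Set.ext fun x =>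
    ⟨fun ⟨n, hn, e⟩ => e ▸ ⟨(mem_normalizer_iff.1 hn d).1 d1, fun e => d2.2.1 (conj_eq_one_iff.1 e),
      fun e => d2.2.2 (e.trans (isConj_iff.2 ⟨n, rfl⟩).symm)⟩, fun hx => by
      obtain ⟨s, s1, s2⟩ := two x (orderOf_eq_prime ((pow_two x).trans (hB.sq x hx.1)) hx.2.1) hx.2.2
      obtain ⟨g, -, hg⟩ := A.trD d d2 s s1
      obtain ⟨n, n1, n2⟩ := A.x_conj cH (.inr d2) hB hB d1 hx.1 (IsConj.refl d)
        ((isConj_iff.2 ⟨g, hg⟩).trans s2.symm)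
      exact ⟨n, cj_eq_self_iff.1 n1, n2⟩⟩
  have o1 := x_orb (𝐍 B) v
  have o2 := x_orb (𝐍 B) d
  have p1 : Nat.card ↥(centralizer {v} ⊓ 𝐍 B) ∣ 21799895040 := by
    obtain ⟨g, rfl⟩ := isConj_iff.1 zv
    rw [← cH, ← card_cj g (centralizer {z}), cj_centralizer_singleton]
    exact card_dvd_of_le inf_le_left
  have p2 : Nat.card ↥(centralizer {d} ⊓ 𝐍 B) ∣ 2 ^ 11 * 244823040 :=
    A.gd.cN ▸ card_dvd_of_le (inf_le_left.trans (A.cenD d d2))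
  have sum : {x | x ∈ B ∧ IsConj z x}.ncard + {x | x ∈ B ∧ x ∈ {x | x ≠ 1 ∧ ¬ IsConj z x}}.ncard + 1 = 2 ^ 10 := by
    rw [← Set.ncard_union_eq (Set.disjoint_left.2 fun x a b => b.2.2 a.2), ← Set.ncard_insert_of_notMem
      (a := 1) (fun e => e.elim (fun e => A.js.es.ne (isConj_one_left.1 e.2)) fun e => e.2.1 rfl), ← hB.card,
      ← SetLike.coe_sort_coe, Nat.card_coe_set_eq]
    congr 1
    ext x
    by_cases a : x = 1
    · simp [a]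
    · by_cases b : IsConj z x <;> simp [a, b, -isConj_iff]
  refine ⟨v, d, v1, d1, zv, d2, ?_⟩
  rw [← e2] at c15
  rw [← e1, ← e2] at sum
  generalize {x : G | ∃ n ∈ 𝐍 B, n * v * n⁻¹ = x}.ncard = a at *
  generalize {x : G | ∃ n ∈ 𝐍 B, n * d * n⁻¹ = x}.ncard = b at *
  have q1 : a ∣ 1023 * (2 ^ 11 * 244823040) := by
    rw [show 1023 = a + b by omega, add_mul]
    exact dvd_add (dvd_mul_right _ _) ((Dvd.intro _ (o1.trans o2.symm)).trans (Nat.mul_dvd_mul_left _ p2))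
  have q2 : b ∣ 1023 * 21799895040 := by
    rw [show 1023 = a + b by omega, add_mul]
    exact dvd_add ((Dvd.intro _ (o2.trans o1.symm)).trans (Nat.mul_dvd_mul_left _ p1)) (dvd_mul_right _ _)
  have := x_arith (b / 15) (by omega) (by rwa [show 1023 - (15 * (b / 15) + 13) = a by omega])
    (by rwa [show 15 * (b / 15) + 13 = b by omega])
  omega

theorem s5571 [Fact Off24] {B : Subgroup G} (hB : ST10 B) : ∃ a b : G, a ∈ B ∧ b ∈ B ∧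
    {v : G | ∃ n ∈ 𝐍 B, n * a * n⁻¹ = v}.ncard = 155 ∧ {v : G | ∃ n ∈ 𝐍 B, n * b * n⁻¹ = v}.ncard = 868 := by
  obtain ⟨g, l⟩ := A.x_std cH two hB
  obtain ⟨a, b, a1, b1, -, -, a2, b2⟩ := A.s5571_le cH two (hB.cj g) l
  obtain ⟨a, a3, rfl⟩ := mem_cj'.1 a1
  obtain ⟨b, b3, rfl⟩ := mem_cj'.1 b1
  rw [gl_orb_cj] at a2 b2
  exact ⟨a, b, a3, b3, a2, b2⟩

theorem ten_all [Fact Off24] {B B' : Subgroup G} (hB : ST10 B) (hB' : ST10 B') : ∃ g, cj g B = B' := by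
  obtain ⟨g, l⟩ := A.x_std cH two hB
  obtain ⟨g', l'⟩ := A.x_std cH two hB'
  obtain ⟨a, -, a1, -, a2, -⟩ := A.s5571_le cH two (hB.cj g) l
  obtain ⟨b, -, b1, -, b2, -⟩ := A.s5571_le cH two (hB'.cj g') l'
  obtain ⟨n, e, -⟩ := A.x_conj cH (.inl rfl) (hB.cj g) (hB'.cj g') a1 b1 a2 b2
  exact ⟨g'⁻¹ * (n * g), by rw [cj_mul, cj_mul, e, cj_inv_cj]⟩

end AllD

theorem st10_of {B : Subgroup G} (h : IsElementaryAbelian 2 B) (c : Nat.card B = 2 ^ 10)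
    (e : centralizer (B : Set G) = B) : ST10 B := ⟨fun a ha => (pow_two a).symm.trans (h.2 a ha), c, e⟩

end Cfsg.Lib.JF
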