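import Cfsg.Agent.Lib.Block2.JY2b

/-! The normaliser in `2^11 : M24` of the standard `2^10`. -/

set_option autoImplicit false
set_option maxRecDepth 100000

namespace Cfsg.Lib.JF

open Subgroup Cfsg.Lib.Amalg Cfsg.Lib.Core Cfsg.Lib.Golay Spor
open scoped Pointwise symmDiff

variable {G : Type*} [Group G] {V : Subgroup G} {D : Set G} {ε : Finset GolayPt → G}
  {θ : 𝐍 V →* Equiv.Perm GolayPt} {s : Equiv.Perm GolayPt → 𝐍 V}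

theorem y2_out {x y : GolayPt} (hx : x ∉ om 0x82402f) (hy : y ∉ om 0x82402f) :
    Even ((({x} : Finset GolayPt) ∆ {y}) ∩ om 0x82402f).card := by
  rw [y2_inter, Finset.singleton_inter_of_notMem hx, Finset.singleton_inter_of_notMem hy]; simp

theorem y2_in {x y : GolayPt} (hx : x ∈ om 0x82402f) (hy : y ∈ om 0x82402f) :
    ({x} : Finset GolayPt) ∆ {y} ⊆ om 0x82402f :=
  symmDiff_le_sup.trans (sup_le (Finset.singleton_subset_iff.2 hx) (Finset.singleton_subset_iff.2 hy))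

theorem y2_none : (none : GolayPt) ∈ om 0x82402f := none_mem_om.2 (by decide)

theorem y2_HO {h : Equiv.Perm GolayPt} (hh : h ∈ HO) (x : GolayPt) : h x ∈ om 0x82402f ↔ x ∈ om 0x82402f :=
  apply_mem_iff_of_smul_eq hh.2 x

namespace TM
variable [Finite G] (T : TM V D ε θ) (L : Y2L θ s)
include T L

theorem a2_N {S : Finset GolayPt} (e : Even S.card) (o : Even (S ∩ om 0x82402f).card) : ε S ∈ 𝐍 (T.A2 L) := by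
  refine mem_normalizer_of_cj_le (cj_le_iff'.2 ?_)
  rintro _ ⟨R, r1, r2, g, hg, rfl⟩
  have e2 : Even (g • S).card := by rwa [Finset.card_smul_finset]
  have : ε S * (ε R * s g) * (ε S)⁻¹ = ε R * (ε ((g • S) ∆ S) * s g) := by
    rw [inv_eq_of_mul_eq_one_right (T.esq S), mul_assoc, mul_assoc, T.y2act L hg.1 e, ← mul_assoc,
      T.comm (T.emem e) (T.emem r2), T.mul, T.comm (T.emem e2) (T.emem e)]
    simp only [mul_assoc]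
  rw [this]
  exact mul_mem (T.a2_e L r1 r2) (mul_mem (T.a2_fx L (even_sd e2 e) (y2_N e o hg)) (T.a2_s L hg))

theorem a2_H {h : Equiv.Perm GolayPt} (hh : h ∈ HO) : (s h : G) ∈ 𝐍 (T.A2 L) := by
  refine mem_normalizer_of_cj_le (cj_le_iff'.2 ?_)
  rintro _ ⟨R, r1, r2, g, hg, rfl⟩
  refine ⟨h • R, ?_, by rwa [Finset.card_smul_finset], h * g * h⁻¹, y2_cjE hh hg, ?_⟩
  · have : h • om 0x82402f = om 0x82402f := hh.2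
    rw [← this]; exact Finset.smul_finset_subset_smul_finset r1
  · rw [← mul_assoc, T.y2act L hh.1 r2, L.mul' (mul_mem hh.1 hg.1) (inv_mem hh.1), L.mul' hh.1 hg.1, L.inv' hh.1]
    simp only [mul_assoc]

omit [Finite G] in
theorem a2_vc {h : Equiv.Perm GolayPt} (hh : h ∈ M24) :
    ε ({none} ∆ {gc.pt 4}) * s h * (ε ({none} ∆ {gc.pt 4}))⁻¹ =
      ε (({none} ∆ {h none}) ∆ ({gc.pt 4} ∆ {h (gc.pt 4)})) * s h := by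
  rw [inv_eq_of_mul_eq_one_right (T.esq _), mul_assoc, T.y2act L hh (y2_ev2 _ _), ← mul_assoc, ← T.mul, y2_sm2,
    symmDiff_symmDiff_symmDiff_comm]

omit [Finite G] in
theorem a2_ve {e : Equiv.Perm GolayPt} (he : e ∈ E16) :
    ε ({none} ∆ {gc.pt 4}) * s e * (ε ({none} ∆ {gc.pt 4}))⁻¹ = ε ({gc.pt 4} ∆ {e (gc.pt 4)}) * s e := by
  rw [T.a2_vc L he.1, (mem_E16.1 he).2 _ y2_none, symmDiff_self, bot_symmDiff]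

omit [Finite G] in
theorem a2_ve' {e : Equiv.Perm GolayPt} (he : e ∈ E16) (h : ε ({gc.pt 4} ∆ {e (gc.pt 4)}) * s e ∈ T.A2 L) : e = 1 := by
  rcases T.a2_two L ((mul_mem_cancel_right (T.a2_s L he)).1 h) with a | a
  · exact E16_eq_one he pt4_not_mem a.symm
  · exact absurd a.1 pt4_not_mem

omit [Finite G] in
theorem a2_vN : ε ({none} ∆ {gc.pt 4}) ∉ 𝐍 (T.A2 L) := fun h => by
  obtain ⟨e, he, a⟩ := exists_E16 pt4_not_mem (b := gc.pt 6) (by rw [pt_mem_om (by norm_num)]; decide)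
  have := T.a2_ve' L he (T.a2_ve L he ▸ (mem_normalizer_iff.1 h _).1 (T.a2_s L he))
  rw [this, Equiv.Perm.one_apply, gc.pt_inj (by decide) (by decide)] at a
  exact absurd a (by decide)

theorem a2_odd {S : Finset GolayPt} (o : ¬ Even (S ∩ om 0x82402f).card) :
    Even ((S ∆ ({none} ∆ {gc.pt 4})) ∩ om 0x82402f).card := by
  rw [y2_inter, y2_inter, Finset.singleton_inter_of_mem y2_none, Finset.singleton_inter_of_notMem pt4_not_mem]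
  have := card_symmDiff_add (S ∩ om 0x82402f) ({none} ∆ ∅)
  have b : (({none} : Finset GolayPt) ∆ ∅).card = 1 := by decide
  rw [Nat.even_iff] at *; omega

theorem a2_V0 {S : Finset GolayPt} (e : Even S.card) : ε S ∈ 𝐍 (T.A2 L) ↔ Even (S ∩ om 0x82402f).card := by
  refine ⟨fun h => ?_, T.a2_N L e⟩
  by_contra o
  have := T.a2_N L (even_sd e (y2_ev2 _ _)) (T.a2_odd L o)
  rw [T.mul] at this
  exact T.a2_vN L ((mul_mem_cancel_left h).1 this)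

theorem a2_cV0 (cV : Nat.card V = 2 ^ 11) : Nat.card ↥(V ⊓ 𝐍 (T.A2 L)) = 2 ^ 10 := by
  have i : (V ⊓ 𝐍 (T.A2 L)).relIndex V = 2 := by
    refine index_eq_two_iff.2 ⟨⟨_, T.emem (y2_ev2 none (gc.pt 4))⟩, fun b => ?_⟩
    obtain ⟨S, e, hS⟩ := (T.mem _).1 b.2
    by_cases o : Even (S ∩ om 0x82402f).card
    · have m : (b : G) ∈ 𝐍 (T.A2 L) := hS ▸ T.a2_N L e o
      exact .inr ⟨⟨b.2, m⟩, fun k => T.a2_vN L ((mul_mem_cancel_left m).1 k.2)⟩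
    · refine .inl ⟨⟨mul_mem b.2 (T.emem (y2_ev2 _ _)), ?_⟩, fun k => o ((T.a2_V0 L e).1 (hS ▸ k.2))⟩
      have := T.a2_N L (even_sd e (y2_ev2 _ _)) (T.a2_odd L o)
      rwa [T.mul, hS] at this
  have := card_mul_relIndex (inf_le_left : V ⊓ 𝐍 (T.A2 L) ≤ V)
  rw [i, cV] at this
  omega

omit [Finite G] in
theorem a2_P (p : 𝐍 V) (hp : (p : G) ∈ 𝐍 (T.A2 L)) : θ p ∈ HO := by
  refine ⟨T.mM p, Finset.eq_of_subset_of_card_le (fun y hy => ?_) (by rw [Finset.card_smul_finset])⟩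
  obtain ⟨x, hx, rfl⟩ := Finset.mem_smul_finset.1 hy
  obtain ⟨q, hq, n⟩ := Finset.exists_mem_ne (show 1 < (om 0x82402f).card by rw [O0_mem.2]; norm_num) x
  have := (mem_normalizer_iff.1 hp _).1 (T.a2_e L (y2_in hx hq) (y2_ev2 _ _))
  rw [T.act p _ (y2_ev2 _ _), y2_sm2] at this
  rcases T.a2_two L this with a | a
  · exact absurd ((θ p).injective a).symm n
  · exact a.1

theorem a2_cP (cV : Nat.card V = 2 ^ 11) : Nat.card ↥(𝐍 (T.A2 L) ⊓ 𝐍 V) = 2 ^ 10 * 322560 := by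
  have a : ((𝐍 (T.A2 L) ⊓ 𝐍 V).subgroupOf (𝐍 V)).map θ = HO :=
    le_antisymm (fun b ⟨a, ha, e⟩ => e ▸ T.a2_P L a ha.1) fun e he => ⟨s e, ⟨T.a2_H L he, (s e).2⟩, L.th e he.1⟩
  have b : 𝐍 (T.A2 L) ⊓ 𝐍 V ⊓ V = V ⊓ 𝐍 (T.A2 L) := by
    rw [inf_assoc, inf_eq_right.2 le_normalizer, inf_comm]
  rw [T.y2_card inf_le_right, a, b, card_HO, T.a2_cV0 L cV, mul_comm]

theorem a2_q {q : G} (hq : q ∈ V ⊓ 𝐍 (T.A2 L)) : ∃ e ∈ E16, ∃ w ∈ T.A2 L ⊓ V, q = w * ε ({gc.pt 4} ∆ {e (gc.pt 4)}) := by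
  obtain ⟨S, e, rfl⟩ := (T.mem _).1 hq.1
  obtain ⟨x, hx, f⟩ := y2_Q e ((T.a2_V0 L e).1 hq.2)
  obtain ⟨g, hg, rfl⟩ := exists_E16 pt4_not_mem hx
  refine ⟨g, hg, _, ⟨T.a2_fx L (even_sd e (y2_ev2 _ _)) f, T.emem (even_sd e (y2_ev2 _ _))⟩, ?_⟩
  rw [T.mul, mul_assoc, T.esq, mul_one]

theorem a2_tr (q : G) (hq : q ∈ V ⊓ 𝐍 (T.A2 L)) (r : G) (hr : r ∈ V ⊓ 𝐍 (T.A2 L)) (n : q ∉ T.A2 L) (m : r ∉ T.A2 L) :
    ∃ p ∈ 𝐍 (T.A2 L) ⊓ 𝐍 V, p * q * p⁻¹ * r⁻¹ ∈ T.A2 L := by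
  obtain ⟨e, he, w, hw, rfl⟩ := T.a2_q L hq
  obtain ⟨f, hf, u, hu, rfl⟩ := T.a2_q L hr
  have e0 : ε ∅ = 1 := (T.one ∅ (by simp)).2 empty_mem_cw
  have e1 : e ≠ 1 := fun k => n (by
    rw [k, Equiv.Perm.one_apply, symmDiff_self, Finset.bot_eq_empty, e0, mul_one]; exact hw.1)
  have f1 : f ≠ 1 := fun k => m (by
    rw [k, Equiv.Perm.one_apply, symmDiff_self, Finset.bot_eq_empty, e0, mul_one]; exact hu.1)
  obtain ⟨σ, s1, s2, s3⟩ := (m24_Qc O0_mem he.1 hf.1 (E16_sq he) (E16_sq hf) e1 f1 (mem_E16.1 he).2 (mem_E16.1 hf).2).2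
  have sH : σ ∈ HO := ⟨s1, s2⟩
  obtain ⟨g, hg, g1⟩ := exists_E16 (fun k => pt4_not_mem ((y2_HO sH _).1 k)) pt4_not_mem
  have hH : g * σ ∈ HO := mul_mem (E16_le hg) sH
  have k : (g * σ) (e (gc.pt 4)) = f (gc.pt 4) := by
    have a : σ * e = f * σ := by rw [← s3]; group
    have b : g * f = f * g := comm_of_sq (B := E16) (fun _ => E16_sq) hg hf
    rw [← Equiv.Perm.mul_apply, mul_assoc, a, ← mul_assoc, b, Equiv.Perm.mul_apply, Equiv.Perm.mul_apply, g1]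
  refine ⟨s (g * σ), ⟨T.a2_H L hH, (s _).2⟩, ?_⟩
  rw [← conj_mul, T.act _ _ (y2_ev2 _ _), L.th _ hH.1, y2_sm2, k, Equiv.Perm.mul_apply, g1, mul_inv_rev, ← mul_assoc,
    mul_inv_cancel_right]
  exact mul_mem ((mem_normalizer_iff.1 (T.a2_H L hH) _).1 hw.1) (inv_mem hu.1)

theorem a2_cn (p : G) (hp : p ∈ 𝐍 (T.A2 L) ⊓ 𝐍 V) (h : ∀ q ∈ V ⊓ 𝐍 (T.A2 L), p * q * p⁻¹ * q⁻¹ ∈ T.A2 L) :
    p ∈ T.A2 L ⊔ (V ⊓ 𝐍 (T.A2 L)) := by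
  have hH := T.a2_P L ⟨p, hp.2⟩ hp.1
  obtain ⟨g, hg, g1⟩ := exists_E16 (fun k => pt4_not_mem ((y2_HO hH _).1 k)) pt4_not_mem
  have sA := T.a2_s L hg
  have t : θ (s g * ⟨p, hp.2⟩) = 1 := by
    have tH : θ (s g * ⟨p, hp.2⟩) ∈ HO := by rw [map_mul, L.th g hg.1]; exact mul_mem (E16_le hg) hH
    refine y2_one tH.1 fun y hy => ?_
    have qN := T.a2_N L (y2_ev2 _ _) (y2_out pt4_not_mem hy)
    have a := h _ ⟨T.emem (y2_ev2 _ _), qN⟩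
    have q' : p * ε ({gc.pt 4} ∆ {y}) * p⁻¹ ∈ 𝐍 (T.A2 L) := mul_mem (mul_mem hp.1 qN) (inv_mem hp.1)
    have b := mul_mem (mul_mem sA ((mem_normalizer_iff.1 q' _).1 (inv_mem sA))) a
    have c := T.act (s g * ⟨p, hp.2⟩) _ (y2_ev2 (gc.pt 4) y)
    have d : θ (s g * ⟨p, hp.2⟩) (gc.pt 4) = gc.pt 4 := by rw [map_mul, L.th g hg.1, Equiv.Perm.mul_apply, g1]
    rw [y2_sm2, d] at c
    have e : (s g : G) * (p * ε ({gc.pt 4} ∆ {y}) * p⁻¹ * (s g : G)⁻¹ * (p * ε ({gc.pt 4} ∆ {y}) * p⁻¹)⁻¹) *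
        (p * ε ({gc.pt 4} ∆ {y}) * p⁻¹ * (ε ({gc.pt 4} ∆ {y}))⁻¹) =
        ε ({θ (s g * ⟨p, hp.2⟩) y} ∆ {y}) := by
      have k : ∀ z : GolayPt, ε ({z} ∆ {y}) = ε ({gc.pt 4} ∆ {z}) * (ε ({gc.pt 4} ∆ {y}))⁻¹ := fun z => by
        rw [inv_eq_of_mul_eq_one_right (T.esq _), ← T.mul, symmDiff_symmDiff_symmDiff_comm, symmDiff_self, bot_symmDiff]
      refine Eq.trans ?_ ((k _).trans (congrArg (· * (ε ({gc.pt 4} ∆ {y}))⁻¹) c.symm)).symm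
      change _ = (s g : G) * p * _ * ((s g : G) * p)⁻¹ * _
      group
    rw [e] at b
    exact (T.a2_two L b).resolve_right fun k => hy k.2
  have v : (s g : G) * p ∈ V ⊓ 𝐍 (T.A2 L) := ⟨(T.ker _).1 t, mul_mem (le_normalizer sA) hp.1⟩
  exact (mul_mem_cancel_left (mem_sup_left sA)).1 (mem_sup_right v)

/-- the complement -/
def Y2 : Subgroup G where
  carrier := {y | ∃ h ∈ HO, y = ε ({none} ∆ {gc.pt 4}) * s h * (ε ({none} ∆ {gc.pt 4}))⁻¹}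
  one_mem' := ⟨1, one_mem _, by rw [L.one]; simp⟩
  mul_mem' := by
    rintro _ _ ⟨a, ha, rfl⟩ ⟨b, hb, rfl⟩
    exact ⟨a * b, mul_mem ha hb, by rw [L.mul' ha.1 hb.1, conj_mul]⟩
  inv_mem' := by
    rintro _ ⟨a, ha, rfl⟩
    exact ⟨a⁻¹, inv_mem ha, by rw [L.inv' ha.1]; group⟩

theorem a2_u {h : Equiv.Perm GolayPt} (hh : h ∈ HO) :
    ε (({none} ∆ {h none}) ∆ ({gc.pt 4} ∆ {h (gc.pt 4)})) ∈ V ⊓ 𝐍 (T.A2 L) := by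
  have e := even_sd (y2_ev2 none (h none)) (y2_ev2 (gc.pt 4) (h (gc.pt 4)))
  refine ⟨T.emem e, T.a2_N L e ?_⟩
  rw [y2_inter, Finset.inter_eq_left.2 (y2_in y2_none ((y2_HO hh _).2 y2_none))]
  exact even_sd (y2_ev2 _ _) (y2_out pt4_not_mem fun k => pt4_not_mem ((y2_HO hh _).1 k))

theorem a2_Yle : Y2 (ε := ε) L ≤ 𝐍 (T.A2 L) ⊓ 𝐍 V := by
  rintro _ ⟨h, hh, rfl⟩
  rw [T.a2_vc L hh.1]
  exact ⟨mul_mem (T.a2_u L hh).2 (T.a2_H L hh), mul_mem (le_normalizer (T.a2_u L hh).1) (s h).2⟩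

theorem a2_Yinf : Y2 (ε := ε) L ⊓ T.A2 L = ⊥ := by
  refine eq_bot_iff.2 ?_
  rintro _ ⟨⟨h, hh, rfl⟩, a⟩
  have v := T.emem (y2_ev2 none (gc.pt 4))
  have b := T.a2_th L (⟨_, le_normalizer v⟩ * s h * ⟨_, le_normalizer v⟩⁻¹) a
  rw [map_mul, map_mul, map_inv, (T.ker _).2 v, L.th h hh.1, inv_one, one_mul, mul_one] at b
  have := T.a2_ve' L b (T.a2_ve L b ▸ a)
  rw [this, L.one]; simp

theorem a2_Ysup : Y2 (ε := ε) L ⊔ T.A2 L = 𝐍 (T.A2 L) ⊓ 𝐍 V := by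
  refine le_antisymm (sup_le (T.a2_Yle L) (le_inf le_normalizer (T.a2_le L))) fun p hp => ?_
  have v0 : V ⊓ 𝐍 (T.A2 L) ≤ Y2 (ε := ε) L ⊔ T.A2 L := fun q hq => by
    obtain ⟨e, he, w, hw, rfl⟩ := T.a2_q L hq
    have : ε ({gc.pt 4} ∆ {e (gc.pt 4)}) * s e ∈ Y2 (ε := ε) L := ⟨e, E16_le he, (T.a2_ve L he).symm⟩
    exact mul_mem (mem_sup_right hw.1) ((mul_mem_cancel_right (mem_sup_right (T.a2_s L he))).1 (mem_sup_left this))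
  have hH := T.a2_P L ⟨p, hp.2⟩ hp.1
  have a : (s (θ ⟨p, hp.2⟩) : G) ∈ Y2 (ε := ε) L ⊔ T.A2 L :=
    (mul_mem_cancel_left (v0 (T.a2_u L hH))).1 (mem_sup_left ⟨_, hH, (T.a2_vc L hH.1).symm⟩)
  have v : p * (s (θ ⟨p, hp.2⟩) : G)⁻¹ ∈ V := (T.ker (⟨p, hp.2⟩ * (s (θ ⟨p, hp.2⟩))⁻¹)).1 (by
    rw [map_mul, map_inv, L.th _ hH.1, mul_inv_cancel])
  exact (mul_mem_cancel_right (inv_mem a)).1 (v0 ⟨v, (𝐍 (T.A2 L)).mul_mem hp.1 ((𝐍 (T.A2 L)).inv_mem (T.a2_H L hH))⟩)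

omit [Finite G] in
theorem a2_D {d : G} (a : d ∈ T.A2 L) (b : d ∈ D) : ∃ S ⊆ om 0x82402f, S.card = 2 ∧ ε S = d := by
  obtain ⟨S, c, rfl⟩ := (T.duad _).1 b
  have e : Even S.card := by rw [c]; decide
  obtain ⟨R, r1, r2, r3, r4⟩ := T.a2_V4 L a (T.emem e)
  exact ⟨S, T.inj r2 e (by omega) r4 ▸ r1, c, rfl⟩

omit [Finite G] in
theorem a2_28 : {d | d ∈ T.A2 L ∧ d ∈ D}.ncard = 28 := by
  have : ((om 0x82402f).powersetCard 2).card = 28 := by rw [Finset.card_powersetCard, O0_mem.2]; rfl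
  rw [← this, ← Set.ncard_coe_finset, ← Set.InjOn.ncard_image (f := ε)]
  · refine congrArg Set.ncard (Set.ext fun w => ⟨fun ⟨a, b⟩ => ?_, ?_⟩)
    · obtain ⟨S, s1, s2, rfl⟩ := T.a2_D L a b
      exact ⟨S, Finset.mem_powersetCard.2 ⟨s1, s2⟩, rfl⟩
    · rintro ⟨S, hS, rfl⟩
      obtain ⟨s1, s2⟩ := Finset.mem_powersetCard.1 hS
      exact ⟨T.a2_e L s1 (by rw [s2]; decide), (T.duad _).2 ⟨S, s2, rfl⟩⟩
  · intro R hR S hS e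
    obtain ⟨-, s2⟩ := Finset.mem_powersetCard.1 hS
    obtain ⟨-, r2⟩ := Finset.mem_powersetCard.1 hR
    exact T.inj (by rw [r2]; decide) (by rw [s2]; decide) (by omega) e

theorem a2_tD (d : G) (a : d ∈ T.A2 L) (b : d ∈ D) (e : G) (a' : e ∈ T.A2 L) (b' : e ∈ D) :
    ∃ p ∈ 𝐍 (T.A2 L) ⊓ 𝐍 V, p * d * p⁻¹ = e := by
  obtain ⟨S, s1, s2, rfl⟩ := T.a2_D L a b
  obtain ⟨R, r1, r2, rfl⟩ := T.a2_D L a' b'
  obtain ⟨σ, h1, h2, h3⟩ := x_flag O0_mem O0_mem s1 r1 (s2.trans r2.symm) (by omega)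
  exact ⟨s σ, ⟨T.a2_H L ⟨h1, h3⟩, (s σ).2⟩, by rw [T.act _ _ (by rw [s2]; decide), L.th σ h1, h2]⟩

omit L in
theorem ten_std (cV : Nat.card V = 2 ^ 11) (cl : ∀ t ∈ D, centralizer {t} ≤ 𝐍 V) {K : Subgroup G} (k1 : K ≤ 𝐍 V)
    (k2 : K ⊓ V = ⊥) (k3 : K ⊔ V = 𝐍 V) : ∃ A Y : Subgroup G, (∀ a ∈ A, a * a = 1) ∧ Nat.card A = 2 ^ 10 ∧
    centralizer (A : Set G) = A ∧ A ≤ 𝐍 V ∧ Nat.card ↥(𝐍 A ⊓ 𝐍 V) = 2 ^ 10 * 322560 ∧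
    Nat.card ↥(V ⊓ 𝐍 A) = 2 ^ 10 ∧ Nat.card ↥(A ⊓ V) = 64 ∧
    (∀ q ∈ V ⊓ 𝐍 A, ∀ r ∈ V ⊓ 𝐍 A, q ∉ A → r ∉ A → ∃ p ∈ 𝐍 A ⊓ 𝐍 V, p * q * p⁻¹ * r⁻¹ ∈ A) ∧
    (∀ p ∈ 𝐍 A ⊓ 𝐍 V, (∀ q ∈ V ⊓ 𝐍 A, p * q * p⁻¹ * q⁻¹ ∈ A) → p ∈ A ⊔ (V ⊓ 𝐍 A)) ∧
    Y ≤ 𝐍 A ⊓ 𝐍 V ∧ Y ⊓ A = ⊥ ∧ Y ⊔ A = 𝐍 A ⊓ 𝐍 V ∧ {d | d ∈ A ∧ d ∈ D}.ncard = 28 ∧
    ∀ d ∈ A, d ∈ D → ∀ e ∈ A, e ∈ D → ∃ p ∈ 𝐍 A ⊓ 𝐍 V, p * d * p⁻¹ = e := by
  obtain ⟨s, L⟩ := T.exY2L k1 k2 k3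
  exact ⟨T.A2 L, Y2 (ε := ε) L, T.a2_sq L, T.a2_card L, T.a2_cen L cl, T.a2_le L, T.a2_cP L cV, T.a2_cV0 L cV, T.a2_c64 L,
    T.a2_tr L, T.a2_cn L, T.a2_Yle L, T.a2_Yinf L, T.a2_Ysup L, T.a2_28 L, T.a2_tD L⟩

end TM

end Cfsg.Lib.JF
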