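import Cfsg.Agent.Lib.Block2.JG0

/-! Small facts on involutions of `M24` and on pointwise stabilisers of octads. -/

set_option autoImplicit false
set_option maxRecDepth 100000

namespace Cfsg.Lib.JF

open Subgroup Cfsg.Lib.Golay Spor
open scoped Pointwise symmDiff

theorem xb_rep (S : Finset GolayPt) : ∃ j < 4096, om (4096 * j) ∆ S ∈ cw := by
  obtain ⟨m, hm, rfl⟩ := exists_om S
  refine ⟨par m ^^^ m / 4096, Nat.xor_lt_two_pow (n := 12) (par_lt m) (by omega), ?_⟩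
  rw [← gc.ofMask_xor]
  refine om_mem_cw (isCw_iff.2 ?_)
  rw [par_xor, ← par_mod (4096 * _), Nat.mul_mod_right, show par 0 = 0 by decide +kernel, Nat.zero_xor,
    Nat.xor_div_two_pow (n := 12), Nat.mul_div_cancel_left _ (by norm_num), Nat.xor_assoc, Nat.xor_self, Nat.xor_zero]

noncomputable def xb_p (z j : ℕ) : Bool :=
  band (Nat.beq (pop24 (4096 * j) % 2) 0) (isCw (Nat.xor (imgT z (4096 * j)) (4096 * j)))

theorem xb_fix {z : ℕ} (hz : gc.InH M24 z) (c : countN 4096 (xb_p z) ≤ 128) {k : Equiv.Perm GolayPt} (hk : k ∈ M24)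
    {W : Finset (Finset GolayPt)} (ev : ∀ S ∈ W, Even S.card) (inj : ∀ S ∈ W, ∀ R ∈ W, S ∆ R ∈ cw → S = R)
    (fx : ∀ S ∈ W, ((k * gc.dec z * k⁻¹) • S) ∆ S ∈ cw) : W.card ≤ 128 := by
  choose f f1 f2 using fun S : Finset GolayPt => xb_rep (k⁻¹ • S)
  refine le_trans ?_ (countN_eq _ _ ▸ c)
  refine Finset.card_le_card_of_injOn f (fun S hS => ?_) fun S hS R hR e => ?_
  · have a := card_cw (f2 S)
    have b := card_symmDiff_add (om (4096 * f S)) (k⁻¹ • S)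
    have e := ev S hS
    rw [Finset.card_smul_finset, card_om] at b
    refine Finset.mem_coe.2 (Finset.mem_filter.2 ⟨Finset.mem_range.2 (f1 S), band_iff.2 ⟨beq_iff.2 ?_, ?_⟩⟩)
    · rw [Nat.even_iff] at e; omega
    · have := f1 S
      refine (om_mem_cw_iff (Nat.xor_lt_two_pow (hz.1.imgT_lt _) (by omega))).1 ?_
      change gc.ofMask (_ ^^^ _) ∈ _
      rw [gc.ofMask_xor]
      change om _ ∆ om _ ∈ _
      rw [← hz.1.smul_om]
      have h1 := (smul_mem_cw_iff hz.2).2 (f2 S)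
      have h2 := (smul_mem_cw_iff (inv_mem hk)).2 (fx S hS)
      rw [smul_symmDiff, mul_smul, mul_smul, inv_smul_smul] at h2
      rw [smul_symmDiff] at h1
      have h3 := symmDiff_mem_cw (symmDiff_mem_cw h1 h2) (f2 S)
      rwa [symmDiff_assoc (gc.dec z • om _), symmDiff_symmDiff_cancel_left, symmDiff_assoc,
        symmDiff_comm (om _) (k⁻¹ • S), symmDiff_symmDiff_cancel_left] at h3
  · have h1 := f2 S
    rw [e] at h1
    have h3 := symmDiff_mem_cw h1 (f2 R)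
    rw [symmDiff_comm (om _), symmDiff_assoc, symmDiff_symmDiff_cancel_left, ← smul_symmDiff,
      smul_mem_cw_iff (inv_mem hk)] at h3
    exact inj S hS R hR h3

theorem m24_fix {b : Equiv.Perm GolayPt} (hb : b ∈ M24) (e : b * b = 1) (n : b ≠ 1) {W : Finset (Finset GolayPt)}
    (ev : ∀ S ∈ W, Even S.card) (inj : ∀ S ∈ W, ∀ R ∈ W, S ∆ R ∈ cw → S = R) (fx : ∀ S ∈ W, (b • S) ∆ S ∈ cw) :
    W.card ≤ 128 := by
  rcases M24_invol hb (orderOf_eq_prime (by rw [sq, e]) n) with ⟨k, hk, rfl⟩ | ⟨k, hk, rfl⟩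
  · exact xb_fix inH_z2A (by decide +kernel) hk ev inj fx
  · exact xb_fix inH_z2B (by decide +kernel) hk ev inj fx

theorem m24_Q {O : Finset GolayPt} (hO : O ∈ octads) {B : Subgroup (Equiv.Perm GolayPt)} (hB : B ≤ M24)
    (h : ∀ b ∈ B, ∀ x ∈ O, b x = x) : Nat.card B ≤ 16 := by
  obtain ⟨σ, hσ, rfl⟩ := std_octad hO
  rw [← card_E16]
  refine Nat.card_le_card_of_injective (fun b : B => (⟨σ⁻¹ * b * σ, mem_E16.2
    ⟨mul_mem (mul_mem (inv_mem hσ) (hB b.2)) hσ, fun p hp => ?_⟩⟩ : E16)) fun a b e => ?_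
  · rw [Equiv.Perm.mul_apply, Equiv.Perm.mul_apply, h b b.2 _ ((mem_smul_iff σ _ p).2 hp)]; simp
  · exact Subtype.ext (by simpa using e)

theorem xb_std {O : Finset GolayPt} (hO : O ∈ octads) {q : Equiv.Perm GolayPt} (hq : q ∈ M24) (e : q * q = 1)
    (n : q ≠ 1) (h : ∀ x ∈ O, q x = x) : ∃ k ∈ M24, q = k * gc.dec z2A * k⁻¹ ∧ O = k • om 0x82402f := by
  rcases M24_invol hq (orderOf_eq_prime (by rw [sq, e]) n) with ⟨k, hk, rfl⟩ | ⟨k, hk, rfl⟩
  · refine ⟨k, hk, rfl, Finset.eq_of_subset_of_card_le (fun x hx => ?_) (by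
      rw [Finset.card_smul_finset, O0_mem.2, hO.2])⟩
    have := h x hx
    rw [show x = k (k⁻¹ x) by simp, mem_smul_iff, mem_O0_iff]
    rw [Equiv.Perm.mul_apply, Equiv.Perm.mul_apply] at this
    exact Equiv.Perm.eq_inv_iff_eq.2 this
  · obtain ⟨x, hx⟩ : O.Nonempty := Finset.card_pos.1 (by rw [hO.2]; norm_num)
    have := h x hx
    rw [Equiv.Perm.mul_apply, Equiv.Perm.mul_apply] at this
    have h2 : k⁻¹ x ∈ om 0 := fix_z2B ▸ Finset.mem_filter.2 ⟨Finset.mem_univ _, Equiv.Perm.eq_inv_iff_eq.2 this⟩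
    have h3 : (om 0).card = 0 := by rw [card_om]; decide +kernel
    rw [Finset.card_eq_zero.1 h3] at h2
    simp at h2

theorem m24_Qc {O : Finset GolayPt} (hO : O ∈ octads) {q r : Equiv.Perm GolayPt} (hq : q ∈ M24) (hr : r ∈ M24)
    (eq : q * q = 1) (er : r * r = 1) (nq : q ≠ 1) (nr : r ≠ 1) (fq : ∀ x ∈ O, q x = x) (fr : ∀ x ∈ O, r x = x) :
    (∀ x ∉ O, q x ≠ x) ∧ ∃ σ ∈ M24, σ • O = O ∧ σ * q * σ⁻¹ = r := by
  obtain ⟨k, hk, rfl, e1⟩ := xb_std hO hq eq nq fq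
  obtain ⟨l, hl, rfl, e2⟩ := xb_std hO hr er nr fr
  refine ⟨fun x hx e => hx ?_, l * k⁻¹, mul_mem hl (inv_mem hk), ?_, by group⟩
  · rw [e1, show x = k (k⁻¹ x) by simp, mem_smul_iff, mem_O0_iff]
    rw [Equiv.Perm.mul_apply, Equiv.Perm.mul_apply] at e
    exact Equiv.Perm.eq_inv_iff_eq.2 e
  · rw [mul_smul]; nth_rewrite 1 [e1]; rw [inv_smul_smul, ← e2]

end Cfsg.Lib.JF
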