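import Cfsg.Agent.Lib.Block2.JGt
import Cfsg.Agent.Lib.Block2.JX1b

/-! Self-centralising elementary abelian subgroups of order `2^10` in `2^11 : M24`. -/

set_option autoImplicit false

namespace Cfsg.Lib.JF

open Subgroup Cfsg.Lib.Amalg Cfsg.Lib.Core Cfsg.Lib.Golay Spor
open scoped Pointwise symmDiff

/-- the classification of the near-offenders of `M24` on the even cocode (proved in `JX1`). -/
def Off24 : Prop := ∀ {B : Subgroup (Equiv.Perm GolayPt)}, B ≤ M24 → (∀ b ∈ B, b * b = 1) → B ≠ ⊥ →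
  ∀ {W : Finset (Finset GolayPt)}, (∀ S ∈ W, Even S.card) → (∀ S ∈ W, ∀ R ∈ W, S ∆ R ∈ cw → S = R) →
  (∀ b ∈ B, ∀ S ∈ W, (b • S) ∆ S ∈ cw) → 2 ^ 10 ≤ Nat.card B * W.card →
  ∃ O ∈ octads, (∀ b ∈ B, ∀ x ∈ O, b x = x) ∧ W.card ≤ 64 ∧ ∀ S ∈ W, ∃ R ⊆ O, S ∆ R ∈ cw

variable {G : Type*} [Group G] {V A A2 : Subgroup G} {D : Set G} {ε : Finset GolayPt → G}
  {θ : 𝐍 V →* Equiv.Perm GolayPt} {O : Finset GolayPt}

/-- self-centralising elementary abelian of order `2^10`. -/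
structure ST10 (A : Subgroup G) : Prop where
  sq : ∀ a ∈ A, a * a = 1
  card : Nat.card A = 2 ^ 10
  cen : centralizer (A : Set G) = A

theorem ST10.cj (h : ST10 A) (g : G) : ST10 (cj g A) :=
  ⟨fun a ha => by
    obtain ⟨b, hb, rfl⟩ := mem_cj'.1 ha
    rw [conj_mul, h.sq b hb, mul_one, mul_inv_cancel], by rw [card_cj, h.card], by
      rw [← cj_centralizer, h.cen]⟩

theorem smul_of_fix {σ : Equiv.Perm GolayPt} {R : Finset GolayPt} (h : ∀ x ∈ R, σ x = x) : σ • R = R :=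
  (Finset.image_congr fun x hx => h x hx).trans Finset.image_id

theorem x_flag {O O2 R R2 : Finset GolayPt} (hO : O ∈ octads) (hO2 : O2 ∈ octads) (s : R ⊆ O) (s2 : R2 ⊆ O2)
    (c : R.card = R2.card) (c5 : R.card ≤ 5) : ∃ σ ∈ M24, σ • R = R2 ∧ σ • O = O2 := by
  obtain ⟨F, f1, f2, f3⟩ := Finset.exists_subsuperset_card_eq s c5 (by rw [(mem_octads.1 hO).2]; norm_num)
  obtain ⟨F2, g1, g2, g3⟩ := Finset.exists_subsuperset_card_eq s2 (c ▸ c5) (by rw [(mem_octads.1 hO2).2]; norm_num)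
  have nd : ∀ R F : Finset GolayPt, (R.toList ++ (F \ R).toList).Nodup := fun R F =>
    List.nodup_append.2 ⟨R.nodup_toList, Finset.nodup_toList _, fun a ha b hb e =>
      (Finset.mem_sdiff.1 (Finset.mem_toList.1 hb)).2 (e ▸ Finset.mem_toList.1 ha)⟩
  have k1 := Finset.card_sdiff_add_card_eq_card f1
  have k2 := Finset.card_sdiff_add_card_eq_card g1
  obtain ⟨σ, h1, h2⟩ := exists_M24_list (nd R F) (nd R2 F2) (by simp; omega) (by simp; omega)
  rw [List.map_append] at h2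
  obtain ⟨h3, h4⟩ := List.append_inj h2 (by simp [c])
  have k : ∀ {R R2 : Finset GolayPt}, R.toList.map σ = R2.toList → σ • R = R2 := fun {R R2} e => by
    ext x
    rw [← Finset.mem_toList (s := R2), ← e, List.mem_map, Finset.mem_smul_finset]
    simp
  refine ⟨σ, h1, k h3, octad_eq_of_card_inter ((smul_mem_octads_iff h1).2 hO) hO2 (g3.ge.trans
    (Finset.card_le_card (Finset.subset_inter ?_ g2)))⟩
  rw [← Finset.union_sdiff_of_subset g1, ← k h4, ← k h3, ← Finset.smul_finset_union,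
    Finset.union_sdiff_of_subset f1]
  exact Finset.smul_finset_subset_smul_finset f2

/-- `A` belongs to the octad `O`. -/
structure TO (ε : Finset GolayPt → G) (θ : 𝐍 V →* Equiv.Perm GolayPt) (A : Subgroup G) (O : Finset GolayPt) :
    Prop where
  sa : ST10 A
  le : A ≤ 𝐍 V
  oct : O ∈ octads
  fix : ∀ a : 𝐍 V, (a : G) ∈ A → ∀ x ∈ O, θ a x = x
  c64 : Nat.card ↥(A ⊓ V) ≤ 64
  sub : ∀ w ∈ A, w ∈ V → ∃ R ⊆ O, Even R.card ∧ ε R = w

/-- the pointwise stabiliser. -/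
abbrev QO (O : Finset GolayPt) : Subgroup (Equiv.Perm GolayPt) :=
  M24 ⊓ fixingSubgroup (Equiv.Perm GolayPt) (O : Set GolayPt)

theorem mem_QO {q : Equiv.Perm GolayPt} : q ∈ QO O ↔ q ∈ M24 ∧ ∀ x ∈ O, q x = x :=
  and_congr_right fun _ => mem_fixingSubgroup_iff _

namespace TM
variable [Finite G] (T : TM V D ε θ)
include T

theorem exW {Z : Subgroup G} (hZ : Z ≤ V) : ∃ W : Finset (Finset GolayPt), W.card = Nat.card Z ∧
    (∀ S ∈ W, Even S.card) ∧ (∀ S ∈ W, ∀ R ∈ W, S ∆ R ∈ cw → S = R) ∧ (∀ S ∈ W, ε S ∈ Z) ∧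
    ∀ v ∈ Z, ∃ S ∈ W, ε S = v := by
  have := Fintype.ofFinite Z
  choose f f1 f2 using fun v : Z => (T.mem v).1 (hZ v.2)
  refine ⟨Finset.univ.image f, ?_, ?_, ?_, ?_, fun v hv => ⟨f ⟨v, hv⟩, by simp, f2 _⟩⟩
  · rw [Finset.card_image_of_injective _ fun a b e => Subtype.ext (by rw [← f2, e, f2]), Finset.card_univ,
      Nat.card_eq_fintype_card]
  · simp only [Finset.mem_image, Finset.mem_univ, true_and, forall_exists_index, forall_apply_eq_imp_iff]
    exact f1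
  · simp only [Finset.mem_image, Finset.mem_univ, true_and, forall_exists_index, forall_apply_eq_imp_iff]
    intro a b e
    have := (T.one _ (even_sd (f1 a) (f1 b))).2 e
    rw [T.mul, ← T.esq (f a), mul_right_inj, f2, f2] at this
    rw [Subtype.ext this]
  · simp only [Finset.mem_image, Finset.mem_univ, true_and, forall_exists_index, forall_apply_eq_imp_iff]
    exact fun a => f2 a ▸ a.2

omit [Finite G] in
theorem fxc (g : 𝐍 V) {S : Finset GolayPt} (e : Even S.card) (c : (g : G) * ε S = ε S * g) : (θ g • S) ∆ S ∈ cw :=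
  T.cw_of (by rwa [Finset.card_smul_finset]) e (by rw [← T.act g S e, c, mul_inv_cancel_right])

theorem img2 (hX : A ≤ 𝐍 V) :
    Nat.card A ≤ Nat.card ↥(A ⊓ V) * Nat.card ((A.subgroupOf (𝐍 V)).map θ) := by
  have c := card_map_mul_card_inf_ker θ (A.subgroupOf (𝐍 V))
  rw [Nat.card_congr (subgroupOfEquivOfLe hX).toEquiv] at c
  rw [← c, mul_comm]
  refine Nat.mul_le_mul_right _ ?_
  rw [← card_map_subtype]
  refine card_le_of_le ?_
  rintro _ ⟨k, hk, rfl⟩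
  exact ⟨hk.2, (T.ker k).1 hk.1⟩

theorem exO [K : Fact Off24] (cV : Nat.card V = 2 ^ 11) (hA : ST10 A) (l : A ≤ 𝐍 V) : ∃ O, TO ε θ A O := by
  obtain ⟨W, w1, w2, w3, w4, w5⟩ := T.exW (Z := A ⊓ V) inf_le_right
  obtain ⟨O, o1, o2, o3, o4⟩ := K.out (B := (A.subgroupOf (𝐍 V)).map θ) (fun b ⟨a, _, e⟩ => e ▸ T.mM a)
    (fun b ⟨a, ha, e⟩ => by rw [← e, ← map_mul, show a * a = 1 from Subtype.ext (hA.sq _ ha), map_one])
    (fun e => by
      have : V ≤ A := hA.cen ▸ fun v hv a ha => T.comm ((T.ker ⟨a, l ha⟩).1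
        (mem_bot.1 (e ▸ mem_map_of_mem θ (show _ ∈ A.subgroupOf _ from ha)))) hv
      have := card_le_of_le this
      rw [cV, hA.card] at this
      omega) w2 w3
    (fun b ⟨a, ha, e⟩ S hS => e ▸ T.fxc a (w2 S hS) (comm_of_sq hA.sq ha (w4 S hS).1))
    (by rw [w1, ← hA.card, mul_comm]; exact T.img2 l)
  refine ⟨O, hA, l, o1, fun a ha => o2 _ ⟨a, ha, rfl⟩, w1 ▸ o3, fun w hw hv => ?_⟩
  obtain ⟨S, s1, rfl⟩ := w5 w ⟨hw, hv⟩
  obtain ⟨R, r1, r2⟩ := o4 S s1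
  have ev : Even R.card := by
    have a := card_cw r2
    have b := card_symmDiff_add S R
    have := w2 S s1
    rw [Nat.even_iff] at *
    omega
  refine ⟨R, r1, ev, ?_⟩
  have := (T.one _ (even_sd (w2 S s1) ev)).2 r2
  rwa [T.mul, ← T.esq S, mul_right_inj] at this

variable (h : TO ε θ A O)
include h

omit [Finite G] in
theorem o_mem {R : Finset GolayPt} (s : R ⊆ O) (e : Even R.card) : ε R ∈ A :=
  h.sa.cen ▸ fun a ha => mul_inv_eq_iff_eq_mul.1 (by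
    have := T.act ⟨a, h.le ha⟩ R e
    rwa [smul_of_fix fun x hx => h.fix _ ha x (s hx)] at this)

omit [Finite G] in
theorem o_sub {w : G} (a : w ∈ A) (v : w ∈ V) : ∃ R ⊆ O, Even R.card ∧ R.card ≤ 4 ∧ ε R = w := by
  obtain ⟨R, r1, r2, rfl⟩ := h.sub w a v
  by_cases c : R.card ≤ 4
  · exact ⟨R, r1, r2, c, rfl⟩
  have o := mem_octads.1 h.oct
  have k := Finset.card_sdiff_add_card_eq_card r1
  refine ⟨O \ R, Finset.sdiff_subset, by rw [Nat.even_iff] at *; omega, by omega, ?_⟩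
  rw [← symmDiff_of_ge r1, T.mul, (T.one O (by rw [o.2]; decide)).2 o.1, one_mul]

theorem o_img : (A.subgroupOf (𝐍 V)).map θ = QO O ∧ Nat.card (QO O) = 16 ∧ Nat.card ↥(A ⊓ V) = 64 := by
  have a : (A.subgroupOf (𝐍 V)).map θ ≤ QO O := fun b ⟨a, ha, e⟩ => e ▸ mem_QO.2 ⟨T.mM a, h.fix a ha⟩
  have b := m24_Q h.oct (B := QO O) inf_le_left fun b hb => (mem_QO.1 hb).2
  have c := T.img2 h.le
  have d := h.c64
  have e := card_le_of_le a
  rw [h.sa.card] at c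
  have f : 16 ≤ Nat.card ((A.subgroupOf (𝐍 V)).map θ) := by nlinarith
  exact ⟨eq_of_le_of_card_ge a (by omega), by omega, by nlinarith⟩

omit [Finite G] in
theorem o_cj (n : 𝐍 V) : TO ε θ (cj (n : G) A) (θ n • O) := by
  refine ⟨h.sa.cj _, cj_le_of_le_of_mem_normalizer h.le (le_normalizer n.2),
    (smul_mem_octads_iff (T.mM n)).2 h.oct, fun a ha x hx => ?_, ?_, fun w hw hv => ?_⟩
  · obtain ⟨y, hy, rfl⟩ := Finset.mem_smul_finset.1 hx
    have := h.fix (n⁻¹ * a * n) (mem_cj.1 ha) y hy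
    rw [map_mul, map_mul, map_inv, Equiv.Perm.mul_apply, Equiv.Perm.mul_apply, Equiv.Perm.inv_eq_iff_eq] at this
    exact this
  · have := card_cj (n : G) (A ⊓ V)
    rw [cj_inf, cj_of_mem_normalizer n.2] at this
    exact this ▸ h.c64
  · obtain ⟨R, r1, r2, r3⟩ := h.sub _ (mem_cj.1 hw) (mem_cj.1 ((cj_of_mem_normalizer n.2).ge hv))
    exact ⟨θ n • R, Finset.smul_finset_subset_smul_finset r1, by rwa [Finset.card_smul_finset], by
      rw [← T.act n R r2, r3]; group⟩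

theorem o_two (h2 : TO ε θ A2 O) : ∃ u ∈ V, cj u A = A2 := by
  obtain ⟨i1, i2, i3⟩ := T.o_img h
  have o8 := mem_octads.1 h.oct
  obtain ⟨o, ho⟩ : O.Nonempty := Finset.card_pos.1 (by omega)
  obtain ⟨x, hx⟩ : ∃ x, x ∉ O := by
    by_contra a
    push Not at a
    rw [Finset.eq_univ_of_forall a, Finset.card_univ, card_golayPt] at o8
    omega
  have ev : ∀ {a b : GolayPt}, a ≠ b → Even ({a, b} : Finset GolayPt).card := fun n => by
    rw [Finset.card_pair n]; decide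
  have ox : o ≠ x := fun e => hx (e ▸ ho)
  have hu := T.emem (ev ox)
  have key : (A2 : Set G) ⊆ A ∪ cj (ε {o, x}) A := fun a' ha' => by
    obtain ⟨a, ha, e⟩ : θ ⟨a', h2.le ha'⟩ ∈ (A.subgroupOf (𝐍 V)).map θ :=
      i1 ▸ mem_QO.2 ⟨T.mM _, h2.fix _ ha'⟩
    replace ha : (a : G) ∈ A := ha
    have hv : (a : G)⁻¹ * a' ∈ V := (T.ker (a⁻¹ * ⟨a', h2.le ha'⟩)).1 (by rw [map_mul, map_inv, e, inv_mul_cancel])
    by_cases q1 : θ a = 1
    · obtain ⟨R, r1, r2, rfl⟩ := h2.sub a' ha' ((T.ker ⟨a', h2.le ha'⟩).1 (e ▸ q1))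
      exact .inl (T.o_mem h r1 r2)
    have aa := h.sa.sq _ ha
    have ai := inv_eq_of_mul_eq_one_right aa
    have q2 : θ a * θ a = 1 := by rw [← map_mul, show a * a = 1 from Subtype.ext aa, map_one]
    have qx := (m24_Qc h.oct (T.mM a) (T.mM a) q2 q2 q1 q1 (h.fix a ha) (h.fix a ha)).1 x hx
    have qq : θ a (θ a x) = x := by rw [← Equiv.Perm.mul_apply, q2, Equiv.Perm.one_apply]
    let Z : Subgroup G := V ⊓ centralizer {(a : G)}
    obtain ⟨W, w1, w2, w3, w4, -⟩ := T.exW (Z := Z) inf_le_left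
    have cZ := m24_fix (T.mM a) q2 q1 w2 w3 fun S hS => T.fxc a (w2 S hS) (mem_centralizer_singleton_iff.1 (w4 S hS).2).symm
    have lZ : A ⊓ V ≤ Z := fun w hw => ⟨hw.2, mem_centralizer_singleton_iff.2 (comm_of_sq h.sa.sq hw.1 ha)⟩
    have dZ : ε {x, θ a x} ∈ Z := ⟨T.emem (ev qx.symm), mem_centralizer_singleton_iff.2 (mul_inv_eq_iff_eq_mul.1 (by
      rw [T.act a _ (ev qx.symm), Finset.smul_finset_insert, Finset.smul_finset_singleton, Equiv.Perm.smul_def,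
        Equiv.Perm.smul_def, qq, Finset.pair_comm])).symm⟩
    have dA : ε {x, θ a x} ∉ A ⊓ V := fun m => by
      obtain ⟨R, r1, r2, r3, r4⟩ := T.o_sub h m.1 m.2
      have := T.inj r2 (ev qx.symm) (by rw [Finset.card_pair qx.symm]; omega) r4
      exact hx (r1 (this ▸ Finset.mem_insert_self _ _))
    have ix : ((A ⊓ V).subgroupOf Z).index = 2 := by
      have c := card_mul_relIndex lZ
      have n1 : (A ⊓ V).relIndex Z ≠ 1 := fun e => dA (relIndex_eq_one.1 e dZ)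
      have : 0 < Nat.card Z := Nat.card_pos
      change (A ⊓ V).relIndex Z = 2
      rw [i3] at c
      omega
    have vZ : (a : G)⁻¹ * a' ∈ Z := ⟨hv, mem_centralizer_singleton_iff.2 (by
      have b1 := T.sq hv
      have b2 := h2.sa.sq _ ha'
      rw [ai] at b1 ⊢
      rw [← mul_assoc, aa, one_mul, eq_inv_of_mul_eq_one_left b2, ← mul_inv_eq_one, inv_inv, ← b1,
        inv_eq_of_mul_eq_one_right b2]
      simp only [mul_assoc])⟩
    by_cases m : (a : G)⁻¹ * a' ∈ A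
    · exact .inl ((mul_mem_cancel_left (inv_mem ha)).1 m)
    have m2 : ε {x, θ a x} * ((a : G)⁻¹ * a') ∈ A :=
      (((mul_mem_iff_of_index_two ix (a := ⟨_, dZ⟩) (b := ⟨_, vZ⟩)).2 (iff_of_false dA fun k => m k.1)) :
        _ ∈ A ⊓ V).1
    refine .inr (mem_cj.2 ?_)
    have e1 : (a : G) * ε {o, x} * (a : G)⁻¹ * ε {o, x} = ε {x, θ a x} := by
      rw [T.act a _ (ev ox), ← T.mul, Finset.smul_finset_insert, Finset.smul_finset_singleton, Equiv.Perm.smul_def,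
        Equiv.Perm.smul_def, h.fix a ha o ho]
      congr 1
      have : θ a x ≠ o := fun e => ox ((θ a).injective ((h.fix a ha o ho).trans e.symm))
      ext y
      simp only [Finset.mem_symmDiff, Finset.mem_insert, Finset.mem_singleton]
      grind
    have := mul_mem ha m2
    rw [← e1, mul_assoc _ (ε {o, x}), T.comm hu hv, ai] at this
    rw [inv_eq_of_mul_eq_one_right (T.esq _)]
    simpa only [← mul_assoc, aa, one_mul, mul_assoc _ (a : G) (a : G), mul_one] using this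
  rcases SubgroupClass.subset_union.1 key with k | k
  · exact ⟨1, one_mem _, by rw [cj_one]; exact (eq_of_le_of_card_ge k (by rw [h.sa.card, h2.sa.card])).symm⟩
  · exact ⟨_, hu, (eq_of_le_of_card_ge k (by rw [card_cj, h.sa.card, h2.sa.card])).symm⟩

omit h

theorem ten_conj [Fact Off24] (cV : Nat.card V = 2 ^ 11) (hA : ST10 A) (hA2 : ST10 A2) (l : A ≤ 𝐍 V) (l2 : A2 ≤ 𝐍 V) {w : G}
    (wV : w ∈ V) (_w1 : w ≠ 1) (a : w ∈ A) (a2 : w ∈ A2) : ∃ g, g * w = w * g ∧ cj g A = A2 := by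
  obtain ⟨O, h⟩ := T.exO cV hA l
  obtain ⟨O2, h2⟩ := T.exO cV hA2 l2
  obtain ⟨R, r1, r2, r3, r4⟩ := T.o_sub h a wV
  obtain ⟨S, s1, s2, s3, s4⟩ := T.o_sub h2 a2 wV
  obtain ⟨σ, h3, h4, h5⟩ := x_flag h.oct h2.oct r1 s1 (by
    by_cases c : R.card + S.card < 8
    · rw [T.inj r2 s2 c (r4.trans s4.symm)]
    · omega) (by omega)
  obtain ⟨n, rfl⟩ : σ ∈ θ.range := T.rng ▸ h3
  obtain ⟨u, hu, e⟩ := T.o_two (h5 ▸ T.o_cj h n) h2
  have := T.act n R r2
  rw [h4, r4, s4, mul_inv_eq_iff_eq_mul] at this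
  exact ⟨u * n, by rw [mul_assoc, this, ← mul_assoc, T.comm hu wV, mul_assoc], by rw [cj_mul, e]⟩

theorem ten_cnt [Fact Off24] (cV : Nat.card V = 2 ^ 11) (hA : ST10 A) (l : A ≤ 𝐍 V) {X : Set G}
    (hX : ∀ g, ∀ x ∈ X, g * x * g⁻¹ ∈ X) (hD : ∀ v ∈ V, v ∈ X ↔ v ∈ D) :
    {a | a ∈ A ∧ a ∈ X}.ncard % 15 = 13 ∧ (∃ v ∈ A, v ∈ V ∧ v ≠ 1 ∧ v ∉ D) ∧ ∃ d ∈ A, d ∈ D := by
  classical
  obtain ⟨O, h⟩ := T.exO cV hA l
  obtain ⟨i1, i2, -⟩ := T.o_img h
  have o := (mem_octads.1 h.oct).2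
  refine ⟨?_, ?_, ?_⟩
  rotate_left
  · obtain ⟨R, r1, r2⟩ := Finset.exists_subset_card_eq (show 4 ≤ O.card by omega)
    exact ⟨_, T.o_mem h r1 (by rw [r2]; decide), T.four r2⟩
  · obtain ⟨R, r1, r2⟩ := Finset.exists_subset_card_eq (show 2 ≤ O.card by omega)
    exact ⟨_, T.o_mem h r1 (by rw [r2]; decide), (T.duad _).2 ⟨R, r2, rfl⟩⟩
  have := Fintype.ofFinite G
  let f : G → Equiv.Perm GolayPt := fun g => if m : g ∈ 𝐍 V then θ ⟨g, m⟩ else 1
  have hf : ∀ g : 𝐍 V, f g = θ g := fun g => dif_pos g.2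
  let s := Finset.univ.filter fun a => a ∈ A ∧ a ∈ X
  let t := Finset.univ.filter fun q => q ∈ QO O
  have ct : t.card = 16 := by rw [← i2, Nat.card_eq_fintype_card, Fintype.card_subtype]
  have hs : ∀ {a}, a ∈ s ↔ a ∈ A ∧ a ∈ X := by simp [s]
  have ht : ∀ {q}, q ∈ t ↔ q ∈ QO O := by simp only [t, Finset.mem_filter, Finset.mem_univ, true_and, implies_true]
  have t1 : 1 ∈ t := ht.2 (one_mem _)
  have c1 := Finset.card_eq_sum_card_fiberwise (s := s) (t := t) (f := f) fun a ha => ht.2 (by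
    rw [hf ⟨a, l (hs.1 ha).1⟩, ← i1]; exact ⟨_, (hs.1 ha).1, rfl⟩)
  have le : ∀ q ∈ t.erase 1, ∀ r ∈ t.erase 1,
      (s.filter fun a => f a = q).card ≤ (s.filter fun a => f a = r).card := fun q hq r hr => by
    have sq : ∀ q ∈ t.erase 1, q * q = 1 := fun q hq => by
      obtain ⟨a, ha, rfl⟩ : q ∈ (A.subgroupOf (𝐍 V)).map θ := i1 ▸ ht.1 (Finset.mem_of_mem_erase hq)
      rw [← map_mul, show a * a = 1 from Subtype.ext (hA.sq _ ha), map_one]
    have a1 := mem_QO.1 (ht.1 (Finset.mem_of_mem_erase hq))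
    have a2 := mem_QO.1 (ht.1 (Finset.mem_of_mem_erase hr))
    obtain ⟨-, σ, h3, h4, h5⟩ := m24_Qc h.oct a1.1 a2.1 (sq q hq) (sq r hr) (Finset.ne_of_mem_erase hq)
      (Finset.ne_of_mem_erase hr) a1.2 a2.2
    obtain ⟨n, rfl⟩ : σ ∈ θ.range := T.rng ▸ h3
    obtain ⟨u, hu, e⟩ := T.o_two (h4 ▸ T.o_cj h n) h
    let m : 𝐍 V := ⟨u, le_normalizer hu⟩ * n
    have hm : θ m = θ n := by rw [map_mul, (T.ker _).2 hu, one_mul]
    refine Finset.card_le_card_of_injOn (fun a => (m : G) * a * (m : G)⁻¹) (fun a ha => ?_)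
      fun a _ b _ e => by simpa using e
    obtain ⟨b1, b2⟩ := Finset.mem_filter.1 (Finset.mem_coe.1 ha)
    obtain ⟨b3, b4⟩ := hs.1 b1
    refine Finset.mem_coe.2 (Finset.mem_filter.2 ⟨hs.2 ⟨?_, hX _ _ b4⟩, ?_⟩)
    · rw [← e, ← cj_mul]; exact conj_mem_cj _ b3
    · rw [← h5, ← b2, hf ⟨a, l b3⟩, ← hm, ← map_inv, ← map_mul, ← map_mul]
      exact hf (m * ⟨a, l b3⟩ * m⁻¹)
  obtain ⟨q, hq⟩ : (t.erase 1).Nonempty := Finset.card_pos.1 (by rw [Finset.card_erase_of_mem t1]; omega)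
  have c2 : (s.filter fun a => f a = 1) = (O.powersetCard 2).image ε := by
    ext a
    simp only [Finset.mem_filter, hs, Finset.mem_image, Finset.mem_powersetCard]
    constructor
    · rintro ⟨⟨b1, b2⟩, b3⟩
      rw [hf ⟨a, l b1⟩, T.ker] at b3
      obtain ⟨R, r1, r2, r3, r4⟩ := T.o_sub h b1 b3
      obtain ⟨S, s1, s2⟩ := (T.duad a).1 ((hD a b3).1 b2)
      exact ⟨R, ⟨r1, by rw [T.inj r2 (by rw [s1]; decide) (by omega) (r4.trans s2.symm), s1]⟩, r4⟩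
    · rintro ⟨R, ⟨r1, r2⟩, rfl⟩
      have ev : Even R.card := by rw [r2]; decide
      exact ⟨⟨T.o_mem h r1 ev, (hD _ (T.emem ev)).2 ((T.duad _).2 ⟨R, r2, rfl⟩)⟩,
        (hf ⟨_, le_normalizer (T.emem ev)⟩).trans ((T.ker _).2 (T.emem ev))⟩
  rw [← Finset.add_sum_erase _ _ t1, Finset.sum_const_nat fun r hr => (le r hr q hq).antisymm (le q hq r hr),
    Finset.card_erase_of_mem t1, ct, c2, Finset.card_image_of_injOn fun R hR S hS e => by
      have a := (Finset.mem_powersetCard.1 hR).2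
      have b := (Finset.mem_powersetCard.1 hS).2
      exact T.inj (by rw [a]; decide) (by rw [b]; decide) (by omega) e, Finset.card_powersetCard, o] at c1
  rw [show {a | a ∈ A ∧ a ∈ X} = (s : Set G) from Set.ext fun a => hs.symm, Set.ncard_coe_finset, c1]
  simp only [Nat.choose]
  omega

end TM

end Cfsg.Lib.JF
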