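import Cfsg.Agent.Lib.Block2.JJ2
import Cfsg.Agent.Lib.Block2.JX2
import Cfsg.Agent.S0051

/-! The normaliser of a self-centralising `2^10` in a group of Janko-four type: assembly. -/

set_option autoImplicit false

namespace Cfsg.Lib.JF

open Subgroup Cfsg.Lib.Amalg Cfsg.Lib.Core Cfsg.Lib.Golay Spor
open scoped Pointwise symmDiff

universe u

variable {G : Type u} [Group G]

/-- An orbit under conjugation. -/
abbrev yO (N : Subgroup G) (x : G) : Set G := {v : G | ∃ n ∈ N, n * x * n⁻¹ = v}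

theorem yO_eq {N : Subgroup G} {x y : G} (h : y ∈ yO N x) : yO N y = yO N x := by
  obtain ⟨m, hm, rfl⟩ := h
  ext v
  exact ⟨fun ⟨n, hn, e⟩ => ⟨n * m, mul_mem hn hm, by rw [← e]; group⟩,
    fun ⟨n, hn, e⟩ => ⟨n * m⁻¹, mul_mem hn (inv_mem hm), by rw [← e]; group⟩⟩

theorem yO_card (N : Subgroup G) (x : G) : (yO N x).ncard * Nat.card ↥(N ⊓ centralizer {x}) = Nat.card N := by
  let _ : MulAction N G := MulAction.compHom G ((MulAut.conj : G →* MulAut G).comp N.subtype)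
  have h := Nat.card_congr (MulAction.orbitProdStabilizerEquivGroup N x)
  rw [Nat.card_prod, Nat.card_coe_set_eq] at h
  rw [← h, ← Golay.card_subgroupOf]
  congr 2
  · ext v
    exact ⟨fun ⟨n, hn, e⟩ => ⟨⟨n, hn⟩, e⟩, fun ⟨n, e⟩ => ⟨n, n.2, e⟩⟩
  · refine congrArg (fun H : Subgroup N => ↥H) (Subgroup.ext fun n => ?_)
    exact mem_centralizer_singleton_iff.trans mul_inv_eq_iff_eq_mul.symm

theorem yO_cover [Finite G] {A : Subgroup G} (c : Nat.card A = 2 ^ 10) {a b : G} (ha : a ∈ A) (hb : b ∈ A)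
    (h1 : (yO (𝐍 A) a).ncard = 155) (h2 : (yO (𝐍 A) b).ncard = 868) {x : G} (hx : x ∈ A) (x1 : x ≠ 1) :
    x ∈ yO (𝐍 A) a ∨ x ∈ yO (𝐍 A) b := by
  have k : ∀ a ∈ A, (yO (𝐍 A) a).ncard ≠ 1 → yO (𝐍 A) a ⊆ (A : Set G) \ {1} := by
    rintro a ha h _ ⟨n, hn, rfl⟩
    refine ⟨(mem_normalizer_iff.1 hn a).1 ha, fun e => h ?_⟩
    obtain rfl : a = 1 := by simpa using e
    exact Set.ncard_eq_one.2 ⟨1, Set.ext fun v => ⟨fun ⟨n, _, e⟩ => by simpa using e.symm, fun e => ⟨1, one_mem _, by simpa using e.symm⟩⟩⟩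
  have d : Disjoint (yO (𝐍 A) a) (yO (𝐍 A) b) := Set.disjoint_left.2 fun v v1 v2 => by
    rw [← yO_eq v1, yO_eq v2, h2] at h1
    omega
  have := Set.eq_of_subset_of_ncard_le (Set.union_subset (k a ha (by omega)) (k b hb (by omega))) (by
    rw [Set.ncard_union_eq d, h1, h2, Set.ncard_sdiff_singleton_of_mem (one_mem A), ← Nat.card_coe_set_eq]
    exact (congrArg (· - 1) c).le)
  exact this.ge ⟨hx, x1⟩

theorem yO_irr [Finite G] {A : Subgroup G} (c : Nat.card A = 2 ^ 10) {a b : G} (ha : a ∈ A) (hb : b ∈ A)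
    (h1 : (yO (𝐍 A) a).ncard = 155) (h2 : (yO (𝐍 A) b).ncard = 868) (W : Subgroup G) (hW : W ≤ A) (hN : 𝐍 A ≤ 𝐍 W) :
    W = ⊥ ∨ W = A := by
  have k : ∀ a, ∀ w ∈ W, w ∈ yO (𝐍 A) a → yO (𝐍 A) a ⊆ W := fun a w w1 w2 => by
    rw [← yO_eq w2]
    rintro _ ⟨n, hn, rfl⟩
    exact (mem_normalizer_iff.1 (hN hn) w).1 w1
  have d := card_dvd_of_le hW
  rw [c] at d
  obtain ⟨i, hi, e⟩ := (Nat.dvd_prime_pow Nat.prime_two).1 d
  by_cases h : ∃ w ∈ W, w ∈ yO (𝐍 A) b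
  · obtain ⟨w, w1, w2⟩ := h
    have := Set.ncard_le_ncard (k b w w1 w2)
    rw [h2, ← Nat.card_coe_set_eq] at this
    refine .inr (eq_of_le_of_card_ge hW ?_)
    change _ ≤ Nat.card W at this
    rw [e] at this
    rw [c, e]
    interval_cases i <;> omega
  refine .inl (by_contra fun h0 => ?_)
  obtain ⟨⟨w, w1⟩, w2⟩ := (ne_bot_iff_exists_ne_one.1 h0)
  have w3 : w ≠ 1 := fun e => w2 (Subtype.ext e)
  have l1 := Set.ncard_le_ncard (k a w w1 ((yO_cover c ha hb h1 h2 (hW w1) w3).resolve_right fun e => h ⟨w, w1, e⟩))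
  have l2 : (W : Set G) ⊆ insert 1 (yO (𝐍 A) a) := fun x hx => by
    by_cases e : x = 1
    exacts [.inl e, .inr ((yO_cover c ha hb h1 h2 (hW hx) e).resolve_right fun e => h ⟨x, hx, e⟩)]
  have l3 := (Set.ncard_le_ncard l2).trans (Set.ncard_insert_le _ _)
  rw [h1, ← Nat.card_coe_set_eq] at l1 l3
  change _ ≤ Nat.card W at l1
  change Nat.card W ≤ _ at l3
  rw [e] at l1 l3
  interval_cases i <;> omega

/-- Recognition of `L₅(2)`. -/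
def YRec (N : Type u) [Group N] : Prop := ∀ {A Q P : Subgroup N} [A.Normal], A ≤ Q → Q ≤ P →
  (∀ p ∈ P, ∀ q ∈ Q, p * q * p⁻¹ ∈ Q) → P.index = 31 → A.relIndex Q = 16 → A.index = 9999360 →
  (∀ q ∈ Q, ∀ r ∈ Q, q ∉ A → r ∉ A → ∃ p ∈ P, p * q * p⁻¹ * r⁻¹ ∈ A) →
  (∀ p ∈ P, (∀ q ∈ Q, p * q * p⁻¹ * q⁻¹ ∈ A) → p ∈ Q) → (∀ g, (∀ q ∈ Q, g⁻¹ * q * g ∈ P) → g ∈ P) →
  Nonempty (N ⧸ A ≃* Matrix.SpecialLinearGroup (Fin 5) (ZMod 2))

variable {V : Subgroup G} {D : Set G} {ε : Finset GolayPt → G} {θ : 𝐍 V →* Equiv.Perm GolayPt}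

theorem TM.y_duad [Finite G] (T : TM V D ε θ) (off : Off24) {X : Subgroup G} (hX : X ≤ 𝐍 V) (sq : ∀ x ∈ X, x * x = 1)
    (c : Nat.card X = 2 ^ 10) : X ≤ V ∨ ∃ d ∈ X, d ∈ D := by
  classical
  have com : ∀ a ∈ X, ∀ b ∈ X, a * b = b * a := fun a ha b hb => by
    have := inv_eq_of_mul_eq_one_left (sq _ (mul_mem ha hb))
    rwa [mul_inv_rev, inv_eq_of_mul_eq_one_left (sq a ha), inv_eq_of_mul_eq_one_left (sq b hb), eq_comm] at this
  obtain ⟨B, b1, b2⟩ := T.img hX (le_refl (X ⊓ V))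
  by_cases h0 : B = ⊥
  · rw [h0, card_bot, mul_one] at b1
    exact .inl ((eq_of_le_of_card_ge inf_le_left b1).ge.trans inf_le_right)
  right
  have := Fintype.ofFinite ↥(X ⊓ V)
  choose s s1 s2 using fun v : ↥(X ⊓ V) => (T.mem v).1 v.2.2
  have si : Function.Injective s := fun v w e => Subtype.ext (by rw [← s2, e, s2])
  have cW : (Finset.univ.image s).card = Nat.card ↥(X ⊓ V) := by
    rw [Finset.card_image_of_injective _ si, Finset.card_univ, Nat.card_eq_fintype_card]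
  have hB : B ≤ M24 := fun b hb => by obtain ⟨x, -, rfl⟩ := b2 b hb; exact T.mM x
  obtain ⟨O, hO, o1, -, o3⟩ := off hB (fun b hb => by
      obtain ⟨x, x1, rfl⟩ := b2 b hb
      rw [← map_mul, show x * x = 1 from Subtype.ext (sq x x1), map_one]) h0 (W := Finset.univ.image s)
    (fun S hS => by obtain ⟨v, -, rfl⟩ := Finset.mem_image.1 hS; exact s1 v) (by
      simp only [Finset.mem_image, Finset.mem_univ, true_and]
      rintro _ ⟨v, rfl⟩ _ ⟨w, rfl⟩ e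
      rw [show v = w from Subtype.ext (by rw [← s2, T.eq_of (s1 v) (s1 w) e, s2])]) (by
      simp only [Finset.mem_image, Finset.mem_univ, true_and]
      rintro b hb _ ⟨v, rfl⟩
      obtain ⟨x, x1, rfl⟩ := b2 b hb
      exact T.cw_of (by rw [Finset.card_smul_finset]; exact s1 v) (s1 v) (by
        rw [← T.act x _ (s1 v), s2, com _ x1 _ v.2.1, mul_inv_cancel_right])) (by rw [cW, mul_comm, ← c]; exact b1)
  have c16 := m24_Q hO hB o1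
  have oc : O ∈ cw ∧ O.card = 8 := mem_octads.1 hO
  obtain ⟨o, ho⟩ : O.Nonempty := Finset.card_pos.1 (by omega)
  have c7 : (O.erase o).card = 7 := by rw [Finset.card_erase_of_mem ho, oc.2]
  have l1 : X ⊓ V ≤ T.Zs (O.erase o) := fun v hv => by
    obtain ⟨R, r1, r2⟩ := o3 (s ⟨v, hv⟩) (Finset.mem_image_of_mem _ (Finset.mem_univ _))
    have r3 : Even R.card := by
      have := even_sd (s1 ⟨v, hv⟩) (Finset.inter_self (s ⟨v, hv⟩ ∆ R) ▸ even_card_inter r2 r2)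
      rwa [symmDiff_symmDiff_cancel_left] at this
    have r4 : ε R = v := (T.eq_of (s1 _) r3 r2).symm.trans (s2 _)
    have e8 : Even O.card := by rw [oc.2]; decide
    by_cases e : o ∈ R
    · refine ⟨R ∆ O, Finset.mem_filter.2 ⟨Finset.mem_powerset.2 fun x hx => ?_, even_sd r3 e8⟩, by
        rw [T.mul, (T.one O e8).2 oc.1, mul_one, r4]⟩
      rcases Finset.mem_symmDiff.1 hx with h | h
      exacts [absurd (r1 h.1) h.2, Finset.mem_erase.2 ⟨fun e' => h.2 (e' ▸ e), h.1⟩]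
    · exact ⟨R, Finset.mem_filter.2 ⟨Finset.mem_powerset.2 fun x hx => Finset.mem_erase.2 ⟨fun e' => e (e' ▸ hx), r1 hx⟩, r3⟩, r4⟩
  have l2 := T.card_Zs (O.erase o)
  rw [Finset.card_filter, Finset.sum_powerset_apply_card (f := fun m => if Even m then 1 else 0), c7] at l2
  have l3 : Nat.card (T.Zs (O.erase o)) ≤ 64 := l2.trans (by decide)
  obtain ⟨S, s3, s4⟩ := Finset.exists_subset_card_eq (s := O.erase o) (n := 2) (by omega)
  refine ⟨ε S, ((eq_of_le_of_card_ge l1 ?_).ge ⟨S, Finset.mem_filter.2 ⟨Finset.mem_powerset.2 s3, by rw [s4]; decide⟩, rfl⟩).1,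
    (T.duad _).2 ⟨S, s4, rfl⟩⟩
  rw [c] at b1
  have := b1.trans (Nat.mul_le_mul_left _ c16)
  omega

theorem TM.y_main [Finite G] (T : TM V D ε θ) (off : Off24) (cl : ∀ t ∈ D, centralizer {t} ≤ 𝐍 V)
    (hD : ∀ g : G, ∀ d ∈ D, g * d * g⁻¹ ∈ V → g * d * g⁻¹ ∈ D) (uq : ∀ g : G, cj g V ≤ 𝐍 V → cj g V = V) {A Y : Subgroup G}
    (rec : YRec (𝐍 A)) (sq : ∀ a ∈ A, a * a = 1) (c : Nat.card A = 2 ^ 10) (AV : A ≤ 𝐍 V)
    (c1 : Nat.card ↥(𝐍 A ⊓ 𝐍 V) = 2 ^ 10 * 322560) (c2 : Nat.card ↥(V ⊓ 𝐍 A) = 2 ^ 10) (c3 : Nat.card ↥(A ⊓ V) = 64)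
    (tr : ∀ q ∈ V ⊓ 𝐍 A, ∀ r ∈ V ⊓ 𝐍 A, q ∉ A → r ∉ A → ∃ p ∈ 𝐍 A ⊓ 𝐍 V, p * q * p⁻¹ * r⁻¹ ∈ A)
    (cen : ∀ p ∈ 𝐍 A ⊓ 𝐍 V, (∀ q ∈ V ⊓ 𝐍 A, p * q * p⁻¹ * q⁻¹ ∈ A) → p ∈ A ⊔ (V ⊓ 𝐍 A))
    (y1 : Y ≤ 𝐍 A ⊓ 𝐍 V) (y2 : Y ⊓ A = ⊥) (y3 : Y ⊔ A = 𝐍 A ⊓ 𝐍 V) (c4 : {d | d ∈ A ∧ d ∈ D}.ncard = 28)
    (trD : ∀ d ∈ A, d ∈ D → ∀ e ∈ A, e ∈ D → ∃ p ∈ 𝐍 A ⊓ 𝐍 V, p * d * p⁻¹ = e) {a b : G} (ha : a ∈ A) (hb : b ∈ A)
    (h1 : (yO (𝐍 A) a).ncard = 155) (h2 : (yO (𝐍 A) b).ncard = 868) :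
    ∃ B : Subgroup G, B ≤ 𝐍 A ∧ B ⊓ A = ⊥ ∧ B ⊔ A = 𝐍 A ∧ Nonempty (B ≃* Matrix.SpecialLinearGroup (Fin 5) (ZMod 2)) := by
  have DV : ∀ d ∈ D, d ∈ V ∧ d ≠ 1 := fun d hd => by
    obtain ⟨S, s1, rfl⟩ := (T.duad d).1 hd
    have e : Even S.card := by rw [s1]; decide
    refine ⟨T.emem e, fun h => ?_⟩
    have := T.inj e (T := ∅) (by simp) (by simp [s1]) (h.trans ((T.one ∅ (by simp)).2 empty_mem_cw).symm)
    simp [this] at s1
  obtain ⟨d, d1, d2⟩ : {d | d ∈ A ∧ d ∈ D}.Nonempty := Set.nonempty_of_ncard_ne_zero (by omega)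
  have cN : Nat.card (𝐍 A) = 31 * (2 ^ 10 * 322560) := by
    have e1 := yO_card (𝐍 A ⊓ 𝐍 V) d
    have e2 := yO_card (𝐍 A) d
    have e3 : yO (𝐍 A ⊓ 𝐍 V) d = {d | d ∈ A ∧ d ∈ D} := Set.ext fun v =>
      ⟨fun ⟨n, hn, e⟩ => e ▸ ⟨(mem_normalizer_iff.1 hn.1 d).1 d1, hD n d d2 ((mem_normalizer_iff.1 hn.2 d).1 (DV d d2).1)⟩,
        fun h => trD d d1 d2 v h.1 h.2⟩
    rw [e3, c4, c1, inf_assoc, inf_eq_right.2 (cl d d2)] at e1
    have e4 := card_dvd_of_le (inf_le_left : 𝐍 A ⊓ 𝐍 V ≤ _)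
    rw [c1, ← e2] at e4
    rcases yO_cover c ha hb h1 h2 d1 (DV d d2).2 with h | h <;> rw [yO_eq h] at e2 e4
    · rw [h1] at e4; omega
    · rw [h2] at e2; omega
  have AN : A ≤ 𝐍 A := le_normalizer
  have isd : ∀ H K : Subgroup G, (H ⊓ K).subgroupOf (𝐍 A) = H.subgroupOf (𝐍 A) ⊓ K.subgroupOf (𝐍 A) := fun _ _ => rfl
  have hA : (A.subgroupOf (𝐍 A)).Normal := normal_in_normalizer
  have AP : A.subgroupOf (𝐍 A) ≤ (𝐍 A ⊓ 𝐍 V).subgroupOf (𝐍 A) := subgroupOf_mono _ (le_inf AN AV)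
  have iP : ((𝐍 A ⊓ 𝐍 V).subgroupOf (𝐍 A)).index = 31 := by
    have := index_mul_card ((𝐍 A ⊓ 𝐍 V).subgroupOf (𝐍 A))
    rw [card_subgroupOf_of_le inf_le_left, c1, cN] at this
    omega
  obtain ⟨e⟩ := rec (A := A.subgroupOf (𝐍 A)) (Q := A.subgroupOf (𝐍 A) ⊔ V.subgroupOf (𝐍 A))
    (P := (𝐍 A ⊓ 𝐍 V).subgroupOf (𝐍 A)) le_sup_left (sup_le AP fun x hx => ⟨x.2, le_normalizer hx⟩) (fun p hp q hq => by
      obtain ⟨x, x1, y, y1, rfl⟩ := mem_sup_of_normal_left.1 hq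
      rw [← conj_mul]
      exact mul_mem (mem_sup_left (hA.conj_mem x x1 p)) (mem_sup_right ((mem_normalizer_iff.1 hp.2 y).1 y1))) iP (by
      have := index_mul_card ((A.subgroupOf (𝐍 A)).subgroupOf (V.subgroupOf (𝐍 A)))
      rw [card_subgroupOf_eq_card_inf, ← isd, card_subgroupOf_of_le (inf_le_left.trans AN), c3,
        card_subgroupOf_eq_card_inf, c2] at this
      rw [relIndex_sup_left, relIndex]
      omega) (by
      have := index_mul_card (A.subgroupOf (𝐍 A))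
      rw [card_subgroupOf_of_le AN, c, cN] at this
      omega) (fun q hq r hr q1 r1 => by
      obtain ⟨x, x1, y, y1, rfl⟩ := mem_sup_of_normal_left.1 hq
      obtain ⟨x', x2, y', y2, rfl⟩ := mem_sup_of_normal_left.1 hr
      obtain ⟨p, p1, p2⟩ := tr y ⟨y1, y.2⟩ y' ⟨y2, y'.2⟩ (fun e => q1 (mul_mem x1 e)) fun e => r1 (mul_mem x2 e)
      refine ⟨⟨p, p1.1⟩, p1, ?_⟩
      have := mul_mem (mul_mem (hA.conj_mem x x1 ⟨p, p1.1⟩)
        (show (⟨p, p1.1⟩ * y * ⟨p, p1.1⟩⁻¹ * y'⁻¹ : 𝐍 A) ∈ A.subgroupOf (𝐍 A) from p2)) (inv_mem x2)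
      rwa [show ∀ p x y y' x' : 𝐍 A, p * x * p⁻¹ * (p * y * p⁻¹ * y'⁻¹) * x'⁻¹ = p * (x * y) * p⁻¹ * (x' * y')⁻¹ by
        intros; group] at this) (fun p hp h => by
      rw [← inf_subgroupOf_right V, ← subgroupOf_sup AN inf_le_right]
      exact cen p hp fun q hq => h ⟨q, hq.2⟩ (mem_sup_right hq.1)) fun g h => by
      have k : ∀ d ∈ D, g * d * (g : G)⁻¹ ∈ V → g ∈ (𝐍 A ⊓ 𝐍 V).subgroupOf (𝐍 A) := fun d hd e =>
        ⟨g.2, (inv_mem_iff (H := 𝐍 V)).1 (cj_eq_self_iff.1 (uq _ (le_trans (fun x hx => mem_centralizer_singleton_iff.2 (by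
          have h1 : (g : G) * x * (g : G)⁻¹ ∈ V := by simpa using mem_cj.1 hx
          have := T.comm h1 e
          rw [conj_mul, conj_mul] at this
          exact (MulAut.conj (g : G)).injective this)) (cl d hd))))⟩
      rcases T.y_duad off (X := cj (g : G)⁻¹ (V ⊓ 𝐍 A)) (fun x hx => by
        obtain ⟨w, hw, rfl⟩ := mem_cj'.1 hx
        rw [inv_inv]
        exact (h ⟨w, hw.2⟩ (mem_sup_right hw.1)).2) (sq_cj _ fun v hv => T.sq hv.1) (by rw [card_cj, c2]) with h' | ⟨d', e1, e2⟩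
      · exact k _ (hD _ d d2 (h' (conj_mem_cj _ ⟨(DV d d2).1, AN d1⟩))) (by simpa [mul_assoc] using (DV d d2).1)
      · exact k d' e2 (by simpa using (mem_cj.1 e1).1)
  have : IsMulCommutative (A.subgroupOf (𝐍 A)) := ⟨⟨fun x y => Subtype.ext (Subtype.ext (by
    have := inv_eq_of_mul_eq_one_left (sq _ (mul_mem x.2 y.2))
    rwa [mul_inv_rev, inv_eq_of_mul_eq_one_left (sq _ x.2), inv_eq_of_mul_eq_one_left (sq _ y.2), eq_comm] at this))⟩⟩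
  obtain ⟨H, hH⟩ := Agent.S0051.result _ _ AP (by rw [card_subgroupOf_of_le AN, c, iP]; norm_num) (Y.subgroupOf (𝐍 A))
    (subgroupOf_mono _ y1) (by rw [← isd, y2, bot_subgroupOf])
    (by rw [← subgroupOf_sup AN (y1.trans inf_le_left), sup_comm, y3])
  refine ⟨H.map (𝐍 A).subtype, map_subtype_le _, ?_, ?_,
    ⟨((H.equivMapOfInjective _ (𝐍 A).subtype_injective).symm.trans hH.symm.QuotientMulEquiv.symm).trans e⟩⟩
  · have := congrArg (map (𝐍 A).subtype) hH.symm.disjoint.eq_bot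
    rwa [map_inf _ _ _ (𝐍 A).subtype_injective, map_subgroupOf_eq_of_le AN, Subgroup.map_bot] at this
  · have := congrArg (map (𝐍 A).subtype) hH.symm.sup_eq_top
    rwa [Subgroup.map_sup, map_subgroupOf_eq_of_le AN, ← MonoidHom.range_eq_map, range_subtype] at this

end Cfsg.Lib.JF
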