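import Cfsg.Agent.Lib.Block2.JZ0
import Cfsg.Agent.Lib.Linear.Card

/-! Identification of `L5(2)` from its action on 31 points. -/

set_option autoImplicit false

namespace Cfsg.Lib.JF

open Subgroup MulAction

theorem z_sl5 : Nat.card (Matrix.SpecialLinearGroup (Fin 5) (ZMod 2)) = 9999360 := by
  have h1 := Cfsg.Lib.Linear.card_GL_eq_card_units_mul_card_SL (ι := Fin 5) (R := ZMod 2)
  have h2 := Matrix.card_GL_field (𝔽 := ZMod 2) 5
  rw [h2, Nat.card_units, Nat.card_zmod, Fin.prod_univ_five] at h1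
  simp only [ZMod.card] at h1
  exact (one_mul _).symm.trans h1.symm

theorem z_lin {N V : Type*} [Group N] [AddCommGroup V] [Finite V] (hc : Nat.card V = 32) (h2 : ∀ v : V, v + v = 0)
    (f : N → V → V) (fa : ∀ n x y, f n (x + y) = f n x + f n y) (f1 : ∀ x, f 1 x = x)
    (fm : ∀ a b x, f (a * b) x = f a (f b x)) :
    ∃ φ : N →* Matrix.SpecialLinearGroup (Fin 5) (ZMod 2), ∀ n, φ n = 1 ↔ ∀ x, f n x = x := by
  letI : Module (ZMod 2) V := AddCommGroup.zmodModule (n := 2) fun x => by rw [two_nsmul, h2]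
  have hr : Module.finrank (ZMod 2) V = 5 := by
    have := Module.natCard_eq_pow_finrank (K := ZMod 2) (V := V)
    rw [hc, Nat.card_zmod] at this
    exact Nat.pow_right_injective le_rfl (this.symm.trans (by norm_num))
  let b := Module.finBasisOfFinrankEq (ZMod 2) V hr
  let L : N → V →ₗ[ZMod 2] V := fun n => (AddMonoidHom.mk' (f n) (fa n)).toZModLinearMap 2
  have hL : ∀ n x, L n x = f n x := fun _ _ => rfl
  have L1 : L 1 = LinearMap.id := LinearMap.ext fun x => f1 x
  have Lm : ∀ a c, L (a * c) = L a ∘ₗ L c := fun a c => LinearMap.ext fun x => fm a c x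
  have Mm : ∀ a c, LinearMap.toMatrix b b (L (a * c)) = LinearMap.toMatrix b b (L a) * LinearMap.toMatrix b b (L c) :=
    fun a c => by rw [Lm, LinearMap.toMatrix_comp b b b]
  have u : ∀ x y : ZMod 2, x * y = 1 → x = 1 := by decide
  have dt : ∀ n, (LinearMap.toMatrix b b (L n)).det = 1 := fun n => u _ (LinearMap.toMatrix b b (L n⁻¹)).det (by
    rw [← Matrix.det_mul, ← Mm, mul_inv_cancel, L1, LinearMap.toMatrix_id, Matrix.det_one])
  refine ⟨MonoidHom.mk' (fun n => ⟨_, dt n⟩) fun a c => Subtype.ext (Mm a c), fun n => ⟨fun e x => ?_, fun e => ?_⟩⟩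
  · have e1 : LinearMap.toMatrix b b (L n) = LinearMap.toMatrix b b LinearMap.id := by
      rw [LinearMap.toMatrix_id]; exact congrArg Subtype.val e
    rw [← hL, (LinearMap.toMatrix b b).injective e1]; rfl
  · refine Subtype.ext ?_
    show LinearMap.toMatrix b b (L n) = 1
    rw [show L n = LinearMap.id from LinearMap.ext e, LinearMap.toMatrix_id]

open scoped Classical in
/-- addition on the points together with a zero -/
noncomputable def zad {Ω : Type*} (m : Ω → Ω → Ω) : Option Ω → Option Ω → Option Ω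
  | none, y => y
  | some i, none => some i
  | some i, some j => if i = j then none else some (m i j)

theorem z_geo {N Ω : Type*} [Group N] [MulAction N Ω] [Finite Ω] (hc : Nat.card Ω = 31) (m : Ω → Ω → Ω)
    (m1 : ∀ i j, i ≠ j → m i j ≠ i) (m2 : ∀ i j, i ≠ j → m i j ≠ j) (m3 : ∀ i j, i ≠ j → m i (m i j) = j)
    (m4 : ∀ i j, i ≠ j → m i j = m j i)
    (m5 : ∀ i j k, i ≠ j → k ≠ i → k ≠ j → k ≠ m i j → m i (m j k) = m j (m i k))
    (eqv : ∀ (p : N) i j, i ≠ j → p • m i j = m (p • i) (p • j)) :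
    ∃ φ : N →* Matrix.SpecialLinearGroup (Fin 5) (ZMod 2), ∀ n, φ n = 1 ↔ ∀ x : Ω, n • x = x := by
  have s0 : ∀ x, zad m x none = x := fun x => by cases x <;> rfl
  have s1 : ∀ x, zad m none x = x := fun x => rfl
  have s2 : ∀ i, zad m (some i) (some i) = none := fun i => if_pos rfl
  have s3 : ∀ i j, i ≠ j → zad m (some i) (some j) = some (m i j) := fun i j h => if_neg h
  have sq : ∀ x, zad m x x = none := fun x => by cases x; exacts [rfl, s2 _]
  have cm : ∀ x y, zad m x y = zad m y x := by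
    rintro (_ | i) (_ | j)
    · rfl
    · rfl
    · rfl
    · by_cases h : i = j
      · rw [h]
      · rw [s3 i j h, s3 j i (Ne.symm h), m4 i j h]
  have cn : ∀ x y, zad m x (zad m x y) = y := by
    rintro (_ | i) (_ | j)
    · rfl
    · rfl
    · exact s2 i
    · by_cases h : i = j
      · rw [h, s2, s0]
      · rw [s3 i j h, s3 _ _ (m1 i j h).symm, m3 i j h]
  have lc : ∀ x y z, zad m x (zad m y z) = zad m y (zad m x z) := by
    rintro (_ | i) (_ | j) (_ | k)
    any_goals rfl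
    · rw [s0, s0, cm]
    · by_cases h : i = j
      · rw [h]
      by_cases h1 : k = i
      · rw [h1, cm (some j) (some i), cn, s2, s0]
      by_cases h2 : k = j
      · rw [h2, cm (some i) (some j), cn, s2, s0]
      by_cases h3 : k = m i j
      · rw [h3, ← s3 i j h, cn, cm (some i) (some j), cn, s2, s2]
      have h4 : i ≠ m j k := fun e => h3 (by rw [m4 i j h, e, m3 j k (Ne.symm h2)])
      have h5 : j ≠ m i k := fun e => h3 (by rw [e, m3 i k (Ne.symm h1)])
      rw [s3 j k (Ne.symm h2), s3 i k (Ne.symm h1), s3 _ _ h4, s3 _ _ h5, m5 i j k h h1 h2 h3]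
  letI : Zero (Option Ω) := ⟨none⟩
  letI : Add (Option Ω) := ⟨zad m⟩
  letI : Neg (Option Ω) := ⟨id⟩
  letI G : AddGroup (Option Ω) := AddGroup.ofLeftAxioms
    (fun a b c => show zad m (zad m a b) c = zad m a (zad m b c) by rw [cm _ c, lc, cm c b]) s1 sq
  letI : AddCommGroup (Option Ω) := { G with add_comm := cm }
  have fa : ∀ (n : N) (x y : Option Ω), (zad m x y).map (fun y => n • y) =
      zad m (x.map fun y => n • y) (y.map fun y => n • y) := fun n x y => by
    rcases x with _ | i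
    · rfl
    rcases y with _ | j
    · rfl
    by_cases h : i = j
    · rw [h, s2, sq]; rfl
    · rw [s3 i j h, Option.map_some, Option.map_some, Option.map_some, eqv n i j h,
        s3 _ _ fun e => h (MulAction.injective n e)]
  obtain ⟨φ, hφ⟩ := z_lin (N := N) (V := Option Ω) (by rw [Finite.card_option, hc]) sq
    (fun n x => x.map fun y => n • y) fa (fun x => by cases x <;> simp)
    (fun a b x => by cases x <;> simp [mul_smul])
  refine ⟨φ, fun n => (hφ n).trans ⟨fun a x => Option.some_injective _ (a (some x)), fun a x => ?_⟩⟩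
  cases x <;> simp [a]

variable {N Ω : Type*} [Group N] [MulAction N Ω] {A Q : Subgroup N} {o : Ω} [Finite N] [Finite Ω]

/-- membership in the conjugate of `Q` attached to the point `i` -/
def ZQ (Q : Subgroup N) (o i : Ω) (n : N) : Prop := ∃ g : N, g • o = i ∧ g⁻¹ * n * g ∈ Q

theorem ZH.all (h : ZH A Q o) {i : Ω} {n : N} (a : ZQ Q o i n) {g : N} (hg : g • o = i) : g⁻¹ * n * g ∈ Q := by
  obtain ⟨r, hr, a⟩ := a
  have := h.nQ (g⁻¹ * r) (by rw [mul_smul, hr, inv_smul_eq_iff, hg]) _ a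
  convert this using 1; group

theorem ZH.main (h : ZH A Q o) (ht : ∀ i : Ω, ∃ g : N, g • o = i)
    (cen : ∀ p : N, p • o = o → (∀ q ∈ Q, p * q * p⁻¹ * q⁻¹ ∈ A) → p ∈ Q) :
    ∃ φ : N →* Matrix.SpecialLinearGroup (Fin 5) (ZMod 2), ∀ n, φ n = 1 ↔ n ∈ A := by
  classical
  have cj : ∀ {q : N} (g : N), q ∈ Q → ZQ Q o (g • o) (g * q * g⁻¹) := fun {q} g hq => ⟨g, rfl, by
    convert hq using 1; group⟩
  have ne : ∀ {g : N} {j : Ω}, g • o ≠ j → g⁻¹ • j ≠ o := fun {g j} a e => a (by rw [← e, smul_inv_smul])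
  have two : ∀ i j : Ω, ∃ y, i ≠ j → y ≠ j ∧ y ≠ i ∧ (∃ n, ZQ Q o i n ∧ n • j = y) ∧
      ∀ n, ZQ Q o i n → n • j = j ∨ n • j = y := fun i j => by
    by_cases hij : i = j
    · exact ⟨i, fun a => absurd hij a⟩
    obtain ⟨g, rfl⟩ := ht i
    obtain ⟨y, y1, y2, ⟨q, hq, y3⟩, y4⟩ := h.two (ne hij)
    refine ⟨g • y, fun _ => ⟨fun e => y1 (by rw [← e, inv_smul_smul]), fun e => y2 (MulAction.injective g e),
      ⟨_, cj g hq, by rw [mul_smul, mul_smul, y3]⟩, fun n hn => ?_⟩⟩
    have := y4 _ (h.all hn rfl)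
    simp only [mul_smul, smul_inv_smul, inv_smul_eq_iff] at this
    exact this
  choose m hm using two
  have fx : ∀ {i n}, ZQ Q o i n → n • i = i := fun {i n} ⟨g, hg, a⟩ => by
    have := h.Qo _ a
    rwa [mul_smul, mul_smul, hg, inv_smul_eq_iff, hg] at this
  have uq : ∀ {i j n}, i ≠ j → ZQ Q o i n → n • j ≠ j → n • j = m i j := fun {i j n} a b c =>
    ((hm i j a).2.2.2 n b).resolve_left c
  have eqv : ∀ (p : N) i j, i ≠ j → p • m i j = m (p • i) (p • j) := fun p i j a => by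
    obtain ⟨a1, -, ⟨n, ⟨g, hg, b⟩, e⟩, -⟩ := hm i j a
    have e1 : (p * n * p⁻¹) • p • j = p • m i j := by rw [mul_smul, inv_smul_smul, mul_smul, e]
    rw [← e1]
    refine uq (fun c => a (MulAction.injective p c)) ⟨p * g, by rw [mul_smul, hg], by convert b using 1; group⟩ ?_
    rw [e1]; exact fun c => a1 (MulAction.injective p c)
  have m3 : ∀ i j, i ≠ j → m i (m i j) = j := fun i j a => by
    obtain ⟨a1, a2, ⟨n, ⟨g, hg, b⟩, e⟩, -⟩ := hm i j a
    have e1 : n⁻¹ • m i j = j := inv_smul_eq_iff.2 e.symm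
    refine (uq a2.symm (n := n⁻¹) ⟨g, hg, by convert inv_mem b using 1; group⟩ ?_).symm.trans e1
    rw [e1]; exact a1.symm
  have sep : ∀ i j k, i ≠ j → k ≠ i → k ≠ j → k ≠ m i j → ∃ n, ZQ Q o i n ∧ n • j = j ∧ n • k ≠ k :=
    fun i j k a b c d => by
    by_contra e
    push Not at e
    obtain ⟨g, rfl⟩ := ht i
    obtain ⟨q, hq, e1⟩ := h.sep (ne a) (ne b.symm) fun q hq e1 => by
      have := e _ (cj g hq) (by rw [mul_smul, mul_smul, e1, smul_inv_smul])
      rwa [mul_smul, mul_smul, smul_eq_iff_eq_inv_smul] at this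
    have e2 : (g * q * g⁻¹) • j = k := by rw [mul_smul, mul_smul, e1, smul_inv_smul]
    exact d (e2.symm.trans (uq a (cj g hq) (e2 ▸ c)))
  have m4 : ∀ i j, i ≠ j → m i j = m j i := fun i j a => by
    by_contra e
    obtain ⟨n, b, c, d⟩ := sep j i (m i j) a.symm (hm i j a).1 (hm i j a).2.1 e
    exact d (by rw [eqv n i j a, c, fx b])
  obtain ⟨φ, hφ⟩ := z_geo (N := N) h.cO m (fun i j a => (hm i j a).2.1) (fun i j a => (hm i j a).1) m3 m4
    (fun i j k a b c d => by
      obtain ⟨n, hn, e1, e2⟩ := sep i j k a b c d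
      have h4 : i ≠ m j k := fun e => d (by rw [m4 i j a, e, m3 j k c.symm])
      have e3 : n • m j k = m j (m i k) := by rw [eqv n j k c.symm, e1, uq b.symm hn e2]
      rw [← e3]
      refine (uq h4 hn fun e => e2 ?_).symm
      have e4 := eqv n j (m j k) (hm j k c.symm).2.1.symm
      rwa [e1, e, m3 j k c.symm] at e4) eqv
  have tv : ∀ q ∈ Q, (∀ x : Ω, q • x = x) → q ∈ A := fun q hq a => by
    by_contra b
    have := Fintype.ofFinite Ω
    have c := h.fourteen hq b
    rw [Finset.filter_true_of_mem fun x _ => a x, Finset.card_erase_of_mem (Finset.mem_univ _), Finset.card_univ,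
      ← Nat.card_eq_fintype_card, h.cO] at c
    omega
  refine ⟨φ, fun n => (hφ n).trans ⟨fun a => tv n (cen n (a o) fun q hq => tv _
    (mul_mem (h.nQ n (a o) q hq) (inv_mem hq)) fun x => ?_) a, h.Af n⟩⟩
  have a' : ∀ x : Ω, n⁻¹ • x = x := fun x => inv_smul_eq_iff.2 (a x).symm
  rw [mul_smul, mul_smul, mul_smul, a', a, smul_inv_smul]

theorem l52 {N : Type*} [Group N] [Finite N] {A Q P : Subgroup N} [A.Normal] (hAQ : A ≤ Q) (hQP : Q ≤ P)
    (nQ : ∀ p ∈ P, ∀ q ∈ Q, p*q*p⁻¹ ∈ Q) (iP : P.index = 31) (iQ : A.relIndex Q = 16) (iA : A.index = 9999360)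
    (tr : ∀ q ∈ Q, ∀ r ∈ Q, q ∉ A → r ∉ A → ∃ p ∈ P, p*q*p⁻¹*r⁻¹ ∈ A)
    (cen : ∀ p ∈ P, (∀ q ∈ Q, p*q*p⁻¹*q⁻¹ ∈ A) → p ∈ Q) (h1 : ∀ g, (∀ q ∈ Q, g⁻¹*q*g ∈ P) → g ∈ P) :
    Nonempty (N ⧸ A ≃* Matrix.SpecialLinearGroup (Fin 5) (ZMod 2)) := by
  have fx : ∀ n g : N, n • (g : N ⧸ P) = g ↔ g⁻¹ * n * g ∈ P := fun n g => by
    rw [MulAction.Quotient.smul_mk, eq_comm, QuotientGroup.eq, smul_eq_mul, mul_assoc]
  have fo : ∀ n : N, n • ((1 : N) : N ⧸ P) = (1 : N) ↔ n ∈ P := fun n => by rw [fx]; simp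
  have h : ZH A Q ((1 : N) : N ⧸ P) :=
    { hAQ := hAQ
      Qo := fun q hq => (fo q).2 (hQP hq)
      Af := fun a ha x => by
        induction x using QuotientGroup.induction_on with
        | H g => exact (fx a g).2 (hQP (hAQ (Subgroup.Normal.conj_mem' inferInstance a ha g)))
      nQ := fun p hp => nQ p ((fo p).1 hp)
      nA := fun p q hq => Subgroup.Normal.conj_mem inferInstance q hq p
      cO := iP
      cQ := by
        rw [← iQ, ← Nat.card_congr (subgroupOfEquivOfLe hAQ).toEquiv]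
        exact (index_mul_card _).symm
      tr := fun q hq r hr a b => let ⟨p, hp, e⟩ := tr q hq r hr a b; ⟨p, (fo p).2 hp, e⟩
      h1 := fun x a => by
        induction x using QuotientGroup.induction_on with
        | H g => exact (QuotientGroup.eq.2 (by simpa using h1 g fun q hq => (fx q g).1 (a q hq))).symm }
  obtain ⟨φ, hφ⟩ := h.main (fun x => by
    induction x using QuotientGroup.induction_on with
    | H g => exact ⟨g, by rw [MulAction.Quotient.smul_mk, smul_eq_mul, mul_one]⟩)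
    fun p hp => cen p ((fo p).1 hp)
  refine ⟨MulEquiv.ofBijective (QuotientGroup.lift A φ fun n hn => (hφ n).2 hn)
    ((Nat.bijective_iff_injective_and_card _).2 ⟨(injective_iff_map_eq_one _).2 fun x hx => ?_, ?_⟩)⟩
  · induction x using QuotientGroup.induction_on with
    | H g => exact (QuotientGroup.eq_one_iff g).2 ((hφ g).1 hx)
  · rw [z_sl5]; exact iA

end Cfsg.Lib.JF
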