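import Cfsg.Agent.Lib.Block2.JO1
import Cfsg.Agent.S5569
import Cfsg.Agent.S5570
import Cfsg.Agent.S5572
import Cfsg.Agent.S5573
import Cfsg.Agent.Lib.Comp.J4.Main

/-! The Sylow `p`-subgroups for `p = 23, 29, 31, 37, 43` of a group of Janko-four type isomorphic to `J4`. -/

set_option autoImplicit false
set_option maxRecDepth 100000

namespace Cfsg.Lib.JF

open Subgroup Cfsg.Lib.Amalg Cfsg.Lib.Core Cfsg.Lib.Known2 Cfsg.Lib.Golay Cfsg.Spor

theorem o7_det {A B : Matrix (Fin 5) (Fin 5) (ZMod 2)} (e : A * B = 1) : A.det = 1 :=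
  (by decide : ∀ a b : ZMod 2, a * b = 1 → a = 1) _ B.det (by rw [← Matrix.det_mul, e, Matrix.det_one])

theorem o7_sl : ∃ g x : Matrix.SpecialLinearGroup (Fin 5) (ZMod 2), orderOf x = 31 ∧ g * x * g⁻¹ = x ^ 2 := by
  let x : Matrix.SpecialLinearGroup (Fin 5) (ZMod 2) := ⟨!![0, 0, 0, 0, 1; 1, 0, 0, 0, 0; 0, 1, 0, 0, 1; 0, 0, 1, 0, 0; 0, 0, 0, 1, 0],
    o7_det (B := !![0, 1, 0, 0, 0; 1, 0, 1, 0, 0; 0, 0, 0, 1, 0; 0, 0, 0, 0, 1; 1, 0, 0, 0, 0]) (by decide +kernel)⟩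
  let g : Matrix.SpecialLinearGroup (Fin 5) (ZMod 2) := ⟨!![1, 0, 0, 0, 1; 0, 0, 0, 1, 0; 0, 1, 0, 0, 1; 0, 0, 0, 1, 1; 0, 0, 1, 0, 0],
    o7_det (B := !![1, 1, 0, 1, 0; 0, 1, 1, 1, 0; 0, 0, 0, 0, 1; 0, 1, 0, 0, 0; 0, 1, 0, 1, 0]) (by decide +kernel)⟩
  have e : g * x * g⁻¹ = x ^ 2 := by
    rw [mul_inv_eq_iff_eq_mul, pow_two]
    exact Subtype.ext (show g.1 * x.1 = x.1 * x.1 * g.1 by decide +kernel)
  have g5 : g ^ 5 = 1 := by
    simp only [pow_succ, pow_zero, one_mul]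
    exact Subtype.ext (show g.1 * g.1 * g.1 * g.1 * g.1 = 1 by decide +kernel)
  have i : ∀ n : ℕ, g ^ n * x * (g ^ n)⁻¹ = x ^ 2 ^ n := fun n => by
    induction n with
    | zero => simp
    | succ n ih => rw [pow_succ' 2, pow_mul, ← e, conj_pow, ← ih, pow_succ']; group
  have := i 5
  rw [g5, one_mul, inv_one, mul_one, show 2 ^ 5 = 31 + 1 from rfl, pow_succ, eq_comm, mul_eq_right] at this
  have : Fact (Nat.Prime 31) := ⟨by norm_num⟩
  exact ⟨g, x, orderOf_eq_prime ‹_› fun k => absurd (congrArg Subtype.val k) (show x.1 ≠ 1 by decide +kernel), e⟩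

theorem o7_m24 : ∃ g x : M24, orderOf x = 23 ∧ g * x * g⁻¹ = x ^ 2 := by
  have i : ∀ g ∈ [cA, 0x171513110f0d0b0907050301161412100e0c0a0806040200], gc.InH M24 g := inH_of_allL (by decide +kernel)
  have a := i cA (by simp)
  have b := i 0x171513110f0d0b0907050301161412100e0c0a0806040200 (by simp)
  refine ⟨⟨_, b.2⟩, ⟨_, a.2⟩, (orderOf_coe _).symm.trans (a.1.orderOf_eq (by norm_num) (by decide +kernel)), Subtype.ext ?_⟩
  change gc.dec _ * gc.dec _ * (gc.dec _)⁻¹ = gc.dec _ ^ 2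
  rw [← (b.1.conj a.1).2, ← (a.1.powN 2).2]
  exact congrArg gc.dec (by decide +kernel)

open Cfsg.Lib.Comp Cfsg.Lib.Comp.J4 in
theorem o7_j4 : ∃ g x : Spor.J4, orderOf x = 31 ∧ g * x * g⁻¹ = x⁻¹ := by
  refine ⟨gam 1, ev gam [1, 3, 4, 1, 3, 1, 4, 3, 1, 2, 1, 3, 1, 2, 4, 1, 2, 1, 4, 2], ?_, ?_⟩
  · rw [← orderOf_injective rho card_all.2.1]
    exact cx.ord (rho_ev (by decide +kernel)) (i := 0) (by norm_num) (by norm_num) (by decide +kernel)
  · have a : ∀ w, subB w J4.L = true → Nat.beq (MatB.F2.evM 112 mR mI mT w) mI = true → ev gam w = 1 := fun w h e =>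
      card_all.2.1 (by rw [map_one]; exact (rho_ev h).eq cx.one e)
    have b := a ([1] ++ [1]) (by decide +kernel) (by decide +kernel)
    have c := a ([1] ++ [1, 3, 4, 1, 3, 1, 4, 3, 1, 2, 1, 3, 1, 2, 4, 1, 2, 1, 4, 2] ++ [1] ++
      [1, 3, 4, 1, 3, 1, 4, 3, 1, 2, 1, 3, 1, 2, 4, 1, 2, 1, 4, 2]) (by decide +kernel) (by decide +kernel)
    rw [ev_append, ev_single] at b
    rw [ev_append, ev_append, ev_append, ev_single] at c
    rw [inv_eq_of_mul_eq_one_right b, eq_inv_of_mul_eq_one_left c]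

variable {G : Type*} [Group G]

theorem o7_map {H : Type*} [Group H] (f : H →* G) (hf : Function.Injective f) {p k : ℕ}
    (h : ∃ g x : H, orderOf x = p ∧ g * x * g⁻¹ = x ^ k) : ∃ g x : G, orderOf x = p ∧ g * x * g⁻¹ = x ^ k := by
  obtain ⟨g, x, a, b⟩ := h
  exact ⟨f g, f x, (orderOf_injective f hf x).trans a, by rw [← map_pow, ← b]; simp⟩

theorem o7_in [Finite G] {H : Subgroup G} {y : G} (r : (orderOf y).Prime) (d : orderOf y ∣ Nat.card H)
    (n : ¬ orderOf y * orderOf y ∣ Nat.card G) : ∃ k, k * y * k⁻¹ ∈ H := by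
  have := Fact.mk r
  obtain ⟨T, hT⟩ := exists_syl (orderOf y) H
  obtain ⟨k, -, l⟩ := (syl_of_not_dvd le_top hT.isPGroup fun e => n (by
    rw [relIndex_top_right] at e
    rw [← T.index_mul_card]
    exact Nat.mul_dvd_mul e (dvd_card_of_isPGroup_ne_bot hT.isPGroup (hT.ne_bot d)))).exists_conj_le
    (Amalg.isPGroup_zpowers_of_orderOf (k := 1) (pow_one _).symm) le_top
  exact ⟨k, hT.le (l (conj_mem_cj k (mem_zpowers y)))⟩

theorem o7_cj (k y : G) : Nat.card (centralizer ({y} : Set G)) = Nat.card (centralizer ({k * y * k⁻¹} : Set G)) := by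
  rw [← cj_centralizer_singleton, card_cj]

theorem o7_le (y : G) : centralizer {y} ≤ 𝐍 (zpowers y) := fun _ hg =>
  centralizer_le_normalizer _ (mem_cent_zpowers.2 (mem_cent_single.1 hg))

theorem o7_of [Finite G] [IsSimpleGroup G] (hG : ¬ IsMulCommutative G) {z : G} (hJ : IsOfJankoFourTypeAt z)
    (hO : Nat.card G = 86775571046077562880) : O7 G := by
  obtain ⟨P, hP⟩ := id hJ
  have cH := card_H hP
  have oc : ∀ k y : G, orderOf (k * y * k⁻¹) = orderOf y := fun k y => (MulAut.conj k).orderOf_eq y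
  refine ⟨hO, fun y s => ?_⟩
  rcases s with o | o | o | o
  · by_cases c : IsConj z y
    · obtain ⟨k, rfl⟩ := isConj_iff.1 c
      rw [← o7_cj, cH]; norm_num
    · obtain ⟨V, K, -, k1, k2, -, k3, k4, k5, ⟨e⟩⟩ := Cfsg.Agent.S5569.result hG z hJ y o c
      have := card_sup_mul_card_inf (k1.trans k2)
      rw [k4, k5, card_bot, mul_one, k3, Nat.card_congr e.toEquiv, card_aut] at this
      rw [this]; norm_num
  · obtain ⟨p, φ, q, -, hi, A⟩ := exists_allD hG hP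
    have : Fact (Nat.Prime 3) := ⟨by norm_num⟩
    obtain ⟨k, rfl⟩ := isConj_iff.1 (A.s5564 A.s5563.2.2.2.2 hi p y (orderOf_eq_prime A.js.p3 A.js.p1) o)
    rw [← o7_cj]
    exact (card_dvd_of_le ((o7_le p).trans A.s5563.2.2.2.2)).trans (by rw [cH]; norm_num)
  · obtain ⟨k, hk⟩ := o7_in (H := centralizer {z}) (y := y) (by rw [o]; norm_num) (by rw [o, cH]; norm_num)
      (by rw [o, hO]; norm_num)
    rw [o7_cj k]
    refine (card_dvd_of_le (o7_le _)).trans ?_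
    rw [(Cfsg.Agent.S5572.result hG z hJ _ (by rw [Nat.card_zpowers, oc, o]) (zpowers_le.2 hk)).2.2.2]; norm_num
  · obtain ⟨k, hk⟩ := o7_in (H := centralizer {z}) (y := y) (by rw [o]; norm_num) (by rw [o, cH]; norm_num)
      (by rw [o, hO]; norm_num)
    rw [o7_cj k]
    refine (card_dvd_of_le (o7_le _)).trans ?_
    rw [(Cfsg.Agent.S5573.result hG z hJ _ (by rw [Nat.card_zpowers, oc, o]) (zpowers_le.2 hk)).2.2.2]; norm_num

theorem o7_final [Finite G] [IsSimpleGroup G] (hG : ¬ IsMulCommutative G) (hJ : IsOfJankoFourType G) (hI : IsoJ4 G) :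
    (∀ U : Sylow 23 G, centralizer ((U : Subgroup G) : Set G) = (U : Subgroup G) ∧ Nat.card ↥(normalizer ((U : Subgroup G) : Set G)) = 23 * 22) ∧
    (∀ U : Sylow 29 G, centralizer ((U : Subgroup G) : Set G) = (U : Subgroup G) ∧ Nat.card ↥(normalizer ((U : Subgroup G) : Set G)) = 29 * 28) ∧
    (∀ U : Sylow 31 G, centralizer ((U : Subgroup G) : Set G) = (U : Subgroup G) ∧ Nat.card ↥(normalizer ((U : Subgroup G) : Set G)) = 31 * 10) ∧
    (∀ U : Sylow 37 G, centralizer ((U : Subgroup G) : Set G) = (U : Subgroup G) ∧ Nat.card ↥(normalizer ((U : Subgroup G) : Set G)) = 37 * 12) ∧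
    (∀ U : Sylow 43 G, centralizer ((U : Subgroup G) : Set G) = (U : Subgroup G) ∧ Nat.card ↥(normalizer ((U : Subgroup G) : Set G)) = 43 * 14) := by
  obtain ⟨e⟩ := hI
  obtain ⟨⟨A, a⟩, -, b⟩ := Cfsg.Agent.S5570.result hG hJ
  obtain ⟨⟨B, -, -, -, ⟨f⟩⟩, -⟩ := b A a.1 a.2.1 a.2.2
  obtain ⟨z, P, hP⟩ := hJ
  obtain ⟨p, φ, q, -, -, D⟩ := exists_allD hG hP
  obtain ⟨K, -, -, -, ⟨k⟩⟩ := D.split
  obtain ⟨g, x, c, d⟩ := o7_j4
  exact (o7_of hG ⟨P, hP⟩ ((Nat.card_congr e.toEquiv).trans Comp.J4.card_all.1)).main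
    ⟨e.symm g, e.symm x, (e.symm.orderOf_eq x).trans c, by rw [← map_inv e.symm x, ← d]; simp⟩
    (o7_map (B.subtype.comp f.symm.toMonoidHom) (B.subtype_injective.comp f.symm.injective) o7_sl)
    (o7_map (K.subtype.comp k.symm.toMonoidHom) (K.subtype_injective.comp k.symm.injective) o7_m24)

end Cfsg.Lib.JF
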