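import Mathlib
import Cfsg.Prelude.Def_JankoFourType

/-! Centralizers of elements of order `2, 3, 5, 7` in a group of Janko-four type. -/

set_option autoImplicit false
set_option linter.unusedSectionVars false

namespace Cfsg.Lib.JF

open Subgroup

variable {G : Type*} [Group G] [Finite G]

omit [Finite G] in
theorem o8_conj {x y : G} (h : IsConj x y) :
    Nat.card (centralizer ({y} : Set G)) = Nat.card (centralizer ({x} : Set G)) := by
  obtain ⟨c, rfl⟩ := isConj_iff.1 h
  refine (Nat.card_congr (Equiv.subtypeEquiv (MulAut.conj c).toEquiv fun g => ?_)).symm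
  simp only [mem_centralizer_singleton_iff]
  constructor <;> intro e
  · show c * g * c⁻¹ * (c * x * c⁻¹) = c * x * c⁻¹ * (c * g * c⁻¹)
    calc _ = c * (g * x) * c⁻¹ := by group
      _ = _ := by rw [e]; group
  · have e' : c * g * c⁻¹ * (c * x * c⁻¹) = c * x * c⁻¹ * (c * g * c⁻¹) := e
    calc g * x = c⁻¹ * (c * g * c⁻¹ * (c * x * c⁻¹)) * c := by group
      _ = _ := by rw [e']; group

omit [Finite G] in
theorem o8_le (y : G) : centralizer ({y} : Set G) ≤ normalizer ((zpowers y : Subgroup G) : Set G) := by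
  refine le_trans ?_ (centralizer_le_normalizer _)
  rw [zpowers_eq_closure, centralizer_closure]

theorem o8_p {p : ℕ} [Fact p.Prime] {x y : G} (hx : orderOf x = p) (hy : orderOf y = p) (h2 : ¬ p * p ∣ Nat.card G) :
    Nat.card (centralizer ({y} : Set G)) ∣ Nat.card (normalizer ((zpowers x : Subgroup G) : Set G)) := by
  have P : ∀ w : G, orderOf w = p → ∃ S : Sylow p G, (S : Subgroup G) = zpowers w := fun w hw => by
    have hc : Nat.card (zpowers w) = p := by rw [Nat.card_zpowers, hw]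
    obtain ⟨S, hS⟩ := (IsPGroup.of_card (n := 1) (by rw [hc, pow_one]) : IsPGroup p (zpowers w)).exists_le_sylow
    refine ⟨S, (eq_of_le_of_card_ge hS ?_).symm⟩
    obtain ⟨k, hk⟩ := IsPGroup.iff_card.1 S.isPGroup'
    have : k ≤ 1 := by
      by_contra n
      exact h2 ((pow_two p ▸ pow_dvd_pow p (by omega : 2 ≤ k)).trans (hk ▸ card_subgroup_dvd_card _))
    rw [hc]
    calc _ = p ^ k := hk
      _ ≤ p ^ 1 := Nat.pow_le_pow_right (Fact.out : p.Prime).pos this
      _ = p := pow_one p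
  obtain ⟨S, hS⟩ := P x hx
  obtain ⟨T, hT⟩ := P y hy
  have a : Nat.card (Sylow p G) = (normalizer ((S : Subgroup G) : Set G)).index := S.card_eq_index_normalizer
  have b : Nat.card (Sylow p G) = (normalizer ((T : Subgroup G) : Set G)).index := T.card_eq_index_normalizer
  rw [hS] at a
  rw [hT] at b
  have c := (normalizer ((zpowers x : Subgroup G) : Set G)).card_mul_index
  have d := (normalizer ((zpowers y : Subgroup G) : Set G)).card_mul_index
  rw [← a] at c
  rw [← b] at d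
  have e := Nat.eq_of_mul_eq_mul_right (Nat.card_pos (α := Sylow p G)) (c.trans d.symm)
  rw [e]
  exact card_dvd_of_le (o8_le y)

theorem o8_cz {z : G} {P : Subgroup G} (hJ : IsOfJankoFourTypeWith z P) (ha : Nat.card (MulAut Spor.M22) = 887040) :
    Nat.card (centralizer ({z} : Set G)) = 2 ^ 21 * 27 * 5 * 7 * 11 := by
  obtain ⟨-, -, h13, -, ⟨N, -, hN, -, c3, ⟨_, ⟨e⟩⟩, -⟩, -⟩ := hJ
  rw [card_eq_card_quotient_mul_card_subgroup (N.subgroupOf (centralizer ({z} : Set G))), Nat.card_congr e.toEquiv, ha,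
    Nat.card_congr (subgroupOfEquivOfLe hN).toEquiv, c3, h13]
  norm_num

theorem o8_sd {H V K : Subgroup G} (hV : V ≤ H) (hK : K ≤ H) (hn : H ≤ normalizer (V : Set G)) (hs : K ⊔ V = H) :
    Nat.card H ∣ Nat.card V * Nat.card K := by
  have : (V.subgroupOf H).Normal := normal_subgroupOf_of_le_normalizer hn
  have a := relIndex_sup_right (K.subgroupOf H) (V.subgroupOf H)
  rw [← subgroupOf_sup hK hV, hs, subgroupOf_self, relIndex_top_right] at a
  rw [← (V.subgroupOf H).card_mul_index, Nat.card_congr (subgroupOfEquivOfLe hV).toEquiv, a,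
    ← Nat.card_congr (subgroupOfEquivOfLe hK).toEquiv]
  exact Nat.mul_dvd_mul_left _ (index_dvd_card _)

theorem o8_cen {z : G} {P : Subgroup G} (hJ : IsOfJankoFourTypeWith z P) (ha : Nat.card (MulAut Spor.M22) = 887040)
    (h63 : normalizer (P : Set G) ≤ centralizer ({z} : Set G))
    (h64 : ∀ x y : G, orderOf x = 3 → orderOf y = 3 → IsConj x y)
    (h69 : ∀ t : G, orderOf t = 2 → ¬ IsConj z t → ∃ V K : Subgroup G, V ≤ centralizer ({t} : Set G) ∧
      K ≤ centralizer ({t} : Set G) ∧ centralizer ({t} : Set G) ≤ normalizer (V : Set G) ∧ IsElementaryAbelian 2 V ∧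
      Nat.card V = 2 ^ 11 ∧ K ⊓ V = ⊥ ∧ K ⊔ V = centralizer ({t} : Set G) ∧ Nonempty (K ≃* MulAut Spor.M22))
    (h72 : ∀ Q : Subgroup G, Nat.card Q = 5 → Q ≤ centralizer ({z} : Set G) →
      ¬ 25 ∣ Nat.card G ∧ Nat.card (normalizer (Q : Set G)) = 2 ^ 8 * 3 * 5 * 7)
    (h73 : ∀ Q : Subgroup G, Nat.card Q = 7 → Q ≤ centralizer ({z} : Set G) →
      ¬ 49 ∣ Nat.card G ∧ Nat.card (normalizer (Q : Set G)) = 2 ^ 3 * 3 ^ 2 * 5 * 7)
    (y : G) (hy : orderOf y = 2 ∨ orderOf y = 3 ∨ orderOf y = 5 ∨ orderOf y = 7) :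
    Nat.card (centralizer ({y} : Set G)) ∣ 2 ^ 21 * 27 * 5 * 7 * 11 := by
  have cz := o8_cz hJ ha
  have ex : ∀ p : ℕ, p.Prime → p ∣ 2 ^ 21 * 27 * 5 * 7 * 11 → ∃ x : G, orderOf x = p ∧ zpowers x ≤ centralizer ({z} : Set G) :=
    fun p pp d => by
      have := Fact.mk pp
      obtain ⟨x, hx⟩ := exists_prime_orderOf_dvd_card' (G := centralizer ({z} : Set G)) p (cz ▸ d)
      exact ⟨x, (orderOf_coe x).trans hx, zpowers_le.2 x.2⟩
  rcases hy with hy | hy | hy | hy
  · by_cases c : IsConj z y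
    · rw [o8_conj c, cz]
    · obtain ⟨V, K, a1, a2, a3, -, a5, -, a7, ⟨e⟩⟩ := h69 y hy c
      refine (o8_sd a1 a2 a3 a7).trans ?_
      rw [a5, Nat.card_congr e.toEquiv, ha]
      norm_num
  · have c3 : Nat.card P = 3 := hJ.2.2.2.2.2.1
    have := Fact.mk Nat.prime_three
    obtain ⟨x, hx⟩ := exists_prime_orderOf_dvd_card' (G := P) 3 (c3 ▸ dvd_rfl)
    have o : orderOf (x : G) = 3 := (orderOf_coe x).trans hx
    have e : zpowers (x : G) = P := eq_of_le_of_card_ge (zpowers_le.2 x.2) (by rw [Nat.card_zpowers, o, c3])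
    rw [o8_conj (h64 x y o hy), ← cz]
    exact card_dvd_of_le ((o8_le _).trans (by rw [e]; exact h63))
  · have := Fact.mk Nat.prime_five
    obtain ⟨x, o, l⟩ := ex 5 Nat.prime_five (by norm_num)
    obtain ⟨a, b⟩ := h72 _ (by rw [Nat.card_zpowers, o]) l
    exact (o8_p o hy a).trans (by rw [b]; norm_num)
  · have := Fact.mk Nat.prime_seven
    obtain ⟨x, o, l⟩ := ex 7 Nat.prime_seven (by norm_num)
    obtain ⟨a, b⟩ := h73 _ (by rw [Nat.card_zpowers, o]) l
    exact (o8_p o hy a).trans (by rw [b]; norm_num)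

end Cfsg.Lib.JF
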