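import Cfsg.Agent.Lib.Block2.JJ2

/-! Interface: the pentad data in a group of Janko-four type. -/

set_option autoImplicit false

namespace Cfsg.Lib.JF

open Subgroup Cfsg.Lib.Amalg

variable {G : Type*} [Group G]

/-- five elementary abelian groups of order `2^11` through a `2^3`. -/
structure PD (Z L : Subgroup G) (W : Fin 5 → Subgroup G) : Prop where
  sq : ∀ i, ∀ v ∈ W i, v * v = 1
  cW : ∀ i, Nat.card (W i) = 2 ^ 11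
  inf : ∀ i j, i ≠ j → W i ⊓ W j = Z
  cZ : Nat.card Z = 8
  perm : ∀ g ∈ 𝐍 Z, ∀ i, ∃ j, cj g (W i) = W j
  full : ∀ σ : Equiv.Perm (Fin 5), ∃ g ∈ 𝐂 Z, ∀ i, cj g (W i) = W (σ i)
  aut : ∀ α : MulAut Z, ∃ g ∈ 𝐍 Z, ∀ x : Z, g * x * g⁻¹ = α x
  memL : ∀ g, g ∈ L ↔ g ∈ 𝐂 Z ∧ ∀ i, g ∈ 𝐍 (W i)
  cL : Nat.card L = 2 ^ 15
  cen : ∀ x ∈ L, (∀ y ∈ L, x * y = y * x) → x ∈ Z

end Cfsg.Lib.JF
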