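import Cfsg.Agent.Lib.Block2.JPg
import Cfsg.Agent.Lib.Block2.JHm
import Cfsg.Agent.Lib.Block2.JHn

/-! The order of the pentad kernel. -/

set_option autoImplicit false

namespace Cfsg.Lib.JF

open Subgroup Cfsg.Lib.Amalg Cfsg.Lib.Core Cfsg.Lib.Known2 Cfsg.Lib.Golay Spor MulAction
open scoped Pointwise

variable {G : Type*} [Group G] [Finite G] {E : Subgroup G} {z p : G} {φ : KK z p →* Equiv.Perm GolayPt}

namespace JS
variable (h : JS E z p M22 φ)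
include h

theorem cPL {L : Subgroup G}
    (hL : ∀ g, g ∈ L ↔ ∃ e ∈ E ⊓ 𝐂 (pZ E φ), ∃ a ∈ hat φ (gc.gen gB : Set _), g = e * a) :
    Nat.card L = 2 ^ 15 := by
  obtain ⟨A, hA⟩ := h.exists_hat mf mf.sq2
  have zA : z ∈ A := (hA z).2 ⟨⟨1, one_mem _, h.Lz⟩, h.es.sq⟩
  have cA : Nat.card A = 32 := by
    rw [h.card_img (fun k hk => let ⟨⟨_, _, l, _⟩, _⟩ := (hA k).1 hk; l) zA fun k hk => ((hA k).1 hk).2,
      show img φ A = gc.gen gB from Subgroup.ext fun m => mem_img.trans ⟨fun ⟨k, hk, l⟩ =>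
        let ⟨⟨_, hm, l'⟩, _⟩ := (hA k).1 hk; l.uniq l' ▸ hm, fun hm =>
        let ⟨k, l, e⟩ := h.lift2 mf (mf.le2 hm) (mf.sq2 m hm); ⟨k, (hA k).2 ⟨⟨m, hm, l⟩, e⟩, l⟩⟩, mf.c2]
  have cF := es_cent h.es h.ZE h.zZ
  rw [h.cardZ, h.card] at cF
  have nF : A ≤ 𝐍 (E ⊓ 𝐂 (pZ E φ)) := fun a ha => by
    obtain ⟨⟨m, hm, l⟩, -⟩ := (hA a).1 ha
    have nZ := h.norZ l 1 ((pm6 (h.mem l)).2 hm)
    refine mem_normalizer_of_cj_le (cj_le_iff'.2 fun x hx => ⟨h.nm l hx.1, mem_centralizer_iff.2 fun y hy => ?_⟩)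
    have := mem_centralizer_iff.1 hx.2 _ ((mem_normalizer_iff.1 (inv_mem nZ) y).1 hy)
    calc y * (a * x * a⁻¹) = a * ((a⁻¹ * y * a⁻¹⁻¹) * x) * a⁻¹ := by group
      _ = a * x * a⁻¹ * y := by rw [this]; group
  have iF : (E ⊓ 𝐂 (pZ E φ)) ⊓ A = zpowers z := by
    refine le_antisymm (fun k hk => ?_) (zpowers_le.2 ⟨⟨h.ZE h.zZ, mem_centralizer_iff.2 fun y hy => ?_⟩, zA⟩)
    · rcases h.hatE ((hA k).1 hk.2) hk.1.1 with e | e <;> rw [e]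
      exacts [one_mem _, mem_zpowers _]
    · exact h.es.cen y (h.ZE hy)
  have sF : L = (E ⊓ 𝐂 (pZ E φ)) ⊔ A := by
    refine le_antisymm (fun g hg => ?_) (sup_le (fun e he => (hL e).2 ⟨e, he, 1, (hA 1).1 (one_mem _), (mul_one e).symm⟩)
      fun a ha => (hL a).2 ⟨1, one_mem _, a, (hA a).1 ha, (one_mul a).symm⟩)
    obtain ⟨e, he, a, ha, rfl⟩ := (hL g).1 hg
    exact mul_mem (mem_sup_left he) (mem_sup_right ((hA a).2 ha))
  have c := card_sup_mul_card_inf' nF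
  rw [iF, card_zpowers_invol h.es.sq h.es.ne, ← sF, cA] at c
  omega

end JS

end Cfsg.Lib.JF
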