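import Cfsg.Agent.Lib.Block2.JPg
import Cfsg.Agent.Lib.Block2.JHm
import Cfsg.Agent.Lib.Block2.JHn

/-! The centre of the pentad group `2^{3+12}`. -/

set_option autoImplicit false

namespace Cfsg.Lib.JF

open Subgroup Cfsg.Lib.Amalg Cfsg.Lib.Core Cfsg.Lib.Known2 Cfsg.Lib.Golay Spor MulAction

variable {G : Type*} [Group G] [Finite G] {E : Subgroup G} {z p : G} {φ : KK z p →* Equiv.Perm GolayPt}

namespace JS
variable (h : JS E z p M22 φ)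
include h

theorem cenPL {L : Subgroup G}
    (hL : ∀ g, g ∈ L ↔ ∃ e ∈ E ⊓ 𝐂 (pZ E φ), ∃ a ∈ hat φ (gc.gen gB : Set _), g = e * a) :
    ∀ x ∈ L, (∀ y ∈ L, x * y = y * x) → x ∈ pZ E φ := by
  intro x hx hc
  obtain ⟨e, he, a, ⟨⟨m, hm, l⟩, aa⟩, rfl⟩ := (hL x).1 hx
  have FL : ∀ y ∈ E ⊓ 𝐂 (pZ E φ), y ∈ L := fun y hy =>
    (hL y).2 ⟨y, hy, 1, ⟨⟨1, one_mem _, JF.L.one⟩, one_mul _⟩, (mul_one _).symm⟩
  have c1 := es_cent h.es h.ZE h.zZ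
  rw [h.cardZ, h.card] at c1
  have zF : z ∈ E ⊓ 𝐂 (pZ E φ) := ⟨h.es.mem, fun y hy => h.es.cen y (h.ZE hy)⟩
  have c2 := es_cent h.es (inf_le_left : E ⊓ 𝐂 (pZ E φ) ≤ E) zF
  rw [h.card, show Nat.card ↥(E ⊓ 𝐂 (pZ E φ)) = 2 ^ 11 by omega] at c2
  have ZF : pZ E φ ≤ E ⊓ 𝐂 (E ⊓ 𝐂 (pZ E φ)) := fun w hw => ⟨h.ZE hw, fun y hy => (hy.2 w hw).symm⟩
  have eZ := eq_of_le_of_card_ge ZF (by rw [h.cardZ]; omega)
  have aF : ∀ y ∈ E ⊓ 𝐂 (pZ E φ), a * y = y * a := fun y hy => by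
    refine h.fix l hy.1 ?_
    have h1 : a * y * a⁻¹ = e⁻¹ * y * e := by
      calc _ = e⁻¹ * (e * a * y) * a⁻¹ := by group
        _ = _ := by rw [hc y (FL y hy)]; group
    rw [h1]
    rcases h.es.comm y hy.1 e he.1 with r | r
    · left; rw [mul_assoc, r]; group
    · right; rw [mul_assoc, r]; group
  have m1 : m = 1 := by
    by_contra n
    have := h.card_inv mf (mf.le2 hm) n (mf.sq2 m hm)
    rw [h.Cm_one l aa] at this
    have k := card_le_of_le (show E ⊓ 𝐂 (pZ E φ) ≤ E ⊓ centralizer {a} from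
      fun y hy => ⟨hy.1, mem_cent_single.2 (aF y hy).symm⟩)
    omega
  subst m1
  rw [eZ]
  refine ⟨mul_mem he.1 ?_, fun y hy => (hc y (FL y hy)).symm⟩
  rcases h.ker_two l aa with rfl | rfl
  exacts [one_mem _, h.es.mem]

end JS

end Cfsg.Lib.JF
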