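import Cfsg.Agent.Lib.Block2.JPg
import Cfsg.Agent.Lib.Block2.JHm
import Cfsg.Agent.Lib.Block2.JHn

/-! The elements `e * a` lie in the kernel of the action on the pentad. -/

set_option autoImplicit false

namespace Cfsg.Lib.JF

open Subgroup Cfsg.Lib.Amalg Cfsg.Lib.Core Cfsg.Lib.Known2 Cfsg.Lib.Golay Spor MulAction
open scoped Pointwise

variable {G : Type*} [Group G] [Finite G] {E : Subgroup G} {z p : G} {φ : KK z p →* Equiv.Perm GolayPt}

namespace JS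
variable (h : JS E z p M22 φ)
include h

theorem memPL1 {e a : G} (he : e ∈ E ⊓ 𝐂 (pZ E φ)) (ha : a ∈ hat φ (gc.gen gB : Set _)) :
    e * a ∈ 𝐂 (pZ E φ) ∧ ∀ i, e * a ∈ 𝐍 (V0 E φ (pB i)) := by
  obtain ⟨⟨m, hm, l⟩, aa⟩ := ha
  have f : ∀ i, m • om (pO i) = om (pO i) := (pm6 (h.mem l)).2 hm
  refine ⟨mul_mem he.2 ?_, fun i => mul_mem ?_ (mem_normalizer_of_cj_le
    (by rw [h.cj_V0 l, (pB_cj (h.mem l)).2 (f i)]))⟩
  · obtain ⟨c, lc, c3, hc⟩ := h.adj l (h.norZ l 1 f)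
    have k : Commute c⁻¹ a := (show Commute c a from h.ker_comm lc l).inv_left
    have := pow_mem hc 3
    rwa [k.mul_pow, inv_pow, c3, inv_one, one_mul, pow_succ, pow_two, aa, one_mul] at this
  · obtain ⟨k, lk⟩ := h.ex (inC i).1.2
    rw [← h.cj_V0 lk, ← cj_normalizer]
    exact mem_cj.2 (h.EN mf (by simpa using h.nm lk.inv he.1))

end JS

end Cfsg.Lib.JF
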