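import Cfsg.Agent.Lib.Block2.JP0
import Cfsg.Agent.Lib.Linear.SmallIso

/-! The local consequences for the pentad group (non-splitting, `S₅`, Sylow normalisers). -/

set_option autoImplicit false

namespace Cfsg.Lib.JF

open Subgroup Cfsg.Lib.Amalg

theorem pf_idx {P : Type*} [Group P] [Finite P] {p : ℕ} [Fact p.Prime] (Q : Sylow p P) :
    Nat.card (Sylow p P) = (𝐍 (Q : Subgroup P)).index := Sylow.card_eq_index_normalizer Q

theorem pf_fac {n p : ℕ} (hp : p.Prime) (hn : n ≠ 0) (h1 : p ^ 1 ∣ n) (h2 : ¬ p ^ 2 ∣ n) : n.factorization p = 1 := by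
  rw [hp.pow_dvd_iff_le_factorization hn] at h1 h2
  omega

theorem pf_frattini {P X : Type*} [Group P] [Finite P] [Group X] {p : ℕ} [Fact p.Prime] (π : P →* X)
    (hπ : Function.Surjective π) (Q : Sylow p P) :
    𝐍 ((Q : Subgroup P).map π) ≤ (𝐍 (Q : Subgroup P)).map π := by
  intro x hx
  obtain ⟨g, rfl⟩ := hπ x
  have h1 : (Q : Subgroup P) ≤ ((Q : Subgroup P).map π).comap π := le_comap_map _ _
  have h2 : ((g • Q : Sylow p P) : Subgroup P) ≤ ((Q : Subgroup P).map π).comap π := by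
    intro y hy
    rw [Sylow.smul_def, Sylow.pointwise_smul_def, mem_pointwise_smul_iff_inv_smul_mem] at hy
    have := (mem_normalizer_iff.1 hx _).1 (mem_map_of_mem π hy)
    simpa [mul_assoc] using this
  obtain ⟨r, hr⟩ := MulAction.exists_smul_eq (((Q : Subgroup P).map π).comap π) (Q.subtype h1) ((g • Q).subtype h2)
  rw [Sylow.smul_subtype] at hr
  replace hr := Sylow.subtype_injective hr
  obtain ⟨q, hq, e⟩ := r.2
  have h3 : (r : P)⁻¹ * g ∈ 𝐍 (Q : Subgroup P) := by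
    refine Sylow.smul_eq_iff_mem_normalizer.1 ?_
    rw [mul_smul, ← hr]
    exact inv_smul_smul (r : P) Q
  exact ⟨q * ((r : P)⁻¹ * g), mul_mem (le_normalizer hq) h3, by simp [e]⟩

theorem pf_bound {G X : Type*} [Group G] [Finite G] [Group X] [Finite X] {p : ℕ} [Fact p.Prime] {P : Subgroup G}
    (π : P →* X) (hπ : Function.Surjective π) (Q : Sylow p P) {a b n : ℕ}
    (ha : Nat.card (Sylow p X) ≤ a) (hb : b ≤ Nat.card ↥(π.ker ⊓ 𝐍 (Q : Subgroup P)))
    (hn : n * a ≤ Nat.card X * b) (a0 : 0 < a) (S : Sylow p G) (hS : (S : Subgroup G) = (Q : Subgroup P).map P.subtype)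
    (cN : Nat.card (𝐍 (S : Subgroup G)) = n) : 𝐍 (S : Subgroup G) ≤ P := by
  have h1 := Core.card_map_mul_card_inf_ker π (𝐍 (Q : Subgroup P))
  have h2 := card_le_of_le (pf_frattini π hπ Q)
  have h3 := pf_idx (Q.mapSurjective hπ)
  have h4 := card_mul_index (𝐍 ((Q : Subgroup P).map π))
  rw [Sylow.coe_mapSurjective] at h3
  have h5 : (𝐍 (Q : Subgroup P)).map P.subtype ≤ 𝐍 (S : Subgroup G) := hS ▸ le_normalizer_map P.subtype
  have h6 : Nat.card (𝐍 (S : Subgroup G)) ≤ Nat.card ((𝐍 (Q : Subgroup P)).map P.subtype) := by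
    rw [card_map_of_injective P.subtype_injective, cN, ← h1]
    refine Nat.le_of_mul_le_mul_right (hn.trans ?_) a0
    rw [← h4, ← h3, mul_right_comm, mul_right_comm _ _ a]
    calc _ ≤ _ * b * a := Nat.mul_le_mul_left _ ha
      _ = _ * a * b := mul_right_comm _ _ _
      _ ≤ _ := by gcongr
  rw [← eq_of_le_of_card_ge h5 h6]
  exact map_subtype_le _

abbrev PX := Equiv.Perm (Fin 5) × Matrix.SpecialLinearGroup (Fin 3) (ZMod 2)

theorem pf_c5 : Nat.card (Equiv.Perm (Fin 5)) = 120 := by rw [Nat.card_perm]; simp [Nat.factorial]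

theorem pf_cX : Nat.card PX = 20160 := by rw [Nat.card_prod, pf_c5, Linear.card_SL_three_two]

theorem pf_syl5 : Nat.card (Sylow 5 PX) ≤ 6 := by
  have : Fact (Nat.Prime 5) := ⟨by norm_num⟩
  obtain ⟨Q⟩ : Nonempty (Sylow 5 PX) := inferInstance
  have h1 := card_sylow_modEq_one 5 PX
  have h2 : (⊥ : Subgroup (Equiv.Perm (Fin 5))).prod ⊤ ≤ 𝐍 (Q : Subgroup PX) := by
    refine le_trans ?_ (centralizer_le_normalizer _)
    rintro ⟨a, b⟩ ⟨ha, -⟩
    obtain rfl : a = 1 := ha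
    rw [mem_centralizer_iff]
    rintro ⟨c, d⟩ hc
    obtain ⟨k, hk⟩ := Q.isPGroup' ⟨_, hc⟩
    have h3 : d ^ 5 ^ k = 1 := congrArg (fun x => x.1.2) hk
    have h4 : orderOf d ∣ Nat.gcd (5 ^ k) 168 :=
      Nat.dvd_gcd (orderOf_dvd_of_pow_eq_one h3) (Linear.card_SL_three_two ▸ orderOf_dvd_natCard d)
    rw [Nat.Coprime.pow_left k (by norm_num), Nat.dvd_one, orderOf_eq_one_iff] at h4
    simp [h4]
  have h3 := index_dvd_of_le h2
  rw [← pf_idx, index_prod, index_bot, index_top, pf_c5] at h3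
  have h4 := Nat.le_of_dvd (by norm_num) h3
  generalize Nat.card (Sylow 5 PX) = n at *
  by_contra! h
  interval_cases n <;> first | exact absurd h1 (by decide) | exact absurd h3 (by decide)

theorem pf_syl7 : Nat.card (Sylow 7 PX) ≤ 8 := by
  have : Fact (Nat.Prime 7) := ⟨by norm_num⟩
  obtain ⟨Q⟩ : Nonempty (Sylow 7 PX) := inferInstance
  have h1 := card_sylow_modEq_one 7 PX
  have h2 : (⊤ : Subgroup (Equiv.Perm (Fin 5))).prod ⊥ ≤ 𝐍 (Q : Subgroup PX) := by
    refine le_trans ?_ (centralizer_le_normalizer _)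
    rintro ⟨a, b⟩ ⟨-, hb⟩
    obtain rfl : b = 1 := hb
    rw [mem_centralizer_iff]
    rintro ⟨c, d⟩ hc
    obtain ⟨k, hk⟩ := Q.isPGroup' ⟨_, hc⟩
    have h3 : c ^ 7 ^ k = 1 := congrArg (fun x => x.1.1) hk
    have h4 : orderOf c ∣ Nat.gcd (7 ^ k) 120 :=
      Nat.dvd_gcd (orderOf_dvd_of_pow_eq_one h3) (pf_c5 ▸ orderOf_dvd_natCard c)
    rw [Nat.Coprime.pow_left k (by norm_num), Nat.dvd_one, orderOf_eq_one_iff] at h4
    simp [h4]
  have h3 := index_dvd_of_le h2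
  rw [← pf_idx, index_prod, index_bot, index_top, Linear.card_SL_three_two] at h3
  have h4 := Nat.le_of_dvd (by norm_num) h3
  generalize Nat.card (Sylow 7 PX) = n at *
  by_contra! h
  interval_cases n <;> first | exact absurd h1 (by decide) | exact absurd h3 (by decide)

variable {G : Type*} [Group G] [Finite G]

theorem pf_cen {Z Q : Subgroup G} (cZ : Nat.card Z = 8) (cQ : Nat.card Q = 5) (h : Q ≤ 𝐍 Z) : Z ≤ 𝐂 Q := by
  have : Fact (Nat.Prime 5) := ⟨by norm_num⟩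
  have h1 := PGrp.card_modEq_card_inf_centralizer (IsPGroup.of_card (n := 1) (by simpa using cQ) : IsPGroup 5 Q) h
  have h2 := card_dvd_of_le (inf_le_left : Z ⊓ 𝐂 Q ≤ Z)
  rw [cZ] at h1 h2
  have h3 := Nat.le_of_dvd (by norm_num) h2
  have h4 : Nat.card ↥(Z ⊓ 𝐂 Q) = 8 := by
    generalize Nat.card ↥(Z ⊓ 𝐂 Q) = n at *
    interval_cases n <;> first | rfl | exact absurd h1 (by decide) | exact absurd h2 (by decide)
  exact inf_eq_left.1 (eq_of_le_of_card_ge inf_le_left (by rw [h4, cZ]))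

theorem pf_syl {p : ℕ} [Fact p.Prime] {Q : Subgroup G} (cQ : Nat.card Q = p) (h : ¬ p * p ∣ Nat.card G) :
    ∃ S : Sylow p G, (S : Subgroup G) = Q :=
  ⟨(IsPGroup.of_card (n := 1) (by simpa using cQ) : IsPGroup p Q).toSylow fun H => h (by
    rw [← card_mul_index Q, cQ]; exact Nat.mul_dvd_mul_left _ H), rfl⟩

theorem penF {Z L : Subgroup G} {z : G} (cL : Nat.card L = 2 ^ 15) (cZ : Nat.card Z = 8) (ZL : Z ≤ L)
    (LC : L ≤ 𝐂 Z) (NZ : 𝐍 L = 𝐍 Z) (zZ : z ∈ Z)
    (e : 𝐍 L ⧸ L.subgroupOf (𝐍 L) ≃* Equiv.Perm (Fin 5) × Matrix.SpecialLinearGroup (Fin 3) (ZMod 2))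
    (h5 : ∀ Q : Subgroup G, Nat.card Q = 5 → Q ≤ centralizer {z} → ¬ (25 ∣ Nat.card G) ∧
      (∃ J : Subgroup G, Cfsg.IsInternalDirectProduct Q J (Subgroup.centralizer (Q : Set G)) ∧
        ∃ (E : Subgroup ↥J) (_ : E.Normal), Cfsg.IsElementaryAbelian 2 E ∧ Nat.card ↥E = 8 ∧
          Nonempty (↥J ⧸ E ≃* Matrix.SpecialLinearGroup (Fin 3) (ZMod 2)) ∧ ∀ K : Subgroup ↥J, ¬ E.IsComplement' K) ∧
      (∃ R : Subgroup G, Q ≤ R ∧ R ≤ Subgroup.normalizer (Q : Set G) ∧ Nat.card ↥R = 20 ∧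
        R ⊓ Subgroup.centralizer (Q : Set G) = Q) ∧
      Nat.card ↥(Subgroup.normalizer (Q : Set G)) = 2 ^ 8 * 3 * 5 * 7)
    (h7 : ∀ S : Subgroup G, Nat.card S = 7 → S ≤ centralizer {z} → ¬ (49 ∣ Nat.card G) ∧
      (∃ I : Subgroup G, Cfsg.IsInternalDirectProduct S I (Subgroup.centralizer (S : Set G)) ∧
        Nonempty (↥I ≃* Equiv.Perm (Fin 5))) ∧
      Nat.card ↥(Subgroup.normalizer (S : Set G)) = 3 * Nat.card ↥(Subgroup.centralizer (S : Set G)) ∧
      Nat.card ↥(Subgroup.normalizer (S : Set G)) = 2 ^ 3 * 3 ^ 2 * 5 * 7)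
    (d7 : 7 ∣ Nat.card (centralizer ({z} : Set G))) :
    (∀ K : Subgroup ↥(Subgroup.normalizer (L : Set G)),
      ¬ (L.subgroupOf (Subgroup.normalizer (L : Set G))).IsComplement' K) ∧
    (∃ K₁ : Subgroup G, K₁ ≤ Subgroup.normalizer (L : Set G) ∧ Nonempty (↥K₁ ≃* Equiv.Perm (Fin 5))) ∧
    (∃ Q : Sylow 5 G, Subgroup.normalizer ((Q : Subgroup G) : Set G) ≤ Subgroup.normalizer (L : Set G)) ∧
    (∃ S : Sylow 7 G, Subgroup.normalizer ((S : Subgroup G) : Set G) ≤ Subgroup.normalizer (L : Set G)) := by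
  have : Fact (Nat.Prime 5) := ⟨by norm_num⟩
  have : Fact (Nat.Prime 7) := ⟨by norm_num⟩
  let π : 𝐍 L →* PX := e.toMonoidHom.comp (QuotientGroup.mk' _)
  have hπ : Function.Surjective π := e.surjective.comp (QuotientGroup.mk'_surjective _)
  have hk : π.ker = L.subgroupOf (𝐍 L) := by
    ext x; simp [π]
  have cP : Nat.card (𝐍 L) = 20160 * 2 ^ 15 := by
    rw [card_eq_card_quotient_mul_card_subgroup (L.subgroupOf (𝐍 L)), Nat.card_congr e.toEquiv, pf_cX,
      Nat.card_congr (subgroupOfEquivOfLe le_normalizer).toEquiv, cL]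
  have z5 : ∀ Q : Subgroup G, Nat.card Q = 5 → Q ≤ 𝐍 L → Z ≤ 𝐂 Q ∧ Q ≤ centralizer {z} := fun Q cQ h =>
    ⟨pf_cen cZ cQ (NZ ▸ h), fun q hq => mem_centralizer_singleton_iff.2 (pf_cen cZ cQ (NZ ▸ h) zZ q hq)⟩
  have cS : ∀ (p : ℕ) [Fact p.Prime] (Q : Sylow p (𝐍 L)), (20160 * 2 ^ 15).factorization p = 1 →
      Nat.card ((Q : Subgroup (𝐍 L)).map (𝐍 L).subtype) = p := fun p _ Q h => by
    rw [card_map_of_injective (𝐍 L).subtype_injective, Sylow.card_eq_multiplicity, cP, h, pow_one]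
  have f5 : (20160 * 2 ^ 15).factorization 5 = 1 :=
    pf_fac (by norm_num) (by norm_num) (by norm_num) (by norm_num)
  have f7 : (20160 * 2 ^ 15).factorization 7 = 1 :=
    pf_fac (by norm_num) (by norm_num) (by norm_num) (by norm_num)
  obtain ⟨S0, c0⟩ := Sylow.exists_subgroup_card_pow_prime (G := centralizer ({z} : Set G)) 7 (n := 1) (by simpa using d7)
  have c0' : Nat.card (S0.map (centralizer ({z} : Set G)).subtype) = 7 := by
    rw [card_map_of_injective (Subgroup.subtype_injective _), c0, pow_one]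
  obtain ⟨n49, ⟨I, hI, ⟨eI⟩⟩, -, cN7⟩ := h7 _ c0' (map_subtype_le _)
  obtain ⟨S1, hS1⟩ := pf_syl c0' n49
  obtain ⟨Q7⟩ : Nonempty (Sylow 7 (𝐍 L)) := inferInstance
  obtain ⟨S, hS⟩ := pf_syl (cS 7 Q7 f7) n49
  have k7 : 𝐍 (S : Subgroup G) ≤ 𝐍 L := by
    refine pf_bound π hπ Q7 pf_syl7 (b := 1) Nat.card_pos (n := 2520) (by rw [pf_cX]) (by norm_num) S hS ?_
    have a := card_mul_index (𝐍 (S : Subgroup G))
    have b := card_mul_index (𝐍 (S1 : Subgroup G))
    have a' := pf_idx S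
    have b' := pf_idx S1
    rw [hS1, cN7, ← a] at b
    rw [hS1] at b'
    exact (Nat.eq_of_mul_eq_mul_right Nat.card_pos (a' ▸ b' ▸ b)).symm
  refine ⟨fun K hK => ?_, ?_, ?_, S, k7⟩
  · have bij : Function.Bijective (π.comp K.subtype) := by
      have inj : Function.Injective (π.comp K.subtype) := (injective_iff_map_eq_one _).2 fun x hx =>
        Subtype.ext (disjoint_def.1 hK.disjoint (hk ▸ hx) x.2)
      refine inj.bijective_of_nat_card_le ?_
      have := hK.card_mul_card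
      rw [cP, Nat.card_congr (subgroupOfEquivOfLe le_normalizer).toEquiv, cL] at this
      rw [pf_cX]; omega
    let ψ : PX →* G := ((𝐍 L).subtype.comp K.subtype).comp (MulEquiv.ofBijective _ bij).symm.toMonoidHom
    have iψ : Function.Injective ψ := (Subtype.val_injective.comp Subtype.val_injective).comp
      (MulEquiv.ofBijective _ bij).symm.injective
    have pψ : ∀ x, ψ x ∈ 𝐍 L := fun x => SetLike.coe_mem _
    obtain ⟨c, hc⟩ := exists_prime_orderOf_dvd_card' (G := Equiv.Perm (Fin 5)) 5 (by rw [pf_c5]; norm_num)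
    let a := ψ.comp (MonoidHom.inl _ _)
    let y := ψ.comp (MonoidHom.inr _ _)
    have ia : Function.Injective a := iψ.comp (Prod.mk_left_injective 1)
    have iy : Function.Injective y := iψ.comp (Prod.mk_right_injective 1)
    have cQ : Nat.card (zpowers (a c)) = 5 := by rw [Nat.card_zpowers, orderOf_injective a ia, hc]
    obtain ⟨-, ⟨J, ⟨-, -, j3, j4, j5⟩, E, _, hE, cE, ⟨eJ⟩, nc⟩, -⟩ :=
      h5 _ cQ (z5 _ cQ (zpowers_le.2 (pψ _))).2
    have cJ : Nat.card J = 168 * 8 := by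
      rw [card_eq_card_quotient_mul_card_subgroup E, Nat.card_congr eJ.toEquiv, Linear.card_SL_three_two, cE]
    have yJ : ∀ s, y s ∈ J := fun s => by
      have h1 : y s ∈ zpowers (a c) ⊔ J := by
        rw [j5, mem_centralizer_iff]
        rintro _ ⟨k, rfl⟩
        refine (Commute.zpow_left ?_ k).eq
        change ψ _ * ψ _ = ψ _ * ψ _
        rw [← map_mul, ← map_mul]; simp
      rw [← SetLike.mem_coe, coe_mul_of_left_le_normalizer_right _ _ (fun q hq => centralizer_le_normalizer _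
        (mem_centralizer_iff.2 fun j hj => (j3 q hq j hj).symm))] at h1
      obtain ⟨q, hq, j, hj, h2⟩ := h1
      have h3 : (y s) ^ 168 = 1 := by rw [← map_pow, ← Linear.card_SL_three_two, pow_card_eq_one', map_one]
      rw [← h2, Commute.mul_pow (j3 q hq j hj), mul_eq_one_iff_eq_inv] at h3
      have h4 : q ^ 168 = 1 := by
        have : q ^ 168 ∈ zpowers (a c) ⊓ J := ⟨pow_mem hq _, h3 ▸ J.inv_mem (J.pow_mem hj _)⟩
        rwa [j4] at this
      have h5 : orderOf q ∣ Nat.gcd 5 168 :=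
        Nat.dvd_gcd (cQ ▸ Subgroup.orderOf_dvd_natCard _ hq) (orderOf_dvd_of_pow_eq_one h4)
      have h6 : q = 1 := orderOf_eq_one_iff.1 (Nat.dvd_one.1 h5)
      rw [← h2, h6]; simpa using hj
    let y' := y.codRestrict J yJ
    have iy' : Function.Injective y' := fun s t h => iy (congrArg (fun x : J => (x : G)) h)
    have hs : IsSimpleGroup (Matrix.SpecialLinearGroup (Fin 3) (ZMod 2)) :=
      Linear.sl_isSimpleGroup_of_card_two (by simp) (by simp)
    have cY : Nat.card y'.range = 168 := by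
      rw [← Nat.card_congr (MonoidHom.ofInjective iy').toEquiv, Linear.card_SL_three_two]
    refine nc y'.range (isComplement'_of_card_mul_and_disjoint (by rw [cE, cY, cJ]) ?_)
    rcases (inferInstance : (E.comap y').Normal).eq_bot_or_eq_top with h | h
    · rw [disjoint_def]
      rintro _ hx ⟨s, rfl⟩
      rw [show s = 1 from h.le hx, map_one]
    · have := card_le_of_le (show y'.range ≤ E by rintro _ ⟨s, rfl⟩; exact h.ge (mem_top s))
      omega
  · obtain ⟨g, hg⟩ := MulAction.exists_smul_eq G S1 S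
    refine ⟨I.map (MulAut.conj g).toMonoidHom, ?_, ⟨(I.equivMapOfInjective _ (MulAut.conj g).injective).symm.trans eI⟩⟩
    rintro _ ⟨x, hx, rfl⟩
    have h1 : x • S1 = S1 := Sylow.smul_eq_iff_mem_normalizer.2 (by
      have := centralizer_le_normalizer _ (hI.2.1 hx)
      rwa [← hS1] at this)
    refine k7 (Sylow.smul_eq_iff_mem_normalizer.1 ?_)
    change (g * x * g⁻¹) • S = S
    rw [← hg, mul_smul, inv_smul_smul, mul_smul, h1]
  · obtain ⟨Q5⟩ : Nonempty (Sylow 5 (𝐍 L)) := inferInstance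
    have c5 := cS 5 Q5 f5
    obtain ⟨zc, zq⟩ := z5 _ c5 (map_subtype_le _)
    obtain ⟨n25, -, -, cN⟩ := h5 _ c5 zq
    obtain ⟨Q, hQ⟩ := pf_syl c5 n25
    refine ⟨Q, pf_bound π hπ Q5 pf_syl5 (b := 8) ?_ (n := 26880) (by rw [pf_cX]) (by norm_num) Q hQ (hQ ▸ cN)⟩
    rw [← cZ, ← Nat.card_congr (subgroupOfEquivOfLe (ZL.trans le_normalizer)).toEquiv]
    refine card_le_of_le fun x hx => ⟨hk ▸ ZL hx, centralizer_le_normalizer _ (mem_centralizer_iff.2 fun q hq => ?_)⟩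
    exact Subtype.ext (zc hx _ (mem_map_of_mem _ hq))

end Cfsg.Lib.JF
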