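import Cfsg.Agent.Lib.Block2.JPm
import Cfsg.Agent.Lib.Block2.JP0
import Cfsg.Agent.Lib.Block2.JH3

/-! The pentad of elementary abelian groups of order `2^11`: the common `2^3`. -/

set_option autoImplicit false

namespace Cfsg.Lib.JF

open Subgroup Cfsg.Lib.Amalg Cfsg.Lib.Core Cfsg.Lib.Known2 Cfsg.Lib.Golay Spor MulAction
open scoped Pointwise

variable {G : Type*} [Group G] [Finite G] {E : Subgroup G} {z p : G} {φ : KK z p →* Equiv.Perm GolayPt}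

theorem pigeon {ι : Type*} [Finite ι] {X Y : Subgroup G} (k : ι → G) (hY : ∀ i, ∀ x ∈ X, k i * x * (k i)⁻¹ ∈ Y)
    (hd : ∀ i j, ∀ x ∈ X, ∀ y ∈ X, x ≠ 1 → x ≠ z → k i * x * (k i)⁻¹ = k j * y * (k j)⁻¹ → i = j)
    (zX : z ∈ X) (z1 : z ≠ 1) : Nat.card ι * (Nat.card X - 2) ≤ Nat.card Y := by
  have s : ({1, z} : Set G) ⊆ X := by rintro _ (rfl | rfl); exacts [one_mem _, zX]
  have c : Nat.card ↥((X : Set G) \ {1, z}) = Nat.card X - 2 := by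
    rw [Nat.card_coe_set_eq, Set.ncard_sdiff s, Set.ncard_pair z1.symm]; rfl
  rw [← c, ← Nat.card_prod]
  refine Nat.card_le_card_of_injective (fun q : ι × ↥((X : Set G) \ {1, z}) => (⟨_, hY q.1 q.2 q.2.2.1⟩ : Y)) ?_
  rintro ⟨i, x, hx⟩ ⟨j, y, hy⟩ e
  have e := congrArg Subtype.val e
  obtain rfl := hd i j x hx.1 y hy.1 (fun a => hx.2 (Or.inl a)) (fun a => hx.2 (Or.inr a)) e
  exact Prod.ext rfl (Subtype.ext (by simpa using e))

/-- the hexad groups through the duad. -/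
noncomputable abbrev pB (i : Fin 5) : Subgroup (Equiv.Perm GolayPt) := cj (gc.dec (pC i)) (gc.gen gA)
/-- the common `2^3`. -/
noncomputable abbrev pZ (E : Subgroup G) (φ : KK z p →* Equiv.Perm GolayPt) : Subgroup G :=
  V0 E φ (gc.gen gA) ⊓ V0 E φ (pB 1)

theorem pB0 : pB 0 = gc.gen gA := by rw [pB, pC0, cj_one]

theorem pB_eq {m : Equiv.Perm GolayPt} (hm : m ∈ M22) {i : Fin 5} :
    cj m (gc.gen gA) = pB i ↔ m • om 0x82402f = om (pO i) := by rw [cjA_iff hm (inC i).1.2, (inC i).2]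

theorem pB_cj {m : Equiv.Perm GolayPt} (hm : m ∈ M22) {i j : Fin 5} :
    cj m (pB i) = pB j ↔ m • om (pO i) = om (pO j) := by
  rw [← cj_mul, pB_eq (mul_mem hm (inC i).1.2), mul_smul, (inC i).2]

namespace JS
variable (h : JS E z p M22 φ)
include h

omit [Finite G] in
theorem cjCm {k : G} {m : Equiv.Perm GolayPt} (l : L φ k m) (B : Subgroup (Equiv.Perm GolayPt)) :
    cj k (Cm E φ B) = Cm E φ (cj m B) := h.cj_Cm l fun _ => mem_cj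

omit [Finite G] in
theorem le_img {m : Equiv.Perm GolayPt} (hm : m ∈ M22) {w : G} (hw : w ∈ E) :
    w ∈ Cm E φ (cj m (gc.gen gA)) ↔ cj m (gc.gen gA) ≤ img φ (centralizer {w}) := by
  have sq := sq_cj m mf.sq1
  refine ⟨fun H y hy => ?_, fun H => mem_Cm.2 ⟨hw, fun k y hy l kk => ?_⟩⟩
  · obtain ⟨k, l, kk⟩ := h.lift2 mf (cj_le_of_le_of_mem mf.le1 hm hy) (sq y hy)
    exact mem_img.2 ⟨k, mem_cent_single.2 ((mem_Cm.1 H).2 k y hy l kk), l⟩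
  · obtain ⟨k', ck, l'⟩ := mem_img.1 (H hy)
    have l3 : L φ (k' ^ 3) y := (l'.pow 3).of_eq (by rw [pow_succ, pow_two, sq y hy, one_mul])
    refine mem_cent_single.1 ?_
    rcases h.lift_eq l3 l (by rw [← h.six mf l' (sq y hy)]; group) kk with e | e <;> rw [e]
    · exact pow_mem ck 3
    · exact mul_mem (pow_mem ck 3) (mem_cent_single.2 (h.es.cen w hw).symm)

theorem no9 {w : G} (hw : w ∈ E) (n1 : w ≠ 1) (nz : w ≠ z) : ¬ Has9 (img φ (centralizer {w})) := by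
  rintro ⟨c, hc, c1, c2⟩
  obtain ⟨x, cx, lx⟩ := mem_img.1 c1
  obtain ⟨y, cy, ly⟩ := mem_img.1 c2
  obtain ⟨d, l⟩ := h.ex hc
  have k : ∀ x, x ∈ centralizer {w} → d⁻¹ * x * d⁻¹⁻¹ * (d⁻¹ * w * d⁻¹⁻¹) = d⁻¹ * w * d⁻¹⁻¹ * (d⁻¹ * x * d⁻¹⁻¹) :=
    fun x hx => by rw [conj_mul, conj_mul, mem_cent_single.1 hx]
  rcases h.nc mf ((l.inv.cnj lx).of_eq (by group)) ((l.inv.cnj ly).of_eq (by group)) (h.nm l.inv hw) (k x cx) (k y cy)
    with e | e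
  · exact n1 (conj_eq_one_iff.1 e)
  · exact nz (by rw [← conj_eq_of_comm l.kz, ← e]; group)

omit [Finite G] in
theorem VE' {m : Equiv.Perm GolayPt} (hm : m ∈ M22) {v : G} (hv : v ∈ V0 E φ (cj m (gc.gen gA))) (e : v ∈ E) :
    v ∈ Cm E φ (cj m (gc.gen gA)) := by
  obtain ⟨k, l⟩ := h.ex hm
  rw [← h.cj_V0 l] at hv
  rw [← h.cjCm l]
  exact mem_cj.2 (h.VE mf (mem_cj.1 hv) (by simpa using h.nm l.inv e))

omit [Finite G] in
theorem VV {m : Equiv.Perm GolayPt} (hm : m ∈ M22) (n : m • om 0x82402f ≠ om 0x82402f) {v : G}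
    (h1 : v ∈ V0 E φ (gc.gen gA)) (h2 : v ∈ V0 E φ (cj m (gc.gen gA))) : v ∈ E := by
  obtain ⟨k, l⟩ := h.ex hm
  rw [← h.cj_V0 l] at h2
  obtain ⟨a, ⟨⟨m1, hm1, l1⟩, aa⟩, u, hu, rfl⟩ := (h.memV mf v).1 h1
  obtain ⟨y, hy, e⟩ := mem_cj'.1 h2
  obtain ⟨b, ⟨⟨m2, hm2, l2⟩, -⟩, u', hu', rfl⟩ := (h.memV mf y).1 hy
  have l3 := l1.inv.mul (l.cnj l2)
  have hE : a⁻¹ * (k * b * k⁻¹) ∈ E := by
    rw [show a⁻¹ * (k * b * k⁻¹) = u * (k * u' * k⁻¹)⁻¹ by rw [← inv_mul_cancel_left a u, ← e]; group]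
    exact E.mul_mem hu.1 (E.inv_mem (h.nm l hu'.1))
  have : m1⁻¹ * (m * m2 * m⁻¹) = 1 := by
    rcases h.fp _ hE l3.kp.symm with r | r <;> rw [r] at l3
    exacts [l3.uniq L.one, l3.uniq h.Lz]
  obtain rfl := cjA_inf hm n hm1 (by rw [inv_mul_eq_one.1 this]; exact conj_mem_cj _ hm2)
  rcases h.ker_two l1 aa with rfl | rfl
  exacts [mul_mem (one_mem _) hu.1, mul_mem h.es.mem hu.1]

omit [Finite G] in
theorem memZ {x : G} : x ∈ pZ E φ ↔ ∀ i, x ∈ Cm E φ (pB i) := by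
  refine ⟨fun hx i => ?_, fun H => ⟨mem_sup_left (pB0 ▸ H 0), mem_sup_left (H 1)⟩⟩
  have xE := h.VV (inC 1).1.2 (fun e => absurd (pO_inj (i := 1) (j := 0) ((inC 1).2.symm.trans e)) (by decide)) hx.1 hx.2
  refine (h.le_img (inC i).1.2 xE).2 (pm2 i ?_ ((h.le_img (inC 1).1.2 xE).1 (h.VE' (inC 1).1.2 hx.2 xE)))
  have := (h.le_img (one_mem _) xE).1 (by rw [cj_one]; exact h.VE mf hx.1 xE)
  rwa [cj_one] at this

omit [Finite G] in
theorem ZU : pZ E φ ≤ Cm E φ (gc.gen gA) := fun _ hx => pB0 ▸ h.memZ.1 hx 0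
omit [Finite G] in
theorem ZE : pZ E φ ≤ E := h.ZU.trans Cm_le
omit [Finite G] in
theorem zZ : z ∈ pZ E φ := ⟨h.zV, h.zV⟩

theorem norZ {k : G} {m : Equiv.Perm GolayPt} (l : L φ k m) (σ : Equiv.Perm (Fin 5))
    (e : ∀ i, m • om (pO i) = om (pO (σ i))) : k ∈ 𝐍 (pZ E φ) :=
  mem_normalizer_of_cj_le (cj_le_iff'.2 fun x hx => h.memZ.2 fun j => by
    have := conj_mem_cj k (h.memZ.1 hx (σ.symm j))
    rwa [h.cjCm l, (pB_cj (h.mem l)).2 (e _), σ.apply_symm_apply] at this)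

theorem three5 {m : Equiv.Perm GolayPt} (hm : m ∈ M22) {w : G} (hw : w ∈ pZ E φ) (n1 : w ≠ 1) (nz : w ≠ z)
    (h2 : w ∈ Cm E φ (cj m (gc.gen gA))) : ∃ i, m • om 0x82402f = om (pO i) := by
  have wE := h.ZE hw
  exact pm3 hm (pB0 ▸ (h.le_img (inC 0).1.2 wE).1 (h.memZ.1 hw 0)) ((h.le_img (inC 1).1.2 wE).1 (h.memZ.1 hw 1))
    ((h.le_img hm wE).1 h2) (h.no9 wE n1 nz)

theorem pair {m : Equiv.Perm GolayPt} (hm : m ∈ M22) (ne : m • om 0x82402f ≠ om 0x82402f) {w : G}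
    (h1 : w ∈ Cm E φ (gc.gen gA)) (h2 : w ∈ Cm E φ (cj m (gc.gen gA))) (n1 : w ≠ 1) (nz : w ≠ z) :
    ∃ k n, L φ k n ∧ cj n (gc.gen gA) = gc.gen gA ∧ cj n (cj m (gc.gen gA)) = pB 1 := by
  have a := (h.le_img (one_mem _) h1.1).1 (by rwa [cj_one])
  rw [cj_one] at a
  obtain ⟨n, hn, e1, e2⟩ := pm1 hm ne a ((h.le_img hm h1.1).1 h2) (h.no9 h1.1 n1 nz)
  obtain ⟨k, l⟩ := h.ex hn
  exact ⟨k, n, l, pB0 ▸ (pB_eq hn (i := 0)).2 e1, by rw [← cj_mul]; exact (pB_eq (mul_mem hn hm)).2 e2⟩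

omit [Finite G] h in
theorem nt {k x : G} {m : Equiv.Perm GolayPt} (l : L φ k m) (n1 : x ≠ 1) (nz : x ≠ z) :
    k * x * k⁻¹ ≠ 1 ∧ k * x * k⁻¹ ≠ z :=
  ⟨fun e => n1 (by simpa using e), fun e => nz (by rw [← conj_eq_of_comm l.inv.kz, ← e]; group)⟩

theorem exw : ∃ w ∈ pZ E φ, w ≠ 1 ∧ w ≠ z := by
  by_contra n
  have a : ∀ o : orbit M22 (om 0x82402f), ∃ k m, L φ k m ∧ m • om 0x82402f = o := fun o => by
    obtain ⟨m, hm, e⟩ := mem_orbit_subgroup.1 o.2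
    obtain ⟨k, l⟩ := h.ex hm
    exact ⟨k, m, l, e⟩
  choose k m l e using a
  have := pigeon (X := Cm E φ (gc.gen gA)) (Y := E) k (fun i x hx => h.nm (l i) hx.1) (fun i j x hx y hy n1 nz q => by
    by_contra ne
    have l2 := (l i).inv.mul (l j)
    have x2 : x ∈ Cm E φ (cj ((m i)⁻¹ * m j) (gc.gen gA)) := by
      rw [← h.cjCm l2]; exact mem_cj'.2 ⟨y, hy, (show _ = (k i)⁻¹ * (k j * y * (k j)⁻¹) * k i by group).trans (by rw [← q]; group)⟩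
    obtain ⟨d, r, ld, e1, e2⟩ := h.pair (h.mem l2) (fun c => ne (Subtype.ext (by
      rw [← e i, ← e j, mul_smul, inv_smul_eq_iff] at *; exact c.symm))) hx x2 n1 nz
    refine n ⟨d * x * d⁻¹, ⟨mem_sup_left ?_, mem_sup_left ?_⟩, JS.nt ld n1 nz⟩
    · rw [← e1, ← h.cjCm ld]; exact conj_mem_cj _ hx
    · rw [← e2, ← h.cjCm ld]; exact conj_mem_cj _ x2) h.z_Cm h.es.ne
  rw [Nat.card_coe_set_eq, ncard77, h.cardU mf, h.card] at this
  omega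

theorem pZN : p ∈ 𝐍 (pZ E φ) := h.norZ h.Lp 1 fun _ => one_smul _ _

theorem cardZ : Nat.card (pZ E φ) = 8 := by
  obtain ⟨w, hw, n1, nz⟩ := h.exw
  obtain ⟨n, -, c⟩ := h.card_pow h.ZE
  obtain ⟨r, d⟩ := h.mod3 h.ZE h.zZ fun x hx => (mem_normalizer_iff.1 h.pZN x).1 hx
  choose k l using fun j => h.ex (pm7 j).1
  have cU : ∀ j, cj (k j) (Cm E φ (gc.gen gA)) = Cm E φ (gc.gen gA) := fun j => by
    rw [h.cjCm (l j), (pB_eq (pm7 j).1 (i := 0)).2 (pm7 j).2.1, pB0]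
  have a := pigeon (X := pZ E φ) (Y := Cm E φ (gc.gen gA)) k (fun i x hx => cU i ▸ conj_mem_cj _ (h.ZU hx))
    (fun i j x hx y hy n1 nz q => by
      have l2 := (l j).inv.mul (l i)
      have e : (k j)⁻¹ * k i * x * ((k j)⁻¹ * k i)⁻¹ = y := 
        (show _ = (k j)⁻¹ * (k i * x * (k i)⁻¹) * k j by group).trans (by rw [q]; group)
      have y2 := conj_mem_cj ((k j)⁻¹ * k i) (h.memZ.1 hx 1)
      rw [h.cjCm l2, e, ← cj_mul] at y2
      obtain ⟨t, ht⟩ := h.three5 (mul_mem (h.mem l2) (inC 1).1.2) hy (e ▸ (JS.nt l2 n1 nz).1) (e ▸ (JS.nt l2 n1 nz).2) y2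
      rw [mul_smul, (inC 1).2, mul_smul, inv_smul_eq_iff] at ht
      exact (pm7 i).2.2 j t ht) h.zZ h.es.ne
  have b := card_lt_of_lt (lt_of_le_of_ne (zpowers_le.2 h.zZ) fun e => by
    rcases h.es.mem_zp.1 (e.ge hw) with e | e <;> contradiction)
  rw [card_zpowers_invol h.es.sq h.es.ne] at b
  rw [h.cardU mf, Nat.card_eq_fintype_card, Fintype.card_fin] at a
  rw [c] at a b d ⊢
  have : n < 5 := by
    by_contra k
    have := Nat.pow_le_pow_right (show 0 < 2 by norm_num) (not_lt.1 k)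
    omega
  interval_cases n <;> omega

theorem orbZ {w v : G} (hw : w ∈ pZ E φ) (n1 : w ≠ 1) (nz : w ≠ z) (hv : v ∈ pZ E φ) (m1 : v ≠ 1) (mz : v ≠ z) :
    ∃ c, L φ c 1 ∧ c ^ 3 = 1 ∧ (c = 1 ∨ c = p ∨ c = p * p) ∧ (c * w * c⁻¹ = v ∨ c * w * c⁻¹ = v * z) := by
  have sq : ∀ x ∈ pZ E φ, x * x = 1 := fun x hx => h.sqV mf x hx.1
  have k : ∀ u, v * u ∈ zpowers z → u = v ∨ u = v * z := fun u hu => by
    have : u = v * (v * u) := by rw [← mul_assoc, sq v hv, one_mul]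
    rcases h.es.mem_zp.1 hu with e | e <;> rw [e] at this
    exacts [Or.inl (this.trans (mul_one _)), Or.inr this]
  rcases h.three (zpowers_le.2 h.zZ) h.ZE sq (mem_zpowers z) (fun x hx => by
      rcases h.es.mem_zp.1 hx with rfl | rfl
      · simp
      · rw [conj_eq_of_comm h.pz]; exact hx) (fun x hx => (mem_normalizer_iff.1 h.pZN x).1 hx)
    (by rw [h.cardZ, card_zpowers_invol h.es.sq h.es.ne]) hw (fun e => (h.es.mem_zp.1 e).elim n1 nz) hv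
    (fun e => (h.es.mem_zp.1 e).elim m1 mz) with e | e | e
  · exact ⟨1, L.one, one_pow _, Or.inl rfl, by simpa using k _ e⟩
  · exact ⟨p, h.Lp, h.p3, Or.inr (Or.inl rfl), k _ e⟩
  · exact ⟨p * p, (h.Lp.mul h.Lp).of_eq (mul_one _), by rw [(Commute.refl p).mul_pow, h.p3, one_mul],
      Or.inr (Or.inr rfl), by simpa [mul_assoc] using k _ e⟩

theorem cenZ {w k : G} {m : Equiv.Perm GolayPt} (hw : w ∈ pZ E φ) (n1 : w ≠ 1) (nz : w ≠ z) (l : L φ k m)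
    (c : k * w = w * k) : k ∈ 𝐂 (pZ E φ) := fun x hx => by
  by_cases x1 : x = 1
  · simp [x1]
  by_cases xz : x = z
  · rw [xz, l.kz]
  obtain ⟨d, ld, -, -, e⟩ := h.orbZ hw n1 nz hx x1 xz
  have a : Commute k (d * w * d⁻¹) := by
    have : Commute k d := (h.ker_comm ld l).symm
    exact (this.mul_right c).mul_right this.inv_right
  rcases e with e | e <;> rw [e] at a
  · exact a.symm
  · have := a.mul_right (show Commute k z from l.kz)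
    rw [mul_assoc, h.es.sq, mul_one] at this
    exact this.symm

theorem adj {k : G} {m : Equiv.Perm GolayPt} (l : L φ k m) (hk : k ∈ 𝐍 (pZ E φ)) :
    ∃ c, L φ c 1 ∧ c ^ 3 = 1 ∧ c⁻¹ * k ∈ 𝐂 (pZ E φ) := by
  obtain ⟨w, hw, n1, nz⟩ := h.exw
  obtain ⟨c, lc, c3, -, e⟩ := h.orbZ hw n1 nz ((mem_normalizer_iff.1 hk w).1 hw) (JS.nt l n1 nz).1 (JS.nt l n1 nz).2
  refine ⟨c, lc, c3, h.cenZ hw n1 nz (lc.inv.mul l) (h.fix (lc.inv.mul l) (h.ZE hw) ?_)⟩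
  have q : c⁻¹ * k * w * (c⁻¹ * k)⁻¹ = c⁻¹ * (k * w * k⁻¹) * c⁻¹⁻¹ := by group
  rcases e with e | e
  · left; rw [q, ← e]; group
  · right
    rw [q, show k * w * k⁻¹ = c * w * c⁻¹ * z by rw [e, mul_assoc _ z, h.es.sq, mul_one], JS.cjz lc.inv.kz]
    group

theorem fullZ (σ : Equiv.Perm (Fin 5)) : ∃ g ∈ 𝐂 (pZ E φ), ∀ i, cj g (V0 E φ (pB i)) = V0 E φ (pB (σ i)) := by
  obtain ⟨m, hm, e⟩ := pm5 σ
  obtain ⟨k, l⟩ := h.ex hm
  obtain ⟨c, lc, -, hc⟩ := h.adj l (h.norZ l σ e)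
  exact ⟨_, hc, fun i => by rw [h.cj_V0 (lc.inv.mul l), inv_one, one_mul, (pB_cj hm).2 (e i)]⟩

end JS

end Cfsg.Lib.JF
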