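import Cfsg.Agent.Lib.Block2.JPg

/-! Existence of the pentad data. -/

set_option autoImplicit false

namespace Cfsg.Lib.JF

open Subgroup Cfsg.Lib.Amalg Cfsg.Lib.Core Cfsg.Lib.Known2 Cfsg.Lib.Golay Spor MulAction
open scoped Pointwise

theorem aut8p {Z : Type*} [Group Z] (sq : ∀ x : Z, x * x = 1) {a b c : Z} (R : Subgroup (MulAut Z))
    (a1 : a ≠ 1) (b1 : b ≠ 1) (ba : b ≠ a) (nc : ¬ (c = 1 ∨ c = a ∨ c = b ∨ c = a * b))
    (all : ∀ x, (x = 1 ∨ x = a ∨ x = b ∨ x = a * b) ∨ x = c ∨ x = c * a ∨ x = c * b ∨ x = c * (a * b))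
    (T2 : ∀ x, x ≠ 1 → x ≠ a → ∃ r ∈ R, r a = a ∧ r b = x) (S : ∃ s ∈ R, s b = a)
    (T : ∃ t ∈ R, t a = a ∧ t b = b ∧ t c = c * a) : R = ⊤ := by
  have cm : ∀ x y : Z, x * y = y * x := fun x y => comm_of_sq (B := ⊤) (fun x _ => sq x) (mem_top x) (mem_top y)
  obtain ⟨s, hs, sa, sb⟩ : ∃ s ∈ R, s a = b ∧ s b = a := by
    obtain ⟨s, hs, e⟩ := S
    obtain ⟨r, hr, r1, r2⟩ := T2 (s a) (fun k => a1 (by simpa using k)) fun k => ba (s.injective (e.trans k.symm))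
    exact ⟨r⁻¹ * s, mul_mem (inv_mem hr) hs, by rw [MulAut.mul_apply, ← r2]; simp, by
      rw [MulAut.mul_apply, e]; conv_lhs => rw [← r1]
      simp⟩
  obtain ⟨t, ht, ta, tb, tc⟩ := T
  have out : ∀ β : MulAut Z, (β a = a ∧ β b = b ∨ β a = b ∧ β b = a) →
      β c = c ∨ β c = c * a ∨ β c = c * b ∨ β c = c * (a * b) := fun β hβ => (all (β c)).resolve_left fun k => nc (by
    rcases hβ with ⟨e1, e2⟩ | ⟨e1, e2⟩ <;> rcases k with k | k | k | k
    · exact Or.inl (β.injective (k.trans (map_one β).symm))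
    · exact Or.inr (Or.inl (β.injective (k.trans e1.symm)))
    · exact Or.inr (Or.inr (Or.inl (β.injective (k.trans e2.symm))))
    · exact Or.inr (Or.inr (Or.inr (β.injective (k.trans (by rw [map_mul, e1, e2])))))
    · exact Or.inl (β.injective (k.trans (map_one β).symm))
    · exact Or.inr (Or.inr (Or.inl (β.injective (k.trans e2.symm))))
    · exact Or.inr (Or.inl (β.injective (k.trans e1.symm)))
    · exact Or.inr (Or.inr (Or.inr (β.injective (k.trans (by rw [map_mul, e1, e2, cm a b]))))))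
  obtain ⟨u, hu, ua, ub, uc⟩ : ∃ u ∈ R, u a = a ∧ u b = b ∧ u c = c * b := by
    have i1 : s⁻¹ a = b := by rw [← sb]; simp
    have i2 : s⁻¹ b = a := by rw [← sa]; simp
    have k : t (s⁻¹ c) = s⁻¹ c * a := by
      rcases out s⁻¹ (Or.inr ⟨i1, i2⟩) with e | e | e | e <;> rw [e] <;> simp only [map_mul, ta, tb, tc, mul_assoc]
      · rw [cm a b]
      · rw [cm a (a * b), mul_assoc]
    refine ⟨s * t * s⁻¹, mul_mem (mul_mem hs ht) (inv_mem hs), ?_, ?_, ?_⟩ <;> simp only [MulAut.mul_apply]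
    · rw [i1, tb, sb]
    · rw [i2, ta, sa]
    · rw [k, map_mul, sa]; simp
  have fin : ∀ β : MulAut Z, β a = a → β b = b → β ∈ R := fun β e1 e2 => by
    have ext : ∀ γ : MulAut Z, γ a = a → γ b = b → γ c = β c → β = γ := fun γ f1 f2 f3 => MulEquiv.ext fun x => by
      rcases all x with (rfl | rfl | rfl | rfl) | rfl | rfl | rfl | rfl <;> simp only [map_mul, map_one, e1, e2, f1, f2, f3]
    rcases out β (Or.inl ⟨e1, e2⟩) with e | e | e | e
    · rw [ext 1 rfl rfl e.symm]; exact one_mem _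
    · rw [ext t ta tb (tc.trans e.symm)]; exact ht
    · rw [ext u ua ub (uc.trans e.symm)]; exact hu
    · rw [ext (t * u) (by rw [MulAut.mul_apply, ua, ta]) (by rw [MulAut.mul_apply, ub, tb])
        (by rw [MulAut.mul_apply, uc, map_mul, tc, tb, e, mul_assoc])]
      exact mul_mem ht hu
  have fin2 : ∀ β : MulAut Z, β a = a → β ∈ R := fun β e => by
    obtain ⟨r, hr, r1, r2⟩ := T2 (β b) (fun k => b1 (by simpa using k)) fun k => ba (β.injective (k.trans e.symm))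
    exact (mul_mem_cancel_left (inv_mem hr)).1 (fin (r⁻¹ * β) (by
      rw [MulAut.mul_apply, e]; conv_lhs => rw [← r1]
      simp) (by rw [MulAut.mul_apply, ← r2]; simp))
  refine eq_top_iff.2 fun β _ => ?_
  by_cases e : β a = a
  · exact fin2 β e
  obtain ⟨r, hr, -, r2⟩ := T2 (β a) (fun k => a1 (by simpa using k)) e
  exact (mul_mem_cancel_left (inv_mem (mul_mem hr hs))).1 (fin2 ((r * s)⁻¹ * β) (by
    rw [MulAut.mul_apply, ← r2, ← sa, show r (s a) = (r * s) a from rfl, ← MulAut.mul_apply, inv_mul_cancel]; rfl))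

variable {G : Type*} [Group G] [Finite G] {E : Subgroup G} {z p : G} {φ : KK z p →* Equiv.Perm GolayPt}

namespace JS
variable (h : JS E z p M22 φ)
include h

omit [Finite G] in
theorem Wcj (i : Fin 5) : ∃ k, L φ k (gc.dec (pC i)) ∧ V0 E φ (pB i) = cj k (V0 E φ (gc.gen gA)) := by
  obtain ⟨k, l⟩ := h.ex (inC i).1.2
  exact ⟨k, l, (h.cj_V0 l).symm⟩

theorem sqW (i : Fin 5) : ∀ v ∈ V0 E φ (pB i), v * v = 1 := by
  obtain ⟨k, -, e⟩ := h.Wcj i
  rw [e]; exact sq_cj k (h.sqV mf)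

theorem cardW (i : Fin 5) : Nat.card (V0 E φ (pB i)) = 2 ^ 11 := by
  obtain ⟨k, -, e⟩ := h.Wcj i
  rw [e, card_cj, h.cardV mf]

theorem formW {W : Subgroup G} (zW : z ∈ W) (e : ∀ v ∈ W, v * v = 1) (c : Nat.card W = 2 ^ 11) :
    ∃ m ∈ M22, W = V0 E φ (cj m (gc.gen gA)) := by
  obtain ⟨k, m, l, e⟩ := h.allK mf zW e c.ge
  exact ⟨m⁻¹, inv_mem (h.mem l), by rw [← h.cj_V0 l.inv, ← e, cj_inv_cj]⟩

theorem permZ {g : G} (hg : g ∈ 𝐍 (pZ E φ)) (i : Fin 5) : ∃ j, cj g (V0 E φ (pB i)) = V0 E φ (pB j) := by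
  have le : pZ E φ ≤ cj g (V0 E φ (pB i)) := by
    rw [← cj_of_mem_normalizer hg]; exact cj_mono g fun x hx => mem_sup_left (h.memZ.1 hx i)
  obtain ⟨m, hm, e⟩ := h.formW (le h.zZ) (sq_cj g (h.sqW i)) (by rw [card_cj, h.cardW])
  obtain ⟨w, hw, n1, nz⟩ := h.exw
  obtain ⟨j, k⟩ := h.three5 hm hw n1 nz (h.VE' hm (e ▸ le hw) (h.ZE hw))
  exact ⟨j, by rw [e, (pB_eq hm).2 k]⟩

theorem infW (i j : Fin 5) (ne : i ≠ j) : V0 E φ (pB i) ⊓ V0 E φ (pB j) = pZ E φ := by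
  obtain ⟨σ, rfl, rfl⟩ := (by decide +kernel : ∀ i j : Fin 5, i ≠ j → ∃ σ : Equiv.Perm (Fin 5), σ 0 = i ∧ σ 1 = j) i j ne
  obtain ⟨g, hg, e⟩ := h.fullZ σ
  rw [← e, ← e, ← cj_inf, pB0, cj_of_mem_centralizer hg]

theorem neW : V0 E φ (pB 1) ≠ V0 E φ (gc.gen gA) := fun e => by
  have := h.cardZ
  rw [pZ, e, inf_idem, h.cardV mf] at this
  omega

theorem pureZ (cl : ∀ t ∈ DD (V0 E φ (gc.gen gA)) z, centralizer {t} ≤ 𝐍 (V0 E φ (gc.gen gA))) {x : G}
    (hx : x ∈ pZ E φ) : x ∉ DD (V0 E φ (gc.gen gA)) z := fun d => by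
  obtain ⟨k, -, e⟩ := h.Wcj 1
  exact h.neW (e.trans (h.uq mf k (e ▸ fun v hv => cl x d (mem_cent_single.2 (comm_of_sq (h.sqW 1) hv hx.2)))))

theorem ENZ {e : G} (he : e ∈ E) : e ∈ 𝐍 (pZ E φ) := mem_normalizer_of_cj_le (cj_le_iff'.2 fun x hx => by
  rcases h.es.conj_eq he (h.ZE hx) with r | r <;> rw [r]
  exacts [hx, mul_mem hx h.zZ])

theorem ENW {e : G} (he : e ∈ E) (i : Fin 5) : e ∈ 𝐍 (V0 E φ (pB i)) := by
  obtain ⟨k, l, r⟩ := h.Wcj i
  rw [r, ← cj_normalizer]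
  exact mem_cj.2 (h.EN mf (by simpa using h.nm l.inv he))

omit [Finite G] in
theorem npw {w c : G} (hw : w ∈ E) (n1 : w ≠ 1) (nz : w ≠ z) (hc : c = p ∨ c = p⁻¹ ∨ c = p * p)
    (e : c * w = w * c) : False := by
  have e : Commute c w := e
  have : Commute p w := by
    rcases hc with rfl | rfl | rfl
    · exact e
    · simpa using e.inv_left
    · have := e.mul_left e
      rwa [show p * p * (p * p) = p ^ 3 * p by simp [pow_succ, mul_assoc], h.p3, one_mul] at this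
  exact (h.fp w hw this).elim n1 nz

theorem autZ (cl : ∀ t ∈ DD (V0 E φ (gc.gen gA)) z, centralizer {t} ≤ 𝐍 (V0 E φ (gc.gen gA))) (α : MulAut (pZ E φ)) :
    ∃ g ∈ 𝐍 (pZ E φ), ∀ x : pZ E φ, g * x * g⁻¹ = α x := by
  obtain ⟨w, hw, n1, nz⟩ := h.exw
  have wE := h.ZE hw
  have hw' := (mem_normalizer_iff.1 h.pZN w).1 hw
  have sq : ∀ x ∈ pZ E φ, x * x = 1 := fun x hx => h.sqV mf x hx.1
  have nc : ¬ (p * w * p⁻¹ = 1 ∨ p * w * p⁻¹ = z ∨ p * w * p⁻¹ = w ∨ p * w * p⁻¹ = z * w) := by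
    rintro (e | e | e | e)
    · exact (JS.nt h.Lp n1 nz).1 e
    · exact (JS.nt h.Lp n1 nz).2 e
    · exact (h.fpz wE (Or.inl e)).elim n1 nz
    · exact (h.fpz wE (Or.inr (by rw [e, h.es.cen w wE]))).elim n1 nz
  have := aut8p (Z := pZ E φ) (fun x => Subtype.ext (sq x x.2)) (a := ⟨z, h.zZ⟩) (b := ⟨w, hw⟩) (c := ⟨_, hw'⟩)
    (pZ E φ).normalizerMonoidHom.range (fun e => h.es.ne (congrArg Subtype.val e)) (fun e => n1 (congrArg Subtype.val e))
    (fun e => nz (congrArg Subtype.val e)) (by simpa only [Subtype.ext_iff, coe_mul, coe_one] using nc) (fun x => ?_) (fun x x1 xz => ?_) ?_ ?_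
  · obtain ⟨g, e⟩ := this.ge (mem_top α)
    exact ⟨g, g.2, fun x => by rw [← e]; rfl⟩
  · simp only [Subtype.ext_iff, coe_mul, coe_one]
    by_cases x1 : (x : G) = 1
    · tauto
    by_cases xz : (x : G) = z
    · tauto
    have zz : ∀ {u v : G}, u = v * z → v = u * z := fun e => by rw [e, mul_assoc, h.es.sq, mul_one]
    have cw := comm_of_sq sq hw hw'
    have t : p * p * w * (p * p)⁻¹ = p * w * p⁻¹ * w ∨ p * p * w * (p * p)⁻¹ = p * w * p⁻¹ * (z * w) := by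
      have q : p * p * w * (p * p)⁻¹ = p * w * p⁻¹ * w * (w * (p * w * p⁻¹) * (p * (p * w * p⁻¹) * p⁻¹)) := by
        calc _ = (p * w * p⁻¹ * (p * w * p⁻¹)) * (p * (p * w * p⁻¹) * p⁻¹) := by rw [sq _ hw']; group
          _ = p * w * p⁻¹ * (w * w) * (p * w * p⁻¹) * (p * (p * w * p⁻¹) * p⁻¹) := by rw [sq _ hw]; group
          _ = _ := by group
      rcases h.tri wE with r | r <;> rw [r] at q
      · exact Or.inl (q.trans (mul_one _))
      · exact Or.inr (q.trans (by rw [mul_assoc, h.es.cen w wE]))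
    obtain ⟨c, -, -, rfl | rfl | rfl, e⟩ := h.orbZ hw n1 nz x.2 x1 xz
    · simp only [one_mul, inv_one, mul_one] at e
      rcases e with e | e
      · exact Or.inl (Or.inr (Or.inr (Or.inl e.symm)))
      · exact Or.inl (Or.inr (Or.inr (Or.inr ((zz e).trans (h.es.cen w wE)))))
    · rcases e with e | e
      · exact Or.inr (Or.inl e.symm)
      · exact Or.inr (Or.inr (Or.inl (zz e)))
    · rcases e with e | e <;> rcases t with t | t <;> rw [t] at e
      · exact Or.inr (Or.inr (Or.inr (Or.inl e.symm)))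
      · exact Or.inr (Or.inr (Or.inr (Or.inr e.symm)))
      · exact Or.inr (Or.inr (Or.inr (Or.inr ((zz e).trans (by rw [mul_assoc, h.es.cen w wE])))))
      · exact Or.inr (Or.inr (Or.inr (Or.inl ((zz e).trans (by
          rw [← h.es.cen w wE, mul_assoc (p * w * p⁻¹), mul_assoc w, h.es.sq, mul_one])))))
  · have x1 : (x : G) ≠ 1 := fun e => x1 (Subtype.ext e)
    have xz : (x : G) ≠ z := fun e => xz (Subtype.ext e)
    obtain ⟨c, lc, -, -, e⟩ := h.orbZ hw n1 nz x.2 x1 xz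
    have cN := h.norZ lc 1 fun _ => one_smul _ _
    rcases e with e | e
    · exact ⟨_, ⟨⟨c, cN⟩, rfl⟩, Subtype.ext (conj_eq_of_comm lc.kz), Subtype.ext e⟩
    · obtain ⟨y, hy, n⟩ := h.es.exists_anti (h.ZE x.2) x1 xz
      refine ⟨_, ⟨⟨y * c, mul_mem (h.ENZ hy) cN⟩, rfl⟩, Subtype.ext (conj_eq_of_comm ?_), Subtype.ext ?_⟩
      · change y * c * z = z * (y * c)
        rw [mul_assoc, lc.kz, ← mul_assoc, h.es.cen y hy, mul_assoc]
      · change y * c * w * (y * c)⁻¹ = x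
        rw [show y * c * w * (y * c)⁻¹ = y * (c * w * c⁻¹) * y⁻¹ by group, e, JS.cjz (h.es.cen y hy),
          h.es.conj_anti hy (h.ZE x.2) (Ne.symm n), mul_assoc, h.es.sq, mul_one]
  · have cw : IsConj z w := by
      by_contra n; exact h.pureZ cl hw ⟨hw.1, n1, n⟩
    obtain ⟨g, hg, e⟩ := h.fus mf hw.1 h.zV cw.symm
    obtain ⟨m, hm, r⟩ := h.formW (W := cj g (V0 E φ (pB 1))) (by have := conj_mem_cj g (show w ∈ V0 E φ (pB 1) from hw.2); rwa [e] at this) (sq_cj g (h.sqW 1))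
      (by rw [card_cj, h.cardW])
    have ne : m • om 0x82402f ≠ om 0x82402f := fun k => h.neW (by
      rw [(pB_eq hm (i := 0)).2 k, pB0] at r
      exact cj_inj.1 (r.trans (cj_of_mem_normalizer hg).symm))
    have a1 := (mem_normalizer_iff.1 hg z).1 h.zV
    have a2 : g * z * g⁻¹ ∈ V0 E φ (cj m (gc.gen gA)) := r ▸ conj_mem_cj g h.zV
    have aE := h.VV hm ne a1 a2
    obtain ⟨k, n, l, e1, e2⟩ := h.pair hm ne (h.VE mf a1 aE) (h.VE' hm a2 aE) (fun q => h.es.ne (by simpa using q))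
      fun q => nz (by simpa using e.trans q.symm)
    refine ⟨_, ⟨⟨k * g, cj_eq_self_iff.1 ?_⟩, rfl⟩, Subtype.ext ?_⟩
    · rw [cj_mul, cj_inf, cj_of_mem_normalizer hg, r, cj_inf, h.cj_V0 l, h.cj_V0 l, e1, e2]
    · change k * g * w * (k * g)⁻¹ = z
      rw [show k * g * w * (k * g)⁻¹ = k * (g * w * g⁻¹) * k⁻¹ by group, e, conj_eq_of_comm l.kz]
  · obtain ⟨W, W1, -, W3⟩ := dbl (zpowers_le.2 h.zZ) sq hw fun e => (h.es.mem_zp.1 e).elim n1 nz
    obtain ⟨y, hy, c, n⟩ := h.es.exists_sep (W1.trans h.ZE) ((W3 z).2 (Or.inl (mem_zpowers z))) (h.ZE hw') fun k => nc (by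
      have ww : p * w * p⁻¹ = p * w * p⁻¹ * w * w := by rw [mul_assoc (p * w * p⁻¹) w w, sq w hw, mul_one]
      rcases (W3 _).1 k with k | k <;> rcases h.es.mem_zp.1 k with k | k
      · exact Or.inl k
      · exact Or.inr (Or.inl k)
      · exact Or.inr (Or.inr (Or.inl (by rw [ww, k, one_mul])))
      · exact Or.inr (Or.inr (Or.inr (by rw [ww, k]))))
    exact ⟨_, ⟨⟨y, h.ENZ hy⟩, rfl⟩, Subtype.ext (conj_eq_of_comm (h.es.cen y hy)),
      Subtype.ext (conj_eq_of_comm (c w ((W3 w).2 (Or.inr (by rw [sq w hw]; exact one_mem _))))),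
      Subtype.ext (h.es.conj_anti hy (h.ZE hw') n)⟩

end JS

end Cfsg.Lib.JF
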