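import Cfsg.Agent.Lib.Block2.JPh

/-! The kernel of the pentad group. -/

set_option autoImplicit false

namespace Cfsg.Lib.JF

open Subgroup Cfsg.Lib.Amalg Cfsg.Lib.Core Cfsg.Lib.Known2 Cfsg.Lib.Golay Spor MulAction
open scoped Pointwise

variable {G : Type*} [Group G] [Finite G] {E : Subgroup G} {z p : G} {φ : KK z p →* Equiv.Perm GolayPt}

namespace JS
variable (h : JS E z p M22 φ)
include h

theorem memPL2 {g : G} (hc : g ∈ 𝐂 (pZ E φ)) (hn : ∀ i, g ∈ 𝐍 (V0 E φ (pB i))) :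
    ∃ e ∈ E ⊓ 𝐂 (pZ E φ), ∃ a ∈ hat φ (gc.gen gB : Set _), g = e * a := by
  obtain ⟨w, hw, n1, nz⟩ := h.exw
  have wE := h.ZE hw
  have hw' := (mem_normalizer_iff.1 h.pZN w).1 hw
  obtain ⟨e, he, l, rfl, lz, lp⟩ := h.dec g (hc z h.zZ).symm
  have act : ∀ x ∈ pZ E φ, l * x * l⁻¹ = x ∨ l * x * l⁻¹ = x * z := fun x hx => by
    rw [show l * x * l⁻¹ = e⁻¹ * (e * l * x * (e * l)⁻¹) * e⁻¹⁻¹ by group, conj_eq_of_comm (hc x hx).symm]
    exact h.es.conj_eq (inv_mem he) (h.ZE hx)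
  rcases lp with lp | lp
  swap
  · exfalso
    have q : p * (l * (p * w * p⁻¹) * l⁻¹) * p⁻¹ = l * w * l⁻¹ := by
      calc _ = p * (l * p * l⁻¹) * (l * w * l⁻¹) * (p * (l * p * l⁻¹))⁻¹ := by group
        _ = _ := by rw [lp]; group
    refine h.npw wE n1 nz (Or.inr (Or.inr rfl)) (h.fix (h.Lp.mul h.Lp) wE ?_)
    rw [show p * p * w * (p * p)⁻¹ = p * (p * w * p⁻¹) * p⁻¹ by group]
    rcases act w hw with a | a <;> rcases act _ hw' with b | b <;> rw [a, b] at q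
    · exact Or.inl q
    · rw [JS.cjz h.pz] at q
      exact Or.inr (by rw [← mul_left_inj z, q, mul_assoc, h.es.sq, mul_one])
    · exact Or.inr q
    · rw [JS.cjz h.pz] at q
      exact Or.inl (mul_right_cancel q)
  obtain ⟨m, ll⟩ := h.tot (mem_KK.2 ⟨lz, comm_of_conj_eq lp⟩)
  have lC := h.cenZ hw n1 nz ll (h.fix ll wE (act w hw))
  have hm : m ∈ gc.gen gB := (pm6 (h.mem ll)).1 fun i => (pB_cj (h.mem ll)).1 (by
    have lN := (Subgroup.mul_mem_cancel_left _ (h.ENW he i)).1 (hn i)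
    obtain ⟨k, lk, r⟩ := h.Wcj i
    rw [r, ← cj_normalizer] at lN
    exact cj_eq_self_iff.2 (by
      rw [pB, ← cj_normalizer]; exact mem_cj.2 ((h.KN mf ((lk.inv.mul ll).mul lk)).1 (mem_cj.1 lN))))
  have mm := mf.sq2 m hm
  refine ⟨e, ⟨he, (Subgroup.mul_mem_cancel_right _ lC).1 hc⟩, l, ⟨⟨m, hm, ll⟩, ?_⟩, rfl⟩
  have l6 := h.six mf ll mm
  have cw : Commute l w := (lC w hw).symm
  have cw := cw.mul_left cw
  obtain ⟨d, hd, q⟩ := h.Lker ((ll.mul ll).of_eq mm)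
  have dw : d * w = w * d := by
    rcases q with q | q
    · exact q ▸ cw
    · have := cw.mul_left (show Commute z w from (h.es.cen w wE).symm)
      rwa [q, mul_assoc, h.es.sq, mul_one] at this
  rcases h.zp hd with rfl | r | r
  · rcases q with q | q
    · exact q
    · rw [show l ^ 6 = l * l * (l * l) * (l * l) by simp [pow_succ, mul_assoc], q, one_mul, h.es.sq, one_mul] at l6
      exact absurd l6 h.es.ne
  · exact (h.npw wE n1 nz (Or.inl r) dw).elim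
  · exact (h.npw wE n1 nz (Or.inr (Or.inl r)) dw).elim

theorem g3Z : ∃ g ∈ 𝐍 (V0 E φ (gc.gen gA)), g ∈ 𝐂 (pZ E φ) ∧ 3 ∣ orderOf g := by
  obtain ⟨σ, s0, s⟩ := (by decide +kernel : ∃ σ : Equiv.Perm (Fin 5), σ 0 = 0 ∧ σ ^ 3 = 1 ∧ σ 1 ≠ 1 ∧ σ (σ 1) ≠ 1)
  obtain ⟨g, hg, e⟩ := h.fullZ σ
  refine ⟨g, cj_eq_self_iff.1 (by have := e 0; rwa [s0, pB0] at this), hg, ?_⟩
  have k : ∀ n : ℕ, cj (g ^ n) (V0 E φ (pB 1)) = V0 E φ (pB ((σ ^ n) 1)) := fun n => by
    induction n with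
    | zero => rw [pow_zero, cj_one]; rfl
    | succ n ih => rw [pow_succ', cj_mul, ih, e, pow_succ']; rfl
  have := k (orderOf g)
  rw [pow_orderOf_eq_one, cj_one] at this
  have q : (σ ^ orderOf g) 1 = 1 := by
    by_contra n
    have c := h.cardZ
    rw [← h.infW _ _ n, ← this, inf_idem, h.cardW] at c
    omega
  rw [pow_eq_pow_mod _ s.1] at q
  by_contra n
  have : orderOf g % 3 = 1 ∨ orderOf g % 3 = 2 := by omega
  rcases this with r | r <;> rw [r] at q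
  · exact s.2.1 (by simpa using q)
  · exact s.2.2 (by simpa [pow_two] using q)

end JS

end Cfsg.Lib.JF
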