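import Cfsg.Agent.Lib.Block2.JJ2
import Cfsg.Agent.Lib.Linear.SmallIso

/-! A subgroup `L3(2)` in the normaliser of a pure `2^3` of `V`. -/

set_option autoImplicit false
set_option maxRecDepth 100000

namespace Cfsg.Lib.JF

open Subgroup Cfsg.Lib.Amalg Cfsg.Lib.Golay Spor MulAction
open scoped Pointwise symmDiff

def pkG : List ℕ := [0xb04060f0e0113140a030d170816101207111509050c0200, 0xb04060d0e0811141007160c000f09171505030a13120201]

noncomputable def pkT (v : Fin 3 → ZMod 2) : ℕ := getL [0x17161514131211100f0e0d0c0b0a09080706050403020100,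
  0x1710130915120e160a11040c0b0f14080607030d05020100, 0x170911100e12151404130a0c0b0d16080503070f06020100,
  0x17140e16111213090d150f0c0b0410080305060a07020100, 0x170d070f061205041403160c0b090a08151311100e020100,
  0x1704060a0712030d0905100c0b140f0813150e1611020100, 0x170a05040312070f1006090c0b160d08110e151413020100,
  0x170f030d0512060a1607140c0b1004080e11130915020100] 0 ((v 0).val + 2 * (v 1).val + 4 * (v 2).val)

theorem pkIn : ∀ g ∈ pkG, gc.InH (M24 ⊓ centralizer {gc.dec z3B}) g :=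
  inH_inf_cent (inH_of_allL (by decide +kernel)) inH_z3B.1 (by decide +kernel)

theorem pkIso : Nonempty (gc.gen pkG ≃* Matrix.SpecialLinearGroup (Fin 3) (ZMod 2)) := by
  have hL : Nat.card (Matrix.SpecialLinearGroup (Fin 3) (ZMod 2)) = 168 := Linear.card_SL_three_two
  obtain ⟨φ, h1, -⟩ := Coding.label_hom gc.conjCode (conjN 24) (gs := pkG) rfl (fun g hg => hg.1.impl_conj)
    (Coding.inH_gen fun g hg => (pkIn g hg).1)
    (fun (l : Matrix.SpecialLinearGroup (Fin 3) (ZMod 2)) (v : Fin 3 → ZMod 2) => l.val.mulVec v)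
    (fun v => Matrix.one_mulVec v) (fun a b v => (Matrix.mulVec_mulVec v a.val b.val).symm)
    pkT (fun v => Coding.valid_of_isPerm (by revert v; decide +kernel))
    (fun l h => Subtype.ext (Matrix.ext_iff_mulVec.mpr fun v => by
      have k : ∀ v w, pkT v = pkT w → v = w := by decide +kernel
      exact (k _ _ (h v)).trans (Matrix.one_mulVec v).symm))
    [⟨!![0, 0, 1; 1, 0, 0; 1, 1, 0], by decide⟩, ⟨!![0, 1, 1; 1, 1, 0; 1, 1, 1], by decide⟩] (by decide +kernel)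
    [(0x1710130915120e160a11040c0b0f14080607030d05020100, 7, [[0, 0, 1, 0], [0, 0, 1, 1]]),
      (0x170911100e12151404130a0c0b0d16080503070f06020100, 6, [[0, 0], [0, 1, 0, 0, 1]]),
      (0x170d070f061205041403160c0b090a08151311100e020100, 4, [])]
    (by decide +kernel) (by decide +kernel) hL.le
  exact nonempty_equiv_of_surj φ h1 (by
    rw [hL, Coding.card_gen (fun g hg => (pkIn g hg).1) (M := 251) (d := 8) (a := 4) (n := 168) (by decide +kernel)])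

noncomputable def pkF (τ : ℕ) (A : List ℕ) : Bool :=
  band (allN 4096 fun j => forceN (Nat.mul 4096 j) fun m => bimp (band (Nat.beq (Nat.mod (pop24 m) 2) 0)
    (isCw (Nat.xor m (imgT τ m)))) (anyL A fun r => isCw (Nat.xor m r)))
    (allL A fun r => Nat.beq (Nat.mod (pop24 r) 2) 0)

def pkA : List ℕ := [0x0, 0x42, 0x82, 0xc0, 0x4002, 0x4040, 0x4080, 0x40c2, 0x80002, 0x80040, 0x80080, 0x800c2,
  0x84000, 0x84042, 0x84082, 0x840c0, 0x200002, 0x200040, 0x200080, 0x2000c2, 0x204000, 0x204042, 0x204082, 0x2040c0,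
  0x280000, 0x280042, 0x280082, 0x2800c0, 0x284002, 0x284040, 0x284080, 0x2840c2]

def pkB : List ℕ := [0x0, 0x2a4000, 0x50a000, 0x7ae000, 0x8ab000, 0xa0f000, 0xda1000, 0xf05000]

theorem pkFA : pkF z3A pkA = true := by decide +kernel
theorem pkFB : pkF z3B pkB = true := by decide +kernel

def pkBad (a : ℕ) : Prop := a = 0 ∨ pop24 a = 2

instance (a : ℕ) : Decidable (pkBad a) := by unfold pkBad; infer_instance

theorem pkNo : ∀ a ∈ pkA, pkBad a ∨ ∀ b ∈ pkA, pkBad b ∨ pkBad (a ^^^ b) ∨ ∀ c ∈ pkA, pkBad c ∨ pkBad (a ^^^ c) ∨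
    pkBad (b ^^^ c) ∨ pkBad (a ^^^ b ^^^ c) := by decide +kernel

variable {G : Type*} [Group G] {V : Subgroup G} {D : Set G} {ε : Finset GolayPt → G}
  {θ : 𝐍 V →* Equiv.Perm GolayPt}

theorem TM.pkFix (h : TM V D ε θ) {τ : ℕ} {A : List ℕ} (hτ : gc.Valid τ) (H : pkF τ A = true) (u : 𝐍 V)
    (hu : θ u = gc.dec τ) {v : G} (hv : v ∈ V) (c : u * v = v * u) : ∃ r ∈ A, v = ε (om r) := by
  obtain ⟨H1, H2⟩ : _ ∧ _ := by simpa only [pkF, band_iff] using H
  have ev : ∀ r ∈ A, Even (om r).card := fun r hr => by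
    rw [card_om, Nat.even_iff]; exact beq_iff.1 (allL_iff.1 H2 r hr)
  obtain ⟨S, hS, rfl⟩ := (h.mem v).1 hv
  obtain ⟨j, hj, k⟩ := exists_rep S
  have em : Even (om (4096 * j)).card := by
    have a := card_cw k
    have b := card_symmDiff_add (om (4096 * j)) S
    rw [Nat.even_iff] at *
    omega
  rw [← h.eq_of em hS k] at c ⊢
  have sm : ∀ (σ : Equiv.Perm GolayPt) (T : Finset GolayPt), Even T.card → Even (σ • T).card := fun σ T e => by
    rwa [Finset.card_smul_finset]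
  have f1 : isCw (Nat.xor (4096 * j) (imgT τ (4096 * j))) = true := by
    refine (om_mem_cw_iff (Nat.xor_lt_two_pow (by omega) (hτ.imgT_lt _))).1 ?_
    change gc.ofMask (_ ^^^ _) ∈ _
    rw [gc.ofMask_xor]
    change om _ ∆ om _ ∈ _
    rw [← hτ.smul_om, ← hu]
    exact h.cw_of em (sm _ _ em) (by rw [← h.act u _ em, c, mul_inv_cancel_right])
  obtain ⟨r, hr, k⟩ := anyL_iff.1 (bimp_iff.1 (allN_iff.1 H1 j hj) (band_iff.2 ⟨beq_iff.2 (by
    rw [card_om, Nat.even_iff] at em; exact em), f1⟩))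
  exact ⟨r, hr, h.eq_of em (ev r hr) (by rw [← gc.ofMask_xor]; exact om_mem_cw k)⟩

theorem TM.pk3A [Finite G] (T : TM V D ε θ) {Z : Subgroup G} (hZ : Z ≤ V) (cZ : Nat.card Z = 8)
    (pure : ∀ x ∈ Z, x ∉ D) (u : 𝐍 V) (hu : θ u = gc.dec z3A) (uc : ∀ x ∈ Z, u * x = x * u) : False := by
  classical
  have ex : ∀ s : Finset G, s.card < 8 → ∃ x ∈ Z, x ∉ s := fun s hs => by
    by_contra n
    push Not at n
    have := Set.ncard_le_ncard (s := (Z : Set G)) (t := s) n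
    rw [Set.ncard_coe_finset, ← Nat.card_coe_set_eq] at this
    change Nat.card Z ≤ _ at this
    omega
  have f := fun x hx => T.pkFix inH_z3A.1 pkFA u hu (hZ hx) (uc x hx)
  have bad : ∀ a, ε (om a) ∈ Z → ε (om a) ≠ 1 → ¬ pkBad a := fun a ha n b => by
    rcases b with rfl | b
    · exact n ((T.one _ (by rw [card_om]; decide +kernel)).2 (om_mem_cw (by decide +kernel)))
    · exact pure _ ha ((T.duad _).2 ⟨_, by rw [card_om, b], rfl⟩)
  have xo : ∀ a b, ε (om (a ^^^ b)) = ε (om a) * ε (om b) := fun a b => by rw [← T.mul, ← gc.ofMask_xor]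
  have ne : ∀ x ∈ Z, ∀ y, y ≠ x → x * y ≠ 1 := fun x hx y n e =>
    n (mul_left_cancel (e.trans (T.sq (hZ hx)).symm))
  obtain ⟨x, hx, nx⟩ := ex {1} (by simp)
  obtain ⟨y, hy, ny⟩ := ex {1, x} (Finset.card_le_two.trans_lt (by norm_num))
  obtain ⟨w, hw, nw⟩ := ex {1, x, y, x * y} (Finset.card_le_four.trans_lt (by norm_num))
  simp only [Finset.mem_insert, Finset.mem_singleton, not_or] at nx ny nw
  obtain ⟨a, ha, rfl⟩ := f x hx
  obtain ⟨b, hb, rfl⟩ := f y hy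
  obtain ⟨c, hc, rfl⟩ := f w hw
  rcases pkNo a ha with k | k
  · exact bad a hx nx k
  rcases k b hb with k | k | k
  · exact bad b hy ny.1 k
  · exact bad _ (xo a b ▸ mul_mem hx hy) (xo a b ▸ ne _ hx _ ny.2) k
  rcases k c hc with k | k | k | k
  · exact bad c hw nw.1 k
  · exact bad _ (xo a c ▸ mul_mem hx hw) (xo a c ▸ ne _ hx _ nw.2.1) k
  · exact bad _ (xo b c ▸ mul_mem hy hw) (xo b c ▸ ne _ hy _ nw.2.2.1) k
  · refine bad _ ?_ ?_ k <;> rw [xo, xo]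
    exacts [mul_mem (mul_mem hx hy) hw, ne _ (mul_mem hx hy) _ nw.2.2.2]

theorem TM.pk3B [Finite G] (T : TM V D ε θ) {K : Subgroup G} (k1 : K ≤ 𝐍 V) (k2 : K ⊓ V = ⊥) (k3 : K ⊔ V = 𝐍 V)
    {Z : Subgroup G} (hZ : Z ≤ V) (cZ : Nat.card Z = 8) (u : 𝐍 V) (hu : θ u = gc.dec z3B)
    (uc : ∀ x ∈ Z, u * x = x * u) :
    ∃ K₂ ≤ 𝐍 Z, Nonempty (K₂ ≃* Matrix.SpecialLinearGroup (Fin 3) (ZMod 2)) := by
  classical
  have e : Z = V ⊓ centralizer {(u : G)} := by
    refine eq_of_le_of_card_ge (fun x hx => ⟨hZ hx, mem_centralizer_singleton_iff.2 (uc x hx).symm⟩) ?_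
    have := Set.ncard_le_ncard (s := ((V ⊓ centralizer {(u : G)} : Subgroup G) : Set G))
      (t := (pkB.toFinset.image fun r => ε (om r) : Finset G)) fun x hx => by
        obtain ⟨r, hr, rfl⟩ := T.pkFix inH_z3B.1 pkFB u hu hx.1 (mem_centralizer_singleton_iff.1 hx.2).symm
        exact Finset.mem_coe.2 (Finset.mem_image_of_mem _ (List.mem_toFinset.2 hr))
    rw [Set.ncard_coe_finset, ← Nat.card_coe_set_eq] at this
    exact cZ ▸ this.trans (Finset.card_image_le.trans (List.toFinset_card_le _))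
  let X : Subgroup (𝐍 V) := K.subgroupOf (𝐍 V) ⊓ (gc.gen pkG).comap θ
  let ψ : X →* gc.gen pkG := (θ.comp X.subtype).codRestrict _ fun x => x.2.2
  have hψ : Function.Bijective ψ := by
    refine ⟨(injective_iff_map_eq_one ψ).2 fun x hx =>
      Subtype.ext (Subtype.ext (T.eq_one k2 x.2.1 (congrArg Subtype.val hx))), fun y => ?_⟩
    obtain ⟨g, hg⟩ := T.rng.ge (Coding.gen_le pkIn y.2).1
    obtain ⟨k, hk, ek⟩ := T.lift k1 k3 g
    exact ⟨⟨k, hk, mem_comap.2 (by rw [ek, hg]; exact y.2)⟩, Subtype.ext (ek.trans hg)⟩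
  obtain ⟨i⟩ := pkIso
  refine ⟨X.map (𝐍 V).subtype, ?_,
    ⟨(equivMapOfInjective X _ (𝐍 V).subtype_injective).symm.trans ((MulEquiv.ofBijective ψ hψ).trans i)⟩⟩
  rintro _ ⟨k, hk, rfl⟩
  refine mem_normalizer_of_cj_le (cj_le_iff'.2 fun x hx => ?_)
  obtain ⟨S, hS, rfl⟩ := (T.mem x).1 (hZ hx)
  have c : θ k * θ u = θ u * θ k := hu ▸ mem_centralizer_singleton_iff.1 (Coding.gen_le pkIn hk.2).2
  have s1 : Even (θ k • S).card := by rwa [Finset.card_smul_finset]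
  have s2 : Even (θ u • S).card := by rwa [Finset.card_smul_finset]
  have a : ε (θ u • S) = ε S := by rw [← T.act u S hS, uc _ hx, mul_inv_cancel_right]
  rw [e, coe_subtype, T.act k S hS]
  refine ⟨T.emem s1, mem_centralizer_singleton_iff.2 (mul_inv_eq_iff_eq_mul.1 ?_).symm⟩
  rw [T.act u _ s1, ← mul_smul, ← c, mul_smul, ← T.act k _ s2, a, T.act k S hS]

theorem TM.l32 [Finite G] (T : TM V D ε θ) {K : Subgroup G} (k1 : K ≤ 𝐍 V) (k2 : K ⊓ V = ⊥) (k3 : K ⊔ V = 𝐍 V)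
    {Z : Subgroup G} (hZ : Z ≤ V) (cZ : Nat.card Z = 8) (pure : ∀ x ∈ Z, x ∉ D) {g : G} (hg : g ∈ 𝐍 V)
    (gc : g ∈ 𝐂 Z) (h3 : 3 ∣ orderOf g) :
    ∃ K₂ ≤ 𝐍 Z, Nonempty (K₂ ≃* Matrix.SpecialLinearGroup (Fin 3) (ZMod 2)) := by
  have : Fact (Nat.Prime 3) := ⟨Nat.prime_three⟩
  have o3 := orderOf_pow_orderOf_div (orderOf_pos g).ne' h3
  have hs := pow_mem hg (orderOf g / 3)
  have sc := pow_mem gc (orderOf g / 3)
  generalize g ^ (orderOf g / 3) = s at o3 hs sc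
  have o : orderOf (θ ⟨s, hs⟩) = 3 := orderOf_eq_prime
    (by rw [← map_pow, show (⟨s, hs⟩ : 𝐍 V) ^ 3 = 1 from Subtype.ext (o3 ▸ pow_orderOf_eq_one s), map_one]) fun e => by
      have := orderOf_dvd_of_pow_eq_one ((pow_two s).trans (T.sq ((T.ker _).1 e)))
      rw [o3] at this
      omega
  have key : ∀ (τ k : Equiv.Perm GolayPt), k ∈ M24 → θ ⟨s, hs⟩ = k * τ * k⁻¹ → ∃ (κ : G) (u : 𝐍 V), θ u = τ ∧
      cj κ⁻¹ Z ≤ V ∧ (∀ x ∈ cj κ⁻¹ Z, x ∉ D) ∧ ∀ x ∈ cj κ⁻¹ Z, u * x = x * u := fun τ k hk e => by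
    obtain ⟨κ, rfl⟩ := T.rng.ge hk
    refine ⟨κ, κ⁻¹ * ⟨s, hs⟩ * κ, by rw [map_mul, map_mul, map_inv, e]; group,
      cj_le_iff'.2 fun x hx => (mem_normalizer_iff.1 (inv_mem κ.2) x).1 (hZ hx), fun x hx d => ?_, fun x hx => ?_⟩
    · obtain ⟨S, hS, rfl⟩ := (T.duad _).1 d
      rw [mem_cj, inv_inv, T.act κ S (by rw [hS]; norm_num)] at hx
      exact pure _ hx ((T.duad _).2 ⟨_, by rwa [Finset.card_smul_finset], rfl⟩)
    · obtain ⟨y, hy, rfl⟩ := mem_cj'.1 hx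
      have := mem_centralizer_iff.1 sc y hy
      change (κ : G)⁻¹ * s * κ * _ = _ * ((κ : G)⁻¹ * s * κ)
      calc _ = (κ : G)⁻¹ * (s * y) * κ := by group
        _ = _ := by rw [← this]; group
  rcases M24_three (T.mM _) o with ⟨k, hk, e⟩ | ⟨k, hk, e⟩
  · obtain ⟨κ, u, h1, h2, h3, h4⟩ := key _ k hk e
    exact (T.pk3A h2 (by rw [card_cj, cZ]) h3 u h1 h4).elim
  · obtain ⟨κ, u, h1, h2, -, h4⟩ := key _ k hk e
    obtain ⟨Y, hY, ⟨i⟩⟩ := T.pk3B k1 k2 k3 h2 (by rw [card_cj, cZ]) u h1 h4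
    exact ⟨cj κ Y, by rw [← cj_cj_inv κ Z, ← cj_normalizer]; exact cj_mono κ hY, ⟨(cjEquiv κ Y).symm.trans i⟩⟩

end Cfsg.Lib.JF
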