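import Cfsg.Agent.Lib.Block2.JP0
import Cfsg.Agent.Lib.Small.Holo

/-! The structure of the pentad group. -/

set_option autoImplicit false
set_option maxRecDepth 100000
set_option linter.unusedSectionVars false

namespace Cfsg.Lib.JF

open Subgroup Cfsg.Lib.Amalg
open scoped Pointwise

theorem ps_gl : Nonempty (Matrix.GeneralLinearGroup (Fin 3) (ZMod 2) ≃* Matrix.SpecialLinearGroup (Fin 3) (ZMod 2)) := by
  refine ⟨(MulEquiv.ofBijective Matrix.SpecialLinearGroup.toGL ⟨Matrix.SpecialLinearGroup.toGL_injective, fun g => ?_⟩).symm⟩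
  have : ∀ x : ZMod 2, x ≠ 0 → x = 1 := by decide
  exact ⟨⟨g, this _ g.det_ne_zero⟩, Units.ext rfl⟩

theorem ps_four {R : Subgroup (Equiv.Perm (Fin 5))} (h : ∀ x ∈ R, x * x = 1) : Nat.card R ≤ 4 := by
  have : Fact (Nat.Prime 2) := ⟨Nat.prime_two⟩
  have p : IsPGroup 2 R := fun x => ⟨1, Subtype.ext (by simpa [pow_two] using h x x.2)⟩
  obtain ⟨k, hk⟩ := p.exists_card_eq
  have c : Nat.card (Equiv.Perm (Fin 5)) = 120 := by simp [Fintype.card_perm, Nat.factorial]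
  have d := R.card_subgroup_dvd_card
  rw [c, hk] at d
  by_contra n
  rw [hk] at n
  have k3 : k = 3 := by
    have : k < 4 := by
      by_contra a
      exact absurd ((pow_dvd_pow 2 (not_lt.1 a)).trans d) (by norm_num)
    interval_cases k <;> simp_all
  subst k3
  let S := p.toSylow (fun a => by
    have := R.index_mul_card
    rw [c, hk] at this
    omega)
  let y : Equiv.Perm (Fin 5) := Equiv.swap 0 1 * Equiv.swap 1 2 * Equiv.swap 2 3
  have py : IsPGroup 2 (zpowers y) := by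
    rintro ⟨_, j, rfl⟩
    exact ⟨2, Subtype.ext (by
      change (y ^ j) ^ 2 ^ 2 = 1
      rw [← zpow_natCast, ← zpow_mul, mul_comm, zpow_mul, zpow_natCast, show y ^ 2 ^ 2 = 1 by decide, one_zpow])⟩
  obtain ⟨Q, hQ⟩ := py.exists_le_sylow
  obtain ⟨g, hg⟩ := MulAction.exists_smul_eq (Equiv.Perm (Fin 5)) Q S
  have m : g * y * g⁻¹ ∈ R := by
    have : g * y * g⁻¹ ∈ ((g • Q : Sylow 2 _) : Subgroup _) := ⟨y, hQ (mem_zpowers y), rfl⟩
    rw [hg] at this
    exact this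
  have := h _ m
  have e : y * y = 1 := by
    calc y * y = g⁻¹ * (g * y * g⁻¹ * (g * y * g⁻¹)) * g := by group
      _ = 1 := by rw [this]; group
  exact absurd e (by decide)

theorem ps_irr {Z : Type*} [Group Z] [Finite Z] (c : ∀ x y : Z, x * y = y * x) (s : ∀ x : Z, x * x = 1)
    {N : Subgroup Z} (h : ∀ α : MulAut Z, ∀ x ∈ N, α x ∈ N) {x : Z} (hx : x ∈ N) (x1 : x ≠ 1) (y : Z) : y ∈ N := by
  classical
  have : Fact (Nat.Prime 2) := ⟨Nat.prime_two⟩
  by_contra hy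
  obtain ⟨M, -, xM, iM⟩ := PGrp.exists_index_eq_not_mem (p := 2) (⊥ : Subgroup Z)
    (by rw [commutator_def, commutator_le]; intro a _ b _; rw [commutatorElement_def, c a b]; simp)
    (fun a => by rw [pow_two, s]; exact one_mem _) (x := x) (by simpa using x1)
  obtain ⟨w, wM, wN⟩ : ∃ w ∈ M, w ∉ N := by
    by_cases a : y ∈ M
    · exact ⟨y, a, hy⟩
    · exact ⟨y * x, (mul_mem_iff_of_index_two iM).2 (iff_of_false a xM), fun b => hy ((N.mul_mem_cancel_right hx).1 b)⟩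
  let f : Z → Z := fun v => if v ∈ M then v else v * w
  have inv : ∀ v, f (f v) = v := fun v => by
    by_cases a : v ∈ M
    · simp [f, a]
    · have : v * w ∉ M := fun b => a ((M.mul_mem_cancel_right wM).1 b)
      simp [f, a, this, mul_assoc, s]
  let α : MulAut Z := ⟨⟨f, f, inv, inv⟩, fun a b => by
    have m := mul_mem_iff_of_index_two iM (a := a) (b := b)
    change f (a * b) = f a * f b
    by_cases ha : a ∈ M <;> by_cases hb : b ∈ M <;> simp only [f, m, ha, hb, if_true, if_false, iff_true, iff_false,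
      not_true]
    · rw [mul_assoc]
    · rw [mul_assoc, mul_assoc, c b w]
    · rw [mul_assoc, c b w, ← mul_assoc w, s, one_mul]⟩
  have := h α x hx
  change f x ∈ N at this
  simp only [f, xM, if_false] at this
  exact wN ((N.mul_mem_cancel_left hx).1 this)

variable {G : Type*} [Group G] [Finite G] {Z L : Subgroup G} {W : Fin 5 → Subgroup G}

namespace PD

variable (h : PD Z L W)
include h

theorem s_inj : Function.Injective W := fun i j e => by
  by_contra n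
  have a := h.inf i j n
  rw [e, inf_idem] at a
  have b := h.cW j
  rw [a, h.cZ] at b
  norm_num at b

omit [Finite G] in
theorem s_ZW (i : Fin 5) : Z ≤ W i := by
  obtain ⟨j, hj⟩ := exists_ne i
  rw [← h.inf i j hj.symm]; exact inf_le_left

omit [Finite G] in
theorem s_comm (i : Fin 5) {x y : G} (hx : x ∈ W i) (hy : y ∈ W i) : x * y = y * x := by
  have a := h.sq i _ (mul_mem hx hy)
  calc x * y = (x * y)⁻¹ := (inv_eq_of_mul_eq_one_right a).symm
    _ = y * x := by rw [mul_inv_rev, inv_eq_of_mul_eq_one_right (h.sq i x hx), inv_eq_of_mul_eq_one_right (h.sq i y hy)]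

omit [Finite G] in
theorem s_WC (i : Fin 5) : W i ≤ 𝐂 Z := fun _ hx => mem_centralizer_iff.2 fun _ hy => h.s_comm i (h.s_ZW i hy) hx

omit [Finite G] in
theorem s_ZL : Z ≤ L := fun _ hx => (h.memL _).2 ⟨h.s_WC 0 (h.s_ZW 0 hx), fun i => le_normalizer (h.s_ZW i hx)⟩

omit [Finite G] in
theorem s_LC : L ≤ 𝐂 Z := fun _ hx => ((h.memL _).1 hx).1

theorem s_pi : ∃ π : 𝐍 Z →* Equiv.Perm (Fin 5), ∀ (g : 𝐍 Z) i, cj (g : G) (W i) = W (π g i) := by
  choose f hf using h.perm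
  let F : 𝐍 Z →* Function.End (Fin 5) :=
    { toFun := fun g => f g g.2
      map_one' := funext fun i => h.s_inj (by rw [← hf]; exact cj_one _)
      map_mul' := fun a b => funext fun i => h.s_inj (by
        change W (f _ _ i) = W (f a a.2 (f b b.2 i))
        rw [← hf, ← hf, ← hf]; exact cj_mul _ _ _) }
  exact ⟨F.toHomPerm, fun g i => hf g g.2 i⟩

theorem s_ker {π : 𝐍 Z →* Equiv.Perm (Fin 5)} (hπ : ∀ (g : 𝐍 Z) i, cj (g : G) (W i) = W (π g i)) (g : 𝐍 Z) :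
    π g = 1 ↔ ∀ i, (g : G) ∈ 𝐍 (W i) :=
  ⟨fun e i => cj_eq_self_iff.1 (by rw [hπ, e]; rfl),
    fun e => Equiv.ext fun i => h.s_inj (by rw [← hπ]; exact cj_of_mem_normalizer (e i))⟩

theorem s_Phi : ∃ Φ : 𝐍 Z →* Equiv.Perm (Fin 5) × MulAut Z, Function.Surjective Φ ∧ Φ.ker = L.subgroupOf (𝐍 Z) := by
  obtain ⟨π, hπ⟩ := h.s_pi
  have k : ∀ g : 𝐍 Z, Z.normalizerMonoidHom g = 1 ↔ (g : G) ∈ 𝐂 Z := fun g => by
    rw [← MonoidHom.mem_ker, normalizerMonoidHom_ker, mem_subgroupOf]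
  refine ⟨π.prod Z.normalizerMonoidHom, fun ⟨σ, α⟩ => ?_, ?_⟩
  · obtain ⟨g, hg, e⟩ := h.aut α
    obtain ⟨c, hc, e'⟩ := h.full (σ * (π ⟨g, hg⟩)⁻¹)
    have hc' := centralizer_le_normalizer _ hc
    refine ⟨⟨c, hc'⟩ * ⟨g, hg⟩, ?_⟩
    rw [MonoidHom.prod_apply, map_mul, map_mul, (k ⟨c, hc'⟩).2 hc, one_mul,
      show π ⟨c, hc'⟩ = σ * (π ⟨g, hg⟩)⁻¹ from Equiv.ext fun i => h.s_inj (by rw [← hπ]; exact e' i),
      inv_mul_cancel_right]
    congr 1
    ext x
    exact e x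
  · ext g
    rw [MonoidHom.mem_ker, MonoidHom.prod_apply, Prod.mk_eq_one, h.s_ker hπ, k, mem_subgroupOf, h.memL, and_comm]

theorem s_N : 𝐍 L = 𝐍 Z := by
  apply le_antisymm
  · refine le_normalizer_of_cj_le fun g hg => cj_le_iff'.2 fun x hx => ?_
    refine h.cen _ ((mem_normalizer_iff.1 hg x).1 (h.s_ZL hx)) fun y hy => ?_
    have := mem_centralizer_iff.1 (h.s_LC ((mem_normalizer_iff''.1 hg y).1 hy)) x hx
    calc g * x * g⁻¹ * y = g * (x * (g⁻¹ * y * g)) * g⁻¹ := by group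
      _ = _ := by rw [this]; group
  · obtain ⟨Φ, -, k⟩ := h.s_Phi
    refine le_normalizer_of_cj_le fun g hg => cj_le_iff'.2 fun x hx => ?_
    have xN := centralizer_le_normalizer _ (h.s_LC hx)
    have : (⟨x, xN⟩ : 𝐍 Z) ∈ Φ.ker := by rw [k]; exact hx
    have := Φ.normal_ker.conj_mem _ this ⟨g, hg⟩
    rw [k] at this
    exact this

omit [Finite G] in
theorem s_cen : center L = Z.subgroupOf L := by
  ext x
  rw [mem_center_iff, mem_subgroupOf]
  exact ⟨fun e => h.cen x x.2 fun y hy => (congrArg Subtype.val (e ⟨y, hy⟩)).symm,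
    fun e y => Subtype.ext (mem_centralizer_iff.1 (h.s_LC y.2) x e).symm⟩

theorem s_nine (i : Fin 5) : 2 ^ 9 ≤ Nat.card ↥(W i ⊓ L) := by
  obtain ⟨π, hπ⟩ := h.s_pi
  have le : W i ≤ 𝐍 Z := (h.s_WC i).trans (centralizer_le_normalizer _)
  let ψ := π.comp (inclusion le)
  have r : Nat.card ψ.range ≤ 4 := ps_four (by
    rintro _ ⟨x, rfl⟩
    rw [← map_mul, show x * x = 1 from Subtype.ext (h.sq i x x.2), map_one])
  have k : ψ.ker = (W i ⊓ L).subgroupOf (W i) := by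
    ext x
    rw [MonoidHom.mem_ker, mem_subgroupOf, mem_inf, h.memL, and_iff_right x.2, and_iff_right (h.s_WC i x.2)]
    exact h.s_ker hπ _
  have a := ψ.ker.index_mul_card
  rw [index_ker, h.cW, k, Nat.card_congr (subgroupOfEquivOfLe inf_le_left).toEquiv] at a
  nlinarith

theorem s_sq {x : G} (hx : x ∈ L) : x * x ∈ Z := by
  have n : ∀ i j, W i ⊓ L ≤ 𝐍 (W j ⊓ L) := fun i j => le_normalizer_of_cj_le fun g hg => cj_le_iff'.2 fun x hx =>
    ⟨(mem_normalizer_iff.1 (((h.memL g).1 hg.2).2 j) x).1 hx.1, L.mul_mem (L.mul_mem hg.2 hx.2) (L.inv_mem hg.2)⟩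
  have a := Core.card_sup_mul_card_inf (n 0 1)
  have b : Nat.card ↥((W 0 ⊓ L) ⊓ (W 1 ⊓ L)) ≤ 8 := by
    rw [← h.cZ, ← h.inf 0 1 (by decide)]
    exact card_le_of_le (inf_le_inf inf_le_left inf_le_left)
  have e : (W 0 ⊓ L) ⊔ (W 1 ⊓ L) = L := eq_of_le_of_card_ge (sup_le inf_le_right inf_le_right) (by
    have c := Nat.mul_le_mul (h.s_nine 0) (h.s_nine 1)
    rw [← a] at c
    have := Nat.mul_le_mul_left (Nat.card ↥((W 0 ⊓ L) ⊔ (W 1 ⊓ L))) b
    rw [h.cL]
    omega)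
  have : x ∈ ((W 0 ⊓ L : Subgroup G) : Set G) * ((W 1 ⊓ L : Subgroup G) : Set G) := by
    rw [← coe_mul_of_left_le_normalizer_right _ _ (n 0 1), e]; exact hx
  obtain ⟨u, hu, v, hv, rfl⟩ := this
  rw [← h.inf 0 1 (by decide)]
  have iu := inv_eq_of_mul_eq_one_right (h.sq 0 u hu.1)
  have iv := inv_eq_of_mul_eq_one_right (h.sq 1 v hv.1)
  constructor
  · have := mul_mem hu.1 ((mem_normalizer_iff.1 (n 1 0 hv) u).1 hu).1
    rw [iv, ← mul_assoc, ← mul_assoc] at this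
    change u * v * (u * v) ∈ W 0
    rwa [← mul_assoc]
  · have := mul_mem ((mem_normalizer_iff.1 (n 0 1 hu) v).1 hv).1 hv.1
    rw [iu] at this
    change u * v * (u * v) ∈ W 1
    rwa [← mul_assoc]

theorem s_der : commutator L = center L := by
  have le : ⁅L, L⁆ ≤ Z := commutator_le.2 fun x hx y hy => by
    have := mul_mem (mul_mem (h.s_sq hx) (h.s_sq (mul_mem (inv_mem hx) hy))) (h.s_sq (inv_mem hy))
    rw [commutatorElement_def]
    convert this using 1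
    group
  obtain ⟨x, hx, x1⟩ : ∃ x ∈ ⁅L, L⁆, x ≠ 1 := by
    by_contra n
    push Not at n
    have : L ≤ Z := fun x hx => h.cen x hx fun y hy =>
      commutatorElement_eq_one_iff_mul_comm.1 (n _ (commutator_mem_commutator hx hy))
    have := card_le_of_le this
    rw [h.cL, h.cZ] at this
    norm_num at this
  have ge : Z ≤ ⁅L, L⁆ := fun y hy => ps_irr (Z := Z)
    (fun a b => Subtype.ext (h.s_comm 0 (h.s_ZW 0 a.2) (h.s_ZW 0 b.2)))
    (fun a => Subtype.ext (h.sq 0 a (h.s_ZW 0 a.2))) (N := (⁅L, L⁆ : Subgroup G).subgroupOf Z) (fun α a ha => by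
      obtain ⟨g, hg, e⟩ := h.aut α
      rw [mem_subgroupOf, ← e]
      have := conj_mem_cj g (mem_subgroupOf.1 ha)
      rwa [cj_commutator, cj_of_mem_normalizer (h.s_N.ge hg)] at this)
    (x := ⟨x, le hx⟩) hx (fun e => x1 (congrArg Subtype.val e)) ⟨y, hy⟩
  rw [h.s_cen, ← le_antisymm le ge]
  refine map_injective L.subtype_injective ?_
  rw [map_subtype_commutator, map_subgroupOf_eq_of_le (le.trans h.s_ZL)]

theorem struct : IsSpecial 2 L ∧ Nat.card (center L) = 8 ∧ Z ≤ L ∧ 𝐍 L = 𝐍 Z ∧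
    Nonempty (𝐍 L ⧸ L.subgroupOf (𝐍 L) ≃* Equiv.Perm (Fin 5) × Matrix.SpecialLinearGroup (Fin 3) (ZMod 2)) := by
  have : Fact (Nat.Prime 2) := ⟨Nat.prime_two⟩
  have p : IsPGroup 2 L := IsPGroup.of_card h.cL
  refine ⟨⟨p, le_antisymm (PGrp.frattini_le p _ h.s_der.le fun x => ?_) (h.s_der ▸ PGrp.commutator_le_frattini p),
    h.s_der⟩, ?_, h.s_ZL, h.s_N, ?_⟩
  · rw [h.s_cen, pow_two]; exact h.s_sq x.2
  · rw [h.s_cen, Nat.card_congr (subgroupOfEquivOfLe h.s_ZL).toEquiv, h.cZ]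
  · obtain ⟨Φ, s, k⟩ := h.s_Phi
    obtain ⟨e1⟩ := Small.mulAut_equiv_GL (W := Z) (p := 2) (n := 3)
      (fun a b => Subtype.ext (h.s_comm 0 (h.s_ZW 0 a.2) (h.s_ZW 0 b.2)))
      (fun a => Subtype.ext (by rw [pow_two]; exact h.sq 0 a (h.s_ZW 0 a.2))) h.cZ
    obtain ⟨e2⟩ := ps_gl
    let j : 𝐍 L ≃* 𝐍 Z := MulEquiv.subgroupCongr h.s_N
    have k' : (Φ.comp j.toMonoidHom).ker = L.subgroupOf (𝐍 L) := by
      ext g
      change j g ∈ Φ.ker ↔ _
      rw [k]; rfl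
    exact ⟨((QuotientGroup.quotientMulEquivOfEq k'.symm).trans
      (QuotientGroup.quotientKerEquivOfSurjective _ (s.comp j.surjective))).trans
      (MulEquiv.prodCongr (MulEquiv.refl _) (e1.trans e2))⟩

end PD

end Cfsg.Lib.JF
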