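import Cfsg.Agent.Lib.Block2.JGt

/-! Groups of Janko-four type: the involutions in the centraliser of an element of order 5. -/

set_option autoImplicit false

namespace Cfsg.Lib.JF

open Subgroup Cfsg.Lib.Amalg Cfsg.Lib.Core Cfsg.Lib.Known2

variable {G : Type*} [Group G]

theorem two_inv [Finite G] {x w : G} (hx : x * x = 1) (hw : w * w = 1) (n : ¬ IsConj x w) :
    ∃ j : ℕ, (x * w) ^ j ≠ 1 ∧ (x * w) ^ j * (x * w) ^ j = 1 ∧ x * (x * w) ^ j = (x * w) ^ j * x ∧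
      w * (x * w) ^ j = (x * w) ^ j * w := by
  have dh := dihedral hx hw
  obtain ⟨m, e | e⟩ := Nat.even_or_odd' (orderOf (x * w))
  · have p := orderOf_pos (x * w)
    have a : (x * w) ^ m * (x * w) ^ m = 1 := by rw [← pow_add, ← two_mul, ← e, pow_orderOf_eq_one]
    have b := inv_eq_of_mul_eq_one_right a
    exact ⟨m, pow_ne_one_of_lt_orderOf (by omega) (by omega), a, by rw [(dh m).1, b], by rw [(dh m).2, b]⟩
  · refine (n (IsConj.symm (isConj_iff.2 ⟨(x * w) ^ (m + 1), ?_⟩))).elim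
    have : (x * w) ^ (m + 1) * (x * w) ^ (m + 1) = x * w := by
      rw [← pow_add, show m + 1 + (m + 1) = 2 * m + 1 + 1 by ring, pow_succ, ← e, pow_orderOf_eq_one, one_mul]
    calc _ = (x * w) ^ (m + 1) * (x * w) ^ (m + 1) * (((x * w) ^ (m + 1))⁻¹ * w) * ((x * w) ^ (m + 1))⁻¹ := by group
      _ = x := by rw [← (dh _).2, this, ← mul_assoc, mul_inv_cancel_right, mul_assoc, hw, mul_one]

theorem es_count [Finite G] {F X : Subgroup G} {z : G} (h : ES F z) (hX : X ≤ F) (sq : ∀ x ∈ X, x * x = 1)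
    (c : ∀ f ∈ F, (∀ x ∈ X, f * x = x * f) → f ∈ X) :
    2 * {f | f ∈ F ∧ f * f = 1}.ncard = Nat.card F + Nat.card X := by
  classical
  let ch : G → G := fun f => Classical.epsilon fun x => x ∈ X ∧ f * x ≠ x * f
  have sp : ∀ f ∈ F, f ∉ X → ch f ∈ X ∧ f * ch f ≠ ch f * f := fun f hf n =>
    Classical.epsilon_spec (p := fun x => x ∈ X ∧ f * x ≠ x * f) (by
      by_contra k; push Not at k; exact n (c f hf k))
  have inv : ∀ f, ∀ x ∈ X, ch (f * x) = ch f := fun f x hx => by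
    refine congrArg Classical.epsilon (funext fun u => propext (and_congr_right fun hu => not_congr ?_))
    rw [mul_assoc, comm_of_sq sq hx hu, ← mul_assoc, ← mul_assoc, mul_left_inj]
  have sq' : ∀ f ∈ F, f ∉ X → f * ch f * (f * ch f) = f * f * z := fun f hf n => by
    obtain ⟨a, b⟩ := sp f hf n
    have := h.anti (hX a) hf (Ne.symm b)
    calc _ = f * (ch f * f) * ch f := by group
      _ = f * f * (ch f * (z * ch f)) := by rw [this]; group
      _ = _ := by rw [← h.cen _ (hX a), ← mul_assoc (ch f), sq _ a, one_mul]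
  have key : ∀ u v : G, u * z = v → {f | (f ∈ F ∧ f ∉ X) ∧ f * f = u}.ncard ≤ {f | (f ∈ F ∧ f ∉ X) ∧ f * f = v}.ncard :=
    fun u v e => Set.ncard_le_ncard_of_injOn (fun f => f * ch f) (fun f ⟨⟨a, b⟩, d⟩ =>
      ⟨⟨mul_mem a (hX (sp f a b).1), fun k => b ((X.mul_mem_cancel_right (sp f a b).1).1 k)⟩, by
        rw [sq' f a b, d, e]⟩) fun f ⟨⟨a, b⟩, _⟩ g ⟨⟨a', b'⟩, _⟩ (k : f * ch f = g * ch g) => by
      have : ch f = ch g := by rw [← inv f _ (sp f a b).1, k, inv g _ (sp g a' b').1]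
      rwa [this, mul_left_inj] at k
  have k1 := key 1 z (one_mul z)
  have k2 := key z 1 h.sq
  have e1 : {f | f ∈ F ∧ f * f = 1} = (X : Set G) ∪ {f | (f ∈ F ∧ f ∉ X) ∧ f * f = 1} := Set.ext fun f =>
    ⟨fun a => (em (f ∈ X)).imp id fun b => ⟨⟨a.1, b⟩, a.2⟩, fun a => a.elim (fun b => ⟨hX b, sq f b⟩) fun b => ⟨b.1.1, b.2⟩⟩
  have e2 : (F : Set G) = {f | f ∈ F ∧ f * f = 1} ∪ {f | (f ∈ F ∧ f ∉ X) ∧ f * f = z} := Set.ext fun f =>
    ⟨fun a => (h.sq_mem f a).imp (fun b => ⟨a, b⟩) fun b => ⟨⟨a, fun k => h.ne (b.symm.trans (sq f k))⟩, b⟩,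
      fun a => a.elim (fun b => b.1) fun b => b.1.1⟩
  have c1 := Set.ncard_union_eq (s := (X : Set G)) (t := {f | (f ∈ F ∧ f ∉ X) ∧ f * f = 1})
    (Set.disjoint_left.2 fun f a b => b.1.2 a)
  have c2 := Set.ncard_union_eq (s := {f | f ∈ F ∧ f * f = 1}) (t := {f | (f ∈ F ∧ f ∉ X) ∧ f * f = z})
    (Set.disjoint_left.2 fun f a b => h.ne (b.2.symm.trans a.2))
  rw [← e1] at c1
  rw [← e2] at c2
  change 2 * _ = (F : Set G).ncard + (X : Set G).ncard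
  omega

/-- the data on the centraliser of `y` (order 5) in `C(z)`. -/
structure Q5 (E : Subgroup G) (z y p s r x : G) (X : Subgroup G) : Prop where
  y5 : y ^ 5 = 1
  y1 : y ≠ 1
  yz : z * y = y * z
  yp : p * y = y * p
  pz : p * z = z * p
  p3 : p ^ 3 = 1
  fpz : ∀ x ∈ E, (p * x * p⁻¹ = x ∨ p * x * p⁻¹ = x * z) → x = 1 ∨ x = z
  sz : s * z = z * s
  sy : s * y = y * s
  sp : s * p * s⁻¹ = p⁻¹
  dec : ∀ g, g * z = z * g → g * y = y * g → ∃ f ∈ E, f * y = y * f ∧ ∃ d ∈ zpowers p, ∃ c ∈ zpowers y,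
    g = f * d * c ∨ g = f * d * c * s
  r4 : r ^ 4 = 1
  ry : r * y * r⁻¹ = y ^ 2
  rz : r * z = z * r
  XE : ∀ u ∈ X, u ∈ E ∧ u * y = y * u ∧ u * u = 1
  cX : Nat.card X = 8
  zX : z ∈ X
  cen : ∀ f ∈ E, f * y = y * f → (∀ u ∈ X, f * u = u * f) → f ∈ X
  ofc : ∀ f ∈ E, f * y = y * f → (∀ u ∈ E, u * y = y * u → f * u = u * f) → f = 1 ∨ f = z
  xX : x ∈ X
  x1 : x ≠ 1
  xz : ¬ IsConj z x

theorem Q5.map {E X : Subgroup G} {z y p s r x : G} (H : Q5 E z y p s r x X) (e : G ≃* G) (ez : e z = z)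
    (eE : ∀ u, e u ∈ E ↔ u ∈ E) (ec : ∀ u, IsConj u (e u)) :
    Q5 E z (e y) (e p) (e s) (e r) (e x) (X.map e.toMonoidHom) := by
  have cm : ∀ a b, e a * e b = e b * e a ↔ a * b = b * a := fun a b => by rw [← map_mul, ← map_mul, e.apply_eq_iff_eq]
  have cz : ∀ a, e a * z = z * e a ↔ a * z = z * a := fun a => by rw [← cm a z, ez]
  have o : ∀ a, a = 1 ∨ a = z → e a = 1 ∨ e a = z := by rintro _ (rfl | rfl) <;> simp [ez]
  have zp : ∀ a d, d ∈ zpowers a → e d ∈ zpowers (e a) := by rintro a _ ⟨n, rfl⟩; exact ⟨n, (map_zpow e a n).symm⟩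
  refine ⟨by rw [← map_pow, H.y5, map_one], by simpa using H.y1, ((cz _).2 H.yz.symm).symm, (cm _ _).2 H.yp,
    (cz _).2 H.pz, by rw [← map_pow, H.p3, map_one], fun u hu k => ?_, (cz _).2 H.sz, (cm _ _).2 H.sy,
    by rw [← map_inv, ← map_inv, ← H.sp]; simp, fun g a b => ?_, by rw [← map_pow, H.r4, map_one],
    by rw [← map_pow, ← H.ry]; simp, (cz _).2 H.rz, ?_, by rw [card_map_of_injective e.injective, H.cX],
    ⟨z, H.zX, ez⟩, fun f a b c => ?_, fun f a b c => ?_, ⟨x, H.xX, rfl⟩, by simpa using H.x1,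
    fun k => H.xz (k.trans (ec x).symm)⟩
  · obtain ⟨u, rfl⟩ := e.surjective u
    refine o u (H.fpz u ((eE u).1 hu) (k.imp (fun k => e.injective (by simpa using k)) fun k => e.injective ?_))
    simpa [ez] using k
  · obtain ⟨g, rfl⟩ := e.surjective g
    obtain ⟨f, f1, f2, d, d1, c, c1, k⟩ := H.dec g ((cz g).1 a) ((cm _ _).1 b)
    exact ⟨e f, (eE f).2 f1, (cm _ _).2 f2, e d, zp _ _ d1, e c, zp _ _ c1, k.imp (fun k => by simp [k]) fun k => by simp [k]⟩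
  · rintro _ ⟨u, hu, rfl⟩
    obtain ⟨a, b, c⟩ := H.XE u hu
    exact ⟨(eE u).2 a, (cm _ _).2 b, by rw [MulEquiv.coe_toMonoidHom, ← map_mul, c, map_one]⟩
  · obtain ⟨f, rfl⟩ := e.surjective f
    exact ⟨f, H.cen f ((eE f).1 a) ((cm _ _).1 b) fun u hu => (cm _ _).1 (c _ ⟨u, hu, rfl⟩), rfl⟩
  · obtain ⟨f, rfl⟩ := e.surjective f
    exact o f (H.ofc f ((eE f).1 a) ((cm _ _).1 b) fun u hu k => (cm _ _).1 (c _ ((eE u).2 hu) ((cm _ _).2 k)))

end Cfsg.Lib.JF
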