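import Cfsg.Agent.Lib.Block2.JQ2

/-! Groups of Janko-four type: the normal `2^3` in the centraliser of an element of order 5. -/

set_option autoImplicit false
set_option linter.unusedSectionVars false

namespace Cfsg.Lib.JF

open Subgroup Cfsg.Lib.Amalg Cfsg.Lib.Core Cfsg.Lib.Known2

variable {G : Type*} [Group G]

theorem fix3 [Finite G] {A : Subgroup G} {b : G} (sq : ∀ a ∈ A, a * a = 1) (bb : b * b = 1)
    (n : ∀ a ∈ A, b * a * b⁻¹ ∈ A) (c : 4 < Nat.card A) : 3 ≤ Nat.card ↥(A ⊓ centralizer {b}) := by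
  let f : A →* G := MonoidHom.mk' (fun a => a * (b * a * b⁻¹)) fun a a' => by
    have := comm_of_sq sq a'.2 (n a a.2)
    calc _ = (a : G) * (a' * (b * a * b⁻¹)) * (b * a' * b⁻¹) := by simp [mul_assoc]
      _ = _ := by rw [this]; group
  have e := card_map_mul_card_inf_ker f ⊤
  rw [card_top, inf_top_eq] at e
  have h1 : Nat.card ((⊤ : Subgroup A).map f) ≤ Nat.card ↥(A ⊓ centralizer {b}) := card_le_of_le (by
    rintro _ ⟨a, -, rfl⟩
    refine ⟨mul_mem a.2 (n a a.2), mem_cent_single.2 (comm_of_conj_eq ?_).symm⟩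
    change b * (a * (b * a * b⁻¹)) * b⁻¹ = a * (b * a * b⁻¹)
    calc _ = b * a * b⁻¹ * (b * b * a * (b * b)⁻¹) := by group
      _ = _ := by rw [bb, comm_of_sq sq a.2 (n a a.2)]; group)
  have h2 : Nat.card f.ker ≤ Nat.card ↥(A ⊓ centralizer {b}) := by
    rw [← card_map_subtype]
    refine card_le_of_le ?_
    rintro _ ⟨a, ha, rfl⟩
    exact ⟨a.2, mem_cent_single.2 (comm_of_conj_eq
      ((eq_inv_of_mul_eq_one_right ha).trans (inv_eq_of_mul_eq_one_right (sq a a.2)))).symm⟩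
  by_contra k
  have := Nat.mul_le_mul (h1.trans (show _ ≤ 2 by omega)) (h2.trans (show _ ≤ 2 by omega))
  omega

namespace Q5
variable {E X : Subgroup G} {z y p s r x : G} (H : Q5 E z y p s r x X) (ls : LS E z)
include H ls

theorem esF : ES (E ⊓ centralizer {y}) z := by
  have o : ∀ f ∈ E ⊓ centralizer {y}, (∀ u ∈ E ⊓ centralizer {y}, f * u = u * f) → f = 1 ∨ f = z := fun f hf k =>
    H.ofc f hf.1 (mem_cent_single.1 hf.2) fun u a b => k u ⟨a, mem_cent_single.2 b⟩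
  refine ⟨⟨ls.mem, mem_cent_single.2 H.yz⟩, ls.ne, ls.sq, fun u a => ls.cen u a.1, o,
    fun u a v b => ls.comm u a.1 v b.1, fun u a => ls.sq_mem u a.1, ?_⟩
  by_contra n
  push Not at n
  obtain ⟨a, b, -⟩ := H.XE x H.xX
  exact (o x ⟨a, mem_cent_single.2 b⟩ (n x ⟨a, mem_cent_single.2 b⟩)).elim H.x1 fun e => H.xz (e ▸ IsConj.refl _)

omit ls in
theorem XF : X ≤ E ⊓ centralizer {y} := fun u hu => ⟨(H.XE u hu).1, mem_cent_single.2 (H.XE u hu).2.1⟩

theorem cF [Finite G] : Nat.card ↥(E ⊓ centralizer {y}) = 32 := by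
  have := es_cent (H.esF ls) H.XF H.zX
  rw [show E ⊓ centralizer {y} ⊓ centralizer (X : Set G) = X from le_antisymm (fun f hf =>
    H.cen f hf.1.1 (mem_cent_single.1 hf.1.2) fun u hu => (hf.2 u hu).symm) fun u hu =>
      ⟨H.XF hu, fun v hv => comm_of_sq (fun a ha => (H.XE a ha).2.2) hv hu⟩, H.cX] at this
  omega

/-- the elements centralising `p` modulo `E`. -/
def Ev (_ : Q5 E z y p s r x X) (g : G) : Prop :=
  ∃ f ∈ E, f * y = y * f ∧ ∃ d ∈ zpowers p, ∃ c ∈ zpowers y, g = f * d * c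

omit ls in
theorem cms {d c : G} (hd : d ∈ zpowers p) (hc : c ∈ zpowers y) : Commute (d * c) z ∧ Commute (d * c) y ∧
    Commute (d * c) p ∧ (d * c) ^ 15 = 1 := by
  obtain ⟨i, rfl⟩ := hd
  obtain ⟨j, rfl⟩ := hc
  have a : Commute p y := H.yp
  refine ⟨((show Commute p z from H.pz).zpow_left i).mul_left ((show Commute y z from H.yz.symm).zpow_left j),
    (a.zpow_left i).mul_left ((Commute.refl y).zpow_left j), ((Commute.refl p).zpow_left i).mul_left (a.symm.zpow_left j), ?_⟩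
  rw [(a.zpow_zpow i j).mul_pow, ← zpow_natCast, ← zpow_natCast, ← zpow_mul, ← zpow_mul, mul_comm i, mul_comm j,
    zpow_mul, zpow_mul, zpow_natCast, zpow_natCast, show 15 = 3 * 5 from rfl, pow_mul, H.p3, pow_mul', H.y5]
  simp

theorem Ev.zy {g : G} (e : H.Ev g) : g * z = z * g ∧ g * y = y * g := by
  obtain ⟨f, a, b, d, hd, c, hc, rfl⟩ := e
  obtain ⟨k1, k2, -⟩ := H.cms hd hc
  rw [mul_assoc f]
  exact ⟨(show Commute f z from ls.cen f a).mul_left k1, (show Commute f y from b).mul_left k2⟩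

theorem two {g : G} (e : H.Ev g) (g4 : g ^ 4 = 1) : g ∈ E := by
  have gz := (e.zy H ls).1
  obtain ⟨f, a, -, d, hd, c, hc, e⟩ := e
  obtain ⟨-, -, k3, k4⟩ := H.cms hd hc
  have pw : ∀ n : ℕ, (f⁻¹ * g) ^ n * (g ^ n)⁻¹ ∈ E := fun n => by
    induction n with
    | zero => simp
    | succ n ih =>
      have := mul_mem (inv_mem a) (ls.norm g gz _ ih)
      rwa [show (f⁻¹ * g) ^ (n + 1) * (g ^ (n + 1))⁻¹ = f⁻¹ * (g * ((f⁻¹ * g) ^ n * (g ^ n)⁻¹) * g⁻¹) by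
        rw [pow_succ', pow_succ']; group]
  have u : f⁻¹ * g = d * c := by rw [e]; group
  have h4 := pw 4
  rw [g4, inv_one, mul_one, u] at h4
  have h8 : ((d * c) ^ 4) ^ 2 = 1 := by
    rcases H.fpz _ h4 (.inl (conj_eq_of_comm (k3.pow_left 4).symm)) with k | k <;> rw [k, pow_two]
    exacts [one_mul 1, ls.sq]
  have : d * c = 1 := by
    have e16 : (d * c) ^ (15 + 1) = d * c := by rw [pow_succ, k4, one_mul]
    rw [← e16, show 15 + 1 = 4 * 2 * 2 from rfl, pow_mul, pow_mul, h8, one_pow]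
  rwa [e, mul_assoc, this, mul_one]

theorem pE : p * p ∉ E := fun k => by
  have h8 : (p * p) ^ 2 = 1 := by
    rcases H.fpz _ k (.inl (by group)) with k | k <;> rw [k, pow_two]
    exacts [one_mul 1, ls.sq]
  have : p = 1 := by
    calc p = p ^ 3 * p := by rw [H.p3, one_mul]
      _ = (p * p) ^ 2 := by simp only [pow_succ, pow_zero, one_mul, mul_assoc]
      _ = 1 := h8
  exact (H.fpz x (H.XE x H.xX).1 (.inl (by simp [this]))).elim H.x1 fun e => H.xz (e ▸ IsConj.refl _)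

/-- the subgroup of the elements centralising `p` modulo `E`. -/
def B0 : Subgroup G where
  carrier := {g | g * z = z * g ∧ g * y = y * g ∧ H.Ev g = H.Ev g ∧ g * p * g⁻¹ * p⁻¹ ∈ E}
  one_mem' := by simp
  mul_mem' := fun {a b} ha hb => ⟨(show Commute a z from ha.1).mul_left hb.1,
    (show Commute a y from ha.2.1).mul_left hb.2.1, rfl, by
      rw [show a * b * p * (a * b)⁻¹ * p⁻¹ = a * (b * p * b⁻¹ * p⁻¹) * a⁻¹ * (a * p * a⁻¹ * p⁻¹) by group]
      exact mul_mem (ls.norm a ha.1 _ hb.2.2.2) ha.2.2.2⟩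
  inv_mem' := fun {a} ha => ⟨(show Commute a z from ha.1).inv_left, (show Commute a y from ha.2.1).inv_left, rfl, by
      rw [show a⁻¹ * p * a⁻¹⁻¹ * p⁻¹ = a⁻¹ * (a * p * a⁻¹ * p⁻¹)⁻¹ * a⁻¹⁻¹ by group]
      exact ls.norm a⁻¹ (show Commute a z from ha.1).inv_left _ (inv_mem ha.2.2.2)⟩

theorem ev_mem {g : G} (e : H.Ev g) : g ∈ H.B0 ls := by
  refine ⟨(e.zy H ls).1, (e.zy H ls).2, rfl, ?_⟩
  obtain ⟨f, a, -, d, hd, c, hc, rfl⟩ := e
  rw [show f * d * c * p * (f * d * c)⁻¹ * p⁻¹ = f * (d * c * p * (d * c)⁻¹ * f⁻¹ * p⁻¹) by group,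
    conj_eq_of_comm (H.cms hd hc).2.2.1]
  exact mul_mem a (ls.norm p H.pz _ (inv_mem a))

theorem s_not : s ∉ H.B0 ls := fun k => H.pE ls (by
  have := inv_mem k.2.2.2
  rwa [H.sp, mul_inv_rev, inv_inv] at this)

theorem dec' {g : G} (a : g * z = z * g) (b : g * y = y * g) : H.Ev g ∨ H.Ev (g * s⁻¹) := by
  obtain ⟨f, f1, f2, d, hd, c, hc, e⟩ := H.dec g a b
  exact e.imp (fun e => ⟨f, f1, f2, d, hd, c, hc, e⟩) fun e => ⟨f, f1, f2, d, hd, c, hc, by simp [e]⟩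

theorem mem_B0 {g : G} : g ∈ H.B0 ls ↔ H.Ev g := ⟨fun k => (H.dec' ls k.1 k.2.1).resolve_right fun e =>
  H.s_not ls (inv_mem_iff.1 ((Subgroup.mul_mem_cancel_left _ k).1 (H.ev_mem ls e))), H.ev_mem ls⟩

theorem idx {g g' : G} (a : g * z = z * g) (b : g * y = y * g) (a' : g' * z = z * g') (b' : g' * y = y * g')
    (n : ¬ H.Ev g) (n' : ¬ H.Ev g') : H.Ev (g * g'⁻¹) := by
  have := mul_mem (H.ev_mem ls ((H.dec' ls a b).resolve_left n)) (inv_mem (H.ev_mem ls ((H.dec' ls a' b').resolve_left n')))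
  rw [← H.mem_B0 ls]
  simpa using this

theorem oy : orderOf y = 5 := have := Fact.mk Nat.prime_five; orderOf_eq_prime H.y5 H.y1

theorem cB0 [Finite G] : Nat.card (H.B0 ls) = 480 := by
  have := Fact.mk Nat.prime_three
  have op : orderOf p = 3 := orderOf_eq_prime H.p3 fun e => H.pE ls (by simp [e])
  have c1 : 32 ∣ Nat.card (H.B0 ls) := H.cF ls ▸ card_dvd_of_le fun f hf =>
    H.ev_mem ls ⟨f, hf.1, mem_cent_single.1 hf.2, 1, one_mem _, 1, one_mem _, by simp⟩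
  have c2 : 3 ∣ Nat.card (H.B0 ls) := op ▸ Subgroup.orderOf_dvd_natCard _
    (H.ev_mem ls ⟨1, one_mem _, by simp, p, mem_zpowers _, 1, one_mem _, by simp⟩)
  have c3 : 5 ∣ Nat.card (H.B0 ls) := H.oy ls ▸ Subgroup.orderOf_dvd_natCard _
    (H.ev_mem ls ⟨1, one_mem _, by simp, 1, one_mem _, y, mem_zpowers _, by simp⟩)
  have c4 := Nat.card_le_card_of_surjective (fun t : ↥(E ⊓ centralizer {y}) × zpowers p × zpowers y =>
    (⟨t.1 * t.2.1 * t.2.2, H.ev_mem ls ⟨_, t.1.2.1, mem_cent_single.1 t.1.2.2, _, t.2.1.2, _, t.2.2.2, rfl⟩⟩ : H.B0 ls))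
    fun g => by
      obtain ⟨f, f1, f2, d, hd, c, hc, e⟩ := (H.mem_B0 ls).1 g.2
      exact ⟨⟨⟨f, f1, mem_cent_single.2 f2⟩, ⟨d, hd⟩, ⟨c, hc⟩⟩, Subtype.ext e.symm⟩
  rw [Nat.card_prod, Nat.card_prod, H.cF ls, Nat.card_zpowers, Nat.card_zpowers, op, H.oy ls] at c4
  have := Nat.card_pos (α := H.B0 ls)
  omega

theorem cB [Finite G] : Nat.card ↥(centralizer {y} ⊓ centralizer {z} : Subgroup G) = 960 := by
  have l : H.B0 ls ≤ centralizer {y} ⊓ centralizer {z} := fun g k =>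
    ⟨mem_cent_single.2 k.2.1, mem_cent_single.2 k.1⟩
  have : (H.B0 ls).relIndex (centralizer {y} ⊓ centralizer {z}) = 2 := index_eq_two_iff.2
    ⟨⟨s⁻¹, inv_mem ⟨mem_cent_single.2 H.sy, mem_cent_single.2 H.sz⟩⟩, fun b => by
      simp only [mem_subgroupOf, coe_mul]
      by_cases k : (b : G) ∈ H.B0 ls
      · exact .inr ⟨k, fun e => H.s_not ls (inv_mem_iff.1 ((Subgroup.mul_mem_cancel_left _ k).1 e))⟩
      · exact .inl ⟨H.ev_mem ls ((H.dec' ls (mem_cent_single.1 b.2.2) (mem_cent_single.1 b.2.1)).resolve_left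
          fun e => k (H.ev_mem ls e)), k⟩⟩
  have c := card_inf_mul_relIndex (H.B0 ls) (centralizer {y} ⊓ centralizer {z})
  rw [this, inf_eq_left.2 l, H.cB0 ls] at c
  omega

theorem half [Finite G] {Q : Subgroup G} (l : Q ≤ centralizer {y} ⊓ centralizer {z}) (q : ∀ g ∈ Q, g ^ 4 = 1) :
    Nat.card Q ≤ 2 * Nat.card ↥(E ⊓ Q) := by
  have c := card_inf_mul_relIndex E Q
  by_cases k : Q ≤ E
  · rw [inf_eq_right.2 k]; omega
  obtain ⟨a, ha, n⟩ := SetLike.not_le_iff_exists.1 k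
  have : E.relIndex Q = 2 := index_eq_two_iff.2 ⟨⟨a⁻¹, inv_mem ha⟩, fun b => by
    simp only [mem_subgroupOf, coe_mul]
    by_cases k : (b : G) ∈ E
    · exact .inr ⟨k, fun e => n (inv_mem_iff.1 ((Subgroup.mul_mem_cancel_left _ k).1 e))⟩
    · exact .inl ⟨H.two ls (H.idx ls (mem_cent_single.1 (l b.2).2) (mem_cent_single.1 (l b.2).1)
        (mem_cent_single.1 (l ha).2) (mem_cent_single.1 (l ha).1) (fun e => k (H.two ls e (q _ b.2)))
        fun e => n (H.two ls e (q _ ha))) (q _ (mul_mem b.2 (inv_mem ha))), k⟩⟩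
  rw [this] at c
  omega

theorem tri {a : G} (ha : a ∈ E) : a * (p * a * p⁻¹) * (p * (p * a * p⁻¹) * p⁻¹) = 1 ∨
    a * (p * a * p⁻¹) * (p * (p * a * p⁻¹) * p⁻¹) = z := by
  have h1 := ls.norm p H.pz _ ha
  have h2 := ls.norm p H.pz _ h1
  have m := mul_mem (mul_mem ha h1) h2
  refine H.fpz _ m ?_
  have := ls.toES.conj_eq (inv_mem ha) m
  have k : p * (p * (p * a * p⁻¹) * p⁻¹) * p⁻¹ = a := by
    calc _ = p ^ 3 * a * (p ^ 3)⁻¹ := by simp only [pow_succ, pow_zero]; group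
      _ = _ := by rw [H.p3]; group
  rwa [← conj_mul, ← conj_mul, k, show p * a * p⁻¹ * (p * (p * a * p⁻¹) * p⁻¹) * a =
    a⁻¹ * (a * (p * a * p⁻¹) * (p * (p * a * p⁻¹) * p⁻¹)) * a⁻¹⁻¹ by group]

theorem zsq {u : G} (k : IsConj z u) : u * u = 1 ∧ u ≠ 1 := by
  obtain ⟨g, rfl⟩ := isConj_iff.1 k
  exact ⟨ls.conj_sq g, by simpa using ls.ne⟩

variable [Finite G] (F2 : ∀ t, t * t = 1 → t ≠ 1 → ¬ IsConj z t → t * y = y * t →
  Nat.card ↥(centralizer {y} ⊓ centralizer {t} : Subgroup G) ≤ 80)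
include F2

theorem cT {t : G} (a : t ∈ E ⊓ centralizer {y}) (b : t * t = 1) (c : t ≠ 1) (d : ¬ IsConj z t) :
    Nat.card ↥(centralizer {y} ⊓ centralizer {t} : Subgroup G) = 80 ∧
      ∀ g, g * y = y * g → g * t = t * g → H.Ev g := by
  have ty := mem_cent_single.1 a.2
  obtain ⟨v, hv, n⟩ := (H.esF ls).exists_anti a c fun e => d (e ▸ IsConj.refl _)
  have c16 := es_two (H.esF ls) le_rfl a hv n
  rw [H.cF ls] at c16
  have l : (E ⊓ centralizer {y} ⊓ centralizer {t}) ⊔ zpowers y ≤ centralizer {y} ⊓ centralizer {t} :=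
    sup_le (fun g k => ⟨k.1.2, k.2⟩) (zpowers_le.2 ⟨mem_cent_single.2 rfl, mem_cent_single.2 ty.symm⟩)
  have c1 := card_dvd_of_le (le_sup_left : _ ≤ (E ⊓ centralizer {y} ⊓ centralizer {t}) ⊔ zpowers y)
  have c2 := card_dvd_of_le (le_sup_right : _ ≤ (E ⊓ centralizer {y} ⊓ centralizer {t}) ⊔ zpowers y)
  rw [Nat.card_zpowers, H.oy ls] at c2
  rw [show Nat.card ↥(E ⊓ centralizer {y} ⊓ centralizer {t}) = 16 by omega] at c1
  have c3 := Nat.card_pos (α := ↥((E ⊓ centralizer {y} ⊓ centralizer {t}) ⊔ zpowers y))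
  have c4 := F2 t b c d ty
  have c5 := card_le_of_le l
  refine ⟨by omega, fun g g1 g2 => ?_⟩
  obtain ⟨f, hf, e, he, rfl⟩ := (mem_sup_of_le_normalizer' (zpowers_le.2 (centralizer_le_normalizer _
    fun u (hu : u ∈ E ⊓ centralizer {y} ⊓ centralizer {t}) => mem_cent_single.1 hu.1.2))).1 ((eq_of_le_of_card_ge l (by omega)).ge
      (show g ∈ centralizer {y} ⊓ centralizer {t} from ⟨mem_cent_single.2 g1, mem_cent_single.2 g2⟩))
  exact ⟨f, hf.1.1, mem_cent_single.1 hf.1.2, 1, one_mem _, e, he, by simp⟩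

theorem cS : {u | u ∈ E ⊓ centralizer {y} ∧ (u = 1 ∨ IsConj z u)}.ncard = 8 := by
  have c1 := es_count (H.esF ls) H.XF (fun u hu => (H.XE u hu).2.2) fun f hf k => H.cen f hf.1 (mem_cent_single.1 hf.2) k
  rw [H.cF ls, H.cX] at c1
  have c2 : 12 ∣ {u | u ∈ E ⊓ centralizer {y} ∧ u * u = 1 ∧ u ≠ 1 ∧ ¬ IsConj z u}.ncard :=
    dvd_ncard (P := centralizer {y} ⊓ centralizer {z}) _ (fun g hg c ⟨a, b, d, e⟩ =>
      ⟨⟨ls.norm g (mem_cent_single.1 hg.2) c a.1, (centralizer {y}).mul_mem ((centralizer {y}).mul_mem hg.1 a.2) ((centralizer {y}).inv_mem hg.1)⟩,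
        by rw [conj_mul, b]; simp, by simpa using d, fun k => e (k.trans (isConj_iff.2 ⟨g, rfl⟩).symm)⟩)
      fun c ⟨a, b, d, e⟩ => by
        obtain ⟨k1, k2⟩ := H.cT ls F2 a b d e
        have := card_inf_mul_relIndex (centralizer {c}) (centralizer {y} ⊓ centralizer {z})
        rw [H.cB ls, show centralizer {c} ⊓ (centralizer {y} ⊓ centralizer {z}) = centralizer {y} ⊓ centralizer {c} from
          le_antisymm (fun g k => ⟨k.2.1, k.1⟩) fun g k => ⟨k.2, k.1, mem_cent_single.2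
            ((k2 g (mem_cent_single.1 k.1) (mem_cent_single.1 k.2)).zy H ls).1⟩, k1] at this
        omega
  have c3 := (Set.ncard_pos (s := {u | u ∈ E ⊓ centralizer {y} ∧ u * u = 1 ∧ u ≠ 1 ∧ ¬ IsConj z u})).2
    ⟨x, H.XF H.xX, (H.XE x H.xX).2.2, H.x1, H.xz⟩
  have c4 : 1 < {u | u ∈ E ⊓ centralizer {y} ∧ (u = 1 ∨ IsConj z u)}.ncard := (Set.one_lt_ncard).2
    ⟨1, ⟨one_mem _, .inl rfl⟩, z, ⟨(H.esF ls).mem, .inr (IsConj.refl _)⟩, ls.ne.symm⟩
  have c5 := Set.ncard_union_eq (s := {u | u ∈ E ⊓ centralizer {y} ∧ (u = 1 ∨ IsConj z u)})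
    (t := {u | u ∈ E ⊓ centralizer {y} ∧ u * u = 1 ∧ u ≠ 1 ∧ ¬ IsConj z u})
    (Set.disjoint_left.2 fun u a b => a.2.elim b.2.2.1 b.2.2.2)
  have c6 : {u | u ∈ E ⊓ centralizer {y} ∧ (u = 1 ∨ IsConj z u)} ∪
      {u | u ∈ E ⊓ centralizer {y} ∧ u * u = 1 ∧ u ≠ 1 ∧ ¬ IsConj z u} = {f | f ∈ E ⊓ centralizer {y} ∧ f * f = 1} :=
    Set.ext fun u => ⟨fun k => k.elim
      (fun a => ⟨a.1, a.2.elim (fun e => by simp [e]) fun e => (H.zsq ls e).1⟩) fun a => ⟨a.1, a.2.1⟩,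
      fun k => (em (u = 1 ∨ IsConj z u)).imp (fun a => ⟨k.1, a⟩) fun a => ⟨k.1, k.2, not_or.1 a⟩⟩
  rw [c6] at c5
  omega

theorem exA : ∃ A : Subgroup G, ∀ u, u ∈ A ↔ u ∈ E ⊓ centralizer {y} ∧ (u = 1 ∨ IsConj z u) := by
  set S := {u | u ∈ E ⊓ centralizer {y} ∧ (u = 1 ∨ IsConj z u)} with hS
  have es := H.esF ls
  have s1 : (1 : G) ∈ S := ⟨one_mem _, .inl rfl⟩
  have sz : z ∈ S := ⟨es.mem, .inr (IsConj.refl _)⟩
  have sq : ∀ u ∈ S, u * u = 1 := fun u a => a.2.elim (fun e => by simp [e]) fun e => (H.zsq ls e).1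
  have mz : ∀ u ∈ S, u * z ∈ S := fun u a => by
    by_cases k1 : u = 1
    · rwa [k1, one_mul]
    by_cases k2 : u = z
    · rwa [k2, ls.sq]
    obtain ⟨v, hv, n⟩ := es.exists_anti a.1 k1 k2
    exact ⟨mul_mem a.1 es.mem, .inr ((a.2.resolve_left k1).trans (isConj_iff.2 ⟨v, es.conj_anti hv a.1 (Ne.symm n)⟩))⟩
  have mp : ∀ u ∈ S, p * u * p⁻¹ ∈ S := fun u a => ⟨⟨ls.norm p H.pz u a.1.1, (centralizer {y}).mul_mem ((centralizer {y}).mul_mem
    (mem_cent_single.2 H.yp) a.1.2) ((centralizer {y}).inv_mem (mem_cent_single.2 H.yp))⟩,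
    a.2.imp (fun e => by simp [e]) fun e => e.trans (isConj_iff.2 ⟨p, rfl⟩)⟩
  have m1 : ∀ u ∈ S, u * (p * u * p⁻¹) ∈ S := fun u a => by
    have c := mp _ (mp u a)
    rcases H.tri ls a.1.1 with k | k
    · rwa [eq_inv_of_mul_eq_one_left k, inv_eq_of_mul_eq_one_right (sq _ c)]
    · rw [eq_mul_inv_of_mul_eq k, inv_eq_of_mul_eq_one_right (sq _ c), ← es.cen _ c.1]; exact mz _ c
  have sw : ∀ v w : G, v = w * z ↔ w = v * z := fun v w =>
    ⟨fun e => by rw [e, mul_assoc, ls.sq, mul_one], fun e => by rw [e, mul_assoc, ls.sq, mul_one]⟩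
  refine ⟨{ carrier := S, one_mem' := s1, inv_mem' := fun {u} a => by rwa [inv_eq_of_mul_eq_one_right (sq u a)]
            mul_mem' := fun {u v} a b => ?_ }, fun u => Iff.rfl⟩
  by_cases k1 : u = 1
  · rwa [k1, one_mul]
  by_cases k2 : u = z
  · rw [k2, ← es.cen _ b.1]; exact mz v b
  have pp : p * (p * (p * u * p⁻¹) * p⁻¹) * p⁻¹ = u := by
    calc _ = p ^ 3 * u * (p ^ 3)⁻¹ := by simp only [pow_succ, pow_zero]; group
      _ = _ := by rw [H.p3]; group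
  have nn : ∀ w ∈ S, w ≠ 1 ∧ w ≠ z → (p * w * p⁻¹ ≠ 1 ∧ p * w * p⁻¹ ≠ z) ∧ p * w * p⁻¹ ≠ w ∧ p * w * p⁻¹ ≠ w * z :=
    fun w a n => ⟨⟨by simpa using n.1, fun e => n.2 ((MulAut.conj p).injective (e.trans (conj_eq_of_comm H.pz).symm))⟩,
      not_or.1 fun e => not_or.2 n (H.fpz w a.1.1 e)⟩
  have a1 := mp u a
  have a2 := mp _ a1
  obtain ⟨n1, n1'⟩ := nn u a ⟨k1, k2⟩
  obtain ⟨n2, n2'⟩ := nn _ a1 n1
  obtain ⟨-, n3'⟩ := nn _ a2 n2
  have m2 := m1 _ a2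
  have m0 := m1 _ a
  rw [pp] at n3' m2
  generalize p * (p * u * p⁻¹) * p⁻¹ = c at *
  generalize p * u * p⁻¹ = d at *
  have m3 : u * c ∈ S := by
    rwa [← inv_eq_of_mul_eq_one_right (sq _ m2), mul_inv_rev, inv_eq_of_mul_eq_one_right (sq _ a),
      inv_eq_of_mul_eq_one_right (sq _ a2)] at m2
  classical
  have nd : [1, z, u, u * z, d, d * z, c, c * z].Nodup := by
    have z1 := ls.ne
    have q1 := (sw u d).not.2 n1'.2
    have q2 := (sw d c).not.2 n2'.2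
    have q3 := (sw c u).not.2 n3'.2
    have r1 := (sw 1 u).not.2 (by simpa using k2)
    have r2 := (sw 1 d).not.2 (by simpa using n1.2)
    have r3 := (sw 1 c).not.2 (by simpa using n2.2)
    simp [z1, z1.symm, k1, Ne.symm k1, Ne.symm k2, n1.1, n1.2, n1.1.symm, n1.2.symm, n2.1, n2.2, n2.1.symm, n2.2.symm,
      n1'.1.symm, n1'.2.symm, n2'.1.symm, n2'.2.symm, n3'.1, n3'.2, q1, q2, Ne.symm q3, r1, r2, r3]
  have e := Set.eq_of_subset_of_ncard_le (s := ([1, z, u, u * z, d, d * z, c, c * z].toFinset : Set G)) (t := S)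
    (by simp [Set.insert_subset_iff, s1, sz, a, a1, a2, mz, show u ∈ S from a])
    (by rw [Set.ncard_coe_finset, List.toFinset_card_of_nodup nd, hS, H.cS ls F2]; rfl)
  have b' : v ∈ S := b
  rw [← e] at b'
  simp only [List.coe_toFinset, List.mem_cons, List.not_mem_nil, or_false, Set.mem_ofPred_eq] at b'
  change u * v ∈ S
  rcases b' with k | k | k | k | k | k | k | k <;> rw [k]
  · rwa [mul_one]
  · exact mz u a
  · rwa [sq u a]
  · rwa [← mul_assoc, sq u a, one_mul]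
  · exact m0
  · rw [← mul_assoc]; exact mz _ m0
  · exact m3
  · rw [← mul_assoc]; exact mz _ m3

end Q5

end Cfsg.Lib.JF
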