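import Cfsg.Agent.Lib.Block2.JQ3

/-! Groups of Janko-four type: the order of the centraliser of an element of order 5. -/

set_option autoImplicit false
set_option linter.unusedSectionVars false

namespace Cfsg.Lib.JF

open Subgroup Cfsg.Lib.Amalg Cfsg.Lib.Core Cfsg.Lib.Known2

variable {G : Type*} [Group G]

theorem cmj {c u y : G} (a : c * y = y * c) (b : u * y = y * u) : c * u * c⁻¹ * y = y * (c * u * c⁻¹) :=
  ((show Commute c y from a).mul_left b).mul_left (show Commute c y from a).inv_left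

theorem cmi {c u y : G} (a : c * y = y * c) (b : u * y = y * u) : c⁻¹ * u * c * y = y * (c⁻¹ * u * c) :=
  ((show Commute c y from a).inv_left.mul_left b).mul_left a

namespace Q5
variable {E X : Subgroup G} {z y p s r x : G} (H : Q5 E z y p s r x X) (ls : LS E z) [Finite G]
  (F2 : ∀ t, t * t = 1 → t ≠ 1 → ¬ IsConj z t → t * y = y * t →
    Nat.card ↥(centralizer {y} ⊓ centralizer {t} : Subgroup G) ≤ 80)
  {A : Subgroup G} (hA : ∀ u, u ∈ A ↔ u ∈ E ⊓ centralizer {y} ∧ (u = 1 ∨ IsConj z u))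
include H ls F2 hA

theorem cA : Nat.card A = 8 := by
  rw [← H.cS ls F2, ← show (A : Set G) = _ from Set.ext hA]; rfl

theorem sqA {u : G} (a : u ∈ A) : u * u = 1 := ((hA u).1 a).2.elim (fun e => by simp [e]) fun e => (H.zsq ls e).1

theorem zA : z ∈ A := (hA z).2 ⟨(H.esF ls).mem, .inr (IsConj.refl _)⟩

theorem cjA {c u : G} (cy : c * y = y * c) (a : u = 1 ∨ IsConj z u) (b : u * y = y * u) (e : c * u * c⁻¹ ∈ E) :
    c * u * c⁻¹ ∈ A := (hA _).2 ⟨⟨e, mem_cent_single.2 (cmj cy b)⟩,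
  a.imp (fun k => by simp [k]) fun k => k.trans (isConj_iff.2 ⟨c, rfl⟩)⟩

theorem nA {c : G} (cy : c * y = y * c) (cz : c * z = z * c) {u : G} (a : u ∈ A) : c * u * c⁻¹ ∈ A :=
  have b := (hA u).1 a
  H.cjA ls F2 hA cy b.2 (mem_cent_single.1 b.1.2) (ls.norm c cz u b.1.1)

theorem L1 {c g : G} (cy : c * y = y * c) (n : c * z * c⁻¹ ≠ z) (a : g ∈ E ⊓ centralizer {y}) (b : c⁻¹ * g * c ∈ E)
    (gg : g * g = 1) : g ∈ A := by
  by_contra k
  rw [hA, not_and, not_or] at k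
  have es := H.esF ls
  obtain ⟨u, hu, v, hv, e1, e2, m⟩ := es.exists_anti_cent (by rw [H.cF ls]; norm_num)
    (show c⁻¹ * g * c ∈ E ⊓ centralizer {y} from ⟨b, mem_cent_single.2 (cmi cy (mem_cent_single.1 a.2))⟩)
  have t : ∀ u ∈ E ⊓ centralizer {y}, c⁻¹ * g * c * u = u * (c⁻¹ * g * c) → c * u * c⁻¹ ∈ E := fun u hu e =>
    H.two ls ((H.cT ls F2 a gg (k a).1 (k a).2).2 _ (cmj cy (mem_cent_single.1 hu.2)) (by
      calc _ = c * (u * (c⁻¹ * g * c)) * c⁻¹ := by group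
        _ = _ := by rw [← e]; group)) (by rw [conj_pow, show 4 = 2 ^ 2 from rfl, es.pow_four hu]; simp)
  have w := es.anti hu hv m
  rcases ls.comm _ (t u hu e1) _ (t v hv e2) with q | q <;> rw [conj_mul, conj_mul, w, ← conj_mul] at q
  · exact ls.ne (by simpa using q)
  · exact n (mul_left_cancel q)

variable (h8 : 8 < Nat.card E)
include h8

theorem L2 {c : G} (cy : c * y = y * c) (a : c * z * c⁻¹ ∈ A) : cj c A = A := by
  by_cases n : c * z * c⁻¹ = z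
  · exact cj_eq_self_iff.2 (mem_normalizer_of_cj_le (cj_le_iff'.2 fun u hu => H.nA ls F2 hA cy (comm_of_conj_eq n) hu))
  have es := H.esF ls
  have z0 : c⁻¹ * z * c ∈ E ⊓ centralizer {y} :=
    ⟨mem_cj.1 (ls.sym ((hA _).1 a).1.1 h8), mem_cent_single.2 (cmi cy H.yz)⟩
  obtain ⟨v, hv, m⟩ := es.exists_anti z0 (by simpa using (ls.conj c⁻¹).ne) fun e => n (by nth_rw 1 [← e]; group)
  have c16 := es_two es le_rfl z0 hv m
  rw [H.cF ls, ← card_cj c] at c16
  have l : cj c (E ⊓ centralizer {y} ⊓ centralizer {c⁻¹ * z * c}) ≤ centralizer {y} ⊓ centralizer {z} :=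
    cj_le_iff'.2 fun u hu => ⟨mem_cent_single.2 (cmj cy (mem_cent_single.1 hu.1.2)), mem_cent_single.2 (by
      calc _ = c * (u * (c⁻¹ * z * c)) * c⁻¹ := by group
        _ = _ := by rw [mem_cent_single.1 hu.2]; group)⟩
  have c8 := H.half ls l (by
    rintro _ ⟨u, hu, rfl⟩
    change (c * u * c⁻¹) ^ 4 = 1
    rw [conj_pow, show 4 = 2 ^ 2 from rfl, es.pow_four hu.1]; simp)
  have l2 : E ⊓ cj c (E ⊓ centralizer {y} ⊓ centralizer {c⁻¹ * z * c}) ≤ A ⊓ cj c A := fun g hg => by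
    have g0 := mem_cj.1 hg.2
    have gg : g * g = 1 := (ls.sq_mem g hg.1).resolve_right fun e => by
      have e' : c⁻¹ * g * c * (c⁻¹ * g * c) = c⁻¹ * z * c := by rw [← e]; group
      rcases ls.sq_mem _ g0.1.1 with k | k <;> rw [e'] at k
      · exact (ls.conj c⁻¹).ne (by simpa using k)
      · exact n (by nth_rw 1 [← k]; group)
    have gA := H.L1 ls F2 hA cy n ⟨hg.1, (l hg.2).1⟩ g0.1.1 gg
    exact ⟨gA, mem_cj.2 ((hA _).2 ⟨g0.1, ((hA g).1 gA).2.imp (fun k => by simp [k])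
      fun k => k.trans (isConj_iff.2 ⟨c⁻¹, by simp⟩)⟩)⟩
  have c9 := card_le_of_le l2
  have cA := H.cA ls F2 hA
  have e1 := eq_of_le_of_card_ge (inf_le_left : A ⊓ cj c A ≤ A) (by omega)
  have e2 := eq_of_le_of_card_ge (inf_le_right : A ⊓ cj c A ≤ cj c A) (by rw [card_cj]; omega)
  exact e2.symm.trans e1

variable (F1 : ∀ u, IsConj z u → u * y = y * u → ∃ c, c * y = y * c ∧ c * z * c⁻¹ = u)
include F1

theorem L3 {b : G} (bz : b * z = z * b) (by' : b * y = y * b) (k : IsConj z b) : b ∈ A := by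
  obtain ⟨c, cy, e⟩ := F1 b k by'
  have c3 := fix3 (fun u a => H.sqA ls F2 hA a) (H.zsq ls k).1 (fun u a => H.nA ls F2 hA by' bz a)
    (by rw [H.cA ls F2 hA]; norm_num)
  obtain ⟨a, ha, n⟩ := SetLike.not_le_iff_exists.1 fun q : A ⊓ centralizer {b} ≤ zpowers z => by
    have := card_le_of_le q
    rw [card_zpowers_invol ls.sq ls.ne] at this
    omega
  have zA := H.zA ls F2 hA
  have t : ∀ g ∈ A, g ≠ 1 → c⁻¹ * g * c ∈ E → b ∈ A := fun g hg g1 ge => by
    have q := (hA g).1 hg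
    obtain ⟨c1, c1y, rfl⟩ := F1 g (q.2.resolve_left g1) (mem_cent_single.1 q.1.2)
    have e1 := H.L2 ls F2 hA h8 c1y hg
    have ci : c⁻¹ * y = y * c⁻¹ := (show Commute c y from cy).inv_left
    have e2 := H.L2 ls F2 hA h8 (c := c⁻¹ * c1) ((show Commute c⁻¹ y from ci).mul_left c1y) (by
      have := H.cjA ls F2 hA ci q.2 (mem_cent_single.1 q.1.2) (by simpa using ge)
      simpa [mul_assoc] using this)
    rw [cj_mul, e1] at e2
    rw [← e, ← cj_cj_inv c A, e2]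
    exact conj_mem_cj c zA
  have u : ∀ g ∈ A, g * b = b * g → (c⁻¹ * g * c * z = z * (c⁻¹ * g * c) ∧ c⁻¹ * g * c * y = y * (c⁻¹ * g * c)) ∧
      (H.Ev (c⁻¹ * g * c) → c⁻¹ * g * c ∈ E) := fun g hg gb => ⟨⟨by
        calc _ = c⁻¹ * (g * (c * z * c⁻¹)) * c := by group
          _ = _ := by rw [e, gb, ← e]; group, cmi cy (mem_cent_single.1 ((hA g).1 hg).1.2)⟩, fun v => H.two ls v (by
        calc _ = c⁻¹ * (g * g * (g * g)) * c := by simp only [pow_succ, pow_zero]; group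
          _ = 1 := by rw [H.sqA ls F2 hA hg]; group)⟩
  have ab := mem_cent_single.1 ha.2
  obtain ⟨u1, u2⟩ := u a ha.1 ab
  obtain ⟨v1, v2⟩ := u z zA bz.symm
  by_cases k1 : H.Ev (c⁻¹ * a * c)
  · exact t a ha.1 (fun q => n (q ▸ one_mem _)) (u2 k1)
  by_cases k2 : H.Ev (c⁻¹ * z * c)
  · exact t z zA ls.ne (v2 k2)
  have := H.idx ls u1.1 u1.2 v1.1 v1.2 k1 k2
  rw [show c⁻¹ * a * c * (c⁻¹ * z * c)⁻¹ = c⁻¹ * (a * z⁻¹) * c by group] at this
  exact t _ (mul_mem ha.1 (inv_mem zA)) (fun q => n (mul_inv_eq_one.1 q ▸ mem_zpowers z))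
    ((u _ (mul_mem ha.1 (inv_mem zA)) ((show Commute a b from ab).mul_left
      (show Commute z b from bz.symm).inv_left)).2 this)

theorem L4 {u : G} (uy : u * y = y * u) (k : IsConj z u) : u ∈ A := by
  obtain ⟨x1, x2, x3⟩ := H.XE x H.xX
  obtain ⟨j, w1, w2, w3, w4⟩ := two_inv (H.zsq ls k).1 x3 fun q => H.xz (k.trans q)
  have wy : (u * x) ^ j * y = y * (u * x) ^ j := (((show Commute u y from uy).mul_left x2).pow_left j)
  generalize (u * x) ^ j = w at *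
  have wE := H.two ls ((H.cT ls F2 (H.XF H.xX) x3 H.x1 H.xz).2 w wy w4.symm) (by
    rw [show 4 = 2 * 2 from rfl, pow_mul, pow_two w, w2, one_pow])
  by_cases q : IsConj z w
  · obtain ⟨c, cy, rfl⟩ := F1 w q wy
    rw [← H.L2 ls F2 hA h8 cy ((hA _).2 ⟨⟨wE, mem_cent_single.2 wy⟩, .inr q⟩), mem_cj]
    refine H.L3 ls F2 hA h8 F1 ?_ (cmi cy uy) (k.trans (isConj_iff.2 ⟨c⁻¹, by simp⟩))
    calc _ = c⁻¹ * (u * (c * z * c⁻¹)) * c := by group
      _ = _ := by rw [w3]; group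
  · exact H.L3 ls F2 hA h8 F1 (((H.cT ls F2 ⟨wE, mem_cent_single.2 wy⟩ w2 w1 q).2 u uy w3).zy H ls).1 uy k

theorem nC {c : G} (cy : c * y = y * c) {u : G} (a : u ∈ A) : c * u * c⁻¹ ∈ A := by
  rcases ((hA u).1 a).2 with k | k
  · simp [k]
  · exact H.L4 ls F2 hA h8 F1 (cmj cy (mem_cent_single.1 ((hA u).1 a).1.2)) (k.trans (isConj_iff.2 ⟨c, rfl⟩))

theorem cC : Nat.card (centralizer {y} : Subgroup G) = 6720 := by
  have e : {v | ∃ g ∈ (centralizer {y} : Subgroup G), g * z * g⁻¹ = v} = (A : Set G) \ {1} := Set.ext fun v =>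
    ⟨fun ⟨g, a, b⟩ => b ▸ ⟨H.nC ls F2 hA h8 F1 (mem_cent_single.1 a) (H.zA ls F2 hA), by simpa using ls.ne⟩,
      fun ⟨a, b⟩ => (F1 v (((hA v).1 a).2.resolve_left b) (mem_cent_single.1 ((hA v).1 a).1.2)).imp
        fun c k => ⟨mem_cent_single.2 k.1, k.2⟩⟩
  rw [card_orb _ z, H.cB ls, e, Set.ncard_sdiff_singleton_of_mem A.one_mem]
  change (Nat.card A - 1) * 960 = _
  rw [H.cA ls F2 hA]

omit h8 F1 in
theorem cenA {g : G} (gy : g * y = y * g) (k : ∀ a ∈ A, g * a = a * g) : ∃ a ∈ A, ∃ c ∈ zpowers y, g = a * c := by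
  have es := H.esF ls
  have zA := H.zA ls F2 hA
  have cA := H.cA ls F2 hA
  have AF : A ≤ E ⊓ centralizer {y} := fun u a => ((hA u).1 a).1
  obtain ⟨a, ha, n⟩ := SetLike.not_le_iff_exists.1 fun q : A ≤ zpowers z => by
    have := card_le_of_le q
    rw [card_zpowers_invol ls.sq ls.ne] at this
    omega
  rw [es.mem_zp] at n
  have nf : ∀ f ∈ E, ∀ u ∈ A, f * (p * u * p⁻¹) * f⁻¹ = u → u = 1 ∨ u = z := fun f hf u hu e => by
    refine H.fpz u (AF hu).1 ?_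
    rw [show p * u * p⁻¹ = f⁻¹ * u * f⁻¹⁻¹ by nth_rw 2 [← e]; group]
    exact ls.toES.conj_eq (inv_mem hf) (AF hu).1
  have pA : ∀ u ∈ A, p⁻¹ * u * p ∈ A := fun u hu => by
    simpa using H.nA ls F2 hA (c := p⁻¹) (show Commute p y from H.yp).inv_left (show Commute p z from H.pz).inv_left hu
  have p2 : p * p = p⁻¹ := eq_inv_of_mul_eq_one_left (by rw [← H.p3]; simp only [pow_succ, pow_zero, one_mul])
  obtain ⟨f, f1, f2, d, hd, c, hc, e | e⟩ := H.dec g (k z zA) gy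
  · have ca : ∀ u ∈ A, f * (d * u * d⁻¹) * f⁻¹ = u := fun u hu => by
      obtain ⟨i, rfl⟩ := hc
      have := conj_eq_of_comm ((show Commute y u from (mem_cent_single.1 (AF hu).2).symm).zpow_left i)
      calc _ = f * (d * (y ^ i * u * (y ^ i)⁻¹) * d⁻¹) * f⁻¹ := by rw [this]
        _ = g * u * g⁻¹ := by rw [e]; group
        _ = u := conj_eq_of_comm (k u hu)
    have d1 : d = 1 := by
      obtain ⟨i, rfl⟩ := hd
      have h3 : p ^ (3 : ℤ) = 1 := by exact_mod_cast H.p3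
      have : p ^ i = p ^ (i % 3) := by
        nth_rw 1 [← Int.mul_ediv_add_emod i 3]; rw [zpow_add, zpow_mul, h3]; simp
      simp only [this] at ca ⊢
      have : i % 3 = 0 ∨ i % 3 = 1 ∨ i % 3 = 2 := by omega
      rcases this with q | q | q <;> rw [q] at ca ⊢
      · simp
      · exact (n (nf f f1 a ha (by simpa using ca a ha))).elim
      · refine (n (nf (p * f⁻¹ * p⁻¹) (ls.norm p H.pz _ (inv_mem f1)) a ha ?_)).elim
        nth_rw 1 [← ca a ha]
        calc _ = p ^ 3 * a * (p ^ 3)⁻¹ := by simp only [pow_succ, pow_zero, zpow_two]; group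
          _ = a := by rw [H.p3]; group
    have c8 := es_cent es AF zA
    rw [cA, H.cF ls] at c8
    refine ⟨f, (eq_of_le_of_card_ge (H := A) (K := E ⊓ centralizer {y} ⊓ centralizer (A : Set G)) (fun u hu =>
      ⟨AF hu, fun v hv => comm_of_sq (fun _ => H.sqA ls F2 hA) hv hu⟩) (by omega)).ge
      ⟨⟨f1, mem_cent_single.2 f2⟩, fun u hu => (comm_of_conj_eq (by simpa [d1] using ca u hu)).symm⟩, c, hc,
      by simp [e, d1]⟩
  · have gp : g * p * g⁻¹ = f * p⁻¹ * f⁻¹ := by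
      calc _ = f * (d * c * (s * p * s⁻¹) * (d * c)⁻¹) * f⁻¹ := by rw [e]; group
        _ = _ := by rw [H.sp, conj_eq_of_comm (H.cms hd hc).2.2.1.inv_right]
    refine (n (nf (f * (p⁻¹ * f⁻¹ * p⁻¹⁻¹)) (mul_mem f1 (ls.norm _ (show Commute p z from H.pz).inv_left _
      (inv_mem f1))) a ha ?_)).elim
    have k1 := conj_eq_of_comm (k a ha)
    have k2 := conj_eq_of_comm (show Commute g _ from k _ (pA a ha)).inv_left
    calc _ = f * p⁻¹ * f⁻¹ * (p * p * a * (p * p)⁻¹) * (f * p⁻¹ * f⁻¹)⁻¹ := by group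
      _ = g * p * (g⁻¹ * (p⁻¹ * a * p) * g⁻¹⁻¹) * p⁻¹ * g⁻¹ := by rw [← gp, p2]; group
      _ = a := by rw [k2]; nth_rw 2 [← k1]; group

end Q5

end Cfsg.Lib.JF
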