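import Cfsg.Agent.Lib.Block2.JQ4
import Cfsg.Agent.Lib.Small.Holo
import Cfsg.Agent.Lib.Linear.SmallIso
import Cfsg.Prelude.Def_TwoFusion

/-! Groups of Janko-four type: the structure of the normaliser of a subgroup of order 5. -/

set_option autoImplicit false
set_option linter.unusedSectionVars false

namespace Cfsg.Lib.JF

open Subgroup Cfsg.Lib.Amalg Cfsg.Lib.Core Cfsg.Lib.Known2

variable {G : Type*} [Group G]

theorem pw5 {y r u : G} (y5 : y ^ 5 = 1) (ry : r * y * r⁻¹ = y ^ 2) (hu : u ∈ zpowers y) (n : u ≠ 1) :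
    ∃ k ∈ zpowers r, k * y * k⁻¹ = u := by
  obtain ⟨i, rfl⟩ := hu
  have h5 : y ^ (5 : ℤ) = 1 := by exact_mod_cast y5
  have e : y ^ i = y ^ (i % 5) := by
    nth_rw 1 [← Int.mul_ediv_add_emod i 5]; rw [zpow_add, zpow_mul, h5]; simp
  have r2 : r * r * y * (r * r)⁻¹ = y ^ 4 := by
    calc _ = r * (r * y * r⁻¹) * r⁻¹ := by group
      _ = _ := by rw [ry, ← conj_pow, ry, ← pow_mul]
  have r3 : r * (r * r) * y * (r * (r * r))⁻¹ = y ^ 3 := by
    calc _ = r * (r * r * y * (r * r)⁻¹) * r⁻¹ := by group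
      _ = y ^ 5 * y ^ 3 := by rw [r2, ← conj_pow, ry, ← pow_mul, ← pow_add]
      _ = _ := by rw [y5, one_mul]
  have m := mem_zpowers r
  simp only [e] at n ⊢
  have : i % 5 = 0 ∨ i % 5 = 1 ∨ i % 5 = 2 ∨ i % 5 = 3 ∨ i % 5 = 4 := by omega
  rcases this with q | q | q | q | q <;> rw [q] at n ⊢
  · simp at n
  · exact ⟨1, one_mem _, by simp⟩
  · exact ⟨r, m, by exact_mod_cast ry⟩
  · exact ⟨_, mul_mem m (mul_mem m m), by exact_mod_cast r3⟩
  · exact ⟨_, mul_mem m m, by exact_mod_cast r2⟩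

theorem aut8 {A : Type*} [Group A] [Finite A] (sq : ∀ a : A, a * a = 1) (c : Nat.card A = 8) :
    Nonempty (MulAut A ≃* Matrix.SpecialLinearGroup (Fin 3) (ZMod 2)) := by
  have := Fact.mk Nat.prime_two
  obtain ⟨e⟩ := Small.mulAut_equiv_GL (W := A) (p := 2) (n := 3)
    (fun a b => comm_of_sq (B := ⊤) (fun x _ => sq x) trivial trivial) (fun a => by rw [pow_two, sq]) c
  refine ⟨e.trans (MulEquiv.ofBijective Matrix.SpecialLinearGroup.toGL ⟨Matrix.SpecialLinearGroup.toGL_injective,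
    fun g => ⟨⟨g, ?_⟩, Units.ext rfl⟩⟩).symm⟩
  have := (Matrix.isUnits_det_units g).ne_zero
  exact (Golay.zmod2_cases _).resolve_left this

theorem Q5.fin {E X : Subgroup G} {z y p s r x : G} (H : Q5 E z y p s r x X) (ls : LS E z) [Finite G]
    (F2 : ∀ t, t * t = 1 → t ≠ 1 → ¬ IsConj z t → t * y = y * t →
      Nat.card ↥(centralizer {y} ⊓ centralizer {t} : Subgroup G) ≤ 80) (h8 : 8 < Nat.card E)
    (F1 : ∀ u, IsConj z u → u * y = y * u → ∃ c, c * y = y * c ∧ c * z * c⁻¹ = u) {Q : Subgroup G} (hQ : Q = zpowers y) :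
    ¬ (25 ∣ Nat.card G) ∧
    (∃ J : Subgroup G, Cfsg.IsInternalDirectProduct Q J (Subgroup.centralizer (Q : Set G)) ∧
      ∃ (E : Subgroup ↥J) (_ : E.Normal), Cfsg.IsElementaryAbelian 2 E ∧ Nat.card ↥E = 8 ∧
        Nonempty (↥J ⧸ E ≃* Matrix.SpecialLinearGroup (Fin 3) (ZMod 2)) ∧ ∀ K : Subgroup ↥J, ¬ E.IsComplement' K) ∧
    (∃ R : Subgroup G, Q ≤ R ∧ R ≤ Subgroup.normalizer (Q : Set G) ∧ Nat.card ↥R = 20 ∧
      R ⊓ Subgroup.centralizer (Q : Set G) = Q) ∧
    Nat.card ↥(Subgroup.normalizer (Q : Set G)) = 2 ^ 8 * 3 * 5 * 7 := by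
  subst hQ
  obtain ⟨A, hA⟩ := H.exA ls F2
  have cC := H.cC ls F2 hA h8 F1
  have cA := H.cA ls F2 hA
  have cQ : Nat.card (zpowers y) = 5 := by rw [Nat.card_zpowers, H.oy ls]
  have eC : 𝐂 (zpowers y) = centralizer {y} := Subgroup.ext fun g => mem_cent_zpowers.trans mem_cent_single.symm
  have QC : zpowers y ≤ centralizer {y} := zpowers_le.2 (mem_cent_single.2 rfl)
  have rN : r ∈ 𝐍 (zpowers y) := mem_normalizer_of_cj_le (by
    rw [cj_zpowers, H.ry]; exact zpowers_le.2 (pow_mem (mem_zpowers y) 2))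
  have orb : ∀ R : Subgroup G, R ≤ 𝐍 (zpowers y) → r ∈ R → Nat.card R = 4 * Nat.card ↥(R ⊓ centralizer {y}) :=
    fun R l hr => by
      have e : {v | ∃ g ∈ R, g * y * g⁻¹ = v} = (zpowers y : Set G) \ {1} := Set.ext fun v =>
        ⟨fun ⟨g, a, b⟩ => b ▸ ⟨(mem_normalizer_iff.1 (l a) y).1 (mem_zpowers y), by simpa using H.y1⟩,
          fun ⟨a, b⟩ => (pw5 H.y5 H.ry a b).imp fun k q => ⟨zpowers_le.2 hr q.1, q.2⟩⟩
      rw [card_orb R y, e, Set.ncard_sdiff_singleton_of_mem (zpowers y).one_mem]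
      change (Nat.card (zpowers y) - 1) * _ = _
      rw [cQ]
  have := Fact.mk Nat.prime_five
  have := Fact.mk Nat.prime_two
  rw [eC]
  refine ⟨fun d => ?_, ?_, ⟨zpowers y ⊔ zpowers r, le_sup_left, sup_le le_normalizer (zpowers_le.2 rN), ?_⟩, ?_⟩
  · obtain ⟨K, k1, k2⟩ := Sylow.exists_subgroup_card_pow_succ (p := 5) (n := 1) d (H := zpowers y) cQ
    have := card_dvd_of_le (show K ≤ centralizer {y} from fun g hg => mem_cent_single.2 (congrArg Subtype.val
      ((IsPGroup.isMulCommutative_of_card_eq_prime_sq k1).is_comm.comm ⟨g, hg⟩ ⟨y, k2 (mem_zpowers y)⟩)))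
    rw [k1, cC] at this
    norm_num at this
  · have hn : ((zpowers y).subgroupOf (centralizer {y})).Normal := normal_subgroupOf_of_le_normalizer
      (eC ▸ centralizer_le_normalizer _)
    have c1 : Nat.card ((zpowers y).subgroupOf (centralizer {y})) = 5 :=
      (Nat.card_congr (subgroupOfEquivOfLe QC).toEquiv).trans cQ
    have c2 := ((zpowers y).subgroupOf (centralizer {y})).card_mul_index
    rw [c1, cC] at c2
    obtain ⟨J0, hJ⟩ := exists_right_complement'_of_coprime (N := (zpowers y).subgroupOf (centralizer {y}))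
      (by rw [c1, show ((zpowers y).subgroupOf (centralizer {y})).index = 1344 by omega]; norm_num)
    have c3 := hJ.card_mul_card
    rw [c1, cC, ← card_map_subtype] at c3
    have dj : ∀ c ∈ zpowers y, c ∈ J0.map (centralizer {y}).subtype → c = 1 := by
      rintro _ a ⟨c, b, rfl⟩
      exact congrArg Subtype.val (disjoint_def.1 hJ.disjoint a b)
    have sj : zpowers y ⊔ J0.map (centralizer {y}).subtype = centralizer {y} := by
      rw [← map_subgroupOf_eq_of_le QC, ← Subgroup.map_sup, hJ.sup_eq_top, ← MonoidHom.range_eq_map, range_subtype]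
    have JC : J0.map (centralizer {y}).subtype ≤ centralizer {y} := map_subtype_le _
    generalize J0.map (centralizer {y}).subtype = J at c3 dj sj JC
    have cq : ∀ c ∈ zpowers y, ∀ j ∈ J, c * j = j * c := fun c a j b => (eC.ge (JC b)) c a
    have sq : ∀ u ∈ A, u * u = 1 := fun u a => H.sqA ls F2 hA a
    have AJ : A ≤ J := fun a ha => by
      obtain ⟨c, hc, j, hj, rfl⟩ := (mem_sup_of_le_normalizer' (JC.trans (eC ▸ centralizer_le_normalizer _))).1
        (sj.ge ((hA a).1 ha).1.2)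
      have e := sq _ ha
      rw [show c * j * (c * j) = c * (j * c) * j by group, ← cq c hc j hj, ← mul_assoc, mul_assoc] at e
      have c2 := dj _ (mul_mem hc hc) (eq_inv_of_mul_eq_one_left e ▸ inv_mem (mul_mem hj hj))
      have c5 : c ^ 5 = 1 := by rw [← cQ]; exact congrArg Subtype.val (pow_card_eq_one' (x := (⟨c, hc⟩ : zpowers y)))
      have : c = 1 := by rw [← c5, show c ^ 5 = c * c * (c * c) * c by simp only [pow_succ, pow_zero, one_mul, mul_assoc], c2]; simp
      rwa [this, one_mul]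
    have JN : J ≤ 𝐍 A := fun j hj => mem_normalizer_of_cj_le (cj_le_iff'.2 fun u hu =>
      H.nC ls F2 hA h8 F1 (mem_cent_single.1 (JC hj)) hu)
    have cE : Nat.card (A.subgroupOf J) = 8 := (Nat.card_congr (subgroupOfEquivOfLe AJ).toEquiv).trans cA
    have nE := normal_subgroupOf_of_le_normalizer JN
    refine ⟨J, ⟨QC, JC, cq, eq_bot_iff.2 fun c a => dj c a.1 a.2, sj⟩, A.subgroupOf J, nE,
      ⟨⟨⟨fun a b => Subtype.ext (Subtype.ext (comm_of_sq sq a.2 b.2))⟩⟩, fun a ha => Subtype.ext (by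
        rw [pow_two]; exact sq _ ha)⟩, cE, ?_, fun K hK => ?_⟩
    · obtain ⟨e⟩ := aut8 (A := A) (fun a => Subtype.ext (sq a a.2)) cA
      let ψ : J →* MulAut A := A.normalizerMonoidHom.comp (inclusion JN)
      have k : A.subgroupOf J = ψ.ker := Subgroup.ext fun j => ⟨fun a => MulEquiv.ext fun u => Subtype.ext
        (conj_eq_of_comm (comm_of_sq sq a u.2)), fun a => by
          obtain ⟨u, hu, c, hc, q⟩ := H.cenA ls F2 hA (mem_cent_single.1 (JC j.2)) fun u hu =>
            comm_of_conj_eq (congrArg (fun f : MulAut A => (f ⟨u, hu⟩ : G)) a)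
          rw [dj c hc ((J.mul_mem_cancel_left (AJ hu)).1 (q ▸ j.2)), mul_one] at q
          exact (show (j : G) ∈ A from q ▸ hu)⟩
      have c4 := card_map_mul_card_inf_ker ψ ⊤
      rw [inf_top_eq, card_top, ← k, cE] at c4
      have su : Function.Surjective ψ := MonoidHom.range_eq_top.1 (by
        rw [MonoidHom.range_eq_map]
        exact eq_top_of_card_eq _ (by rw [Nat.card_congr e.toEquiv, Linear.card_SL_three_two]; omega))
      exact ⟨((QuotientGroup.quotientMulEquivOfEq k).trans (QuotientGroup.quotientKerEquivOfSurjective ψ su)).trans e⟩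
    · have c4 := hK.card_mul_card
      rw [cE] at c4
      obtain ⟨S, hS⟩ := Sylow.exists_subgroup_card_pow_prime (G := K) 2 (n := 3) (by omega)
      have p2 := IsPGroup.of_card hS
      have : Nontrivial S := Finite.one_lt_card_iff_nontrivial.1 (by omega)
      obtain ⟨n, n0, cn⟩ := (p2.to_subgroup (center S)).nontrivial_iff_card.1 p2.center_nontrivial
      obtain ⟨t, ot⟩ := exists_prime_orderOf_dvd_card' (G := center S) 2 (cn ▸ dvd_pow_self 2 n0.ne')
      have dK : ∀ k : K, ((k : J) : G) ∈ A → k = 1 := fun k a => Subtype.ext (disjoint_def.1 hK.disjoint a k.2)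
      have t1 : (((t : S) : K) : J) ≠ 1 := fun q => by
        rw [show t = 1 from Subtype.ext (Subtype.ext (Subtype.ext q))] at ot; simp at ot
      have tt : ((((t : S) : K) : J) : G) * (((t : S) : K) : J) = 1 := by
        have := pow_orderOf_eq_one t
        rw [ot, pow_two] at this
        exact congrArg (fun u : center S => ((((u : S) : K) : J) : G)) this
      have ty := mem_cent_single.1 (JC (((t : S) : K) : J).2)
      have c80 := F2 _ tt (fun q => t1 (Subtype.ext q)) (fun q => t1 (congrArg Subtype.val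
        (dK _ (H.L4 ls F2 hA h8 F1 ty q)))) ty
      have c3' := fix3 sq tt (fun u a => H.nC ls F2 hA h8 F1 ty a) (by omega)
      have tS : (S.map K.subtype).map J.subtype ≤ centralizer {y} ⊓ centralizer {((((t : S) : K) : J) : G)} := by
        rintro _ ⟨_, ⟨u, hu, rfl⟩, rfl⟩
        exact ⟨JC (u : J).2, mem_cent_single.2 (congrArg (fun u : S => (((u : K) : J) : G))
          (mem_center_iff.1 t.2 ⟨u, hu⟩))⟩
      have cS : Nat.card ((S.map K.subtype).map J.subtype) = 8 := by rw [card_map_subtype, card_map_subtype, hS]; rfl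
      have ib : A ⊓ centralizer {((((t : S) : K) : J) : G)} ⊓ (S.map K.subtype).map J.subtype = ⊥ := eq_bot_iff.2 (by
        rintro _ ⟨a, _, ⟨u, hu, rfl⟩, rfl⟩
        rw [dK u a.1]; rfl)
      generalize (S.map K.subtype).map J.subtype = S' at tS cS ib
      generalize ((((t : S) : K) : J) : G) = w at *
      have c5 := card_sup_mul_card_inf' (H := A ⊓ centralizer {w}) (K := S') fun g hg =>
        mem_normalizer_of_cj_le (cj_le_iff'.2 fun u hu => ⟨H.nC ls F2 hA h8 F1 (mem_cent_single.1 (tS hg).1) hu.1,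
          mem_cent_single.2 (cmj (mem_cent_single.1 (tS hg).2) (mem_cent_single.1 hu.2))⟩)
      rw [ib, card_bot, cS] at c5
      have c6 := card_dvd_of_le (sup_le (fun u a => ⟨((hA u).1 a.1).1.2, a.2⟩) tS :
        A ⊓ centralizer {w} ⊔ S' ≤ centralizer {y} ⊓ centralizer {w})
      have c7 := card_dvd_of_le (zpowers_le.2 ⟨mem_cent_single.2 rfl, mem_cent_single.2 ty.symm⟩ :
        zpowers y ≤ centralizer {y} ⊓ centralizer {w})
      have c8 := card_dvd_of_le (inf_le_left : A ⊓ centralizer {w} ≤ A)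
      have c9 := Nat.card_pos (α := ↥(centralizer {y} ⊓ centralizer {w} : Subgroup G))
      rw [cA] at c8
      rw [cQ] at c7
      have := Nat.le_of_dvd (by norm_num) c8
      rw [mul_one] at c5
      rw [c5] at c6
      generalize Nat.card ↥(A ⊓ centralizer {w}) = m at *
      interval_cases m <;> omega
  · have c1 := orb (zpowers y ⊔ zpowers r) (sup_le le_normalizer (zpowers_le.2 rN)) (mem_sup_right (mem_zpowers r))
    have c2 := card_sup_mul_card_inf' (H := zpowers y) (K := zpowers r) (zpowers_le.2 rN)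
    have c3 : Nat.card (zpowers r) ≤ 4 := by
      rw [Nat.card_zpowers]; exact orderOf_le_of_pow_eq_one (by norm_num) H.r4
    have l : zpowers y ≤ (zpowers y ⊔ zpowers r) ⊓ centralizer {y} := le_inf le_sup_left QC
    have c4 := card_le_of_le l
    have c5 := Nat.le_mul_of_pos_right (Nat.card ↥(zpowers y ⊔ zpowers r)) (Nat.card_pos (α := ↥(zpowers y ⊓ zpowers r)))
    rw [cQ] at c2 c4
    exact ⟨by omega, (eq_of_le_of_card_ge l (by omega)).symm⟩
  · rw [orb _ le_rfl rN, inf_eq_right.2 (eC ▸ centralizer_le_normalizer _), cC]; rfl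

end Cfsg.Lib.JF
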