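import Cfsg.Agent.Lib.Golay.Blk

/-! Elements of order five of `M22`. -/

set_option autoImplicit false
set_option maxRecDepth 100000

namespace Cfsg.Lib.JF

open Subgroup Cfsg.Lib.Golay Spor
open scoped Pointwise

def m5x : ℕ := 0x170c10061308010b160209121407040f0d15050a11030e00
def m5f : ℕ := 0x17161510050f040b08090112060e020c031413110d0a0700

theorem m5in : ∀ g ∈ [m5x, m5f], gc.InH M22 g := inH_M22 (by decide +kernel)
theorem m5xin : gc.InH M22 m5x := m5in _ (by simp)
theorem m5fin : gc.InH M22 m5f := m5in _ (by simp)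
theorem m5ord : orderOf (gc.dec m5x) = 5 := m5xin.1.orderOf_eq (by norm_num) (by decide +kernel)

def m5K : List ℕ := [0x17161107130c04140f0a0e08010d031210090515060b0200,
  0x1708140305070d16101206150e040a090b0c1302010f1100]

theorem m5Kin : ∀ g ∈ m5K, gc.InH (M22 ⊓ MulAction.stabilizer (Equiv.Perm GolayPt) (om 0x880021)) g :=
  inH_inf_om (inH_M22 (by decide +kernel)) _ (by decide +kernel)

theorem m5Kc : Nat.card ↥(M22 ⊓ MulAction.stabilizer (Equiv.Perm GolayPt) (om 0x880021)) = 1920 :=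
  (stab_set_cert gen_gM22 inH_gM22 _ (by norm_num) (n := 231) card_M22 (by decide +kernel)).2

theorem m5Kg : gc.gen m5K = M22 ⊓ MulAction.stabilizer (Equiv.Perm GolayPt) (om 0x880021) :=
  eq_of_le_of_card_ge (Coding.gen_le m5Kin) (by
    rw [m5Kc, Coding.card_gen (fun g hg => (m5Kin g hg).1) (M := 4093) (d := 12) (a := 31) (n := 1920)
      (by decide +kernel)])

theorem m5fix : (Finset.univ.filter fun p => gc.dec m5x p = p) = om 0x880021 :=
  m5xin.1.filter_fix (by decide +kernel)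

theorem m5cen : Nat.card ↥(M22 ⊓ centralizer {gc.dec m5x}) = 5 := by
  rw [← Coding.card_centralizer m5Kg (fun g hg => (m5Kin g hg).1) m5xin.1 (n := 384) (N := 5) m5Kc
    (M := 1021) (d := 10) (a := 7) (by decide +kernel)]
  congr 2
  refine le_antisymm (fun g hg => ⟨⟨hg.1, ?_⟩, hg.2⟩) fun g hg => ⟨hg.1.1, hg.2⟩
  have e := filter_fix_conj g (gc.dec m5x)
  rwa [mem_centralizer_singleton_iff.1 hg.2, mul_inv_cancel_right, m5fix, eq_comm] at e

theorem m22_five {q : Equiv.Perm GolayPt} (hq : q ∈ M22) (o : orderOf q = 5) :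
    (∀ c ∈ M22, c * q = q * c → c ∈ zpowers q) ∧ ∃ f ∈ M22, f ^ 4 = 1 ∧ f * q * f⁻¹ = q ^ 2 := by
  obtain ⟨k, hk, rfl⟩ : ∃ k ∈ M22, q = k * gc.dec m5x * k⁻¹ := by
    simpa using Coding.prime_classes (ss := [m5x]) (fun g hg => by rw [List.mem_singleton.1 hg]; exact m5xin)
      (by norm_num : Nat.Prime 5) (n := 88704)
      (by rw [card_M22, Coding.card_gen (valid_of_allL (by decide +kernel)) (M := 31) (d := 5) (a := 1)
        (n := 5) (by decide +kernel)])
      (by norm_num) (Z := [m5x])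
      (T := [(0x17161514131211100f0e0d0c0b0a09080706050403020100, m5x), (m5f, m5x),
        (0x17161506050c0414120a030810020e0f010b131107090d00, m5x),
        (0x1716150b130811060c02070f14090a120d100504010e0300, m5x)])
      (inH_M22 (by decide +kernel)) (valid_of_allL (by decide +kernel)) (by decide +kernel)
      (by decide +kernel) hq (o ▸ pow_orderOf_eq_one q) (by rintro rfl; simp at o)
  have e : zpowers (gc.dec m5x) = M22 ⊓ centralizer {gc.dec m5x} :=
    eq_of_le_of_card_ge (zpowers_le.2 ⟨m5xin.2, mem_centralizer_singleton_iff.2 rfl⟩)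
      (by rw [m5cen, Nat.card_zpowers, m5ord])
  refine ⟨fun c hc h => ?_, k * gc.dec m5f * k⁻¹, M22.mul_mem (M22.mul_mem hk m5fin.2) (M22.inv_mem hk), ?_, ?_⟩
  · obtain ⟨i, hi⟩ : k⁻¹ * c * k ∈ zpowers (gc.dec m5x) := e.ge ⟨M22.mul_mem (M22.mul_mem (M22.inv_mem hk) hc) hk,
      mem_centralizer_singleton_iff.2 (by
        calc k⁻¹ * c * k * gc.dec m5x = k⁻¹ * (c * (k * gc.dec m5x * k⁻¹)) * k := by group
          _ = _ := by rw [h]; group)⟩
    exact ⟨i, by simp only at hi ⊢; rw [conj_zpow, hi]; group⟩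
  · rw [conj_pow, (m5fin.1.pow_eq_one_iff 4).2 (by decide +kernel)]; group
  · have : gc.dec m5f * gc.dec m5x * (gc.dec m5f)⁻¹ = gc.dec m5x ^ 2 := by
      rw [← (m5fin.1.conj m5xin.1).2, ← (m5xin.1.powN 2).2]
      exact congrArg gc.dec (by decide +kernel)
    rw [conj_pow, ← this]; group

end Cfsg.Lib.JF
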