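import Cfsg.Agent.Lib.Block2.JQ5
import Cfsg.Agent.Lib.Block2.JHy
import Cfsg.Agent.Lib.Block2.JVm

/-! Groups of Janko-four type: the data on the centraliser of an element of order 5 in `C(z)`. -/

set_option autoImplicit false
set_option linter.unusedSectionVars false

namespace Cfsg.Lib.JF

open Subgroup Cfsg.Lib.Amalg Cfsg.Lib.Core Cfsg.Lib.Known2 Cfsg.Lib.Golay Cfsg.Spor

variable {G Γ : Type*} [Group G] [Group Γ]

theorem ord5 {y : G} (y5 : y ^ 5 = 1) (y1 : y ≠ 1) : orderOf y = 5 :=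
  have : Fact (Nat.Prime 5) := ⟨by norm_num⟩
  orderOf_eq_prime y5 y1

theorem conj5 [Finite G] {H : Subgroup G} (n : ¬ 25 ∣ Nat.card H) {y r u : G} (hy : y ∈ H) (hr : r ∈ H)
    (y5 : y ^ 5 = 1) (y1 : y ≠ 1) (ry : r * y * r⁻¹ = y ^ 2) (hu : u ∈ H) (u5 : u ^ 5 = 1) (u1 : u ≠ 1) :
    ∃ k ∈ H, k * y * k⁻¹ = u := by
  have : Fact (Nat.Prime 5) := ⟨by norm_num⟩
  have S : Syl 5 (zpowers y) H := syl_of_not_dvd (zpowers_le.2 hy)
    (isPGroup_zpowers_of_pow (show y ^ 5 ^ 1 = 1 by simpa)) fun d => n (by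
      have c := card_inf_mul_relIndex (zpowers y) H
      rw [inf_eq_left.2 (zpowers_le.2 hy), Nat.card_zpowers, ord5 y5 y1] at c
      omega)
  obtain ⟨k, hk, l⟩ := S.exists_conj_le (isPGroup_zpowers_of_pow (show u ^ 5 ^ 1 = 1 by simpa)) (zpowers_le.2 hu)
  obtain ⟨j, hj, e⟩ := pw5 y5 ry (l (conj_mem_cj k (mem_zpowers u))) (by simpa)
  exact ⟨k⁻¹ * j, mul_mem (inv_mem hk) (zpowers_le.2 hr hj), by
    rw [show k⁻¹ * j * y * (k⁻¹ * j)⁻¹ = k⁻¹ * (j * y * j⁻¹) * k by group, e]; group⟩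

variable {E : Subgroup G} {z p : G} {M : Subgroup Γ} {φ : KK z p →* Γ}

namespace JS
variable (h : JS E z p M φ)
include h

theorem uniq5 {a b : G} {m : Γ} (la : L φ a m) (lb : L φ b m) (a5 : a ^ 5 = 1) (b5 : b ^ 5 = 1) : a = b := by
  have lc : L φ (a * b⁻¹) 1 := (la.mul lb.inv).of_eq (mul_inv_cancel m)
  have c := (show Commute (a * b⁻¹) b from h.ker_comm lc lb).mul_pow 5
  have s := h.ker_six lc
  rw [inv_mul_cancel_right, a5, b5, mul_one] at c
  rw [pow_succ, ← c, one_mul] at s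
  exact mul_inv_eq_one.1 s

theorem avg {y f : G} {q : Γ} (l : L φ y q) (y5 : y ^ 5 = 1) {W : Subgroup G} (WE : W ≤ E)
    (n : ∀ u ∈ W, y * u * y⁻¹ ∈ W) (hf : f ∈ E) (fy : f * y = y * f) (c : ∀ u ∈ W, u * y = y * u → f * u = u * f) :
    ∀ u ∈ W, f * u = u * f := fun u hu => by
  by_contra k
  have st : ∀ v, f * v = v * f * z → f * (y * v * y⁻¹) = y * v * y⁻¹ * f * z := fun v e => by
    calc _ = y * (f * v) * y⁻¹ := by rw [← mul_assoc, ← mul_assoc, fy]; group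
      _ = y * v * y⁻¹ * (y * f * y⁻¹) * (y * z * y⁻¹) := by rw [e]; group
      _ = _ := by rw [conj_eq_of_comm fy.symm, conj_eq_of_comm l.kz]
  have a0 := h.es.anti hf (WE hu) k
  have a1 := st _ a0
  have a2 := st _ a1
  have a3 := st _ a2
  have a4 := st _ a3
  have m1 := n _ hu
  have m2 := n _ m1
  have m3 := n _ m2
  have m4 := n _ m3
  have e5 : y * (y * (y * (y * (y * u * y⁻¹) * y⁻¹) * y⁻¹) * y⁻¹) * y⁻¹ = u := by
    calc _ = y ^ 5 * u * (y ^ 5)⁻¹ := by simp only [pow_succ, pow_zero]; group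
      _ = _ := by rw [y5]; group
  have m := mul_mem (mul_mem (mul_mem (mul_mem hu m1) m2) m3) m4
  have t := h.es.conj_eq (inv_mem (WE hu)) (WE m)
  have fx := h.fix l (WE m) (by
    rw [← conj_mul, ← conj_mul, ← conj_mul, ← conj_mul, e5]
    convert t using 2 <;> group)
  have b := c _ m fx.symm
  generalize y * (y * (y * (y * u * y⁻¹) * y⁻¹) * y⁻¹) * y⁻¹ = u4 at *
  generalize y * (y * (y * u * y⁻¹) * y⁻¹) * y⁻¹ = u3 at *
  generalize y * (y * u * y⁻¹) * y⁻¹ = u2 at *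
  generalize y * u * y⁻¹ = u1 at *
  have two : ∀ v w, v ∈ W → w ∈ W → f * v = v * f * z → f * w = w * f * z → f * (v * w) = v * w * f := fun v w _ hw a b => by
    calc _ = v * f * (z * w) := by rw [← mul_assoc, a]; group
      _ = v * (f * w) * z := by rw [← h.es.cen w (WE hw)]; group
      _ = v * w * f * (z * z) := by rw [b]; group
      _ = _ := by rw [h.es.sq, mul_one]
  have t1 := two _ _ hu m1 a0 a1
  have t2 := two _ _ m2 m3 a2 a3
  have : f * (u * u1 * u2 * u3 * u4) = u * u1 * u2 * u3 * u4 * f * z := by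
    calc _ = f * (u * u1) * (u2 * u3) * u4 := by group
      _ = u * u1 * (f * (u2 * u3)) * u4 := by rw [t1]; group
      _ = u * u1 * (u2 * u3) * (f * u4) := by rw [t2]; group
      _ = _ := by rw [a4]; group
  rw [b] at this
  exact h.es.ne (by simpa using this.symm)

theorem dec5 {y g : G} {q : Γ} (l : L φ y q) (y5 : y ^ 5 = 1) (a : g * z = z * g) (b : g * y = y * g) :
    ∃ e ∈ E, e * y = y * e ∧ ∃ l, g = e * l ∧ l * z = z * l ∧ l * y = y * l ∧ (l * p * l⁻¹ = p ∨ l * p * l⁻¹ = p⁻¹) := by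
  obtain ⟨e, he, k, rfl, kz, kp⟩ := h.dec g a
  have e1 : k * y * k⁻¹ * y⁻¹ = e⁻¹ * (y * e * y⁻¹) := by
    calc _ = e⁻¹ * (e * k * y) * k⁻¹ * y⁻¹ := by group
      _ = _ := by rw [b]; group
  have c : Commute p (k * y * k⁻¹) := by
    have : Commute (k * p * k⁻¹) (k * y * k⁻¹) := (show Commute p y from l.kp.symm).conj k
    rcases kp with kp | kp <;> rw [kp] at this
    exacts [this, by simpa using this]
  have ky : k * y = y * k := by
    rcases h.fp _ (e1 ▸ mul_mem (inv_mem he) (h.nm l he)) (c.mul_right (show Commute p y from l.kp.symm).inv_right) with d | d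
    · exact comm_of_conj_eq (mul_inv_eq_one.1 d)
    · have : (k * y * k⁻¹) ^ 5 = (z * y) ^ 5 := by rw [← d, inv_mul_cancel_right]
      rw [conj_pow, (show Commute z y from l.kz.symm).mul_pow, y5, show 5 = 2 * 2 + 1 from rfl, pow_succ, pow_mul, pow_two z,
        h.es.sq] at this
      exact (h.es.ne (by simpa using this.symm)).elim
  refine ⟨e, he, ?_, k, rfl, kz, ky, kp⟩
  rw [mul_assoc, ky, ← mul_assoc, ← mul_assoc] at b
  exact mul_right_cancel b

end JS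

theorem AllD.q5 [Finite G] {φ : KK z p →* Equiv.Perm GolayPt} {q : Equiv.Perm GolayPt} (A : AllD E z p φ q) :
    ∃ y s r x X, Q5 E z y p s r x X := by
  have h := A.js
  obtain ⟨y, l, y5, cX, hX⟩ := A.oc.X
  have y1 : y ≠ 1 := by rintro rfl; exact A.f2.q1 (l.uniq L.one)
  obtain ⟨cq, f, fM, f4, fq⟩ := m22_five A.f2.qM (ord5 A.f2.q5 A.f2.q1)
  obtain ⟨k, lk⟩ := h.ex fM
  have k12 := h.six mf (lk.pow 2) (by rw [← pow_add, f4])
  have lr : L φ (k ^ 9) f := (lk.pow 9).of_eq (by rw [show 9 = 4 * 2 + 1 from rfl, pow_succ, pow_mul, f4, one_pow, one_mul])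
  have ry : k ^ 9 * y * (k ^ 9)⁻¹ = y ^ 2 := h.uniq5 ((lr.cnj l).of_eq fq) (l.pow 2) (by rw [conj_pow, y5]; group)
    (by rw [← pow_mul, mul_comm, pow_mul, y5, one_pow])
  obtain ⟨ε, θ, T⟩ := A.gd.exists_TM
  obtain ⟨j, jz, jp⟩ := h.sExInv mf T A.odd
  obtain ⟨c, hc, cy⟩ := conj5 (H := KK z p) (u := j * y * j⁻¹) (by rw [h.cK]; norm_num) l.1 lr.1 y5 y1 ry (mem_KK.2 ⟨by
      have := (show Commute y z from l.kz).conj j
      rwa [conj_eq_of_comm jz] at this, by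
      have := (show Commute y p from l.kp).conj j
      rw [jp] at this
      exact (Commute.inv_right_iff.1 this).eq⟩) (by rw [conj_pow, y5]; group) (by simpa)
  obtain ⟨cz, cp⟩ := mem_KK.1 hc
  have sz : c⁻¹ * j * z = z * (c⁻¹ * j) := ((show Commute c z from cz).inv_left.mul_left jz).eq
  have sy : c⁻¹ * j * y = y * (c⁻¹ * j) := comm_of_conj_eq (by
    rw [show c⁻¹ * j * y * (c⁻¹ * j)⁻¹ = c⁻¹ * (j * y * j⁻¹) * c by group, ← cy]; group)
  have sp : c⁻¹ * j * p * (c⁻¹ * j)⁻¹ = p⁻¹ := by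
    rw [show c⁻¹ * j * p * (c⁻¹ * j)⁻¹ = c⁻¹ * (j * p * j⁻¹) * c by group, jp,
      (show Commute c p from cp).inv_inv.eq, inv_mul_cancel_right]
  generalize c⁻¹ * j = s at sz sy sp
  have ck : ∀ e ∈ E, e * y = y * e → ∀ k, k * z = z * k → k * y = y * k → k * p * k⁻¹ = p →
      ∃ f ∈ E, f * y = y * f ∧ ∃ d ∈ zpowers p, ∃ c ∈ zpowers y, e * k = f * d * c := fun e he ey k a b c => by
    obtain ⟨m, lm⟩ := h.tot (mem_KK.2 ⟨a, comm_of_conj_eq c⟩)
    obtain ⟨n, rfl⟩ := mem_powers_iff_mem_zpowers.2 (cq m (h.mem lm) ((lm.mul l).uniq (b ▸ l.mul lm)))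
    obtain ⟨d, hd, e1⟩ := h.Lker ((lm.mul (l.pow n).inv).of_eq (mul_inv_cancel _))
    rw [mul_inv_eq_iff_eq_mul, mul_inv_eq_iff_eq_mul] at e1
    rcases e1 with rfl | rfl
    · exact ⟨e, he, ey, d, hd, _, pow_mem (mem_zpowers y) n, by group⟩
    · obtain ⟨i, rfl⟩ := hd
      exact ⟨e * z, mul_mem he h.es.mem, ((show Commute e y from ey).mul_left l.kz.symm).eq, _, ⟨i, rfl⟩, _,
        pow_mem (mem_zpowers y) n, by rw [((show Commute p z from h.pz).zpow_left i).eq]; group⟩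
  obtain ⟨x, xX, x1, xz⟩ : ∃ x ∈ Cm E φ (gc.gen gA) ⊓ centralizer {y}, x ≠ 1 ∧ x ≠ z := by
    by_contra n
    push Not at n
    have := card_le_of_le (show Cm E φ (gc.gen gA) ⊓ centralizer {y} ≤ zpowers z from fun x hx =>
      (mem_zpowers_invol h.es.sq).2 ((em (x = 1)).imp id (n x hx)))
    rw [cX, card_zpowers_invol h.es.sq h.es.ne] at this
    omega
  refine ⟨y, s, k ^ 9, x, Cm E φ (gc.gen gA) ⊓ centralizer {y}, y5, y1, l.kz.symm, l.kp.symm, h.pz, h.p3, fun x hx => h.fpz hx, sz, sy, sp, fun g a b => ?_,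
    by rw [← pow_mul, show 9 * 4 = 2 * 6 * 3 from rfl, pow_mul, pow_mul, k12, one_pow], ry, lr.kz,
    fun u hu => ⟨hu.1.1, mem_cent_single.1 hu.2, h.sqV mf u (mem_sup_left hu.1)⟩, cX, ⟨h.z_Cm, mem_cent_single.2 l.kz.symm⟩,
    fun f hf fy c => ⟨h.CEU mf hf fun u hu => (h.avg l y5 Cm_le (fun u hu => h.Cm_cj l (fun a ha => ?_) hu) hf fy
      (fun u hu e => c u ⟨hu, mem_cent_single.2 e⟩) u hu).symm, mem_cent_single.2 fy⟩,
    fun f hf fy c => h.es.of_cen f hf (h.avg l y5 le_rfl (fun u hu => h.nm l hu) hf fy c), xX, x1, (hX x xX x1 xz).2.2⟩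
  · obtain ⟨e, he, ey, k, rfl, a, b, c | c⟩ := h.dec5 l y5 a b
    · obtain ⟨f, f1, f2, d, hd, c, hc, e⟩ := ck e he ey k a b c
      exact ⟨f, f1, f2, d, hd, c, hc, Or.inl e⟩
    · obtain ⟨f, f1, f2, d, hd, c, hc, e1⟩ := ck e he ey (k * s⁻¹)
        ((show Commute k z from a).mul_left (show Commute s z from sz).inv_left).eq
        ((show Commute k y from b).mul_left (show Commute s y from sy).inv_left).eq (by
          rw [show k * s⁻¹ * p * (k * s⁻¹)⁻¹ = (k * (s⁻¹ * p⁻¹ * s) * k⁻¹)⁻¹ by group, ← sp,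
            show s⁻¹ * (s * p * s⁻¹) * s = p by group, c, inv_inv])
      exact ⟨f, f1, f2, d, hd, c, hc, Or.inr (by rw [← e1]; group)⟩
  · have n := A.f2.nq
    have := n _ (n _ (n _ (n _ ha)))
    rwa [show q * (q * (q * (q * a * q⁻¹) * q⁻¹) * q⁻¹) * q⁻¹ = q⁻¹ * (q ^ 5 * a * (q ^ 5)⁻¹) * q by
      simp only [pow_succ, pow_zero]; group, A.f2.q5, one_mul, inv_one, mul_one] at this

end Cfsg.Lib.JF
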