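import Cfsg.Agent.Lib.Block2.JU7
import Cfsg.Agent.Lib.Block2.JL2
import Cfsg.Agent.Lib.Block2.JVm
import Cfsg.Agent.Lib.Block2.JHz
import Cfsg.Agent.Lib.Block2.JHx

/-! Involutions attached to two trios refining a common sextet commute. -/

set_option autoImplicit false
set_option maxRecDepth 100000

namespace Cfsg.Lib.JF

open Subgroup Cfsg.Lib.Amalg Cfsg.Lib.Core Cfsg.Lib.Known2 Cfsg.Lib.Golay Spor MulAction

variable {G : Type*} [Group G] [Finite G] {E : Subgroup G} {z p : G} {φ : KK z p →* Equiv.Perm GolayPt}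
  {q : Equiv.Perm GolayPt}

theorem JS.r3_quad (h : JS E z p M22 φ) {U : Subgroup G} (UE : U ≤ E) (zU : z ∈ U) (c : 128 ≤ Nat.card U)
    (ab : ∀ u ∈ U, ∀ w ∈ U, u * w = w * u) {a b : G} (ka : a ∈ KK z p) (kb : b ∈ KK z p) (a2 : a * a = 1) (b2 : b * b = 1)
    (aU : ∀ w ∈ U, a * w = w * a) (bU : ∀ w ∈ U, b * w = w * b) : a * b = b * a := by
  have c2 := es_cent h.es UE zU
  rw [h.card] at c2
  have e : U = E ⊓ 𝐂 U := eq_of_le_of_card_ge (le_inf UE fun u hu => mem_centralizer_iff.2 fun w hw => ab w hw u hu)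
    (by nlinarith)
  have k : ∀ x, x ∈ KK z p → (∀ w ∈ U, x * w = w * x) → ∀ y ∈ E, x * y * x⁻¹ * y⁻¹ ∈ U := fun x kx xU y hy => by
    rw [e]
    refine ⟨E.mul_mem (h.ls.norm x (mem_KK.1 kx).1 y hy) (E.inv_mem hy), mem_centralizer_iff.2 fun w hw => ?_⟩
    have m : y⁻¹ * w * y ∈ U := by
      rcases h.es.comm w (UE hw) y hy with d | d <;> rw [mul_assoc, d]
      · simpa using hw
      · simpa [mul_assoc] using mul_mem hw zU
    have e1 := xU _ (inv_mem m)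
    have e2 := xU _ hw
    calc w * (x * y * x⁻¹ * y⁻¹) = x * w * y * x⁻¹ * y⁻¹ := by rw [e2]; group
      _ = x * y * x⁻¹ * (x * (y⁻¹ * w * y)) * x⁻¹ * y⁻¹ := by group
      _ = _ := by rw [xU _ m]; group
  have cc : ∀ y ∈ E, (b * a)⁻¹ * (a * b) * y = y * ((b * a)⁻¹ * (a * b)) := fun y hy => by
    have m1 := k a ka aU y hy
    have m2 := k b kb bU y hy
    have : a * b * y * (a * b)⁻¹ = b * a * y * (b * a)⁻¹ := by
      calc _ = a * (b * y * b⁻¹ * y⁻¹) * a⁻¹ * (a * y * a⁻¹ * y⁻¹) * y := by group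
        _ = (a * y * a⁻¹ * y⁻¹) * (b * y * b⁻¹ * y⁻¹) * y := by rw [aU _ m2, mul_inv_cancel_right, ab _ m2 _ m1]
        _ = b * (a * y * a⁻¹ * y⁻¹) * b⁻¹ * (b * y * b⁻¹ * y⁻¹) * y := by rw [bU _ m1, mul_inv_cancel_right]
        _ = _ := by group
    calc _ = (b * a)⁻¹ * (a * b * y * (a * b)⁻¹) * (a * b) := by group
      _ = _ := by rw [this]; group
  have la : L φ a _ := ⟨ka, rfl⟩
  have lb : L φ b _ := ⟨kb, rfl⟩
  refine h.comm2 mf la lb a2 b2 ?_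
  have l := (lb.mul la).inv.mul (la.mul lb)
  rcases h.ls.selfc _ cc with d | d <;> rw [d] at l
  · exact (inv_mul_eq_one.1 (l.uniq L.one)).symm
  · exact (inv_mul_eq_one.1 (l.uniq h.Lz)).symm

omit [Finite G] in
theorem JS.r3_inE (h : JS E z p M22 φ) {w : G} (wz : w * z = z * w)
    (sq : p * w * p⁻¹ * w⁻¹ * (p * w * p⁻¹ * w⁻¹) = 1) : p * w * p⁻¹ * w⁻¹ ∈ E := by
  obtain ⟨e, he, l, rfl, -, d⟩ := h.dec w wz
  have nE : ∀ x ∈ E, p * x * p⁻¹ ∈ E := fun x hx => h.nm h.Lp hx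
  have i : p * (e * l) * p⁻¹ * (e * l)⁻¹ = p * e * (l * p * l⁻¹)⁻¹ * e⁻¹ := by group
  rw [i] at sq ⊢
  rcases d with d | d <;> rw [d] at sq ⊢
  · exact mul_mem (nE e he) (inv_mem he)
  · have m := nE _ (nE _ (inv_mem he))
    have m2 := mul_mem (nE e he) m
    have m3 := mul_mem m2 (nE _ (nE _ m2))
    have : p * e * p⁻¹ * (p * (p * e⁻¹ * p⁻¹) * p⁻¹) * (p * (p * (p * e * p⁻¹ * (p * (p * e⁻¹ * p⁻¹) * p⁻¹)) * p⁻¹) * p⁻¹) =
        p * e * p⁻¹⁻¹ * e⁻¹ * (p * e * p⁻¹⁻¹ * e⁻¹) * (p ^ 3)⁻¹ * p⁻¹ := by group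
    rw [this, sq, h.p3, inv_one, one_mul, one_mul, inv_mem_iff] at m3
    rcases h.fp p m3 rfl with d | d
    · exact (h.p1 d).elim
    · have := h.p3
      rw [d, pow_succ, pow_two, h.es.sq, one_mul] at this
      exact (h.es.ne this).elim

theorem AllD.r3_core (A : AllD E z p φ q) {U : Subgroup G} (c : 64 ≤ Nat.card U) (sq : ∀ w ∈ U, w * w = 1)
    (fp : ∀ w ∈ U, ∃ x ∈ U, w = p * x * p⁻¹ * x⁻¹) {v y a b : G} (v2 : v * v = 1) (v1 : v ∉ U) (vp : v * p = p * v)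
    (y5 : y ^ 5 = 1) (y1 : y ≠ 1) (yp : y * p = p * y) (yv : v * y = y * v) (Uv : ∀ w ∈ U, w * v = v * w)
    (a2 : a * a = 1) (b2 : b * b = 1) (ap : a * p = p * a) (bp : b * p = p * b) (aU : ∀ w ∈ U, a * w = w * a)
    (bU : ∀ w ∈ U, b * w = w * b) : a * b = b * a := by
  have h := A.js
  have kk : ∀ x, x * p = p * x → x ∈ KK z p := fun x e => mem_KK.2 ⟨mem_cent_single.1 (A.s5563.2.2.2.2
    (centralizer_le_normalizer _ (mem_cent_zpowers.2 e))), e⟩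
  have lv : L φ v _ := ⟨kk v vp, rfl⟩
  have ly : L φ y _ := ⟨kk y yp, rfl⟩
  generalize φ ⟨v, kk v vp⟩ = m at lv
  generalize φ ⟨y, kk y yp⟩ = n at ly
  have n5 : n ^ 5 = 1 := (ly.pow 5).uniq (y5 ▸ L.one)
  have n1 : n ≠ 1 := by
    rintro rfl
    have := h.ker_six ly
    rw [pow_succ, y5, one_mul] at this
    exact y1 this
  have m2 : m * m = 1 := (lv.mul lv).uniq (v2 ▸ L.one)
  obtain ⟨k, rfl⟩ := (m22_five (h.mem ly) (@orderOf_eq_prime _ _ _ _ ⟨by norm_num⟩ n5 n1)).1 m (h.mem lv) ((lv.mul ly).uniq (yv ▸ ly.mul lv))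
  have m1 : n ^ k = 1 := by
    have : (n ^ k) ^ 5 = 1 := by rw [← zpow_natCast, ← zpow_mul, mul_comm, zpow_mul, zpow_natCast, n5, one_zpow]
    rw [show 5 = 2 * 2 + 1 from rfl, pow_succ, pow_mul, pow_two (n ^ k), m2, one_pow, one_mul] at this
    exact this
  obtain rfl : v = z := (h.ker_two (lv.of_eq m1) v2).resolve_left fun e => v1 (e ▸ one_mem U)
  have UE : U ≤ E := fun w hw => by
    obtain ⟨x, hx, e⟩ := fp w hw
    rw [e]; exact h.r3_inE (Uv x hx) (e ▸ sq w hw)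
  have cen : ∀ x, x * v = v * x → (∀ w ∈ U, x * w = w * x) → ∀ w ∈ U ⊔ zpowers v, x * w = w * x := fun x e1 e2 w hw =>
    (mem_cent_single.1 ((sup_le (fun u hu => mem_cent_single.2 (e2 u hu).symm)
      (zpowers_le.2 (mem_cent_single.2 e1.symm)) : U ⊔ zpowers v ≤ centralizer {x}) hw)).symm
  refine h.r3_quad (U := U ⊔ zpowers v) (sup_le UE (zpowers_le.2 h.es.mem)) (mem_sup_right (mem_zpowers v)) ?_
    (fun u hu w hw => (cen w (h.es.cen w (sup_le UE (zpowers_le.2 h.es.mem) hw)) (fun x hx => (cen x (Uv x hx)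
      (fun x' hx' => comm_of_sq sq hx hx') w hw).symm) u hu).symm) (kk a ap) (kk b bp) a2 b2
    (cen a (mem_KK.1 (kk a ap)).1 aU) (cen b (mem_KK.1 (kk b bp)).1 bU)
  obtain ⟨r, hr⟩ := card_dvd_of_le (le_sup_left : U ≤ U ⊔ zpowers v)
  have r1 : r ≠ 1 := fun e => v1 (eq_of_le_of_card_ge (le_sup_left : U ≤ U ⊔ zpowers v) (by rw [hr, e, mul_one]) ▸
    mem_sup_right (mem_zpowers v))
  have r0 : r ≠ 0 := fun e => by have := Nat.card_pos (α := ↥(U ⊔ zpowers v)); rw [hr, e] at this; omega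
  have : 2 ≤ r := by omega
  rw [hr]; nlinarith

theorem AllD.r3_gen (A : AllD E z p φ q) (hi : IsConj p p⁻¹) {s : G} (s3 : s ^ 3 = 1) (s1 : s ≠ 1) {U : Subgroup G}
    (c : 64 ≤ Nat.card U) (sq : ∀ w ∈ U, w * w = 1)
    (fp : ∀ w ∈ U, ∃ x ∈ U, w = s * x * s⁻¹ * x⁻¹) {v y a b : G} (v2 : v * v = 1) (v1 : v ∉ U) (vp : v * s = s * v)
    (y5 : y ^ 5 = 1) (y1 : y ≠ 1) (yp : y * s = s * y) (yv : v * y = y * v) (Uv : ∀ w ∈ U, w * v = v * w)
    (a2 : a * a = 1) (b2 : b * b = 1) (ap : a * s = s * a) (bp : b * s = s * b) (aU : ∀ w ∈ U, a * w = w * a)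
    (bU : ∀ w ∈ U, b * w = w * b) : a * b = b * a := by
  have := Fact.mk Nat.prime_three
  obtain ⟨g, hg⟩ := isConj_iff.1 (A.s5564 A.s5563.2.2.2.2 hi s p (orderOf_eq_prime s3 s1)
    (orderOf_eq_prime A.js.p3 A.js.p1))
  let f : G →* G := (MulAut.conj g).toMonoidHom
  have fi : Function.Injective f := (MulAut.conj g).injective
  have fs : f s = p := hg
  have tr : ∀ {x y : G}, x * y = y * x → f x * f y = f y * f x := fun e => by rw [← map_mul, e, map_mul]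
  have t2 : ∀ {x : G}, x * x = 1 → f x * f x = 1 := fun e => by rw [← map_mul, e, map_one]
  refine fi ?_
  rw [map_mul, map_mul]
  refine A.r3_core (U := U.map f) (v := f v) (y := f y) (by rwa [card_map_of_injective fi]) ?_ ?_ (t2 v2)
    (fun ⟨w, hw, e⟩ => v1 (fi e ▸ hw)) (fs ▸ tr vp) (by rw [← map_pow, y5, map_one])
    (fun e => y1 (fi (e.trans (map_one f).symm))) (fs ▸ tr yp) (tr yv) ?_ (t2 a2) (t2 b2) (fs ▸ tr ap) (fs ▸ tr bp) ?_ ?_ <;>
    rintro _ ⟨w, hw, rfl⟩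
  · exact t2 (sq w hw)
  · obtain ⟨x, hx, e⟩ := fp w hw
    exact ⟨f x, ⟨x, hx, rfl⟩, by rw [e, ← fs]; simp only [map_mul, map_inv]⟩
  exacts [tr (Uv w hw), tr (aU w hw), tr (bU w hw)]

/-- order three, fixes the six tetrads. -/
def r3s : ℕ := 0x51607140d1203150c0e0409080b0f0a1006011302111700
/-- order five, commutes with `r3s`. -/
def r3f : ℕ := 0x17140b060216090a150e1107040d1013080005030f0c0112
/-- the `2^6` of the sextet. -/
def r3Q : List ℕ := [0x1071008131200150f050d0c0a0b091416060e0402031711, 0x17100708130903160c0e0d0f0a0b12141506050411000102,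
  0x107100a060f02151205040908140c0b16130e0d00111703, 0x116150b041202100f05060c1408090a070d0e1300111703,
  0x507100a0d0c00150901131208140f0b1604170602030e11, 0x17151608061202070f0e040c0a0b09141013050d00110103]
/-- fixes the two trios and the tetrad. -/
noncomputable def r3b (y : ℕ) : Bool :=
  band (Nat.beq (famAct 3 y 0x82402f6920d0149f00) 0x82402f6920d0149f00)
    (band (Nat.beq (famAct 3 (mulN 24 (mulN 24 (invN 24 uxu) y) uxu) 0x82402f6920d0149f00) 0x82402f6920d0149f00)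
      (Nat.beq (imgT y 0x804022) 0x804022))

theorem r3_in : ∀ g ∈ [r3s, r3f], gc.InH M24 g := inH_of_allL (by decide +kernel)
theorem r3_inQ : ∀ g ∈ r3Q, gc.InH M24 g := inH_of_allL (by decide +kernel)

theorem r3_spec : Nat.card (gc.gen r3Q) = 64 ∧ (∀ x ∈ gc.gen r3Q, ∃ y, gc.Valid y ∧ gc.dec y = x ∧
      band (r3b y) (band (Nat.beq (mulN 24 y y) (idN 24)) (Nat.beq y (mulN 24 (mulN 24 (mulN 24 r3s
        (mulN 24 (mulN 24 r3s y) (invN 24 r3s))) (invN 24 r3s)) (invN 24 (mulN 24 (mulN 24 r3s y) (invN 24 r3s)))))) = true) ∧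
    ∀ g ∈ gc.gen [r3s], ∀ x ∈ gc.gen r3Q, g * x * g⁻¹ ∈ gc.gen r3Q :=
  Coding.normal_cert (c := gc) (M := 251) (d := 8) (a := 4) (fun g hg => (r3_in g (by simp at hg ⊢; tauto)).1)
    (fun g hg => (r3_inQ g hg).1) (by decide +kernel)

theorem AllD.r3_F1 (A : AllD E z p φ q) (hi : IsConj p p⁻¹) {V : Subgroup G} {D : Set G} {ε : Finset GolayPt → G}
    {θ : 𝐍 V →* Equiv.Perm GolayPt} {κ : M24 →* G} (K : LK D ε θ κ) {t : G} (t2 : t * t = 1)
    (cT : ∀ k : M24, (k : Equiv.Perm GolayPt) ∈ HT3 → κ k * t = t * κ k) :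
    t * (κ (uxE uxu) * t * (κ (uxE uxu))⁻¹) = κ (uxE uxu) * t * (κ (uxE uxu))⁻¹ * t := by
  have ev : Even (om 0x804022).card := by rw [card_om]; decide +kernel
  have inj : ∀ k, κ k ∈ V → k = 1 := fun k hk => Subtype.ext ((K.th k).symm.trans ((K.T.ker ⟨κ k, K.mem k⟩).2 hk))
  have fi : Function.Injective κ := (injective_iff_map_eq_one κ).2 fun k e => inj k (e ▸ one_mem V)
  have cv : ∀ {c g}, UxR κ c g → Nat.beq (imgT c 0x804022) 0x804022 = true → g * ε (om 0x804022) = ε (om 0x804022) * g := by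
    rintro c _ ⟨hc, rfl⟩ e
    refine comm_of_conj_eq ((K.T.act ⟨_, K.mem _⟩ _ ev).trans ?_)
    rw [K.th, hc.1.smul_om, beq_iff.1 e]
  have u := UxR.base (κ := κ) (c := uxu) (by simp)
  generalize κ (uxE uxu) = w at u ⊢
  have pr : ∀ {c g}, UxR κ c g → r3b c = true → t * g = g * t ∧ w * t * w⁻¹ * g = g * (w * t * w⁻¹) ∧
      g * ε (om 0x804022) = ε (om 0x804022) * g := fun {c g} r e => by
    simp only [r3b, band_iff] at e
    refine ⟨(r.com cT e.1).symm, ?_, cv r e.2.2⟩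
    calc _ = w * (t * (w⁻¹ * g * w)) * w⁻¹ := by group
      _ = _ := by rw [← ((u.inv.mul r).mul u).com cT e.2.1]; group
  have s : UxR κ r3s _ := ⟨r3_in _ (by simp), rfl⟩
  have f : UxR κ r3f _ := ⟨r3_in _ (by simp), rfl⟩
  have ps := pr s (by decide +kernel)
  have QM : gc.gen r3Q ≤ M24 := Coding.gen_le r3_inQ
  have el : ∀ x ∈ ((gc.gen r3Q).subgroupOf M24).map κ, ∃ c, UxR κ c x ∧ gc.dec c ∈ gc.gen r3Q ∧ r3b c = true ∧
      band (Nat.beq (mulN 24 c c) (idN 24)) (Nat.beq c (mulN 24 (mulN 24 (mulN 24 r3s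
        (mulN 24 (mulN 24 r3s c) (invN 24 r3s))) (invN 24 r3s)) (invN 24 (mulN 24 (mulN 24 r3s c) (invN 24 r3s))))) = true := by
    rintro _ ⟨k, hk, rfl⟩
    obtain ⟨y, hy, e, b⟩ := r3_spec.2.1 k hk
    exact ⟨y, ⟨⟨hy, e ▸ k.2⟩, congrArg κ (Subtype.ext e)⟩, e ▸ hk, band_iff.1 b⟩
  refine A.r3_gen hi ((s.pow 3).one (by decide +kernel)) (fun e => ?_) (U := ((gc.gen r3Q).subgroupOf M24).map κ)
    (by rw [card_map_of_injective fi, Nat.card_congr (subgroupOfEquivOfLe QM).toEquiv, r3_spec.1]) (fun x hx => ?_)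
    (fun x hx => ?_) (K.T.esq (om 0x804022)) ?_ ps.2.2.symm ((f.pow 5).one (by decide +kernel)) (fun e => ?_)
    ((f.mul s).eq (s.mul f) (by decide +kernel)) (cv f (by decide +kernel)).symm (fun x hx => ?_) t2
    (by rw [conj_mul, t2]; group) ps.1 ps.2.1 (fun x hx => ?_) fun x hx => ?_
  · exact ne_of (r3_in r3s (by simp)).1 (by decide +kernel) (congrArg Subtype.val (inj _ (e ▸ one_mem V)))
  · obtain ⟨c, r, -, -, b⟩ := el x hx
    exact (r.mul r).one (band_iff.1 b).1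
  · obtain ⟨c, r, m, -, b⟩ := el x hx
    refine ⟨_, ?_, r.eq (((s.mul ((s.mul r).mul s.inv)).mul s.inv).mul ((s.mul r).mul s.inv).inv) (band_iff.1 b).2⟩
    obtain ⟨hc, rfl⟩ := r
    rw [← map_inv, ← map_mul, ← map_mul]
    exact mem_map_of_mem κ (r3_spec.2.2 _ (subset_closure ⟨r3s, by simp, rfl⟩) _ m)
  · rintro ⟨k, -, e⟩
    have := inj k (e ▸ (K.T.mem _).2 ⟨_, ev, rfl⟩)
    rw [this, map_one, eq_comm, K.T.one _ ev, om_mem_cw_iff (by norm_num)] at e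
    exact absurd e (by decide +kernel)
  · exact ne_of (r3_in r3f (by simp)).1 (by decide +kernel) (congrArg Subtype.val (inj _ (e ▸ one_mem V)))
  · obtain ⟨c, r, -, b, -⟩ := el x hx
    exact (pr r b).2.2
  · obtain ⟨c, r, -, b, -⟩ := el x hx
    exact (pr r b).1
  · obtain ⟨c, r, -, b, -⟩ := el x hx
    exact (pr r b).2.1

end Cfsg.Lib.JF
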