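import Cfsg.Agent.Lib.Block2.JKi
import Cfsg.Agent.Lib.Golay.Trio
import Cfsg.Agent.Lib.Golay.Hash

/-! The generators of the presentation of the fourth Janko group inside `M24`. -/

set_option autoImplicit false
set_option maxRecDepth 100000
set_option linter.unreachableTactic false
set_option linter.unusedTactic false

namespace Cfsg.Lib.JF

open Subgroup Cfsg.Lib.Golay Cfsg.Spor

def uxx : ℕ := 0x411000a050f16031206010908140c0b020e131710070d15
def uxy : ℕ := 0xa040e17020111150f100d0c1314060807050900120b0316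
def uxs : ℕ := 0xd0e0308021407110a040009120c0f0b0517100113151606
/-- order three, fixes the standard octad and cycles a line of trios through it. -/
def uxu : ℕ := 0x17080a041012000b0f01150c130d090614160e0703110502
/-- order four, fixes the standard trio. -/
def uxp : ℕ := 0x111408041213010916170a0706100d150c0b020f00030e05
/-- maps the standard trio to `{0x51a610, 0xac012a, 0x258c5}`. -/
def uxh : ℕ := 0xe13120f0304060809110516140d0a10151700010b07020c

theorem ux_in : ∀ g ∈ [uxx, uxy, uxs, uxu, uxp, uxh], gc.InH M24 g := inH_of_allL (by decide +kernel)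

theorem ux_gen : gc.gen [uxx, uxy] = M24 :=
  Coding.gen_eq_of_chain [(23, 24, [[1, 0, 1], [0, 1, 0, 1, 0, 1, 1, 0]]), (0, 23, [[0, 0, 1, 0, 0], [1, 0, 1, 1, 0]]),
    (1, 22, [[0, 0, 0], [0, 1, 0, 0, 1, 1, 1]]), (2, 21, [[1, 0, 1, 1, 1], [0, 1, 1, 0, 1, 1, 1, 0, 1, 1, 1, 1]]),
    (3, 20, [[1, 0, 1, 0], [0, 1, 0, 0, 0], [1, 1, 1, 0, 1]]), (4, 16, [[0, 2, 0], [2, 0, 2]]), (5, 3, [])]
    (fun g hg => ux_in g (by simp at hg ⊢; tauto)) (by decide +kernel) (le_of_eq card_M24)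

/-- the coded element of `M24`. -/
noncomputable def uxE (c : ℕ) (h : c ∈ [uxx, uxy, uxs, uxu, uxp, uxh] := by simp) : M24 := ⟨gc.dec c, (ux_in c h).2⟩

variable {G : Type*} [Group G] {κ : M24 →* G}

/-- `g` is the image of the element with code `c`. -/
def UxR (κ : M24 →* G) (c : ℕ) (g : G) : Prop := ∃ h : gc.InH M24 c, κ ⟨gc.dec c, h.2⟩ = g

namespace UxR
variable {a b : ℕ} {g h : G}

theorem base {c : ℕ} (h : c ∈ [uxx, uxy, uxs, uxu, uxp, uxh]) : UxR κ c (κ (uxE c h)) := ⟨ux_in c h, rfl⟩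

theorem mul (h1 : UxR κ a g) (h2 : UxR κ b h) : UxR κ (mulN 24 a b) (g * h) := by
  obtain ⟨p, rfl⟩ := h1
  obtain ⟨q, rfl⟩ := h2
  have e := p.1.dec_mul q.1
  exact ⟨⟨p.1.mul q.1, e ▸ mul_mem p.2 q.2⟩, by rw [← map_mul]; exact congrArg κ (Subtype.ext e)⟩

theorem inv (h1 : UxR κ a g) : UxR κ (invN 24 a) g⁻¹ := by
  obtain ⟨p, rfl⟩ := h1
  exact ⟨p.inv, by rw [← map_inv]; exact congrArg κ (Subtype.ext p.1.inv.2)⟩

theorem pow (h1 : UxR κ a g) (n : ℕ) : UxR κ (powN 24 a n) (g ^ n) := by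
  obtain ⟨p, rfl⟩ := h1
  have e := p.1.powN n
  exact ⟨⟨e.1, e.2 ▸ pow_mem p.2 n⟩, by rw [← map_pow]; exact congrArg κ (Subtype.ext e.2)⟩

theorem eq (h1 : UxR κ a g) (h2 : UxR κ b h) (e : Nat.beq a b = true) : g = h := by
  obtain rfl := beq_iff.1 e
  exact h1.2.symm.trans h2.2

theorem one (h1 : UxR κ a g) (e : Nat.beq a (idN 24) = true) : g = 1 :=
  h1.eq ⟨Coding.inH_one _, by rw [← map_one κ]; exact congrArg κ (Subtype.ext Coding.dec_one)⟩ e

theorem com {t : G} (cT : ∀ k : M24, (k : Equiv.Perm GolayPt) ∈ HT3 → κ k * t = t * κ k) (h1 : UxR κ a g)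
    (e : Nat.beq (famAct 3 a 0x82402f6920d0149f00) 0x82402f6920d0149f00 = true) : g * t = t * g := by
  obtain ⟨p, rfl⟩ := h1
  exact cT _ (inH_inf_fam (gs := [a]) (fun g hg => by rw [List.mem_singleton.1 hg]; exact p) 3 _ T0_spec.1
    (allL_iff.2 fun g hg => by rw [List.mem_singleton.1 hg]; exact e) a (List.mem_singleton.2 rfl)).2

end UxR

theorem ux_rel (κ : M24 →* G) {t : G} (t2 : t * t = 1)
    (cT : ∀ k : M24, (k : Equiv.Perm GolayPt) ∈ HT3 → κ k * t = t * κ k)
    (R1 : (κ (uxE uxu) * t) ^ 3 = 1)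
    (R2 : (κ (uxE uxp) * t * (κ (uxE uxh) * t * (κ (uxE uxh))⁻¹)) ^ 2 = 1) :
    RelJ4 (κ (uxE uxx)) (κ (uxE uxy)) t := by
  have cm : ∀ {g : G}, g * t = t * g → t⁻¹ * g⁻¹ * t * g = 1 := fun {g} e => by
    rw [mul_assoc, mul_assoc, ← e]; group
  refine ⟨UxR.one (by repeat' first | exact UxR.base _ | apply UxR.mul | apply UxR.pow | apply UxR.inv) (by decide +kernel), UxR.one (by repeat' first | exact UxR.base _ | apply UxR.mul | apply UxR.pow | apply UxR.inv) (by decide +kernel), UxR.one (by repeat' first | exact UxR.base _ | apply UxR.mul | apply UxR.pow | apply UxR.inv) (by decide +kernel),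
    UxR.one (by repeat' first | exact UxR.base _ | apply UxR.mul | apply UxR.pow | apply UxR.inv) (by decide +kernel), UxR.one (by repeat' first | exact UxR.base _ | apply UxR.mul | apply UxR.pow | apply UxR.inv) (by decide +kernel), UxR.one (by repeat' first | exact UxR.base _ | apply UxR.mul | apply UxR.pow | apply UxR.inv) (by decide +kernel),
    UxR.one (by repeat' first | exact UxR.base _ | apply UxR.mul | apply UxR.pow | apply UxR.inv) (by decide +kernel), (pow_two t).trans t2, cm (UxR.com cT (by repeat' first | exact UxR.base _ | apply UxR.mul | apply UxR.pow | apply UxR.inv) (by decide +kernel)),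
    cm (UxR.com cT (by repeat' first | exact UxR.base _ | apply UxR.mul | apply UxR.pow | apply UxR.inv) (by decide +kernel)), ?_, ?_⟩
  · generalize hg : κ (uxE uxy) * κ (uxE uxx) * (κ (uxE uxy))⁻¹ * κ (uxE uxx) * κ (uxE uxy) * κ (uxE uxx) *
      (κ (uxE uxy))⁻¹ * κ (uxE uxx) = g
    have e : κ (uxE uxu) = κ (uxE uxs) * g * κ (uxE uxy) * g⁻¹ * (κ (uxE uxs))⁻¹ := by
      rw [← hg]; exact UxR.eq (by repeat' first | exact UxR.base _ | apply UxR.mul | apply UxR.pow | apply UxR.inv) (by repeat' first | exact UxR.base _ | apply UxR.mul | apply UxR.pow | apply UxR.inv) (by decide +kernel)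
    have c : κ (uxE uxs) * t = t * κ (uxE uxs) := UxR.com cT (by repeat' first | exact UxR.base _ | apply UxR.mul | apply UxR.pow | apply UxR.inv) (by decide +kernel)
    have e2 : κ (uxE uxy) * (g⁻¹ * t * g) = (κ (uxE uxs) * g)⁻¹ * (κ (uxE uxu) * t) * (κ (uxE uxs) * g)⁻¹⁻¹ := by
      rw [e, inv_inv]
      calc _ = κ (uxE uxy) * g⁻¹ * (κ (uxE uxs))⁻¹ * (κ (uxE uxs) * t) * g := by group
        _ = _ := by rw [c]; group
    rw [e2, conj_pow, R1]; group
  · have e1 : (κ (uxE uxy) * κ (uxE uxx) * κ (uxE uxy) * κ (uxE uxx) * κ (uxE uxy) * κ (uxE uxx) * κ (uxE uxy)) ^ 3 =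
      κ (uxE uxp) := UxR.eq (by repeat' first | exact UxR.base _ | apply UxR.mul | apply UxR.pow | apply UxR.inv) (by repeat' first | exact UxR.base _ | apply UxR.mul | apply UxR.pow | apply UxR.inv) (by decide +kernel)
    have e2 : (κ (uxE uxx) * κ (uxE uxy)) ^ 3 * κ (uxE uxy) * (κ (uxE uxx) * κ (uxE uxy)) ^ 6 * κ (uxE uxy) =
      (κ (uxE uxh))⁻¹ := UxR.eq (by repeat' first | exact UxR.base _ | apply UxR.mul | apply UxR.pow | apply UxR.inv) (by repeat' first | exact UxR.base _ | apply UxR.mul | apply UxR.pow | apply UxR.inv) (by decide +kernel)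
    rw [e1, e2, inv_inv]
    exact R2

theorem ux_le (κ : M24 →* G) {J : Subgroup G} (hx : κ (uxE uxx) ∈ J) (hy : κ (uxE uxy) ∈ J) (k : M24) : κ k ∈ J := by
  have : gc.gen [uxx, uxy] ≤ (J.comap κ).map M24.subtype := Coding.gen_le fun g hg => by
    simp only [List.mem_cons, List.not_mem_nil, or_false] at hg
    rcases hg with rfl | rfl
    exacts [⟨(ux_in _ (by simp)).1, _, hx, rfl⟩, ⟨(ux_in _ (by simp)).1, _, hy, rfl⟩]
  obtain ⟨l, hl, e⟩ := this (ux_gen.ge k.2)
  rwa [← show l = k from Subtype.ext e]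

end Cfsg.Lib.JF
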