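import Cfsg.Agent.Lib.Block2.JW3
import Cfsg.Agent.Lib.Block2.JUx

/-! The line relation of the trio involutions. -/

set_option autoImplicit false
set_option maxRecDepth 100000

namespace Cfsg.Lib.JF

open Subgroup Cfsg.Lib.Amalg Cfsg.Lib.Core Cfsg.Lib.Golay Spor
open scoped Pointwise symmDiff

variable {G : Type*} [Group G] {V : Subgroup G} {D : Set G} {ε : Finset GolayPt → G}
  {θ : 𝐍 V →* Equiv.Perm GolayPt} {κ : M24 →* G} {t : G}

theorem r4_xor (a b : ℕ) : om (a ^^^ b) = om a ∆ om b := gc.ofMask_xor a b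

theorem r4_ex (κ : M24 →* G) (a : ℕ) (h : inM24 a = true) : ∃ g, UxR κ a g := ⟨_, inH_of_inM24 h, rfl⟩

def r4sp (i : ℕ) : ℕ := i % 16 + i / 16 % 2 * 32 + i / 32 % 2 * 16384 + i / 64 % 2 * 131072 + i / 128 % 2 * 8388608
def r4ix (j : ℕ) : ℕ := if j < 4 then 2 ^ j else if j = 5 then 16 else if j = 14 then 32 else if j = 17 then 64 else 128
def r4cb (j : ℕ) : ℕ := j / 1 % 2 * 0x3 ^^^ j / 2 % 2 * 0x21 ^^^ j / 4 % 2 * 0x4001 ^^^ j / 8 % 2 * 0x800001 ^^^ j / 16 % 2 * 0x6 ^^^ j / 32 % 2 * 0xa ^^^ j / 64 % 2 * 0x20002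
def r4pg : List ℕ := [0x111015120d0a0507140304080f090b0c16060213170e0001, 0x3061508161217040a01130f0c140b091007050d0e110002, 0x1070414150f17130c0e160a1209080b1006110d02050003, 0x1113070c100901150f03160a080b1412060d0e0402170500, 0x5130d14070f03060c171009080a120b0415011611020e00, 0x10b0a060c1302121603140704150d100f080509170e0011, 0x10c09130f100e0806030b040d071516140a051211020017, 0xb0f0709100e1215030c040d1306160a14050811170102, 0x1704160b06140e0d0902150a0c080f121013000705110103, 0x17041512070b03130c0006140a090f081610110d020e0501, 0x17080c15090d110b10000a0406071613120f02140305010e, 0xe0b08070a0d171210030916151304060c0f051402001101, 0x5160d0a060902070800100c0f0b141213040315110e0117, 0x5120c130a0d000b1011091606070415080f0e1401170302, 0xe16040a150b01101211060809140c0f0d07031317000502, 0x50d060b130c01150803070a14090f12161017041100020e, 0xc14100a040e0f161709130607150d0b08051201031102, 0x116150c070a050412030d090f0b081413060e1011000217, 0x100d0b13080e060a1104090c0f12140716171502010503,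 0x215100b07090004141713080a0f0c12060d111605010e03, 0x51516090d0c02131400070b120a0f0804101706010e1103, 0x20706080d140e130a000409120c0f0b1516011011051703, 0x110809101413021204000b15060d16070a0f170c0103050e, 0x90c07140401120d020a13161006150f0b03080e171105, 0xf080d0916021407030c0415100613120a0e0b01111705, 0xd0414130f03150b0516080a12090c0710020617010e11, 0xf0a060c1011141602120d15070413090b01080503170e, 0xc120d0815010f1003141604060713090a020b0e051117]

theorem r4_sub {R : Finset GolayPt} (h : R ⊆ om 0x82402f) : ∃ i < 256, R = om (r4sp i) := by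
  induction R using Finset.induction_on with
  | empty => exact ⟨0, by norm_num, gc.ofMask_zero.symm⟩
  | insert b R hb ih =>
    obtain ⟨i, hi, rfl⟩ := ih ((Finset.subset_insert _ _).trans h)
    obtain ⟨j, hj, rfl⟩ := gc.exists_pt b
    have m := (pt_mem_om hj).1 (h (Finset.mem_insert_self _ _))
    have k : ∀ i < 256, ∀ j < 24, tb 0x82402f j = true → r4sp ((i ^^^ r4ix j) % 256) = r4sp i ^^^ 2 ^ j := by decide +kernel
    refine ⟨(i ^^^ r4ix j) % 256, Nat.mod_lt _ (by norm_num), ?_⟩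
    rw [k i hi j hj m, r4_xor, show om (2 ^ j) = {gc.pt j} from gc.ofMask_two_pow hj]
    ext y
    simp only [Finset.mem_insert, Finset.mem_symmDiff, Finset.mem_singleton]
    by_cases e : y = gc.pt j
    · subst e; simp [hb]
    · simp [e]

theorem r4_pt {q : Equiv.Perm GolayPt} (f : ∀ x ∈ om 0x82402f, q x = x) {a b : ℕ} (ha : gc.Valid a) (hb : gc.Valid b)
    (ca : gc.dec a * q = q * gc.dec a) (cb : gc.dec b * q = q * gc.dec b) (a4 : app a 4 = 4) (b4 : app b 4 = 4) :
    ∃ j < 24, q (gc.pt 4) = gc.pt j ∧ tb 0x82402f j = false ∧ app a j = j ∧ app b j = j := by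
  obtain ⟨j, hj, e⟩ := gc.exists_pt (q (gc.pt 4))
  have k : ∀ {a}, gc.Valid a → gc.dec a * q = q * gc.dec a → app a 4 = 4 → app a j = j := fun {a} ha ca a4 => by
    have := congrArg (· (gc.pt 4)) ca
    simp only [Equiv.Perm.mul_apply] at this
    rw [ha.dec_pt (show 4 < gc.n by decide), a4, ← e, ha.dec_pt hj] at this
    have h2 := congrArg gc.idx this
    rwa [gc.idx_pt _ (ha.app_lt hj), gc.idx_pt _ hj] at h2
  refine ⟨j, hj, e.symm, ?_, k ha ca a4, k hb cb b4⟩
  by_contra c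
  have m := (pt_mem_om hj).2 (Bool.not_eq_false _ ▸ c)
  have : gc.pt 4 = gc.pt j := q.injective (by rw [f _ m, e])
  exact absurd ((pt_mem_om (show 4 < 24 by decide)).1 (this ▸ m)) (by decide)

section
variable (cT : ∀ k : M24, (k : Equiv.Perm GolayPt) ∈ HT3 → κ k * t = t * κ k) {a b : ℕ} {g h : G}
include cT
theorem r4_sw (h1 : UxR κ a g) (h2 : UxR κ b h)
    (e : Nat.beq (famAct 3 (mulN 24 (invN 24 b) a) 0x82402f6920d0149f00) 0x82402f6920d0149f00 = true) : g * t * g⁻¹ = h * t * h⁻¹ := by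
  have := (h2.inv.mul h1).com cT e
  calc _ = h * (h⁻¹ * g * t) * g⁻¹ := by group
    _ = _ := by rw [this]; group
theorem r4_cm (h1 : UxR κ a g) (h2 : UxR κ b h)
    (e : Nat.beq (famAct 3 (mulN 24 (mulN 24 (invN 24 b) a) b) 0x82402f6920d0149f00) 0x82402f6920d0149f00 = true) :
    g * (h * t * h⁻¹) = h * t * h⁻¹ * g := by
  have := ((h2.inv.mul h1).mul h2).com cT e
  calc _ = h * (h⁻¹ * g * h * t) * h⁻¹ := by group
    _ = _ := by rw [this]; group
end

namespace TM
variable (T : TM V D ε θ) (hκ : ∀ k, ∃ h : κ k ∈ 𝐍 V, θ ⟨κ k, h⟩ = k)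
include T hκ

theorem r4_act {a : ℕ} {g : G} (h : UxR κ a g) {m : ℕ} (ev : Even (om m).card) :
    g * ε (om m) * g⁻¹ = ε (om (imgT a m)) := by
  obtain ⟨p, rfl⟩ := h
  obtain ⟨n, e⟩ := hκ ⟨gc.dec a, p.2⟩
  have := T.act ⟨_, n⟩ _ ev
  rw [e] at this
  exact this.trans (congrArg ε (p.1.smul_om m))

theorem r4_V {k : M24} (h : κ k ∈ V) : k = 1 := by
  obtain ⟨n, e⟩ := hκ k
  exact Subtype.ext (e ▸ (T.ker ⟨_, n⟩).2 h)

theorem r4_R1 [Finite G] (cl : ∀ t ∈ D, centralizer {t} ≤ 𝐍 V) (t2 : t * t = 1)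
    (cT : ∀ k : M24, (k : Equiv.Perm GolayPt) ∈ HT3 → κ k * t = t * κ k)
    (F : ∃ a ∈ om 0x82402f, ∃ b ∈ om 0x82402f, a ≠ b ∧ ∃ e : M24, e ≠ 1 ∧ (∀ x ∈ om 0x82402f, e.1 x = x) ∧
      t * ε {a, b} * t = ε {a, b} * κ e) : (κ (uxE uxu) * t) ^ 3 = 1 := by
  have dv : ∀ n : 𝐍 V, (n : G) * (κ ⟨θ n, T.mM n⟩)⁻¹ ∈ V := fun n => by
    obtain ⟨m, e⟩ := hκ ⟨θ n, T.mM n⟩
    exact (T.ker (n * ⟨_, m⟩⁻¹)).1 (by rw [map_mul, map_inv, e, mul_inv_cancel])
  have k1 : κ.range ≤ 𝐍 V := by rintro _ ⟨k, rfl⟩; exact (hκ k).1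
  obtain ⟨A, hA, -, hQ⟩ := T.w3_ex (K := κ.range) cl k1 (eq_bot_iff.2 (by
      rintro _ ⟨⟨k, rfl⟩, b⟩; rw [T.r4_V hκ b, map_one]; exact one_mem _))
    (le_antisymm (sup_le k1 le_normalizer) fun n hn => by
      have := mul_mem (mem_sup_right (S := κ.range) (dv ⟨n, hn⟩)) (mem_sup_left ⟨⟨θ ⟨n, hn⟩, T.mM _⟩, rfl⟩)
      rwa [inv_mul_cancel_right] at this)
  have qA : ∀ q : M24, (∀ x ∈ om 0x82402f, q.1 x = x) → κ q ∈ A := fun q f => by
    obtain ⟨n, e⟩ := hκ q
    exact hQ ⟨_, n⟩ ⟨q, rfl⟩ (e ▸ mem_QO.2 ⟨q.2, f⟩)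
  have q1 : ∀ q : M24, (∀ x ∈ om 0x82402f, q.1 x = x) → q.1 (gc.pt 4) = gc.pt 4 → q = 1 := fun q f e => by
    by_contra n
    have s : q * q = 1 := T.r4_V hκ (by rw [map_mul, hA.sa.sq _ (qA q f)]; exact one_mem _)
    have s' : q.1 * q.1 = 1 := congrArg Subtype.val s
    have n' : q.1 ≠ 1 := fun c => n (Subtype.ext c)
    exact (m24_Qc hA.oct q.2 q.2 s' s' n' n' f f).1 _ ((pt_mem_om (show 4 < 24 by decide)).not.2 (by decide)) e
  have inj : ∀ {k l : M24}, κ k = κ l → k = l := fun {k l} e =>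
    inv_mul_eq_one.1 (T.r4_V hκ (by rw [map_mul, map_inv, e, inv_mul_cancel]; exact one_mem _))
  have ev3 : Even (om 3).card := by rw [card_om]; decide +kernel
  obtain ⟨k0, r0⟩ := r4_ex κ 0x170d0609070b11040a0e1608120f140c1315051003020100 (by decide +kernel)
  have F0 : t * ε (om 3) * t = ε (om 3) * k0 := by
    obtain ⟨a, ha, b, hb, ab, e, e1, ef, F⟩ := F
    obtain ⟨i, hi, rfl⟩ := gc.exists_pt a
    obtain ⟨j, hj, rfl⟩ := gc.exists_pt b
    have k : ∀ i < 24, ∀ j < 24, tb 0x82402f i = true → tb 0x82402f j = true → i ≠ j → ∃ g ∈ r4pg, imgT g 3 = 2 ^ i ^^^ 2 ^ j := by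
      have k0 : ∀ i < 24, ∀ j < 24, (tb 0x82402f i && tb 0x82402f j && !decide (i = j)) = true →
          2 ^ i ^^^ 2 ^ j ∈ r4pg.map fun g => imgT g 3 := by decide +kernel
      intro i hi j hj a b c
      exact List.mem_map.1 (k0 i hi j hj (by simpa [a, b] using c))
    have k' : ∀ g ∈ r4pg, inM24 g = true ∧ Nat.beq (famAct 3 g 0x82402f6920d0149f00) 0x82402f6920d0149f00 = true ∧ imgT g 0x82402f = 0x82402f := by decide +kernel
    obtain ⟨g, hg, e2⟩ := k i hi j hj ((pt_mem_om hi).1 ha) ((pt_mem_om hj).1 hb) fun c => ab (c ▸ rfl)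
    obtain ⟨p1, p2, p3⟩ := k' g hg
    have p := inH_of_inM24 p1
    let γ : M24 := ⟨gc.dec g, p.2⟩
    have rg : UxR κ g (κ γ) := ⟨p, rfl⟩
    have a1 := T.r4_act hκ rg ev3
    have a2 := rg.com cT p2
    have a3 : om (2 ^ i ^^^ 2 ^ j) = {gc.pt i, gc.pt j} := by
      rw [r4_xor, show om (2 ^ j) = {gc.pt j} from gc.ofMask_two_pow hj, show om (2 ^ i) = {gc.pt i} from gc.ofMask_two_pow hi]
      ext y
      simp only [Finset.mem_insert, Finset.mem_symmDiff, Finset.mem_singleton]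
      constructor
      · rintro (c | c); exacts [.inl c.1, .inr c.1]
      · rintro (rfl | rfl); exacts [.inl ⟨rfl, ab⟩, .inr ⟨rfl, ab.symm⟩]
    rw [e2, a3] at a1
    have F1 : t * ε (om 3) * t = ε (om 3) * κ (γ⁻¹ * e * γ) := by
      rw [← a1] at F
      rw [map_mul, map_mul, map_inv]
      calc _ = (κ γ)⁻¹ * ((κ γ * t) * ε (om 3) * (κ γ)⁻¹ * (κ γ * t)) := by group
        _ = (κ γ)⁻¹ * (t * (κ γ * ε (om 3) * (κ γ)⁻¹) * t) * κ γ := by rw [a2]; group
        _ = _ := by rw [F]; group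
    have f : ∀ x ∈ om 0x82402f, (γ⁻¹ * e * γ).1 x = x := fun x hx => by
      have : gc.dec g x ∈ om 0x82402f := by
        rw [← p3, ← p.1.smul_om]; exact Finset.smul_mem_smul_finset hx
      change (gc.dec g)⁻¹ (e.1 (gc.dec g x)) = x
      rw [ef _ this]; simp
    have n1 : γ⁻¹ * e * γ ≠ 1 := fun c => e1 (by
      calc e = γ * (γ⁻¹ * e * γ) * γ⁻¹ := by group
        _ = 1 := by rw [c]; group)
    generalize γ⁻¹ * e * γ = q at F1 f n1
    have cs : ∀ s, inM24 s = true → Nat.beq (famAct 3 s 0x82402f6920d0149f00) 0x82402f6920d0149f00 = true → imgT s 3 = 3 →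
        gc.Valid s ∧ gc.dec s * q.1 = q.1 * gc.dec s := fun s s1 s2 s3 => by
      have p := inH_of_inM24 s1
      let σ : M24 := ⟨gc.dec s, p.2⟩
      have rs : UxR κ s (κ σ) := ⟨p, rfl⟩
      have b1 := T.r4_act hκ rs ev3
      have b2 := rs.com cT s2
      rw [s3, mul_inv_eq_iff_eq_mul] at b1
      refine ⟨p.1, congrArg Subtype.val (inj (k := σ * q) (l := q * σ) (mul_left_cancel (a := ε (om 3)) ?_))⟩
      rw [map_mul, map_mul, ← mul_assoc, ← b1, mul_assoc, ← F1, ← mul_assoc (ε _), ← F1, ← mul_assoc, ← mul_assoc, b2,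
        mul_assoc t, b1, mul_assoc, mul_assoc, b2, mul_assoc, mul_assoc]
    obtain ⟨v1, c1⟩ := cs 0xe071614060c03101205130f080b090a150d170402110100 (by decide +kernel) (by decide +kernel) (by decide +kernel)
    obtain ⟨v2, c2⟩ := cs 0xe13060f0d1417100c02071209080a0b1615050403110001 (by decide +kernel) (by decide +kernel) (by decide +kernel)
    obtain ⟨j, hj, j1, j2, j3, j4⟩ := r4_pt f v1 v2 c1 c2 (by decide +kernel) (by decide +kernel)
    have k2 : ∀ j < 24, tb 0x82402f j = false → app 0xe071614060c03101205130f080b090a150d170402110100 j = j → app 0xe13060f0d1417100c02071209080a0b1615050403110001 j = j → j = 4 ∨ j = 16 := by decide +kernel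
    rcases k2 j hj j2 j3 j4 with rfl | rfl
    · exact absurd (q1 q f j1) n1
    obtain ⟨p0, rfl⟩ := r0
    have f0 : ∀ x ∈ om 0x82402f, gc.dec 0x170d0609070b11040a0e1608120f140c1315051003020100 x = x := fun x hx => by
      obtain ⟨i, hi, rfl⟩ := gc.exists_pt x
      have k3 : ∀ i < 24, tb 0x82402f i = true → app 0x170d0609070b11040a0e1608120f140c1315051003020100 i = i := by decide +kernel
      rw [p0.1.dec_pt hi, k3 i hi ((pt_mem_om hi).1 hx)]
    have := q1 (q⁻¹ * ⟨_, p0.2⟩) (fun x hx => by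
      change q.1⁻¹ (gc.dec _ x) = x
      rw [f0 x hx, Equiv.Perm.inv_eq_iff_eq, f x hx]) (by
      change q.1⁻¹ (gc.dec _ _) = _
      rw [p0.1.dec_pt (show 4 < gc.n by decide), Equiv.Perm.inv_eq_iff_eq, j1]; exact congrArg gc.pt (by decide +kernel))
    rw [F1, inv_mul_eq_one.1 this]
  have Fa : ∀ {a g}, UxR κ a g → g * t * g⁻¹ * ε (om (imgT a 3)) = ε (om (imgT a 3)) * (g * k0 * g⁻¹) * (g * t * g⁻¹) :=
    fun {a g} r => by
      rw [← T.r4_act hκ r ev3]
      calc _ = g * (t * ε (om 3) * (t * t)) * g⁻¹ := by rw [t2]; group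
        _ = g * (t * ε (om 3) * t * t) * g⁻¹ := by group
        _ = _ := by rw [F0]; group
  obtain ⟨x1, r1⟩ := r4_ex κ 0x515070d140903160c0e081204060f13100b170a11020100 (by decide +kernel)
  obtain ⟨x2, r2⟩ := r4_ex κ 0x30b06070a151114090513160c10120f0d080e0402170001 (by decide +kernel)
  have ru : UxR κ uxu (κ (uxE uxu)) := UxR.base _
  have ec : (κ (uxE uxu) * t) ^ 3 = x1 * t * x1⁻¹ * (x2 * t * x2⁻¹) * t := by
    rw [← r4_sw cT ru r1 (by decide +kernel), ← r4_sw cT (ru.mul ru) r2 (by decide +kernel)]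
    have := ((ru.mul ru).mul ru).one (by decide +kernel)
    generalize κ (uxE uxu) = u at this
    calc _ = u * t * u⁻¹ * (u * u * t * (u * u)⁻¹) * (u * u * u) * t := by simp only [pow_succ]; group
      _ = _ := by rw [this, mul_one]
  rw [ec]
  obtain ⟨c, hc⟩ : ∃ c, c = x1 * t * x1⁻¹ * (x2 * t * x2⁻¹) * t := ⟨_, rfl⟩
  rw [← hc]
  let H : Subgroup G := centralizer {c}
  have dc : ∀ {a g}, UxR κ a g → Nat.beq (famAct 3 a 0x82402f6920d0149f00) 0x82402f6920d0149f00 = true →
      Nat.beq (famAct 3 (mulN 24 (mulN 24 (invN 24 0x515070d140903160c0e081204060f13100b170a11020100) a) 0x515070d140903160c0e081204060f13100b170a11020100) 0x82402f6920d0149f00) 0x82402f6920d0149f00 = true →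
      Nat.beq (famAct 3 (mulN 24 (mulN 24 (invN 24 0x30b06070a151114090513160c10120f0d080e0402170001) a) 0x30b06070a151114090513160c10120f0d080e0402170001) 0x82402f6920d0149f00) 0x82402f6920d0149f00 = true → g ∈ H :=
    fun {a g} r e0 e1 e2 => mem_centralizer_singleton_iff.2 (hc ▸
      (Commute.mul_right (Commute.mul_right (r4_cm cT r r1 e1) (r4_cm cT r r2 e2)) (r.com cT e0) :))
  have wH : ε (om 3) ∈ H := mem_centralizer_singleton_iff.2 (by
    have f1 := Fa r1
    have f2 := Fa r2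
    rw [show imgT 0x515070d140903160c0e081204060f13100b170a11020100 3 = 3 by decide +kernel] at f1
    rw [show imgT 0x30b06070a151114090513160c10120f0d080e0402170001 3 = 3 by decide +kernel] at f2
    have f0 : t * ε (om 3) = ε (om 3) * k0 * t := by rw [← F0, mul_assoc _ t, t2, mul_one]
    have re2 := (r2.mul r0).mul r2.inv
    have c1 := r4_cm cT re2 r1 (by decide +kernel)
    have c2 := r4_cm cT r0 r1 (by decide +kernel)
    have c3 := r4_cm cT r0 r2 (by decide +kernel)
    have o := ((((r1.mul r0).mul r1.inv).mul re2).mul r0).one (by decide +kernel)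
    rw [hc]
    generalize x1 * t * x1⁻¹ = t1 at *
    generalize x2 * t * x2⁻¹ = t2 at *
    generalize x1 * k0 * x1⁻¹ = e1 at *
    generalize x2 * k0 * x2⁻¹ = e2 at *
    generalize ε (om 3) = w at *
    calc _ = w * (e1 * e2 * k0) * (t1 * t2 * t) := by rw [o, mul_one]
      _ = w * e1 * e2 * (k0 * t1) * t2 * t := by group
      _ = w * e1 * (e2 * t1) * (k0 * t2) * t := by rw [c2]; group
      _ = w * e1 * t1 * e2 * t2 * k0 * t := by rw [c1, c3]; group
      _ = t1 * (w * e2 * t2) * k0 * t := by rw [← f1]; group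
      _ = t1 * t2 * (w * k0 * t) := by rw [← f2]; group
      _ = _ := by rw [← f0]; group)
  have tm : ∀ a, inM24 a = true → Nat.beq (famAct 3 a 0x82402f6920d0149f00) 0x82402f6920d0149f00 = true →
      Nat.beq (famAct 3 (mulN 24 (mulN 24 (invN 24 0x515070d140903160c0e081204060f13100b170a11020100) a) 0x515070d140903160c0e081204060f13100b170a11020100) 0x82402f6920d0149f00) 0x82402f6920d0149f00 = true →
      Nat.beq (famAct 3 (mulN 24 (mulN 24 (invN 24 0x30b06070a151114090513160c10120f0d080e0402170001) a) 0x30b06070a151114090513160c10120f0d080e0402170001) 0x82402f6920d0149f00) 0x82402f6920d0149f00 = true →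
      ∀ m, imgT a 3 = m → ε (om m) ∈ H := fun a i e0 e1 e2 m e => by
    obtain ⟨g, r⟩ := r4_ex κ a i
    have := dc r e0 e1 e2
    rw [← e, ← T.r4_act hκ r ev3]
    exact mul_mem (mul_mem this wH) (inv_mem this)
  have m0 : ε (om 0x3) ∈ H := tm 0x2060412160a0513080315140f0c0b090d1011070e170001 (by decide +kernel) (by decide +kernel) (by decide +kernel) (by decide +kernel) _ (by decide +kernel)
  have m1 : ε (om 0x21) ∈ H := tm 0xe04130c100b110d0a1715080f1214090616010703020500 (by decide +kernel) (by decide +kernel) (by decide +kernel) (by decide +kernel) _ (by decide +kernel)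
  have m2 : ε (om 0x4001) ∈ H := tm 0x50a0816090d111413010c04151006070b0f171203020e00 (by decide +kernel) (by decide +kernel) (by decide +kernel) (by decide +kernel) _ (by decide +kernel)
  have m3 : ε (om 0x800001) ∈ H := tm 0xe080b15090602140d011204071013160a0c050f11031700 (by decide +kernel) (by decide +kernel) (by decide +kernel) (by decide +kernel) _ (by decide +kernel)
  have m4 : ε (om 0x6) ∈ H := tm 0x306130c1608170d1400070a120f0b0904151110050e0201 (by decide +kernel) (by decide +kernel) (by decide +kernel) (by decide +kernel) _ (by decide +kernel)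
  have m5 : ε (om 0xa) ∈ H := tm 0x1106040c070805130a00100b0912140f0d1502160e170301 (by decide +kernel) (by decide +kernel) (by decide +kernel) (by decide +kernel) _ (by decide +kernel)
  have m6 : ε (om 0x20002) ∈ H := tm 0xe0604121008020d0b05160a0f09140c1307171503000111 (by decide +kernel) (by decide +kernel) (by decide +kernel) (by decide +kernel) _ (by decide +kernel)
  have hb : ∀ b m, ε (om m) ∈ H → ε (om (b % 2 * m)) ∈ H := fun b m h => by
    rcases Nat.mod_two_eq_zero_or_one b with e | e <;> rw [e]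
    · rw [zero_mul, show om 0 = ∅ from gc.ofMask_zero, (T.one _ (by simp)).2 empty_mem_cw]; exact one_mem _
    · rwa [one_mul]
  have AH : A ≤ H := fun a ha => by
    have g1 : gc.gen gE16 ≤ (H.comap κ).map M24.subtype := Coding.gen_le fun g hg => by
      have k : ∀ g ∈ gE16, inM24 g = true ∧ Nat.beq (famAct 3 g 0x82402f6920d0149f00) 0x82402f6920d0149f00 = true ∧
        Nat.beq (famAct 3 (mulN 24 (mulN 24 (invN 24 0x515070d140903160c0e081204060f13100b170a11020100) g) 0x515070d140903160c0e081204060f13100b170a11020100) 0x82402f6920d0149f00) 0x82402f6920d0149f00 = true ∧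
        Nat.beq (famAct 3 (mulN 24 (mulN 24 (invN 24 0x30b06070a151114090513160c10120f0d080e0402170001) g) 0x30b06070a151114090513160c10120f0d080e0402170001) 0x82402f6920d0149f00) 0x82402f6920d0149f00 = true := by decide +kernel
      obtain ⟨i, e0, e1, e2⟩ := k g hg
      have p := inH_of_inM24 i
      exact ⟨p.1, ⟨_, p.2⟩, dc ⟨p, rfl⟩ e0 e1 e2, rfl⟩
    have f := hA.fix ⟨a, hA.le ha⟩ ha
    obtain ⟨l, hl, e⟩ := g1 (gen_gE16.ge (mem_E16.2 ⟨T.mM _, f⟩))
    obtain rfl : l = ⟨θ ⟨a, hA.le ha⟩, T.mM _⟩ := Subtype.ext e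
    obtain ⟨R, s1, s2, s3⟩ := hA.sub _ (mul_mem ha (inv_mem (qA ⟨θ ⟨a, hA.le ha⟩, T.mM _⟩ f))) (dv ⟨a, hA.le ha⟩)
    obtain ⟨i, hi, rfl⟩ := r4_sub s1
    have k : ∀ i < 256, pop24 (r4sp i) % 2 = 0 → ∃ j < 128, r4sp i = r4cb j := by decide +kernel
    obtain ⟨j, -, e2⟩ := k i hi (by rw [← card_om]; exact Nat.even_iff.1 s2)
    have : ε (om (r4sp i)) ∈ H := by
      rw [e2, r4cb]
      simp only [r4_xor, T.mul]
      exact mul_mem (mul_mem (mul_mem (mul_mem (mul_mem (mul_mem (hb _ _ m0) (hb _ _ m1)) (hb _ _ m2)) (hb _ _ m3))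
        (hb _ _ m4)) (hb _ _ m5)) (hb _ _ m6)
    rw [s3] at this
    exact (mul_mem_cancel_right (inv_mem (show κ _ ∈ H from hl))).1 this
  have cA : c ∈ A := hA.sa.cen.le fun a ha => mem_centralizer_singleton_iff.1 (AH ha)
  obtain ⟨y1, u1⟩ := r4_ex κ 0x7100a131201160c02060f080b0914150d11040517030e (by decide +kernel)
  obtain ⟨y2, u2⟩ := r4_ex κ 0x111607080609011012000d0f140b0c0a15130204170e0305 (by decide +kernel)
  have z1 := mem_centralizer_singleton_iff.1 (dc u1 (by decide +kernel) (by decide +kernel) (by decide +kernel))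
  have z2 := mem_centralizer_singleton_iff.1 (dc u2 (by decide +kernel) (by decide +kernel) (by decide +kernel))
  have cV : c ∈ V := by
    have f := hA.fix ⟨c, hA.le cA⟩ cA
    have cs : ∀ {s y}, UxR κ s y → y * c = c * y →
        gc.Valid s ∧ gc.dec s * θ ⟨c, hA.le cA⟩ = θ ⟨c, hA.le cA⟩ * gc.dec s := fun {s y} r e => by
      obtain ⟨p, rfl⟩ := r
      obtain ⟨n, e2⟩ := hκ ⟨gc.dec s, p.2⟩
      refine ⟨p.1, ?_⟩
      change (⟨gc.dec s, p.2⟩ : M24).1 * _ = _ * (⟨gc.dec s, p.2⟩ : M24).1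
      rw [← e2, ← map_mul, ← map_mul]
      exact congrArg θ (Subtype.ext e)
    obtain ⟨j, hj, j1, j2, j3, j4⟩ := r4_pt f (cs u1 z1).1 (cs u2 z2).1 (cs u1 z1).2 (cs u2 z2).2 (by decide +kernel)
      (by decide +kernel)
    have k2 : ∀ j < 24, tb 0x82402f j = false → app 0x7100a131201160c02060f080b0914150d11040517030e j = j → app 0x111607080609011012000d0f140b0c0a15130204170e0305 j = j → j = 4 := by decide +kernel
    obtain rfl := k2 j hj j2 j3 j4
    exact (T.ker ⟨c, hA.le cA⟩).1 (congrArg Subtype.val (q1 ⟨_, T.mM _⟩ f j1))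
  obtain ⟨R, s1, s2, s3⟩ := hA.sub c cA cV
  obtain ⟨i, hi, rfl⟩ := r4_sub s1
  have cw1 : ∀ {s y}, UxR κ s y → y * c = c * y → imgT s (r4sp i) ^^^ r4sp i < 2 ^ 24 →
      isCw (imgT s (r4sp i) ^^^ r4sp i) = true := fun {s y} r e l => by
    have a := T.r4_act hκ r s2
    rw [s3, e, mul_inv_cancel_right, ← s3] at a
    refine (om_mem_cw_iff l).1 ?_
    rw [r4_xor]
    refine T.cw_of ?_ s2 a.symm
    rw [← r.1.1.smul_om, Finset.card_smul_finset]; exact s2
  have k : ∀ i < 256, pop24 (r4sp i) % 2 = 0 →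
      (imgT 0x7100a131201160c02060f080b0914150d11040517030e (r4sp i) ^^^ r4sp i < 2 ^ 24 → isCw (imgT 0x7100a131201160c02060f080b0914150d11040517030e (r4sp i) ^^^ r4sp i) = true) →
      (imgT 0x111607080609011012000d0f140b0c0a15130204170e0305 (r4sp i) ^^^ r4sp i < 2 ^ 24 → isCw (imgT 0x111607080609011012000d0f140b0c0a15130204170e0305 (r4sp i) ^^^ r4sp i) = true) →
      isCw (r4sp i) = true ∨ isCw (r4sp i ^^^ 0x2000d) = true := by decide +kernel
  have evT : Even (om 0x2000d).card := by rw [card_om]; decide +kernel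
  rcases k i hi (by rw [← card_om]; exact Nat.even_iff.1 s2) (cw1 u1 z1) (cw1 u2 z2) with e | e
  · rw [← s3]; exact (T.one _ s2).2 (om_mem_cw e)
  exfalso
  have ez : c = ε (om 0x2000d) := by
    have := om_mem_cw e
    rw [r4_xor] at this
    have := (T.one _ (even_sd s2 evT)).2 this
    rw [T.mul, s3] at this
    rw [eq_inv_of_mul_eq_one_left this, inv_eq_of_mul_eq_one_right (T.esq _)]
  have L : ∀ {a g}, UxR κ a g → g * x1 * t * (g * x1)⁻¹ * (g * x2 * t * (g * x2)⁻¹) =
      ε (om (imgT a 0x2000d)) * (g * t * g⁻¹) := fun {a g} r => by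
    rw [← T.r4_act hκ r evT, ← ez, hc]
    calc _ = g * (x1 * t * x1⁻¹ * (x2 * t * x2⁻¹) * (t * t)) * g⁻¹ := by rw [t2]; group
      _ = _ := by group
  obtain ⟨g1, v1⟩ := r4_ex κ 0x120f141504050c1303160d080a060b09070210010e1117 (by decide +kernel)
  obtain ⟨g2, v2⟩ := r4_ex κ 0x10a1615040f030b13000c1208100d14070617090e021105 (by decide +kernel)
  obtain ⟨g3, v3⟩ := r4_ex κ 0xb0d0610161113070e150f140812040a09010c17050203 (by decide +kernel)
  obtain ⟨g4, v4⟩ := r4_ex κ 0xe130d16090f051014170a0807061204150b000c01020311 (by decide +kernel)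
  obtain ⟨h1, w1⟩ := r4_ex κ 0x5120c130a0d000b1011091606070415080f0e1401170302 (by decide +kernel)
  obtain ⟨h2, w2⟩ := r4_ex κ 0x110809101413021204000b15060d16070a0f170c0103050e (by decide +kernel)
  have tt : ∀ {a g}, UxR κ a g → Nat.beq (famAct 3 a 0x82402f6920d0149f00) 0x82402f6920d0149f00 = true → g * t * g⁻¹ = t := fun r e => by
    rw [r.com cT e, mul_inv_cancel_right]
  have L1 := L v1
  have L2 := L v2
  have L3 := L v3
  have L4 := L v4
  rw [tt (v1.mul r1) (by decide +kernel), r4_sw cT (v1.mul r2) (v2.mul r1) (by decide +kernel),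
    r4_sw cT v1 (v3.mul r1) (by decide +kernel)] at L1
  rw [r4_sw cT (v2.mul r2) (v3.mul r2) (by decide +kernel), r4_sw cT v2 (v4.mul r2) (by decide +kernel),
    show imgT 0x10a1615040f030b13000c1208100d14070617090e021105 0x2000d = 0xc ^^^ 0x4020 by decide +kernel, r4_xor, T.mul] at L2
  rw [tt (v4.mul r1) (by decide +kernel), r4_sw cT v4 v3 (by decide +kernel)] at L4
  have f1 := Fa w1
  have f2 := Fa w2
  rw [tt w1 (by decide +kernel), show imgT 0x5120c130a0d000b1011091606070415080f0e1401170302 3 = 0xc by decide +kernel] at f1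
  rw [tt w2 (by decide +kernel), show imgT 0x110809101413021204000b15060d16070a0f170c0103050e 3 = 0x4020 by decide +kernel] at f2
  have re1 := (w1.mul r0).mul w1.inv
  have re := re1.mul ((w2.mul r0).mul w2.inv)
  have mV : ∀ m, pop24 m % 2 = 0 → ε (om m) ∈ V := fun m h => T.emem (by rw [card_om]; exact Nat.even_iff.2 h)
  have b1 := mV (imgT 0x120f141504050c1303160d080a060b09070210010e1117 0x2000d) (by decide +kernel)
  have b3 := mV (imgT 0xb0d0610161113070e150f140812040a09010c17050203 0x2000d) (by decide +kernel)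
  have b4 := mV (imgT 0xe130d16090f051014170a0807061204150b000c01020311 0x2000d) (by decide +kernel)
  have b5 := mV 0xc (by decide +kernel)
  have b6 : h1 * k0 * h1⁻¹ * ε (om 0x4020) * (h1 * k0 * h1⁻¹)⁻¹ ∈ V := by
    rw [T.r4_act hκ re1 (by rw [card_om]; decide +kernel)]; exact mV _ (by decide +kernel)
  have fin : h1 * k0 * h1⁻¹ * (h2 * k0 * h2⁻¹) ∈ V := by
    generalize h1 * k0 * h1⁻¹ = e1 at *
    generalize h2 * k0 * h2⁻¹ = e2 at *
    generalize g2 * x1 * t * (g2 * x1)⁻¹ = X2 at *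
    generalize g3 * x1 * t * (g3 * x1)⁻¹ = X12 at *
    generalize g3 * x2 * t * (g3 * x2)⁻¹ = X3 at *
    generalize g4 * x2 * t * (g4 * x2)⁻¹ = X23 at *
    generalize g3 * t * g3⁻¹ = X123 at *
    generalize ε (om (imgT 0x120f141504050c1303160d080a060b09070210010e1117 0x2000d)) = z1 at *
    generalize ε (om (imgT 0xb0d0610161113070e150f140812040a09010c17050203 0x2000d)) = z3 at *
    generalize ε (om (imgT 0xe130d16090f051014170a0807061204150b000c01020311 0x2000d)) = z4 at *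
    generalize ε (om 0xc) = a at *
    generalize ε (om 0x4020) = b at *
    have : a * (e1 * b * e1⁻¹) * (e1 * e2) * z4 * X123 = z1 * z3 * X123 := by
      calc _ = a * e1 * (b * e2 * (z4 * X123)) := by group
        _ = a * e1 * (b * e2 * t) * X23 := by rw [← L4]; group
        _ = a * e1 * t * b * X23 := by rw [← f2]; group
        _ = t * (a * b * X23) := by rw [← f1]; group
        _ = t * X2 * X3 := by rw [← L2]; group
        _ = z1 * (X12 * X3) := by rw [L1]; group
        _ = _ := by rw [L3]; group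
    have e := mul_right_cancel this
    have m : a * (e1 * b * e1⁻¹) * (e1 * e2) * z4 ∈ V := e ▸ mul_mem b1 b3
    rwa [mul_mem_cancel_right b4, mul_mem_cancel_left (mul_mem b5 b6)] at m
  obtain ⟨p, e9⟩ := re
  rw [← e9] at fin
  have := congrArg (fun k : M24 => gc.idx (k.1 (gc.pt 4))) (T.r4_V hκ fin)
  simp only [p.1.dec_pt (show 4 < gc.n by decide), OneMemClass.coe_one, Equiv.Perm.one_apply] at this
  rw [gc.idx_pt _ (p.1.app_lt (show 4 < gc.n by decide)), gc.idx_pt _ (show 4 < gc.n by decide)] at this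
  exact absurd this (by decide +kernel)

end TM

end Cfsg.Lib.JF
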