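import Cfsg.Agent.Lib.Block2.JL2
import Cfsg.Agent.Lib.Block2.JHx
import Cfsg.Agent.Lib.Block2.JJ2
import Cfsg.Agent.Lib.Golay.Trio
/-! Interface for the identification of groups of type `J₄`. -/
set_option autoImplicit false
namespace Cfsg.Lib.JF
open Subgroup Cfsg.Lib.Amalg Cfsg.Lib.Core Cfsg.Lib.Known2 Cfsg.Lib.Golay Spor
open scoped Pointwise symmDiff

open Classical in
/-- the element of `M24` with code `n`. -/
noncomputable def mm (n : ℕ) : M24 := if h : gc.dec n ∈ M24 then ⟨_, h⟩ else 1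

theorem mm_val {n : ℕ} (h : inM24 n = true) : (mm n).1 = gc.dec n := by
  rw [mm, dif_pos (inH_of_inM24 h).2]

theorem mm_mul {a b c : ℕ} (h : band (band (inM24 a) (inM24 b)) (Nat.beq (mulN 24 a b) c) = true) :
    mm a * mm b = mm c := by
  simp only [band_eq, Bool.and_eq_true, beq_iff] at h
  obtain ⟨⟨ha, hb⟩, rfl⟩ := h
  have e := (inH_of_inM24 ha).1.dec_mul (inH_of_inM24 hb).1
  have m := ((inH_of_inM24 ha).mul (inH_of_inM24 hb)).2
  apply Subtype.ext
  rw [coe_mul, mm_val ha, mm_val hb, mm, dif_pos (show gc.dec (mulN 24 a b) ∈ M24 from m)]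
  exact e.symm

theorem mm_one : mm (idN 24) = 1 := Subtype.ext (by rw [mm_val (by decide +kernel)]; exact Coding.dec_one)

theorem mm_T {n : ℕ} (h : band (inM24 n) (Nat.beq (famAct 3 n 0x82402f6920d0149f00) 0x82402f6920d0149f00) = true) :
    (mm n).1 ∈ HT3 := by
  simp only [band_eq, Bool.and_eq_true] at h
  rw [mm_val h.1]
  exact (inH_inf_fam (gs := [n]) (fun g hg => by rw [List.mem_singleton.1 hg]; exact inH_of_inM24 h.1) 3 _ T0_spec.1
    (by rw [allL_iff]; intro g hg; rw [List.mem_singleton.1 hg]; exact h.2) n (List.mem_singleton.2 rfl)).2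

theorem mm_smul {n : ℕ} (h : inM24 n = true) (m : ℕ) : (mm n).1 • om m = om (imgN 24 n m) := by
  rw [mm_val h]; exact (inH_of_inM24 h).1.smul_ofMask m

/-- a `3B` element of the trio group. -/
def uS : ℕ := 0x4080a030917150b0e060c0102110500140f131207100d16
/-- a `3A` element fixing the tetrads of the standard sextet, commuting with `uS`; fixed points `0x1c844`. -/
def uP : ℕ := 0xd130a070805100f0e04120b09140c1506031611021701
/-- a `2A` involution in `O₂(HT3) ∩ O₂(HS6)`. -/
def uY : ℕ := 0x413141512050d0f03100c0b0a0908060711160e010217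
/-- generators of `O₂(HS6)`, of order 64. -/
def uO : List ℕ := [0x4060907080e0d0a11100b0c0f14121315031605010217, 0x4070f060c030d1405101208090a0b15130e1611010217,
  0x413141512050d0f03100c0b0a0908060711160e010217, 0xd060a070c05040903161208140f0b131511100e010217,
  0x10060f07121116140e040c0b090a081315050d03010217, 0x1040614070c110d0f0e1012080a090b1315051603001702]
/-- generators of the normaliser `S3 × L3(2)` of `uS` (first inverts, second centralises). -/
def uN : List ℕ := [0x1708140d0f04030910020a15130706160c0b0e1201051100, 0xf02111317060a01160803070d1504100500120e090c140b]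
/-- the empty set and tetrads of the seven sextets refining the standard trio. -/
def uZ : List ℕ := [0x0, 0x2b, 0x1e00, 0x400e, 0x4025, 0x9500, 0x2000d, 0x24028]
/-- generators of `C(uP) ∩ HS6 = 3.A6`. -/
def uC : List ℕ := [0xa0c070d1505010b100212110e04160313061708000f1409, 0x11314120a1116060b1007030e080c05090f0d1504020017]
/-- elements of `C(uP) ∩ HS6` moving the standard trio to the 15 trios refined by the standard sextet. -/
def uM (i : ℕ) : ℕ := [0x716120d0905060b0e150a0f080c140410031311021701, 0x414080a0711100b0e1613060c1215090f050d03021701,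
  0x804141615030b0f0e0c07060a09130d10111205021701, 0x308130c04090e060f110d10071516120b14050a021701,
  0x309161415080e100b1107060d04130a0f0c0512021701, 0x31308070a160e0b1011140f0c120915060d0504021701,
  0x316090d12130e0f06110c0b140a080410070515021701, 0x803131109040b06100c0a0f071514050e16120d021701,
  0x50c0d1209070e1006030a0f041614080b151113021701, 0x514070a080d0e061003120b15130c090f041116021701,
  0x408140c0315100f0616050e0a0911120b130d07021701, 0xd0c0512150a100e0f040706031113080b091614021701,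
  0x5071415160c0e0f0b0304100a090d1306121108021701, 0x4111505121410060f160c0b130708030e0a0d09021701,
  0x714050a0412060e0b150d10031116090f08130c021701].getD i 0

variable {G : Type*} [Group G]

/-- the conjugate of `t` by the lift of the element with code `n`. -/
noncomputable def tt (κ : M24 →* G) (t : G) (n : ℕ) : G := κ (mm n) * t * (κ (mm n))⁻¹

/-- an involution `t` centralising the normaliser of `κ uS`. -/
structure TA (E : Subgroup G) (z p : G) (φ : KK z p →* Equiv.Perm GolayPt) (q : Equiv.Perm GolayPt)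
    (ε : Finset GolayPt → G) (θ : 𝐍 (V0 E φ (gc.gen gA)) →* Equiv.Perm GolayPt) (κ : M24 →* G) (t : G) : Prop where
  A : AllD E z p φ q
  L : LK (DD (V0 E φ (gc.gen gA)) z) ε θ κ
  cg : ∃ g, g * z * g⁻¹ = t ∧ g * p * g⁻¹ = κ (mm uS)
  cN : ∀ x : G, (x * κ (mm uS) = κ (mm uS) * x ∨ x * κ (mm uS) = (κ (mm uS))⁻¹ * x) → x * t = t * x
  nN : t ∉ 𝐍 (V0 E φ (gc.gen gA))

/-- `t` centralises the lift of the trio group. -/
structure TS (E : Subgroup G) (z p : G) (φ : KK z p →* Equiv.Perm GolayPt) (q : Equiv.Perm GolayPt)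
    (ε : Finset GolayPt → G) (θ : 𝐍 (V0 E φ (gc.gen gA)) →* Equiv.Perm GolayPt) (κ : M24 →* G) (t : G) : Prop
    extends TA E z p φ q ε θ κ t where
  cV : ∀ S : Finset GolayPt, Even S.card → (t * ε S = ε S * t ↔ ∃ r ∈ uZ, S ∆ om r ∈ cw)
  cen : ∀ m : M24, m.1 ∈ HT3 → κ m * t = t * κ m

/-- the pair `(z, p)` aligned with the standard sextet. -/
structure AL {V : Subgroup G} (ε : Finset GolayPt → G) (θ : 𝐍 V →* Equiv.Perm GolayPt) (κ : M24 →* G)
    (E' : Subgroup G) (p' : G) (φ' : KK (ε (om 0x800007)) p' →* Equiv.Perm GolayPt) : Prop where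
  js : JS E' (ε (om 0x800007)) p' M22 φ'
  pp : p' = κ (mm uP) ∨ p' = (κ (mm uP))⁻¹
  le : E' ≤ 𝐍 V
  th : ∀ e : 𝐍 V, (e : G) ∈ E' → θ e ∈ gc.gen uO
  kO : ∀ u : M24, u.1 ∈ gc.gen uO → κ u ∈ E'
  v0 : V0 E' φ' (gc.gen gA) = V

theorem tt_eq {κ : M24 →* G} {t : G} (cen : ∀ m : M24, m.1 ∈ HT3 → κ m * t = t * κ m) {a b c : ℕ}
    (h1 : band (band (inM24 a) (inM24 c)) (Nat.beq (mulN 24 a c) b) = true)
    (h2 : band (inM24 c) (Nat.beq (famAct 3 c 0x82402f6920d0149f00) 0x82402f6920d0149f00) = true) :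
    tt κ t b = tt κ t a := by
  rw [tt, tt, ← mm_mul h1, map_mul, mul_assoc (κ (mm a)), cen _ (mm_T h2)]; group

theorem tt_cj {κ : M24 →* G} {t : G} {g a b : ℕ}
    (h : band (band (inM24 g) (inM24 a)) (Nat.beq (mulN 24 g a) b) = true) :
    κ (mm g) * tt κ t a * (κ (mm g))⁻¹ = tt κ t b := by
  rw [tt, tt, ← mm_mul h, map_mul]; group

end Cfsg.Lib.JF
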