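import Cfsg.Agent.Lib.Block2.JR4
import Cfsg.Agent.Lib.Block2.JU0

/-! The last relator of the fourth Janko group. -/

set_option autoImplicit false
set_option maxRecDepth 100000

namespace Cfsg.Lib.JF

open Subgroup Cfsg.Lib.Amalg Cfsg.Lib.Core Cfsg.Lib.Golay Spor
open scoped Pointwise symmDiff

variable {G : Type*} [Group G] {V : Subgroup G} {D : Set G} {ε : Finset GolayPt → G}
  {θ : 𝐍 V →* Equiv.Perm GolayPt} {κ : M24 →* G} {t : G}

noncomputable def r5s (a b : ℕ) : Bool := Nat.beq (famAct 3 (mulN 24 (invN 24 b) a) 0x82402f6920d0149f00) 0x82402f6920d0149f00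
noncomputable def r5ok (x : ℕ) : Bool := band (band (inM24 x) (band (r5s (mulN 24 x 0x17070c0d080f1115160e06091404100a120b031305010200) 0x17070c0d080f1115160e06091404100a120b031305010200)
  (Nat.beq (mulN 24 x 0x104150f13120e0d1411100c0b090a080706031605001702) (mulN 24 0x104150f13120e0d1411100c0b090a080706031605001702 x))))
  (band (bor (r5s (mulN 24 (invN 24 x) 0x11041514161205060b0e0d0f0c080a091007171301030200) 0x11041514161205060b0e0d0f0c080a091007171301030200) (r5s (mulN 24 (invN 24 x) 0x11041514161205060b0e0d0f0c080a091007171301030200) 0x5160d0f0c070110060e0b150a0913140412110802000317))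
    (bor (r5s (mulN 24 (invN 24 x) 0xb05080d011606150907030f0a041410171211130e0c0200) 0xb05080d011606150907030f0a041410171211130e0c0200) (r5s (mulN 24 (invN 24 x) 0xb05080d011606150907030f0a041410171211130e0c0200) 0x401051107131003150a06120002080e170b090c0f14160d)))
def r5T (j : ℕ) : ℕ := [0x17090b100c070e0f0d111415131604060812030a05020100, 0xf0704060b030a1605091208100d0c131511140e170201, 0x1716080f12130e0d14111007060a09150c0b050403000102, 0x11100c090b0601160a170413150f14071208000d02050e03, 0, 0x110a08101215170f0d011406070416130c0b000902030e05, 0, 0, 0, 0, 0, 0, 0, 0, 0x30d1509130800160a02040c0b140f12060717100111050e, 0, 0, 0x30f13161512020904000a0c0b100d0806071714010e0511, 0, 0, 0, 0, 0, 0x20d0c090b0605160a03041513140f0708120e1011010017].getD j 0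

theorem r5_abs {a d e x : G} (e2 : e * e = 1) (ea : Commute e a) (ed : Commute e d) (_ex : Commute e x)
    (h1 : a * x = x * a ∨ a * x = x * (e * a)) (h2 : d * x = x * d ∨ d * x = x * (e * d)) :
    a * d * (a * d) * x = x * (a * d * (a * d)) := by
  have k : ∃ y, y * y = 1 ∧ Commute y (a * d) ∧ a * d * x = x * (y * (a * d)) := by
    rcases h1 with h1 | h1 <;> rcases h2 with h2 | h2
    · exact ⟨1, mul_one 1, Commute.one_left _, by rw [mul_assoc, h2, ← mul_assoc, h1]; group⟩
    · exact ⟨e, e2, ea.mul_right ed, by rw [mul_assoc, h2, ← mul_assoc, h1, mul_assoc, ← mul_assoc a, ← ea.eq]; group⟩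
    · exact ⟨e, e2, ea.mul_right ed, by rw [mul_assoc, h2, ← mul_assoc, h1]; group⟩
    · refine ⟨1, mul_one 1, Commute.one_left _, ?_⟩
      rw [mul_assoc, h2, ← mul_assoc, h1, mul_assoc, mul_assoc, ← mul_assoc a, ← ea.eq, ← mul_assoc e, ← mul_assoc e, e2]
      group
  obtain ⟨y, y2, c, k⟩ := k
  generalize a * d = s at *
  rw [mul_assoc, k, ← mul_assoc, k, mul_assoc, mul_assoc, ← mul_assoc s, ← c.eq, ← mul_assoc y, ← mul_assoc y, y2]
  group

namespace TM
variable (T : TM V D ε θ) (hκ : ∀ k, ∃ h : κ k ∈ 𝐍 V, θ ⟨κ k, h⟩ = k)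
include T hκ

theorem r5_R2 (cl : ∀ t ∈ D, centralizer {t} ≤ 𝐍 V) (t2 : t * t = 1)
    (cT : ∀ k : M24, (k : Equiv.Perm GolayPt) ∈ HT3 → κ k * t = t * κ k)
    (F0 : t * ε (om 3) * t = ε (om 3) * κ (mm 0x170d0609070b11040a0e1608120f140c1315051003020100)) (R1 : (κ (uxE uxu) * t) ^ 3 = 1)
    (cV : ∀ S : Finset GolayPt, Even S.card → t * ε S = ε S * t → ∃ r ∈ uZ, S ∆ om r ∈ cw) (t1 : t ≠ 1) :
    (κ (uxE uxp) * t * (κ (uxE uxh) * t * (κ (uxE uxh))⁻¹)) ^ 2 = 1 := by
  have rm : ∀ n, inM24 n = true → UxR κ n (κ (mm n)) := fun n h =>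
    ⟨inH_of_inM24 h, congrArg κ (Subtype.ext (mm_val h).symm)⟩
  have r0 := rm 0x170d0609070b11040a0e1608120f140c1315051003020100 (by decide +kernel)
  generalize κ (mm 0x170d0609070b11040a0e1608120f140c1315051003020100) = k0 at F0 r0
  have ev3 : Even (om 3).card := by rw [card_om]; decide +kernel
  have ev5 : Even (om 5).card := by rw [card_om]; decide +kernel
  have Fa : ∀ {a g}, UxR κ a g → imgT a 3 = 5 → g * t * g⁻¹ * ε (om 5) = ε (om 5) * (g * k0 * g⁻¹) * (g * t * g⁻¹) :=
    fun {a g} r e => by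
      rw [← e, ← T.r4_act hκ r ev3]
      calc _ = g * (t * ε (om 3) * (t * t)) * g⁻¹ := by rw [t2]; group
        _ = g * (t * ε (om 3) * t * t) * g⁻¹ := by group
        _ = _ := by rw [F0]; group
  have ru : UxR κ uxu (κ (uxE uxu)) := UxR.base _
  have rp : UxR κ uxp (κ (uxE uxp)) := UxR.base _
  have rh : UxR κ uxh (κ (uxE uxh)) := UxR.base _
  generalize κ (uxE uxu) = u at *
  generalize κ (uxE uxp) = p at *
  generalize κ (uxE uxh) = h at *
  have sq : ∀ g : G, g * t * g⁻¹ * (g * t * g⁻¹) = 1 := fun g => by rw [conj_mul, t2]; group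
  have L : ∀ g : G, g * (u * u) * t * (g * (u * u))⁻¹ = g * u * t * (g * u)⁻¹ * (g * t * g⁻¹) := fun g => by
    have u3 := ((ru.mul ru).mul ru).one (by decide +kernel)
    have : g * u * t * (g * u)⁻¹ * (g * (u * u) * t * (g * (u * u))⁻¹) * (g * t * g⁻¹) = 1 := by
      calc _ = g * (u * t * u * t * (u * u)⁻¹ * t) * g⁻¹ := by group
        _ = g * ((u * t) ^ 3) * g⁻¹ := by
          rw [inv_eq_of_mul_eq_one_right u3]; simp only [pow_succ]; group
        _ = _ := by rw [R1]; group
    rw [← inv_eq_of_mul_eq_one_right (sq (g * u)), ← inv_eq_of_mul_eq_one_right (sq g), eq_inv_mul_iff_mul_eq,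
      eq_inv_iff_mul_eq_one]
    exact this
  obtain ⟨xA, rA⟩ := r4_ex κ 0x11041514161205060b0e0d0f0c080a091007171301030200 (by decide +kernel)
  obtain ⟨xD, rD⟩ := r4_ex κ 0xb05080d011606150907030f0a041410171211130e0c0200 (by decide +kernel)
  obtain ⟨xE, rE⟩ := r4_ex κ 0x17070c0d080f1115160e06091404100a120b031305010200 (by decide +kernel)
  obtain ⟨yA, sA⟩ := r4_ex κ 0x5160d0f0c070110060e0b150a0913140412110802000317 (by decide +kernel)
  obtain ⟨yD, sD⟩ := r4_ex κ 0x401051107131003150a06120002080e170b090c0f14160d (by decide +kernel)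
  obtain ⟨g1, v1⟩ := r4_ex κ 0x51409081007170a06030d150c0b13120f160e0402011100 (by decide +kernel)
  obtain ⟨g2, v2⟩ := r4_ex κ 0x40e020c03130d00151605120706080b11010a170f100914 (by decide +kernel)
  obtain ⟨g3, v3⟩ := r4_ex κ 0x100c020013081411151612030b07010e06170905040a0d0f (by decide +kernel)
  obtain ⟨b1, w1⟩ := r4_ex κ 0x1104060f1508170d0a00160b1209140c130702100105030e (by decide +kernel)
  obtain ⟨b2, w2⟩ := r4_ex κ 0x20f12160c06030a100e1415070d04130b08110905011700 (by decide +kernel)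
  obtain ⟨m, rM⟩ := r4_ex κ 0xa110c010b080d0017100213150503120706140e0f040916 (by decide +kernel)
  obtain ⟨q, rq⟩ := r4_ex κ 0x104150f13120e0d1411100c0b090a080706031605001702 (by decide +kernel)
  have L1 := L g1
  have L2 := L g2
  have L3 := L g3
  rw [r4_sw cT (v1.mul (ru.mul ru)) sA (by decide +kernel), r4_sw cT (v1.mul ru) rA (by decide +kernel), r4_sw cT v1 rE (by decide +kernel)] at L1
  rw [r4_sw cT (v2.mul (ru.mul ru)) sD (by decide +kernel), r4_sw cT (v2.mul ru) rD (by decide +kernel), r4_sw cT v2 rE (by decide +kernel)] at L2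
  rw [r4_sw cT (v3.mul (ru.mul ru)) (w1.mul rD) (by decide +kernel), r4_sw cT (v3.mul ru) rD (by decide +kernel), r4_sw cT v3 (w2.mul rD) (by decide +kernel)] at L3
  have eA : xA * t * xA⁻¹ = t := by rw [rA.com cT (by decide +kernel), mul_inv_cancel_right]
  have f1 := Fa rA (by decide +kernel)
  have f2 := Fa rD (by decide +kernel)
  have f3 := Fa rE (by decide +kernel)
  have a2 := sq xA
  have d2 := sq xD
  have e2 := sq xE
  have cm : ∀ {a b : G}, a * a = 1 → b * b = 1 → a * b * (a * b) = 1 → Commute b a := fun {a b} x y z => by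
    rw [Commute, SemiconjBy, ← inv_eq_of_mul_eq_one_right z, mul_inv_rev, inv_eq_of_mul_eq_one_right x,
      inv_eq_of_mul_eq_one_right y]
  have ea := cm a2 e2 (L1 ▸ sq yA)
  have ed := cm d2 e2 (L2 ▸ sq yD)
  have mv : ∀ {x y a g : G}, x⁻¹ * a * t * (x⁻¹ * a)⁻¹ = y → a * t * a⁻¹ * x = x * y := fun {x y a g} e => by
    rw [← e]; group
  have mv' : ∀ {n x}, UxR κ n x → r5s (mulN 24 n 0x17070c0d080f1115160e06091404100a120b031305010200) 0x17070c0d080f1115160e06091404100a120b031305010200 = true → Commute (xE * t * xE⁻¹) x := fun {n x} r e => by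
    have := r4_sw cT (r.mul rE) rE e
    calc _ = x * xE * t * (x * xE)⁻¹ * x := by rw [this]
      _ = _ := by group
  obtain ⟨c, hc⟩ : ∃ c, c = xA * t * xA⁻¹ * (xD * t * xD⁻¹) * (xA * t * xA⁻¹ * (xD * t * xD⁻¹)) := ⟨_, rfl⟩
  have okc : ∀ {n x}, UxR κ n x → r5ok n = true → Commute c x ∧ Commute q x ∧ Commute (xE * t * xE⁻¹) x :=
    fun {n x} r e => by
      simp only [r5ok, band_iff, bor_iff] at e
      have ex := mv' r e.1.2.1
      refine ⟨hc ▸ r5_abs e2 ea ed ex (e.2.1.imp (fun k => mv (g := 1) (r4_sw cT (r.inv.mul rA) rA k)) fun k => ?_)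
        (e.2.2.imp (fun k => mv (g := 1) (r4_sw cT (r.inv.mul rD) rD k)) fun k => ?_), ((r.mul rq).eq (rq.mul r) e.1.2.2).symm, ex⟩
      · rw [ea.eq, ← L1]; exact mv (g := 1) (r4_sw cT (r.inv.mul rA) sA k)
      · rw [ed.eq, ← L2]; exact mv (g := 1) (r4_sw cT (r.inv.mul rD) sD k)
  have ok : ∀ {n x}, UxR κ n x → r5ok n = true → Commute (c * q * (xE * t * xE⁻¹)) x := fun r e =>
    ((okc r e).1.mul_left (okc r e).2.1).mul_left (okc r e).2.2
  have re := (rA.mul r0).mul rA.inv
  have rf := (rD.mul r0).mul rD.inv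
  have rg := (rE.mul r0).mul rE.inv
  have c1 : xA * t * xA⁻¹ * (xD * k0 * xD⁻¹) = xD * k0 * xD⁻¹ * (yA * t * yA⁻¹) := mv (g := 1) (r4_sw cT (rf.inv.mul rA) sA (by decide +kernel))
  have c2 : xD * t * xD⁻¹ * (xA * k0 * xA⁻¹) = xA * k0 * xA⁻¹ * (yD * t * yD⁻¹) := mv (g := 1) (r4_sw cT (re.inv.mul rD) sD (by decide +kernel))
  have c3 := r4_cm cT re rA (by decide +kernel)
  have c4 := r4_cm cT rf rD (by decide +kernel)
  have c5 := mv' re (by decide +kernel)
  have c6 := mv' rf (by decide +kernel)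
  have c7 := (okc ((rq.mul rg).mul rq.inv) (by decide +kernel)).1
  have c8 := ((((re.mul rf).mul re).mul rf).mul ((rq.mul rg).mul rq.inv)).one (by decide +kernel)
  have c9 := T.r4_act hκ rq ev5
  rw [show imgT 0x104150f13120e0d1411100c0b090a080706031605001702 5 = 5 by decide +kernel, mul_inv_eq_iff_eq_mul] at c9
  have qA := r4_cm cT rq rA (by decide +kernel)
  have qD := r4_cm cT rq rD (by decide +kernel)
  have cq := okc rq (by decide +kernel)
  have q2 := (rq.mul rq).one (by decide +kernel)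
  have m1 := r4_sw cT (rM.mul rA) rD (by decide +kernel)
  have m2 := r4_sw cT (rM.mul rD) rA (by decide +kernel)
  have m3 := mv' rM (by decide +kernel)
  have m4 := (rM.mul rq).eq (rq.mul rM) (by decide +kernel)
  have n1 := r4_cm cT w1 rA (by decide +kernel)
  have n2 := r4_cm cT w2 rA (by decide +kernel)
  have n3 := mv' w1 (by decide +kernel)
  have n4 := mv' w2 (by decide +kernel)
  have p1 := rp.com cT (by decide +kernel)
  have p2 := r4_sw cT rh rD (by decide +kernel)
  have p3 := r4_sw cT (rp.inv.mul rD) sD (by decide +kernel)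
  have p4 := (rp.mul rp).eq rq (by decide +kernel)
  have e1 : xE * t * xE⁻¹ ≠ 1 := fun e => t1 (conj_eq_one_iff.1 e)
  have sA' : ∀ {n x}, UxR κ n x → Nat.beq (famAct 3 (mulN 24 (mulN 24 (invN 24 0x11041514161205060b0e0d0f0c080a091007171301030200) n) 0x11041514161205060b0e0d0f0c080a091007171301030200) 0x82402f6920d0149f00) 0x82402f6920d0149f00 = true →
    x * (xA * t * xA⁻¹) = xA * t * xA⁻¹ * x := fun r e => r4_cm cT r rA e
  have sD' : ∀ {n x}, UxR κ n x → Nat.beq (famAct 3 (mulN 24 (mulN 24 (invN 24 0xb05080d011606150907030f0a041410171211130e0c0200) n) 0xb05080d011606150907030f0a041410171211130e0c0200) 0x82402f6920d0149f00) 0x82402f6920d0149f00 = true →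
    x * (xD * t * xD⁻¹) = xD * t * xD⁻¹ * x := fun r e => r4_cm cT r rD e
  have zD : ∀ r ∈ uZ, Commute (ε (om r)) (xD * t * xD⁻¹) → r = 0 := fun r hr e => by
    have k : ∀ r ∈ uZ, pop24 r % 2 = 0 ∧ pop24 (imgT (invN 24 0xb05080d011606150907030f0a041410171211130e0c0200) r) % 2 = 0 ∧ ∀ s ∈ uZ, imgT (invN 24 0xb05080d011606150907030f0a041410171211130e0c0200) r ^^^ s < 2 ^ 24 ∧
      (isCw (imgT (invN 24 0xb05080d011606150907030f0a041410171211130e0c0200) r ^^^ s) = true → r = 0) := by decide +kernel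
    have a := T.r4_act hκ rD.inv (m := r) (by rw [card_om]; exact Nat.even_iff.2 (k r hr).1)
    obtain ⟨s, hs, b⟩ := cV _ (by rw [card_om]; exact Nat.even_iff.2 (k r hr).2.1) (by
      rw [← a]
      calc _ = xD⁻¹ * (xD * t * xD⁻¹ * ε (om r)) * xD := by group
        _ = _ := by rw [← e.eq]; group)
    exact ((k r hr).2.2 s hs).2 ((om_mem_cw_iff ((k r hr).2.2 s hs).1).1 (by rwa [r4_xor]))
  rw [show b1 * xD * t * (b1 * xD)⁻¹ = b1 * (xD * t * xD⁻¹) * b1⁻¹ by group,
    show b2 * xD * t * (b2 * xD)⁻¹ = b2 * (xD * t * xD⁻¹) * b2⁻¹ by group] at L3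
  rw [show m * xA * t * (m * xA)⁻¹ = m * (xA * t * xA⁻¹) * m⁻¹ by group] at m1
  rw [show m * xD * t * (m * xD)⁻¹ = m * (xD * t * xD⁻¹) * m⁻¹ by group] at m2
  rw [show p⁻¹ * xD * t * (p⁻¹ * xD)⁻¹ = p⁻¹ * (xD * t * xD⁻¹) * p by group] at p3
  rw [L1] at c1
  rw [L2] at c2 p3
  rw [p2]
  rw [eA] at *
  generalize xD * t * xD⁻¹ = d at *
  generalize xE * t * xE⁻¹ = e at *
  generalize xA * k0 * xA⁻¹ = α at *
  generalize xD * k0 * xD⁻¹ = β at *
  generalize xE * k0 * xE⁻¹ = γ at *
  have ti := inv_eq_of_mul_eq_one_right t2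
  have di := inv_eq_of_mul_eq_one_right d2
  have cN : c * q * e ∈ 𝐍 V := by
    refine cl (ε (om 5)) ((T.duad _).2 ⟨_, by rw [card_om]; decide +kernel, rfl⟩) (mem_centralizer_singleton_iff.2 ?_)
    generalize ε (om 5) = w at *
    have k1 : t * d * w = w * (α * β * e) * (t * d) := by
      calc _ = t * (d * w) := by group
        _ = t * w * β * d := by rw [f2]; group
        _ = w * α * (t * β) * d := by rw [f1]; group
        _ = _ := by rw [c1, ← ea.eq]; group
    have k2 : t * d * (α * β * e) = α * β * e * (t * d) := by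
      calc _ = t * (d * α) * β * e := by group
        _ = (t * α) * d * (e * β) * e := by rw [c2]; group
        _ = α * t * (d * β) * (e * e) := by rw [← c3, c6.eq]; group
        _ = α * (t * β) * d := by rw [e2, ← c4]; group
        _ = _ := by rw [c1, ← ea.eq]; group
    have k3 : c * w = w * (α * β * α * β) * c := by
      calc _ = t * d * (t * d * w) := by rw [hc]; group
        _ = t * d * (w * (α * β * e) * (t * d)) := by rw [← k1]
        _ = t * d * w * (α * β * e) * (t * d) := by group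
        _ = w * (α * β * e) * (t * d) * (α * β * e) * (t * d) := by rw [← k1]
        _ = w * (α * β * e) * (t * d * (α * β * e)) * (t * d) := by group
        _ = w * (α * β) * (e * (α * β)) * e * c := by rw [k2, hc]; group
        _ = w * (α * β) * (α * β) * (e * e) * c := by rw [(c5.mul_right c6).eq]; group
        _ = _ := by rw [e2]; group
    calc _ = c * q * (e * w) := by group
      _ = c * (q * w) * γ * e := by rw [f3]; group
      _ = c * w * (q * γ * q⁻¹) * q * e := by rw [c9]; group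
      _ = w * (α * β * α * β) * (c * (q * γ * q⁻¹)) * q * e := by rw [k3]; group
      _ = w * (α * β * α * β * (q * γ * q⁻¹)) * c * q * e := by rw [c7.eq]; group
      _ = _ := by rw [c8]; group
  obtain ⟨n, hn⟩ : ∃ n : 𝐍 V, (n : G) = c * q * e := ⟨⟨_, cN⟩, rfl⟩
  have cs : ∀ s, r5ok s = true → gc.Valid s ∧ gc.dec s * θ n = θ n * gc.dec s := fun s hs => by
    have i : inM24 s = true := by simp only [r5ok, band_iff] at hs; exact hs.1.1
    have p := inH_of_inM24 i
    obtain ⟨l, e2⟩ := hκ ⟨gc.dec s, p.2⟩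
    refine ⟨p.1, ?_⟩
    change (⟨gc.dec s, p.2⟩ : M24).1 * _ = _ * (⟨gc.dec s, p.2⟩ : M24).1
    rw [← e2, ← map_mul, ← map_mul]
    exact congrArg θ (Subtype.ext ((hn ▸ ok ⟨p, rfl⟩ hs : Commute (n : G) _).eq.symm))
  have fin : ∀ σ ∈ M24, (∀ s, r5ok s = true → gc.dec s * σ = σ * gc.dec s) → σ (gc.pt 0) = gc.pt 0 →
      σ = gc.dec (idN 24) ∨ σ = gc.dec 0x1704130f1508110d140e100b0c090a120607051603020100 := fun σ hσ k f => by
    have hs : σ ∈ E16 := mem_E16.2 ⟨hσ, fun x hx => by
      obtain ⟨i, hi, rfl⟩ := gc.exists_pt x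
      have k' : ∀ i < 24, tb 0x82402f i = true → r5ok (r5T i) = true ∧ app (r5T i) 0 = i := by decide +kernel
      obtain ⟨a, b⟩ := k' i hi ((pt_mem_om hi).1 hx)
      have := congrArg (· (gc.pt 0)) (k _ a)
      simp only [Equiv.Perm.mul_apply] at this
      rw [f, (cs _ a).1.dec_pt (show 0 < gc.n by decide), b] at this
      exact this.symm⟩
    rw [← gen_gE16] at hs
    obtain ⟨s, hv, rfl, h⟩ := Coding.forall_mem_gen (fun g hg => (inH_gE16 g hg).1) (M := 13) (d := 4)
      (a := 1) (q := fun s => bor (bor (Nat.beq s (idN 24)) (Nat.beq s 0x1704130f1508110d140e100b0c090a120607051603020100)) (bor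
        (bnot (Nat.beq (mulN 24 0x9150d1308031410050f0c0b1604120607110a0e170201 s) (mulN 24 s 0x9150d1308031410050f0c0b1604120607110a0e170201))) (bnot (Nat.beq (mulN 24 0xe16060f070b170d14011012080a090c1513000402051103 s) (mulN 24 s 0xe16060f070b170d14011012080a090c1513000402051103))))) (by decide +kernel) hs
    have z : ∀ a, r5ok a = true → mulN 24 a s = mulN 24 s a := fun a ha => by
      have v := (cs a ha).1
      have := k a ha
      rw [← v.dec_mul hv, ← hv.dec_mul v] at this
      exact (v.mul hv).enc_dec.symm.trans ((congrArg _ this).trans (hv.mul v).enc_dec)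
    simp only [bor_iff, bnot_iff, beq_iff] at h
    rcases h with (rfl | rfl) | h | h
    exacts [.inl rfl, .inr rfl, absurd (z _ (by decide +kernel)) h, absurd (z _ (by decide +kernel)) h]
  have four : ∃ s ∈ [idN 24, 0x1704130f1508110d140e100b0c090a120607051603020100, 0x104150f13120e0d1411100c0b090a080706031605001702, 0x116131415080e100f110d0b0c0a09120607030405001702], θ n = gc.dec s := by
    obtain ⟨j, hj, ej⟩ := gc.exists_pt (θ n (gc.pt 0))
    have k : ∀ a, r5ok a = true → app a 0 = 0 → app a j = j := fun a ha a0 => by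
      have v := (cs a ha).1
      have := congrArg (· (gc.pt 0)) (cs a ha).2
      simp only [Equiv.Perm.mul_apply] at this
      rw [v.dec_pt (show 0 < gc.n by decide), a0, ← ej, v.dec_pt hj] at this
      exact (gc.pt_inj (v.app_lt hj) hj).1 this
    have k2 : ∀ j < 24, app 0x10f150413080e0a1611090c0b100d120607051403021700 j = j → app 0x17040714060b0e0d0f111008120a090c1513031605020100 j = j → j = 0 ∨ j = 2 := by decide +kernel
    have vq := rq.1
    rcases k2 j hj (k _ (by decide +kernel) (by decide +kernel)) (k _ (by decide +kernel) (by decide +kernel)) with rfl | rfl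
    · rcases fin _ (T.mM n) (fun s hs => (cs s hs).2) ej.symm with a | a
      exacts [⟨_, by simp, a⟩, ⟨_, by simp, a⟩]
    · have := fin ((gc.dec 0x104150f13120e0d1411100c0b090a080706031605001702)⁻¹ * θ n) (mul_mem (inv_mem vq.2) (T.mM n)) (fun s hs => by
        have v := (cs s hs).1
        have a : Commute (gc.dec s) (gc.dec 0x104150f13120e0d1411100c0b090a080706031605001702) := by
          simp only [r5ok, band_iff, beq_iff] at hs
          rw [Commute, SemiconjBy, ← v.dec_mul vq.1, ← vq.1.dec_mul v]; exact congrArg _ hs.1.2.2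
        exact (a.inv_right.mul_right (cs s hs).2 :)) (by
          rw [Equiv.Perm.mul_apply, ← ej, Equiv.Perm.inv_eq_iff_eq, vq.1.dec_pt (show 0 < gc.n by decide)]
          exact congrArg gc.pt (by decide +kernel))
      rw [inv_mul_eq_iff_eq_mul, inv_mul_eq_iff_eq_mul, ← vq.1.dec_mul (inH_of_inM24 (g := idN 24) (by decide +kernel)).1,
        ← vq.1.dec_mul (inH_of_inM24 (g := 0x1704130f1508110d140e100b0c090a120607051603020100) (by decide +kernel)).1] at this
      rcases this with a | a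
      exacts [⟨0x104150f13120e0d1411100c0b090a080706031605001702, by simp, a.trans (congrArg _ (by decide +kernel))⟩, ⟨0x116131415080e100f110d0b0c0a09120607030405001702, by simp, a.trans (congrArg _ (by decide +kernel))⟩]
  obtain ⟨s, hs, es⟩ := four
  have k : ∀ s ∈ [idN 24, 0x1704130f1508110d140e100b0c090a120607051603020100, 0x104150f13120e0d1411100c0b090a080706031605001702, 0x116131415080e100f110d0b0c0a09120607030405001702], inM24 s = true ∧ r5ok s = true ∧ Nat.beq (mulN 24 s s) (idN 24) = true ∧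
    Nat.beq (famAct 3 (mulN 24 (mulN 24 (invN 24 0x11041514161205060b0e0d0f0c080a091007171301030200) s) 0x11041514161205060b0e0d0f0c080a091007171301030200) 0x82402f6920d0149f00) 0x82402f6920d0149f00 = true ∧
    Nat.beq (famAct 3 (mulN 24 (mulN 24 (invN 24 0xb05080d011606150907030f0a041410171211130e0c0200) s) 0xb05080d011606150907030f0a041410171211130e0c0200) 0x82402f6920d0149f00) 0x82402f6920d0149f00 = true ∧
    (mulN 24 0xa110c010b080d0017100213150503120706140e0f040916 s = mulN 24 s 0xa110c010b080d0017100213150503120706140e0f040916 → Nat.beq s (idN 24) = true ∨ Nat.beq s 0x104150f13120e0d1411100c0b090a080706031605001702 = true) := by decide +kernel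
  obtain ⟨k1, k2, k3, k4, k5, k6⟩ := k s hs
  have ps := inH_of_inM24 k1
  have rs : UxR κ s (κ ⟨_, ps.2⟩) := ⟨ps, rfl⟩
  obtain ⟨l, el⟩ := hκ ⟨_, ps.2⟩
  obtain ⟨S, ev, eS⟩ := (T.mem _).1 ((T.ker (n * ⟨_, l⟩⁻¹)).1 (by rw [map_mul, map_inv, el, es, mul_inv_cancel]))
  replace eS : ε S = c * q * e * (κ ⟨_, ps.2⟩)⁻¹ := by rw [eS, ← hn]; rfl
  have o1 := ok rs k2
  have o2 := (rs.mul rs).one k3
  have o3 := sA' rs k4
  have o4 := sD' rs k5
  generalize κ ⟨_, ps.2⟩ = y at *
  have ce : Commute e c := hc ▸ (ea.mul_right ed).mul_right (ea.mul_right ed)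
  have cc : c * c = 1 := by
    have := T.esq S
    rw [eS, ← mul_assoc, mul_assoc _ y⁻¹, ← o1.inv_right.eq, ← mul_assoc, mul_assoc _ y⁻¹, ← mul_inv_rev, o2, inv_one,
      mul_one] at this
    calc _ = c * c * (q * q) * (e * e) := by rw [q2, e2]; group
      _ = c * (c * q) * (q * e) * e := by group
      _ = c * (q * c) * (e * q) * e := by rw [← cq.1.eq, cq.2.2.eq]
      _ = c * q * (c * e) * q * e := by group
      _ = c * q * (e * c) * q * e := by rw [ce.eq]
      _ = c * q * e * (c * q * e) := by group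
      _ = 1 := this
  have ci : c = d * t * (d * t) := by rw [← inv_eq_of_mul_eq_one_right cc, hc]; simp only [mul_inv_rev, ti, di]
  have ct : Commute c t := by
    show c * t = t * c
    conv_rhs => rw [ci]
    rw [hc]; group
  have cd : Commute c d := by
    show c * d = d * c
    conv_lhs => rw [ci]
    rw [hc]; group
  have S1 : Commute (ε S) t := eS ▸ ((ct.mul_left qA).mul_left ea).mul_left (Commute.inv_left o3)
  have S2 : Commute (ε S) d := eS ▸ ((cd.mul_left qD).mul_left ed).mul_left (Commute.inv_left o4)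
  obtain ⟨r, hr, hS⟩ := cV S ev S1.eq.symm
  have kr : ∀ r ∈ uZ, pop24 r % 2 = 0 := by decide +kernel
  have er : ε S = ε (om r) := by
    have := (T.one _ (even_sd ev (by rw [card_om]; exact Nat.even_iff.2 (kr r hr)))).2 hS
    rw [T.mul] at this
    rw [eq_inv_of_mul_eq_one_left this, inv_eq_of_mul_eq_one_right (T.esq _)]
  obtain rfl := zD r hr (er ▸ S2)
  rw [er, show om 0 = ∅ from gc.ofMask_zero, (T.one _ (by simp)).2 empty_mem_cw, eq_comm, mul_inv_eq_one] at eS
  have my : m * y = y * m := by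
    have : m * c = c * m := by
      calc _ = m * t * m⁻¹ * (m * d * m⁻¹) * (m * t * m⁻¹ * (m * d * m⁻¹)) * m := by rw [hc]; group
        _ = _ := by rw [m1, m2, ← ci]
    exact eS ▸ (((Commute.mul_right (show Commute m c from this) m4).mul_right m3.symm) :)
  have ms : mulN 24 0xa110c010b080d0017100213150503120706140e0f040916 s = mulN 24 s 0xa110c010b080d0017100213150503120706140e0f040916 := by
    obtain ⟨x1, x2⟩ := rM.mul rs
    obtain ⟨x3, x4⟩ := rs.mul rM
    have : (⟨_, x1.2⟩ : M24)⁻¹ * ⟨_, x3.2⟩ = 1 := T.r4_V hκ (by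
      rw [map_mul, map_inv, x2, x4, my, inv_mul_cancel]; exact one_mem _)
    exact x1.1.enc_dec.symm.trans ((congrArg _ (congrArg Subtype.val (inv_mul_eq_one.1 this))).trans x3.1.enc_dec)
  rcases k6 ms with z | z
  · rw [rs.one z] at eS
    calc _ = p * p * (p⁻¹ * t * p) * (p⁻¹ * d * p) * t * d := by rw [pow_two]; group
      _ = q * t * (d * (e * t)) * d := by rw [p4, p3, mul_assoc p⁻¹, ← p1]; group
      _ = q * (t * d * t * (e * d)) := by rw [ea.eq]; group
      _ = q * c * e := by rw [ed.eq, hc]; group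
      _ = 1 := by rw [← cq.1.eq, eS]
  exfalso
  rw [rs.eq rq z, cq.1.eq, mul_assoc, mul_eq_left, hc] at eS
  have B : t * d = e * d * t := by
    calc _ = (t * d * (t * d) * e)⁻¹ * (t * d) := by rw [eS]; group
      _ = _ := by simp only [mul_inv_rev, ti, di, inv_eq_of_mul_eq_one_right e2]; rw [mul_assoc, mul_assoc, mul_assoc, mul_assoc,
        ← mul_assoc t t, t2, one_mul, d2, mul_one, mul_assoc]
  have B' : ∀ b, b * t = t * b → Commute e b → t * (b * d * b⁻¹) = e * (b * d * b⁻¹) * t := fun b x y => by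
    calc _ = t * b * d * b⁻¹ := by group
      _ = b * (t * d) * b⁻¹ := by rw [← x]; group
      _ = b * e * d * (t * b⁻¹) := by rw [B]; group
      _ = _ := by rw [← y.eq, (Commute.inv_left x).eq.symm]; group
  have B1 := B' b1 n1 n3
  have B2 := B' b2 n2 n4
  rw [L3] at B1
  generalize b2 * d * b2⁻¹ = x at *
  have : e * (d * x * t) = 1 * (d * x * t) := by
    calc _ = t * d * x := by rw [mul_assoc t, B1]; group
      _ = e * d * (t * x) := by rw [B]; group
      _ = e * (d * e) * x * t := by rw [B2]; group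
      _ = (e * e) * (d * x * t) := by rw [← ed.eq]; group
      _ = _ := by rw [e2]
  exact e1 (mul_right_cancel this)

end TM

end Cfsg.Lib.JF
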