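import Cfsg.Agent.S5563
import Cfsg.Agent.S5564
import Cfsg.Agent.Lib.Block2.JL2
import Cfsg.Agent.Lib.Block2.JHy
import Cfsg.Agent.Lib.Block2.JPc
import Cfsg.Agent.Lib.Block2.JPd
import Cfsg.Agent.Lib.Block2.JPe
import Cfsg.Agent.Lib.Block2.JP0
import Cfsg.Agent.Lib.Block2.JPi
import Cfsg.Agent.Lib.Block2.JPk

/-! The pentad through the `2^3` fixed by a fixed-point-free element of order three of `M24`. -/

set_option autoImplicit false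

namespace Cfsg.Lib.JF

open Subgroup Cfsg.Lib.Amalg Cfsg.Lib.Golay Spor
open scoped Pointwise symmDiff

variable {G : Type*} [Group G]

theorem PD.ri_cj {Z L : Subgroup G} {W : Fin 5 → Subgroup G} (P : PD Z L W) (n : G) :
    PD (cj n Z) (cj n L) (fun i => cj n (W i)) where
  sq i := sq_cj n (P.sq i)
  cW i := by rw [card_cj, P.cW]
  inf i j e := by rw [← cj_inf, P.inf i j e]
  cZ := by rw [card_cj, P.cZ]
  perm g hg i := by
    rw [← cj_normalizer] at hg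
    obtain ⟨m, hm, rfl⟩ := mem_cj'.1 hg
    obtain ⟨j, e⟩ := P.perm m hm i
    exact ⟨j, by rw [cj_mul, cj_inv_cj, cj_mul, e]⟩
  full σ := by
    obtain ⟨g, hg, e⟩ := P.full σ
    exact ⟨n * g * n⁻¹, cj_centralizer n Z ▸ conj_mem_cj n hg, fun i => by rw [cj_mul, cj_inv_cj, cj_mul, e]⟩
  aut α := by
    obtain ⟨g, hg, e⟩ := P.aut (((cjEquiv n Z).trans α).trans (cjEquiv n Z).symm)
    refine ⟨n * g * n⁻¹, cj_normalizer n Z ▸ conj_mem_cj n hg, fun x => ?_⟩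
    obtain ⟨y, rfl⟩ := (cjEquiv n Z).surjective x
    have e1 := e y
    have e2 : ∀ y : Z, ((cjEquiv n Z y : cj n Z) : G) = n * y * n⁻¹ := fun y => rfl
    have e3 := e2 ((cjEquiv n Z).symm (α (cjEquiv n Z y)))
    rw [MulEquiv.apply_symm_apply] at e3
    rw [e3, e2]
    change _ = n * ((((cjEquiv n Z).trans α).trans (cjEquiv n Z).symm y : Z) : G) * n⁻¹
    rw [← e1]; group
  memL g := by
    rw [mem_cj, P.memL, ← cj_centralizer, mem_cj]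
    simp only [← cj_normalizer, mem_cj]
  cL := by rw [card_cj, P.cL]
  cen x hx H := by
    obtain ⟨y, hy, rfl⟩ := mem_cj'.1 hx
    refine conj_mem_cj n (P.cen y hy fun w hw => ?_)
    have := H _ (conj_mem_cj n hw)
    rw [conj_mul, conj_mul] at this
    simpa using this

theorem TM.ri_fix [Finite G] {V : Subgroup G} {D : Set G} {ε : Finset GolayPt → G} {θ : 𝐍 V →* Equiv.Perm GolayPt}
    (T : TM V D ε θ) {Z : Subgroup G} (hZ : Z ≤ V) (cZ : Nat.card Z = 8) (u : 𝐍 V) (hu : θ u = gc.dec z3B)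
    (uc : ∀ x ∈ Z, u * x = x * u) : Z = V ⊓ centralizer {(u : G)} := by
  classical
  refine eq_of_le_of_card_ge (fun x hx => ⟨hZ hx, mem_centralizer_singleton_iff.2 (uc x hx).symm⟩) ?_
  have := Set.ncard_le_ncard (s := ((V ⊓ centralizer {(u : G)} : Subgroup G) : Set G))
    (t := (pkB.toFinset.image fun r => ε (om r) : Finset G)) fun x hx => by
      obtain ⟨r, hr, rfl⟩ := T.pkFix inH_z3B.1 pkFB u hu hx.1 (mem_centralizer_singleton_iff.1 hx.2).symm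
      exact Finset.mem_coe.2 (Finset.mem_image_of_mem _ (List.mem_toFinset.2 hr))
  rw [Set.ncard_coe_finset, ← Nat.card_coe_set_eq] at this
  exact cZ ▸ this.trans (Finset.card_image_le.trans (List.toFinset_card_le _))

theorem LK.ri_Z [Finite G] {V : Subgroup G} {D : Set G} {ε : Finset GolayPt → G} {θ : 𝐍 V →* Equiv.Perm GolayPt}
    {κ : M24 →* G} (h : LK D ε θ κ) {Z : Subgroup G} (hZ : Z ≤ V) (cZ : Nat.card Z = 8) (pure : ∀ x ∈ Z, x ∉ D)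
    {g : G} (hg : g ∈ 𝐍 V) (gc' : g ∈ 𝐂 Z) (h3 : 3 ∣ orderOf g) (ρ : M24)
    (hρ : ∃ m ∈ M24, ρ.1 = m * gc.dec z3B * m⁻¹) : ∃ n ∈ 𝐍 V, cj n Z = V ⊓ centralizer {κ ρ} := by
  have T := h.T
  have : Fact (Nat.Prime 3) := ⟨Nat.prime_three⟩
  have o3 := orderOf_pow_orderOf_div (orderOf_pos g).ne' h3
  have hs := pow_mem hg (orderOf g / 3)
  have sc := pow_mem gc' (orderOf g / 3)
  generalize g ^ (orderOf g / 3) = s at o3 hs sc
  have o : orderOf (θ ⟨s, hs⟩) = 3 := orderOf_eq_prime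
    (by rw [← map_pow, show (⟨s, hs⟩ : 𝐍 V) ^ 3 = 1 from Subtype.ext (o3 ▸ pow_orderOf_eq_one s), map_one]) fun e => by
      have := orderOf_dvd_of_pow_eq_one ((pow_two s).trans (T.sq ((T.ker _).1 e)))
      rw [o3] at this
      omega
  have key : ∀ (τ k : Equiv.Perm GolayPt), k ∈ M24 → θ ⟨s, hs⟩ = k * τ * k⁻¹ → ∃ (κ : 𝐍 V) (u : 𝐍 V), θ u = τ ∧
      cj (κ : G)⁻¹ Z ≤ V ∧ (∀ x ∈ cj (κ : G)⁻¹ Z, x ∉ D) ∧ ∀ x ∈ cj (κ : G)⁻¹ Z, u * x = x * u := fun τ k hk e => by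
    obtain ⟨κ, rfl⟩ := T.rng.ge hk
    refine ⟨κ, κ⁻¹ * ⟨s, hs⟩ * κ, by rw [map_mul, map_mul, map_inv, e]; group,
      cj_le_iff'.2 fun x hx => (mem_normalizer_iff.1 (inv_mem κ.2) x).1 (hZ hx), fun x hx d => ?_, fun x hx => ?_⟩
    · obtain ⟨S, hS, rfl⟩ := (T.duad _).1 d
      rw [mem_cj, inv_inv, T.act κ S (by rw [hS]; norm_num)] at hx
      exact pure _ hx ((T.duad _).2 ⟨_, by rwa [Finset.card_smul_finset], rfl⟩)
    · obtain ⟨y, hy, rfl⟩ := mem_cj'.1 hx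
      have := mem_centralizer_iff.1 sc y hy
      change (κ : G)⁻¹ * s * κ * _ = _ * ((κ : G)⁻¹ * s * κ)
      calc _ = (κ : G)⁻¹ * (s * y) * κ := by group
        _ = _ := by rw [← this]; group
  rcases M24_three (T.mM _) o with ⟨k, hk, e⟩ | ⟨k, hk, e⟩
  · obtain ⟨κ, u, h1, h2, h3, h4⟩ := key _ k hk e
    exact (T.pk3A h2 (by rw [card_cj, cZ]) h3 u h1 h4).elim
  obtain ⟨n, u, h1, h2, -, h4⟩ := key _ k hk e
  obtain ⟨m, hm, e⟩ := hρ
  let b : M24 := ⟨_, inH_z3B.2⟩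
  obtain ⟨σ, S, a, eu⟩ := h.dec u.2
  have hσ : σ = b := Subtype.ext (by
    rw [← h.thm (T.emem a) σ (eu ▸ u.2)]
    exact (congrArg θ (Subtype.ext eu.symm)).trans h1)
  have e1 := T.ri_fix h2 (by rw [card_cj, cZ]) ⟨κ b, h.mem b⟩ (h.th b) fun x hx => by
    have c1 := h4 x hx
    have c2 : ε S * x = x * ε S := comm_of_sq (fun _ => T.sq) (T.emem a) (h2 hx)
    rw [eu, hσ, mul_assoc, ← mul_assoc x, ← c2, mul_assoc] at c1
    exact mul_left_cancel c1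
  refine ⟨κ ⟨m, hm⟩ * (n : G)⁻¹, mul_mem (h.mem _) (inv_mem n.2), ?_⟩
  rw [cj_mul, e1, cj_inf, cj_of_mem_normalizer (h.mem _), cj_centralizer_singleton, ← map_inv, ← map_mul, ← map_mul,
    show ρ = ⟨m, hm⟩ * b * ⟨m, hm⟩⁻¹ from Subtype.ext e]

theorem AllD.ri_pd [Finite G] {E : Subgroup G} {z p : G} {φ : KK z p →* Equiv.Perm GolayPt} {q : Equiv.Perm GolayPt}
    (A : AllD E z p φ q) {ε : Finset GolayPt → G} {θ : 𝐍 (V0 E φ (gc.gen gA)) →* Equiv.Perm GolayPt} {κ : M24 →* G}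
    (h : LK (DD (V0 E φ (gc.gen gA)) z) ε θ κ) (ρ : M24) (hρ : ∃ m ∈ M24, ρ.1 = m * gc.dec z3B * m⁻¹) :
    ∃ (Z L : Subgroup G) (W : Fin 5 → Subgroup G), PD Z L W ∧ W 0 = V0 E φ (gc.gen gA) ∧
      Z = V0 E φ (gc.gen gA) ⊓ centralizer {κ ρ} := by
  have j := A.js
  obtain ⟨L, hL⟩ : ∃ L : Subgroup G, ∀ g, g ∈ L ↔ g ∈ 𝐂 (pZ E φ) ∧ ∀ i, g ∈ 𝐍 (V0 E φ (pB i)) :=
    ⟨𝐂 _ ⊓ ⨅ i, 𝐍 (V0 E φ (pB i)), fun g => by rw [Subgroup.mem_inf, Subgroup.mem_iInf]⟩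
  have dec := fun g => (hL g).trans ⟨fun k => j.memPL2 k.1 k.2, fun ⟨_, he, _, ha, e⟩ => e ▸ j.memPL1 he ha⟩
  have D : PD _ L _ := ⟨j.sqW, j.cardW, j.infW, j.cardZ, fun _ hg => j.permZ hg, j.fullZ, j.autZ A.cenD, hL,
    j.cPL dec, j.cenPL dec⟩
  obtain ⟨g, g1, g2, g3⟩ := j.g3Z
  obtain ⟨n, hn, e⟩ := h.ri_Z inf_le_left D.cZ (fun _ => j.pureZ A.cenD) g1 g2 g3 ρ hρ
  exact ⟨_, _, _, D.ri_cj n, by simp only [pB0]; exact cj_of_mem_normalizer hn, e⟩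

theorem ri_t [Finite G] [IsSimpleGroup G] (hG : ¬ IsMulCommutative G) {z : G} {P : Subgroup G}
    (hJ : IsOfJankoFourTypeWith z P) {r : G} (hr : orderOf r = 3) :
    ∃ t, IsConj z t ∧ t * t = 1 ∧ t ≠ 1 ∧ ∀ g ∈ 𝐍 (zpowers r), g * t = t * g := by
  have : Fact (Nat.Prime 3) := ⟨Nat.prime_three⟩
  have cP : Nat.card P = 3 := hJ.2.2.2.2.2.1
  obtain ⟨x, hx⟩ := exists_prime_orderOf_dvd_card' (G := P) 3 (by rw [cP])
  have ox : orderOf (x : G) = 3 := by rw [Subgroup.orderOf_coe, hx]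
  have eP : zpowers (x : G) = P := eq_of_le_of_card_ge (zpowers_le.2 x.2) (by rw [Nat.card_zpowers, ox, cP])
  obtain ⟨g, e⟩ := isConj_iff.1 (Cfsg.Agent.S5564.result hG ⟨z, P, hJ⟩ x r ox hr)
  have hN := (Cfsg.Agent.S5563.result hG z P hJ).2.2.2.2
  have z2 : z * z = 1 := by rw [← pow_two, ← hJ.1, pow_orderOf_eq_one]
  refine ⟨g * z * g⁻¹, isConj_iff.2 ⟨g, rfl⟩, by rw [conj_mul, z2]; group, fun f => ?_, fun k hk => ?_⟩
  · have : z = 1 := by simpa using f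
    have o := hJ.1
    rw [this, orderOf_one] at o
    omega
  · have e2 : zpowers r = cj g P := by
      rw [← eP, ← e]; exact (MonoidHom.map_zpowers (MulAut.conj g).toMonoidHom (x : G)).symm
    rw [e2, ← cj_normalizer] at hk
    obtain ⟨m, hm, rfl⟩ := mem_cj'.1 hk
    rw [conj_mul, conj_mul, mem_centralizer_singleton_iff.1 (hN hm)]

end Cfsg.Lib.JF
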