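import Cfsg.Agent.Lib.Block2.JUx
import Cfsg.Agent.Lib.Block2.JL2
import Cfsg.Agent.Lib.Block2.JPk
import Cfsg.Agent.Lib.Block2.JPs
import Cfsg.Agent.Lib.Block2.JRi

/-! The involution centralising the trio group of a suitable complement. -/

set_option autoImplicit false
set_option maxRecDepth 100000
set_option linter.unreachableTactic false
set_option linter.unusedTactic false
set_option linter.unusedSectionVars false

namespace Cfsg.Lib.JF

open Subgroup Cfsg.Lib.Amalg Cfsg.Lib.Golay Spor MulAction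
open scoped Pointwise symmDiff

def rbR : ℕ := 0x4140b000c0e150a17060905110201030812130f07100d16
def rbD : ℕ := 0x1715160b040911070c0e060f1408120a100d051303020100
def rbN1 : ℕ := 0xa1604000d050f07020c15011703110e0613091012080b14
def rbN2 : ℕ := 0x160c0b050f021508001009171103010e120a041406070d13
def rbS1 : ℕ := 0x17140b160c06110a040e091315100d070812050f03020100
def rbS2 : ℕ := 0x1071008060b0213091116120a0c140f04150e0d17050003
def rbA : ℕ := 0xc040d1706110910050b070e0102030016151213140a080f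
def rbB : ℕ := 0x150a12020f00060911160c170e0105030814040b070d1310
def rbM : ℕ := 0x10110b050a060902170c000d130e0104140812030f071516
def rbG1 : ℕ := 0xd0e0308021407110a040009120c0f0b0517100113151606
def rbG2 : ℕ := 0x3080a10140d000f16050915071306040c12020b0e011711
def rbZ : List ℕ := [0x0, 0x800007, 0x2b, 0x24003, 0x2000d, 0x4025, 0x804009, 0x820021]

theorem rb_in : ∀ g ∈ [rbR, rbD, rbN1, rbN2, rbS1, rbS2, rbA, rbB, rbM, rbG1, rbG2], gc.InH M24 g :=
  inH_of_allL (by decide +kernel)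

/-- the coded element of `M24`. -/
noncomputable def rbE (c : ℕ) (h : c ∈ [rbR, rbD, rbN1, rbN2, rbS1, rbS2, rbA, rbB, rbM, rbG1, rbG2] := by simp) : M24 :=
  ⟨gc.dec c, (rb_in c h).2⟩

variable {G : Type*} [Group G] {κ : M24 →* G}

theorem rb_base {c : ℕ} (h : c ∈ [rbR, rbD, rbN1, rbN2, rbS1, rbS2, rbA, rbB, rbM, rbG1, rbG2]) : UxR κ c (κ (rbE c h)) :=
  ⟨rb_in c h, rfl⟩

/-- conjugates of `rbD`. -/
noncomputable def rbK (i j : ℕ) : ℕ := mulN 24 (mulN 24 (mulN 24 (powN 24 rbB (3 * i)) (powN 24 rbR j)) rbD)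
  (invN 24 (mulN 24 (powN 24 rbB (3 * i)) (powN 24 rbR j)))

noncomputable def rbQ (i : ℕ) : ℕ := mulN 24 (mulN 24 (mulN 24 (mulN 24 (mulN 24 (powN 24 (rbK 0 0) (i % 2))
  (powN 24 (rbK 1 0) (i / 2 % 2))) (powN 24 (rbK 2 0) (i / 4 % 2))) (powN 24 (rbK 0 1) (i / 8 % 2)))
  (powN 24 (rbK 1 1) (i / 16 % 2))) (powN 24 (rbK 2 1) (i / 32 % 2))

theorem rbQ_inj : ∀ i < 64, ∀ j < 64, rbQ i = rbQ j → i = j := by decide +kernel

theorem rbQ_fix : ∀ i < 64, mulN 24 rbS1 (rbQ i) = mulN 24 (rbQ i) rbS1 → mulN 24 rbS2 (rbQ i) = mulN 24 (rbQ i) rbS2 →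
    rbQ i = idN 24 ∨ rbQ i = rbD := by decide +kernel

theorem rb_Q {L : Subgroup G} (hB : κ (rbE rbB) ∈ 𝐍 L) (hR : κ (rbE rbR) ∈ 𝐍 L) (hD : κ (rbE rbD) ∈ L) (i : ℕ) :
    ∃ g ∈ L, UxR κ (rbQ i) g := by
  have k : ∀ i j, ∃ g ∈ L, UxR κ (rbK i j) g := fun i j =>
    ⟨_, (mem_normalizer_iff.1 (mul_mem (pow_mem hB (3 * i)) (pow_mem hR j)) _).1 hD, by
      have u := ((rb_base (κ := κ) (c := rbB) (by simp)).pow (3 * i)).mul ((rb_base (κ := κ) (c := rbR) (by simp)).pow j)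
      unfold rbK; exact (u.mul (rb_base (c := rbD) (by simp))).mul u.inv⟩
  choose g a b using k
  exact ⟨_, mul_mem (mul_mem (mul_mem (mul_mem (mul_mem (pow_mem (a 0 0) _) (pow_mem (a 1 0) _)) (pow_mem (a 2 0) _))
    (pow_mem (a 0 1) _)) (pow_mem (a 1 1) _)) (pow_mem (a 2 1) _),
    ((((((b 0 0).pow _).mul ((b 1 0).pow _)).mul ((b 2 0).pow _)).mul ((b 0 1).pow _)).mul ((b 1 1).pow _)).mul
      ((b 2 1).pow _)⟩

theorem rb_triv {σ : Equiv.Perm GolayPt} (a : gc.dec rbA * σ = σ * gc.dec rbA) (b : gc.dec rbB * σ = σ * gc.dec rbB) :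
    σ = 1 := by
  have vA := (rb_in rbA (by simp)).1
  have vB := (rb_in rbB (by simp)).1
  have h0 : σ (gc.pt 16) = gc.pt 16 := by
    obtain ⟨i, hi, e⟩ := gc.exists_pt (σ (gc.pt 16))
    have := congrArg (fun f : Equiv.Perm GolayPt => f (gc.pt 16)) a
    simp only [Equiv.Perm.mul_apply] at this
    rw [← e, vA.dec_pt hi, vA.dec_pt (by decide), show app rbA 16 = 16 by decide +kernel, ← e,
      gc.pt_inj (vA.app_lt hi) hi] at this
    rw [← e, (by decide +kernel : ∀ i < 24, app rbA i = i → i = 16) i hi this]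
  have st : ∀ c, gc.Valid c → gc.dec c * σ = σ * gc.dec c → ∀ i < 24, σ (gc.pt i) = gc.pt i →
      σ (gc.pt (app c i)) = gc.pt (app c i) := fun c v e i hi k => by
    have := congrArg (fun f : Equiv.Perm GolayPt => f (gc.pt i)) e
    simp only [Equiv.Perm.mul_apply] at this
    rw [k, v.dec_pt hi] at this
    exact this.symm
  have it : ∀ c, gc.Valid c → gc.dec c * σ = σ * gc.dec c → ∀ n i, i < 24 ∧ σ (gc.pt i) = gc.pt i →
      (app c)^[n] i < 24 ∧ σ (gc.pt ((app c)^[n] i)) = gc.pt ((app c)^[n] i) := fun c v e n => by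
    induction n with
    | zero => exact fun i h => h
    | succ n ih => exact fun i h => ih _ ⟨v.app_lt h.1, st c v e i h.1 h.2⟩
  refine Equiv.ext fun x => ?_
  obtain ⟨y, hy, rfl⟩ := gc.exists_pt x
  obtain ⟨i, -, j, -, k, -, rfl⟩ := (by decide +kernel : ∀ y < 24, ∃ i < 21, ∃ j < 2, ∃ k < 3,
    (app rbB)^[i] ((app rbA)^[j] ((app rbB)^[k] 16)) = y) y hy
  exact (it _ vB b i _ (it _ vA a j _ (it _ vB b k _ ⟨by norm_num, h0⟩))).2

theorem rb_cT {t : G} (h1 : κ (rbE rbN1) * t = t * κ (rbE rbN1)) (h2 : κ (rbE rbN2) * t = t * κ (rbE rbN2))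
    (h3 : κ (rbE rbD) * t = t * κ (rbE rbD)) (k : M24) (hk : (k : Equiv.Perm GolayPt) ∈ HT3) : κ k * t = t * κ k := by
  have a := mem_centralizer_singleton_iff.2 h1
  have b := mem_centralizer_singleton_iff.2 h2
  have c := mem_centralizer_singleton_iff.2 h3
  have e1 : κ (rbE rbG1) = κ (rbE rbN1) * κ (rbE rbN2) * κ (rbE rbN2) * κ (rbE rbN1) * κ (rbE rbN2) * κ (rbE rbN2) * κ (rbE rbN1) * κ (rbE rbD) * κ (rbE rbN1) * κ (rbE rbN2) * κ (rbE rbN2) * κ (rbE rbN1) * κ (rbE rbN1) * κ (rbE rbN1) := UxR.eq (by repeat' first | exact rb_base _ | apply UxR.mul | apply UxR.pow | apply UxR.inv) (by repeat' first | exact rb_base _ | apply UxR.mul | apply UxR.pow | apply UxR.inv) (by decide +kernel)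
  have e2 : κ (rbE rbG2) = κ (rbE rbN2) * κ (rbE rbN1) * κ (rbE rbN2) * κ (rbE rbD) * κ (rbE rbN1) * κ (rbE rbD) * κ (rbE rbN2) * κ (rbE rbN2) * κ (rbE rbD) * κ (rbE rbN1) * κ (rbE rbN2) := UxR.eq (by repeat' first | exact rb_base _ | apply UxR.mul | apply UxR.pow | apply UxR.inv) (by repeat' first | exact rb_base _ | apply UxR.mul | apply UxR.pow | apply UxR.inv) (by decide +kernel)
  have : gc.gen gHT3 ≤ ((centralizer {t}).comap κ).map M24.subtype := Coding.gen_le fun g hg => by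
    simp only [gHT3, List.mem_cons, List.not_mem_nil, or_false] at hg
    rcases hg with rfl | rfl
    · refine ⟨(rb_in rbG1 (by simp)).1, rbE rbG1, mem_comap.2 ?_, rfl⟩
      rw [e1]; repeat' first | exact a | exact b | exact c | apply mul_mem
    · refine ⟨(rb_in rbG2 (by simp)).1, rbE rbG2, mem_comap.2 ?_, rfl⟩
      rw [e2]; repeat' first | exact a | exact b | exact c | apply mul_mem
  obtain ⟨l, hl, e⟩ := this (gen_gHT3.ge hk)
  rw [← show l = k from Subtype.ext e]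
  exact mem_centralizer_singleton_iff.1 hl

theorem rbFR : pkF rbR rbZ = true := by decide +kernel
theorem rbFB : pkF rbB [0] = true := by decide +kernel

variable {V : Subgroup G} {D : Set G} {ε : Finset GolayPt → G} {θ : 𝐍 V →* Equiv.Perm GolayPt}

namespace LK
variable (h : LK D ε θ κ)
include h

theorem rb_nt {t : G} (t1 : t ≠ 1)
    (hN : ∀ g, (g * κ (rbE rbR) * g⁻¹ = κ (rbE rbR) ∨ g * κ (rbE rbR) * g⁻¹ = (κ (rbE rbR))⁻¹) → g * t = t * g) :
    t ∉ 𝐍 V := fun n => by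
  obtain ⟨σ, S, a, rfl⟩ := h.dec n
  have c : ∀ k : M24, κ k * (ε S * κ σ) = ε S * κ σ * κ k → k * σ = σ * k := fun k e => by
    rw [← mul_assoc, h.act k a, mul_assoc, mul_assoc, ← map_mul, ← map_mul] at e
    exact (h.uq (h.T.emem (by rwa [Finset.card_smul_finset])) (h.T.emem a) e).1
  have cA := hN (κ (rbE rbA)) (Or.inr (UxR.eq (by repeat' first | exact rb_base _ | apply UxR.mul | apply UxR.pow | apply UxR.inv) (by repeat' first | exact rb_base _ | apply UxR.mul | apply UxR.pow | apply UxR.inv) (by decide +kernel)))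
  have cB := hN (κ (rbE rbB)) (Or.inl (UxR.eq (by repeat' first | exact rb_base _ | apply UxR.mul | apply UxR.pow | apply UxR.inv) (by repeat' first | exact rb_base _ | apply UxR.mul | apply UxR.pow | apply UxR.inv) (by decide +kernel)))
  have s : σ = 1 := Subtype.ext (rb_triv (congrArg Subtype.val (c _ cA)) (congrArg Subtype.val (c _ cB)))
  rw [s, map_one, mul_one] at cB t1
  obtain ⟨r, hr, e⟩ := h.T.pkFix (rb_in rbB (by simp)).1 rbFB ⟨_, h.mem _⟩ (h.th _) (h.T.emem a) cB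
  rw [List.mem_singleton.1 hr] at e
  exact t1 (e.trans ((h.T.one _ (by rw [card_om]; decide +kernel)).2 (om_mem_cw (by decide +kernel))))

theorem rb_core [Finite G] {Z L : Subgroup G} {W : Fin 5 → Subgroup G} (P : PD Z L W) (w0 : W 0 = V)
    (hZ : Z = V ⊓ centralizer {κ (rbE rbR)}) {t : G} (t2 : t * t = 1) (t1 : t ≠ 1)
    (hN : ∀ g, (g * κ (rbE rbR) * g⁻¹ = κ (rbE rbR) ∨ g * κ (rbE rbR) * g⁻¹ = (κ (rbE rbR))⁻¹) → g * t = t * g) :
    (t ∈ 𝐍 L ∧ ∀ v ∈ V, t * v * t ∈ V → v ∈ Z) ∧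
    ((∀ k : M24, (k : Equiv.Perm GolayPt) ∈ HT3 → κ k * t = t * κ k) ∨ t * κ (rbE rbD) * t ∈ V) := by
  have ti : t⁻¹ = t := inv_eq_of_mul_eq_one_right t2
  have zc : ∀ x ∈ Z, x * κ (rbE rbR) = κ (rbE rbR) * x := fun x hx => mem_centralizer_singleton_iff.1 (hZ.le hx).2
  have tZ : t ∈ 𝐍 Z := centralizer_le_normalizer _ (mem_centralizer_iff.2 fun x hx =>
    hN x (Or.inl (by rw [zc x hx, mul_inv_cancel_right])))
  have nt := h.rb_nt t1 hN
  have VZ : ∀ v ∈ V, t * v * t ∈ V → v ∈ Z := fun v hv k => by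
    obtain ⟨j, e⟩ := P.perm t tZ 0
    have : j ≠ 0 := by rintro rfl; exact nt (w0 ▸ cj_eq_self_iff.1 e)
    rw [← P.inf 0 j this.symm, ← e, w0]
    exact ⟨hv, mem_cj.2 (by rwa [ti])⟩
  have nZ : ∀ k : M24, κ k * κ (rbE rbR) = κ (rbE rbR) * κ k → κ k ∈ 𝐍 Z := fun k e => by
    refine mem_normalizer_of_cj_le (cj_le_iff'.2 fun x hx => hZ.ge ⟨(mem_normalizer_iff.1 (h.mem k) x).1 (hZ.le hx).1,
      mem_centralizer_singleton_iff.2 ?_⟩)
    calc _ = κ k * x * (κ k)⁻¹ * (κ (rbE rbR) * κ k) * (κ k)⁻¹ := by group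
      _ = κ k * (x * κ (rbE rbR)) * (κ k)⁻¹ := by rw [← e]; group
      _ = _ := by rw [zc x hx, ← mul_assoc, e]; group
  have nB := nZ (rbE rbB) (UxR.eq (by repeat' first | exact rb_base _ | apply UxR.mul | apply UxR.pow | apply UxR.inv) (by repeat' first | exact rb_base _ | apply UxR.mul | apply UxR.pow | apply UxR.inv) (by decide +kernel))
  have nR := nZ (rbE rbR) rfl
  have cD : κ (rbE rbD) ∈ 𝐂 Z := mem_centralizer_iff.2 fun x hx => by
    obtain ⟨r, hr, rfl⟩ := h.T.pkFix (rb_in rbR (by simp)).1 rbFR ⟨_, h.mem _⟩ (h.th _) (hZ.le hx).1 (zc x hx).symm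
    have ev : Even (om r).card := by rw [card_om]; exact (by decide +kernel : ∀ r ∈ rbZ, Even (pop24 r)) r hr
    rw [h.act _ ev, mul_left_inj]
    refine h.T.eq_of ev (by rwa [Finset.card_smul_finset]) ?_
    change om r ∆ (gc.dec rbD • om r) ∈ _
    rw [(rb_in rbD (by simp)).1.smul_om, ← gc.ofMask_xor]
    exact om_mem_cw ((by decide +kernel : ∀ r ∈ rbZ, isCw (r ^^^ imgT rbD r) = true) r hr)
  have nD := centralizer_le_normalizer _ cD
  obtain ⟨π, hπ⟩ := P.s_pi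
  have lD : κ (rbE rbD) ∈ L := by
    have p7 : π ⟨_, pow_mem nB 3⟩ = 1 := by
      have a : π ⟨_, pow_mem nB 3⟩ ^ 7 = 1 := by
        rw [← map_pow, ← map_one π]; exact congrArg π (Subtype.ext (UxR.one (by repeat' first | exact rb_base _ | apply UxR.mul | apply UxR.pow | apply UxR.inv) (by decide +kernel) : (κ (rbE rbB) ^ 3) ^ 7 = 1))
      have b := orderOf_dvd_natCard (π ⟨_, pow_mem nB 3⟩)
      rw [Nat.card_perm, Nat.card_fin] at b
      exact orderOf_eq_one_iff.1 (Nat.eq_one_of_dvd_coprimes (by norm_num [Nat.factorial]) (orderOf_dvd_of_pow_eq_one a) b)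
    have e1 : (⟨_, nD⟩ * ⟨_, nD⟩ : 𝐍 Z) = 1 := Subtype.ext (UxR.one (by repeat' first | exact rb_base _ | apply UxR.mul | apply UxR.pow | apply UxR.inv) (by decide +kernel) : κ (rbE rbD) * κ (rbE rbD) = 1)
    have e2 : (⟨_, nD⟩ * (⟨_, pow_mem nB 3⟩ * ⟨_, nD⟩ * ⟨_, pow_mem nB 3⟩⁻¹) *
        (⟨_, pow_mem nB 3⟩ ^ 3 * ⟨_, nD⟩ * (⟨_, pow_mem nB 3⟩ ^ 3)⁻¹) : 𝐍 Z) = 1 :=
      Subtype.ext (UxR.one (by repeat' first | exact rb_base _ | apply UxR.mul | apply UxR.pow | apply UxR.inv) (by decide +kernel) : κ (rbE rbD) * (κ (rbE rbB) ^ 3 * κ (rbE rbD) * (κ (rbE rbB) ^ 3)⁻¹) *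
        ((κ (rbE rbB) ^ 3) ^ 3 * κ (rbE rbD) * ((κ (rbE rbB) ^ 3) ^ 3)⁻¹) = 1)
    have f1 := congrArg π e1
    have f2 := congrArg π e2
    simp only [map_mul, map_inv, map_pow, p7, map_one, one_mul, mul_one, inv_one, one_pow] at f1 f2
    rw [f1, one_mul] at f2
    exact (P.memL _).2 ⟨cD, fun i => cj_eq_self_iff.1 ((hπ ⟨_, nD⟩ i).trans (by rw [f2]; rfl))⟩
  have tL : t ∈ 𝐍 L := P.s_N ▸ tZ
  refine ⟨⟨tL, VZ⟩, ?_⟩
  choose q qL qR using rb_Q (P.s_N ▸ nB) (P.s_N ▸ nR) lD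
  have f : Function.Bijective fun x : ↥(V ⊓ L) × Fin 64 => (⟨x.1 * q x.2, mul_mem x.1.2.2 (qL _)⟩ : L) :=
    (Nat.bijective_iff_injective_and_card _).2 ⟨fun x y e => by
      obtain ⟨a, ha⟩ := qR x.2
      obtain ⟨b, hb⟩ := qR y.2
      have e' : (x.1 : G) * q x.2 = y.1 * q y.2 := congrArg Subtype.val e
      rw [← ha, ← hb] at e'
      obtain ⟨c, d⟩ := h.uq x.1.2.1 y.1.2.1 e'
      exact Prod.ext (Subtype.ext d) (Fin.ext (rbQ_inj _ x.2.2 _ y.2.2 ((a.1.dec_inj b.1).1 (congrArg Subtype.val c)))), by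
      have a := P.s_nine 0
      rw [w0] at a
      refine le_antisymm (Nat.card_le_card_of_injective
        (fun x : ↥(V ⊓ L) × Fin 64 => (⟨x.1 * q x.2, mul_mem x.1.2.2 (qL _)⟩ : L)) fun x y e => ?_) (by
        rw [Nat.card_prod, P.cL, Nat.card_fin]; omega)
      obtain ⟨a, ha⟩ := qR x.2
      obtain ⟨b, hb⟩ := qR y.2
      have e' : (x.1 : G) * q x.2 = y.1 * q y.2 := congrArg Subtype.val e
      rw [← ha, ← hb] at e'
      obtain ⟨c, d⟩ := h.uq x.1.2.1 y.1.2.1 e'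
      exact Prod.ext (Subtype.ext d) (Fin.ext (rbQ_inj _ x.2.2 _ y.2.2 ((a.1.dec_inj b.1).1 (congrArg Subtype.val c))))⟩
  obtain ⟨⟨⟨w, hw, hw2⟩, i⟩, e⟩ := f.2 ⟨t * κ (rbE rbD) * t⁻¹, (mem_normalizer_iff.1 tL _).1 lD⟩
  have e' : w * q i = t * κ (rbE rbD) * t := by rw [← ti]; nth_rewrite 1 [ti]; exact congrArg Subtype.val e
  obtain ⟨a, ha⟩ := qR i
  have c : ∀ (s : ℕ) (hs : s ∈ _), κ (rbE s hs) * t = t * κ (rbE s hs) →
      κ (rbE s hs) * κ (rbE rbD) = κ (rbE rbD) * κ (rbE s hs) → mulN 24 s (rbQ i) = mulN 24 (rbQ i) s := fun s hs c1 c2 => by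
    have c3 : κ (rbE s hs) * (w * q i) = w * q i * κ (rbE s hs) := by
      rw [e', ← mul_assoc, ← mul_assoc, c1, mul_assoc t, c2, mul_assoc, mul_assoc, c1]; group
    obtain ⟨S, ev, rfl⟩ := (h.T.mem w).1 hw
    rw [← ha, ← mul_assoc, h.act _ ev, mul_assoc, mul_assoc, ← map_mul, ← map_mul] at c3
    have c4 := congrArg Subtype.val (h.uq (h.T.emem (by rwa [Finset.card_smul_finset])) (h.T.emem ev) c3).1
    have v := (rb_in s hs).1
    exact ((v.mul a.1).dec_inj (a.1.mul v)).1 (by rw [v.dec_mul a.1, a.1.dec_mul v]; exact c4)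
  have r1 := hN (κ (rbE rbS1)) (Or.inr (UxR.eq (by repeat' first | exact rb_base _ | apply UxR.mul | apply UxR.pow | apply UxR.inv) (by repeat' first | exact rb_base _ | apply UxR.mul | apply UxR.pow | apply UxR.inv) (by decide +kernel)))
  have r2 := hN (κ (rbE rbS2)) (Or.inl (UxR.eq (by repeat' first | exact rb_base _ | apply UxR.mul | apply UxR.pow | apply UxR.inv) (by repeat' first | exact rb_base _ | apply UxR.mul | apply UxR.pow | apply UxR.inv) (by decide +kernel)))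
  rcases rbQ_fix i i.2 (c _ _ r1 (UxR.eq (by repeat' first | exact rb_base _ | apply UxR.mul | apply UxR.pow | apply UxR.inv) (by repeat' first | exact rb_base _ | apply UxR.mul | apply UxR.pow | apply UxR.inv) (by decide +kernel))) (c _ _ r2 (UxR.eq (by repeat' first | exact rb_base _ | apply UxR.mul | apply UxR.pow | apply UxR.inv) (by repeat' first | exact rb_base _ | apply UxR.mul | apply UxR.pow | apply UxR.inv) (by decide +kernel))) with k | k
  · rw [(qR i).one (beq_iff.2 k), mul_one] at e'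
    exact Or.inr (e' ▸ hw)
  rw [(qR i).eq (rb_base (c := rbD) (by simp)) (beq_iff.2 k)] at e'
  refine Or.inl (rb_cT (hN _ (Or.inr (UxR.eq (by repeat' first | exact rb_base _ | apply UxR.mul | apply UxR.pow | apply UxR.inv) (by repeat' first | exact rb_base _ | apply UxR.mul | apply UxR.pow | apply UxR.inv) (by decide +kernel)))) (hN _ (Or.inl (UxR.eq (by repeat' first | exact rb_base _ | apply UxR.mul | apply UxR.pow | apply UxR.inv) (by repeat' first | exact rb_base _ | apply UxR.mul | apply UxR.pow | apply UxR.inv) (by decide +kernel)))) ?_)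
  have wz : w ∈ Z := VZ w hw (by
    have : t * w * t * w = 1 := by
      have k : t * w * t * (w * κ (rbE rbD)) = κ (rbE rbD) := by
        calc _ = t * w * t * (t * κ (rbE rbD) * t) := by rw [e']
          _ = t * (w * (t * t) * κ (rbE rbD)) * t := by group
          _ = t * (w * κ (rbE rbD)) * t := by rw [t2, mul_one]
          _ = t * t * κ (rbE rbD) * (t * t) := by rw [e']; group
          _ = _ := by rw [t2]; group
      rw [← mul_assoc] at k
      exact mul_eq_right.1 k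
    rw [eq_inv_of_mul_eq_one_left this]
    exact inv_mem hw)
  have rt := hN (κ (rbE rbR)) (Or.inl (by group))
  have wr := zc w wz
  have wd := mem_centralizer_iff.1 cD w wz
  have e3 : κ (rbE rbD) * (κ (rbE rbR) * κ (rbE rbD) * (κ (rbE rbR))⁻¹) *
      (κ (rbE rbR) * κ (rbE rbR) * κ (rbE rbD) * (κ (rbE rbR) * κ (rbE rbR))⁻¹) = 1 := UxR.one (by repeat' first | exact rb_base _ | apply UxR.mul | apply UxR.pow | apply UxR.inv) (by decide +kernel)
  have w2 := h.T.sq hw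
  generalize κ (rbE rbR) = r at *
  generalize κ (rbE rbD) = d at *
  have cw1 : Commute w r := wr
  have cw2 : Commute w d := wd
  have ct : Commute t r := rt.symm
  have g : ∀ x, Commute w x → Commute t x → t * (x * d * x⁻¹) * t = w * (x * d * x⁻¹) := fun x a b => by
    calc _ = x * (t * d * t) * x⁻¹ := by
          rw [← mul_assoc, ← mul_assoc, b.eq, mul_assoc _ x⁻¹, ← b.inv_right.eq]; group
      _ = _ := by rw [← e', ← mul_assoc, ← a.eq]; group
  have g1 := g r cw1 ct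
  have g2 := g (r * r) (cw1.mul_right cw1) (ct.mul_right ct)
  have c1 : Commute w (r * d * r⁻¹) := (cw1.mul_right cw2).mul_right cw1.inv_right
  have w1 : w = 1 := by
    have k : t * (d * (r * d * r⁻¹) * (r * r * d * (r * r)⁻¹)) * t =
        (t * d * t) * (t * (r * d * r⁻¹) * t) * (t * (r * r * d * (r * r)⁻¹) * t) := by
      calc _ = t * (d * (t * t) * (r * d * r⁻¹) * (t * t) * (r * r * d * (r * r)⁻¹)) * t := by rw [t2]; group
        _ = _ := by group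
    rw [e3, mul_one, t2, ← e', g1, g2] at k
    generalize r * d * r⁻¹ = d1 at *
    generalize r * r * d * (r * r)⁻¹ = d2 at *
    symm
    calc 1 = w * d * (w * d1) * (w * d2) := k
      _ = w * (d * w) * (d1 * w) * d2 := by group
      _ = w * (w * d) * (w * d1) * d2 := by rw [← cw2.eq, ← c1.eq]
      _ = w * w * (d * w) * d1 * d2 := by group
      _ = w * w * (w * d) * d1 * d2 := by rw [← cw2.eq]
      _ = w * w * w * (d * d1 * d2) := by group
      _ = w := by rw [w2, e3]; group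
  rw [w1, one_mul] at e'
  calc d * t = t * d * t * t := by rw [← e']
    _ = _ := by rw [mul_assoc, t2, mul_one]

theorem rb_ev (σ : M24) : Even (om 0x500001 ∆ (σ.1 • om 0x500001)).card := by
  have := card_symmDiff_add (om 0x500001) (σ.1 • om 0x500001)
  rw [Finset.card_smul_finset] at this
  rw [Nat.even_iff]; omega

/-- the twisted complement. -/
noncomputable def rbK' : M24 →* G := MonoidHom.mk' (fun σ => ε (om 0x500001 ∆ (σ.1 • om 0x500001)) * κ σ) fun σ τ => by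
  rw [mul_assoc, ← mul_assoc (κ σ), h.act σ (h.rb_ev _), smul_symmDiff, map_mul, ← mul_assoc, ← mul_assoc, ← mul_assoc,
    ← h.T.mul, symmDiff_assoc, symmDiff_symmDiff_cancel_left, ← mul_smul]
  rfl

theorem rbK'_LK : LK D ε θ h.rbK' :=
  ⟨h.T, fun σ => mul_mem (le_normalizer (h.T.emem (h.rb_ev σ))) (h.mem σ), fun σ => h.thm (h.T.emem (h.rb_ev σ)) σ _⟩

theorem rbK'_R : h.rbK' (rbE rbR) = κ (rbE rbR) := by
  change ε (om 0x500001 ∆ (gc.dec rbR • om 0x500001)) * _ = _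
  rw [(rb_in rbR (by simp)).1.smul_om, show imgT rbR 0x500001 = 0x500001 by decide +kernel, symmDiff_self,
    show ε ⊥ = 1 from (h.T.one ∅ (by simp)).2 empty_mem_cw, one_mul]

theorem rb_R0 [Finite G] {Z L : Subgroup G} {W : Fin 5 → Subgroup G} (P : PD Z L W) (w0 : W 0 = V)
    (hZ : Z = V ⊓ centralizer {κ (rbE rbR)}) {t : G} (t2 : t * t = 1) (t1 : t ≠ 1)
    (hN : ∀ g, (g * κ (rbE rbR) * g⁻¹ = κ (rbE rbR) ∨ g * κ (rbE rbR) * g⁻¹ = (κ (rbE rbR))⁻¹) → g * t = t * g) :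
    ∃ κ' : M24 →* G, LK D ε θ κ' ∧ κ' (rbE rbR) = κ (rbE rbR) ∧
      (∀ k : M24, (k : Equiv.Perm GolayPt) ∈ HT3 → κ' k * t = t * κ' k) ∧ t ∉ 𝐍 V ∧
      (∀ v ∈ V, t * v * t ∈ V → v ∈ Z) ∧ L ≤ 𝐍 V ∧ t ∈ 𝐍 L ∧ 2 ^ 9 ≤ Nat.card ↥(V ⊓ L) := by
  obtain ⟨⟨a, b⟩, c⟩ := h.rb_core P w0 hZ t2 t1 hN
  have r : t ∉ 𝐍 V ∧ (∀ v ∈ V, t * v * t ∈ V → v ∈ Z) ∧ L ≤ 𝐍 V ∧ t ∈ 𝐍 L ∧ 2 ^ 9 ≤ Nat.card ↥(V ⊓ L) :=
    ⟨h.rb_nt t1 hN, b, fun g hg => w0 ▸ ((P.memL g).1 hg).2 0, a, w0 ▸ P.s_nine 0⟩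
  rcases c with c | c
  · exact ⟨κ, h, rfl, c, r⟩
  rcases (h.rbK'_LK.rb_core P w0 (h.rbK'_R.symm ▸ hZ) t2 t1 (h.rbK'_R.symm ▸ hN)).2 with d | d
  · exact ⟨_, h.rbK'_LK, h.rbK'_R, d, r⟩
  exfalso
  have ev := h.rb_ev (rbE rbD)
  have z := b _ (h.T.emem ev) (by
    have := mul_mem d (inv_mem c)
    change t * (ε _ * κ _) * t * _ ∈ V at this
    rw [mul_inv_rev, mul_inv_rev, inv_eq_of_mul_eq_one_right t2] at this
    generalize ε _ = x at this ⊢
    convert this using 1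
    calc _ = t * x * (κ (rbE rbD) * (t * t) * (κ (rbE rbD))⁻¹) * t := by rw [t2]; group
      _ = _ := by group)
  have e := mem_centralizer_singleton_iff.1 (hZ.le z).2
  rw [h.act _ ev, mul_left_inj] at e
  have k := h.T.cw_of ev (by rwa [Finset.card_smul_finset]) e
  change (om 0x500001 ∆ (gc.dec rbD • om 0x500001)) ∆ (gc.dec rbR • (om 0x500001 ∆ (gc.dec rbD • om 0x500001))) ∈ _ at k
  rw [(rb_in rbD (by simp)).1.smul_om, ← gc.ofMask_xor] at k
  change om _ ∆ (gc.dec rbR • om _) ∈ _ at k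
  rw [(rb_in rbR (by simp)).1.smul_om, ← gc.ofMask_xor] at k
  exact absurd ((om_mem_cw_iff (by decide +kernel)).1 k) (by decide +kernel)

end LK

theorem rb_conj : ∃ m ∈ M24, (rbE rbR).1 = m * gc.dec z3B * m⁻¹ := by
  have a := rb_in rbM (by simp)
  refine ⟨_, a.2, eq_mul_inv_of_mul_eq ?_⟩
  change gc.dec rbR * _ = _
  rw [← (rb_in rbR (by simp)).1.dec_mul a.1, ← a.1.dec_mul inH_z3B.1]
  exact congrArg _ (by decide +kernel)

theorem rb_T : (rbE rbR).1 ∈ HT3 :=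
  (inH_inf_fam (gs := [rbR]) (fun g hg => by rw [List.mem_singleton.1 hg]; exact rb_in _ (by simp)) 3 _ T0_spec.1
    (by decide +kernel) rbR (List.mem_singleton.2 rfl)).2

theorem rb_ord (hi : Function.Injective κ) : orderOf (κ (rbE rbR)) = 3 :=
  haveI : Fact (Nat.Prime 3) := ⟨Nat.prime_three⟩
  orderOf_eq_prime (UxR.one (by repeat' first | exact rb_base _ | apply UxR.mul | apply UxR.pow | apply UxR.inv) (by decide +kernel)) fun e => by
    have := congrArg Subtype.val (hi (e.trans (map_one κ).symm))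
    exact absurd (((rb_in rbR (by simp)).1.dec_inj Coding.valid_one).1 (this.trans Coding.dec_one.symm)) (by decide +kernel)

theorem LK.rb_inj (h : LK D ε θ κ) : Function.Injective κ := fun a b e =>
  (h.uq (one_mem V) (one_mem V) (by rw [e])).1

theorem AllD.rb_all [Finite G] {E : Subgroup G} {z p : G} {φ : KK z p →* Equiv.Perm GolayPt} {q : Equiv.Perm GolayPt}
    (A : AllD E z p φ q) (hi : IsConj p p⁻¹) :
    ∃ (ε : Finset GolayPt → G) (θ : 𝐍 (V0 E φ (gc.gen gA)) →* Equiv.Perm GolayPt) (κ : M24 →* G) (g t : G)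
      (Z L : Subgroup G), LK (DD (V0 E φ (gc.gen gA)) z) ε θ κ ∧ t = g * z * g⁻¹ ∧ κ (rbE rbR) = g * p * g⁻¹ ∧
      t * t = 1 ∧ t ≠ 1 ∧ (∀ k : M24, (k : Equiv.Perm GolayPt) ∈ HT3 → κ k * t = t * κ k) ∧ t ∉ 𝐍 (V0 E φ (gc.gen gA)) ∧
      Z = V0 E φ (gc.gen gA) ⊓ centralizer {κ (rbE rbR)} ∧
      (∀ v ∈ V0 E φ (gc.gen gA), t * v * t ∈ V0 E φ (gc.gen gA) → v ∈ Z) ∧ L ≤ 𝐍 (V0 E φ (gc.gen gA)) ∧ t ∈ 𝐍 L ∧
      2 ^ 9 ≤ Nat.card ↥(V0 E φ (gc.gen gA) ⊓ L) := by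
  have : Fact (Nat.Prime 3) := ⟨Nat.prime_three⟩
  obtain ⟨ε, θ, T⟩ := A.gd.exists_TM
  obtain ⟨K, k1, k2, k3, -⟩ := A.split
  obtain ⟨κ, h⟩ := T.exists_LK k1 k2 k3
  obtain ⟨Z, L, W, P, w0, hZ⟩ := A.ri_pd h (rbE rbR) rb_conj
  have hN := A.s5563.2.2.2.2
  obtain ⟨g, hg⟩ := isConj_iff.1 (A.s5564 hN hi p _ (orderOf_eq_prime A.js.p3 A.js.p1) (rb_ord h.rb_inj))
  have t2 : g * z * g⁻¹ * (g * z * g⁻¹) = 1 := by
    rw [conj_mul, A.js.ls.sq]; group
  have t1 : g * z * g⁻¹ ≠ 1 := fun e => A.js.ls.ne (by simpa using e)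
  obtain ⟨κ', a, b, c, d, e, f⟩ := h.rb_R0 P w0 hZ t2 t1 fun n hn => by
    have m : g⁻¹ * n * g ∈ 𝐍 (zpowers p) := mem_normalizer_of_cj_le (cj_le_iff'.2 fun x hx => by
      obtain ⟨k, rfl⟩ := mem_zpowers_iff.1 hx
      rw [← conj_zpow, show g⁻¹ * n * g * p * (g⁻¹ * n * g)⁻¹ = g⁻¹ * (n * (g * p * g⁻¹) * n⁻¹) * g by group, hg]
      rcases hn with hn | hn <;> rw [hn, ← hg]
      · exact zpow_mem (by simp [mul_assoc]) k
      · exact zpow_mem (by simp [mul_assoc]) k)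
    have := mem_centralizer_singleton_iff.1 (hN m)
    calc _ = g * (g⁻¹ * n * g * z) * g⁻¹ := by group
      _ = _ := by rw [this]; group
  exact ⟨ε, θ, κ', g, _, Z, L, a, rfl, b.trans hg.symm, t2, t1, c, d, b.symm ▸ hZ, e, f⟩

end Cfsg.Lib.JF
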