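import Cfsg.Agent.Lib.Block2.JRb
import Cfsg.Agent.Lib.Block2.JR4

/-! The action of the trio involution on a duad, and the first long relation. -/

set_option autoImplicit false
set_option maxRecDepth 100000
set_option linter.unreachableTactic false
set_option linter.unusedTactic false
set_option linter.unusedSectionVars false

namespace Cfsg.Lib.JF

open Subgroup Cfsg.Lib.Amalg Cfsg.Lib.Golay Spor MulAction
open scoped Pointwise symmDiff

def rcS1 : ℕ := 0x5080b0d0a10170913020c06040716150f120e1411030001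
def rcS2 : ℕ := 0x111610120708020609170d0f0c140b0a13040315050e0100
def rcE : ℕ := 0x170d0609070b11040a0e1608120f140c1315051003020100

theorem rc_in : ∀ g ∈ [rcS1, rcS2, rcE], gc.InH HT3 g :=
  inH_inf_fam (inH_of_allL (by decide +kernel)) 3 _ T0_spec.1 (by decide +kernel)

theorem rc_fix : ∀ i < 64, mulN 24 rcS1 (rbQ i) = mulN 24 (rbQ i) rcS1 → mulN 24 rcS2 (rbQ i) = mulN 24 (rbQ i) rcS2 →
    rbQ i = idN 24 ∨ rbQ i = rcE := by decide +kernel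

theorem rcF : pkF rcS1 [0, 3, 0x20025, 0x804009] = true := by decide +kernel

variable {G : Type*} [Group G] {κ : M24 →* G}
variable {V : Subgroup G} {D : Set G} {ε : Finset GolayPt → G} {θ : 𝐍 V →* Equiv.Perm GolayPt}

namespace LK
variable (h : LK D ε θ κ)
include h

theorem rc_dec [Finite G] {Z L : Subgroup G} {W : Fin 5 → Subgroup G} (P : PD Z L W) (w0 : W 0 = V)
    (hZ : Z = V ⊓ centralizer {κ (rbE rbR)}) :
    ∃ q : ℕ → G, (∀ i, q i ∈ L) ∧ (∀ i, UxR κ (rbQ i) (q i)) ∧ ∀ x ∈ L, ∃ w ∈ V, ∃ i < 64, w * q i = x := by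
  have zc : ∀ x ∈ Z, x * κ (rbE rbR) = κ (rbE rbR) * x := fun x hx => mem_centralizer_singleton_iff.1 (hZ.le hx).2
  have nZ : ∀ k : M24, κ k * κ (rbE rbR) = κ (rbE rbR) * κ k → κ k ∈ 𝐍 Z := fun k e => by
    refine mem_normalizer_of_cj_le (cj_le_iff'.2 fun x hx => hZ.ge ⟨(mem_normalizer_iff.1 (h.mem k) x).1 (hZ.le hx).1,
      mem_centralizer_singleton_iff.2 ?_⟩)
    calc _ = κ k * x * (κ k)⁻¹ * (κ (rbE rbR) * κ k) * (κ k)⁻¹ := by group
      _ = κ k * (x * κ (rbE rbR)) * (κ k)⁻¹ := by rw [← e]; group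
      _ = _ := by rw [zc x hx, ← mul_assoc, e]; group
  have nB := nZ (rbE rbB) (UxR.eq (by repeat' first | exact rb_base _ | apply UxR.mul | apply UxR.pow | apply UxR.inv) (by repeat' first | exact rb_base _ | apply UxR.mul | apply UxR.pow | apply UxR.inv) (by decide +kernel))
  have nR := nZ (rbE rbR) rfl
  have cD : κ (rbE rbD) ∈ 𝐂 Z := mem_centralizer_iff.2 fun x hx => by
    obtain ⟨r, hr, rfl⟩ := h.T.pkFix (rb_in rbR (by simp)).1 rbFR ⟨_, h.mem _⟩ (h.th _) (hZ.le hx).1 (zc x hx).symm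
    have ev : Even (om r).card := by rw [card_om]; exact (by decide +kernel : ∀ r ∈ rbZ, Even (pop24 r)) r hr
    rw [h.act _ ev, mul_left_inj]
    refine h.T.eq_of ev (by rwa [Finset.card_smul_finset]) ?_
    change om r ∆ (gc.dec rbD • om r) ∈ _
    rw [(rb_in rbD (by simp)).1.smul_om, ← gc.ofMask_xor]
    exact om_mem_cw ((by decide +kernel : ∀ r ∈ rbZ, isCw (r ^^^ imgT rbD r) = true) r hr)
  have nD := centralizer_le_normalizer _ cD
  obtain ⟨π, hπ⟩ := P.s_pi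
  have lD : κ (rbE rbD) ∈ L := by
    have p7 : π ⟨_, pow_mem nB 3⟩ = 1 := by
      have a : π ⟨_, pow_mem nB 3⟩ ^ 7 = 1 := by
        rw [← map_pow, ← map_one π]; exact congrArg π (Subtype.ext (UxR.one (by repeat' first | exact rb_base _ | apply UxR.mul | apply UxR.pow | apply UxR.inv) (by decide +kernel) : (κ (rbE rbB) ^ 3) ^ 7 = 1))
      have b := orderOf_dvd_natCard (π ⟨_, pow_mem nB 3⟩)
      rw [Nat.card_perm, Nat.card_fin] at b
      exact orderOf_eq_one_iff.1 (Nat.eq_one_of_dvd_coprimes (by norm_num [Nat.factorial]) (orderOf_dvd_of_pow_eq_one a) b)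
    have e1 : (⟨_, nD⟩ * ⟨_, nD⟩ : 𝐍 Z) = 1 := Subtype.ext (UxR.one (by repeat' first | exact rb_base _ | apply UxR.mul | apply UxR.pow | apply UxR.inv) (by decide +kernel) : κ (rbE rbD) * κ (rbE rbD) = 1)
    have e2 : (⟨_, nD⟩ * (⟨_, pow_mem nB 3⟩ * ⟨_, nD⟩ * ⟨_, pow_mem nB 3⟩⁻¹) *
        (⟨_, pow_mem nB 3⟩ ^ 3 * ⟨_, nD⟩ * (⟨_, pow_mem nB 3⟩ ^ 3)⁻¹) : 𝐍 Z) = 1 :=
      Subtype.ext (UxR.one (by repeat' first | exact rb_base _ | apply UxR.mul | apply UxR.pow | apply UxR.inv) (by decide +kernel) : κ (rbE rbD) * (κ (rbE rbB) ^ 3 * κ (rbE rbD) * (κ (rbE rbB) ^ 3)⁻¹) *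
        ((κ (rbE rbB) ^ 3) ^ 3 * κ (rbE rbD) * ((κ (rbE rbB) ^ 3) ^ 3)⁻¹) = 1)
    have f1 := congrArg π e1
    have f2 := congrArg π e2
    simp only [map_mul, map_inv, map_pow, p7, map_one, one_mul, mul_one, inv_one, one_pow] at f1 f2
    rw [f1, one_mul] at f2
    exact (P.memL _).2 ⟨cD, fun i => cj_eq_self_iff.1 ((hπ ⟨_, nD⟩ i).trans (by rw [f2]; rfl))⟩
  choose q qL qR using rb_Q (P.s_N ▸ nB) (P.s_N ▸ nR) lD
  have f : Function.Bijective fun x : ↥(V ⊓ L) × Fin 64 => (⟨x.1 * q x.2, mul_mem x.1.2.2 (qL _)⟩ : L) :=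
    (Nat.bijective_iff_injective_and_card _).2 ⟨fun x y e => by
      obtain ⟨a, ha⟩ := qR x.2
      obtain ⟨b, hb⟩ := qR y.2
      have e' : (x.1 : G) * q x.2 = y.1 * q y.2 := congrArg Subtype.val e
      rw [← ha, ← hb] at e'
      obtain ⟨c, d⟩ := h.uq x.1.2.1 y.1.2.1 e'
      exact Prod.ext (Subtype.ext d) (Fin.ext (rbQ_inj _ x.2.2 _ y.2.2 ((a.1.dec_inj b.1).1 (congrArg Subtype.val c)))), by
      have a := P.s_nine 0
      rw [w0] at a
      refine le_antisymm (Nat.card_le_card_of_injective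
        (fun x : ↥(V ⊓ L) × Fin 64 => (⟨x.1 * q x.2, mul_mem x.1.2.2 (qL _)⟩ : L)) fun x y e => ?_) (by
        rw [Nat.card_prod, P.cL, Nat.card_fin]; omega)
      obtain ⟨a, ha⟩ := qR x.2
      obtain ⟨b, hb⟩ := qR y.2
      have e' : (x.1 : G) * q x.2 = y.1 * q y.2 := congrArg Subtype.val e
      rw [← ha, ← hb] at e'
      obtain ⟨c, d⟩ := h.uq x.1.2.1 y.1.2.1 e'
      exact Prod.ext (Subtype.ext d) (Fin.ext (rbQ_inj _ x.2.2 _ y.2.2 ((a.1.dec_inj b.1).1 (congrArg Subtype.val c))))⟩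
  refine ⟨q, qL, qR, fun x hx => ?_⟩
  obtain ⟨⟨⟨w, hw, hw2⟩, i⟩, e⟩ := f.2 ⟨x, hx⟩
  exact ⟨w, hw, i, i.2, congrArg Subtype.val e⟩

theorem rc_F [Finite G] {Z L : Subgroup G} {W : Fin 5 → Subgroup G} (P : PD Z L W) (w0 : W 0 = V)
    (hZ : Z = V ⊓ centralizer {κ (rbE rbR)}) {t : G} (t2 : t * t = 1)
    (cT : ∀ k : M24, (k : Equiv.Perm GolayPt) ∈ HT3 → κ k * t = t * κ k) (tL : t ∈ 𝐍 L)
    (VZ : ∀ v ∈ V, t * v * t ∈ V → v ∈ Z) :
    t * ε (om 3) * t = ε (om 3) * κ ⟨gc.dec rcE, (rc_in _ (by simp)).2.1⟩ := by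
  have ti : t⁻¹ = t := inv_eq_of_mul_eq_one_right t2
  obtain ⟨q, qL, qR, dec⟩ := h.rc_dec P w0 hZ
  have ev : ∀ r ∈ [0, 3, 0x20025, 0x804009, 0x11], Even (om r).card := fun r hr => by
    rw [card_om]; exact (by decide +kernel : ∀ r ∈ [0, 3, 0x20025, 0x804009, 0x11], Even (pop24 r)) r hr
  have nc : ∀ {c r : ℕ} (a : gc.InH M24 c), Even (om r).card → κ ⟨_, a.2⟩ * ε (om r) = ε (om r) * κ ⟨_, a.2⟩ →
      r < 2 ^ 24 → isCw (imgT c r ^^^ r) = true := fun {c r} a e k l => by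
    rw [h.act _ e, mul_left_inj] at k
    have k := h.T.cw_of (by rwa [Finset.card_smul_finset]) e k
    change (gc.dec c • om r) ∆ om r ∈ _ at k
    rw [a.1.smul_om, ← gc.ofMask_xor] at k
    exact (om_mem_cw_iff (Nat.xor_lt_two_pow (a.1.imgT_lt _) l)).1 k
  have cm : ∀ {c r : ℕ} (a : gc.InH M24 c), Even (om r).card → imgT c r = r →
      κ ⟨_, a.2⟩ * ε (om r) = ε (om r) * κ ⟨_, a.2⟩ := fun {c r} a e k => by
    rw [h.act _ e]
    change ε (gc.dec c • om r) * _ = _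
    rw [a.1.smul_om, k]
  have wL : ε (om 3) ∈ L := by
    obtain ⟨a, ha⟩ := qR 24
    have vN : ε (om 0x11) ∈ 𝐍 L := P.s_N ▸ centralizer_le_normalizer _ (P.s_WC 0 (w0 ▸ h.T.emem (ev _ (by simp))))
    have := mul_mem ((mem_normalizer_iff.1 vN _).1 (qL 24)) (inv_mem (qL 24))
    rw [inv_eq_of_mul_eq_one_right (h.T.esq _), ← ha, mul_assoc (ε _), h.act _ (ev _ (by simp)), ← mul_assoc,
      mul_inv_cancel_right, ← h.T.mul] at this
    change ε (om 0x11 ∆ (gc.dec (rbQ 24) • om 0x11)) ∈ L at this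
    rwa [a.1.smul_om, ← gc.ofMask_xor, show 0x11 ^^^ imgT (rbQ 24) 0x11 = 3 by decide +kernel] at this
  obtain ⟨w, hw, i, hi, e⟩ := dec _ ((mem_normalizer_iff.1 tL _).1 wL)
  rw [ti] at e
  obtain ⟨a, ha⟩ := qR i
  have c : ∀ (s : ℕ) (hs : gc.InH HT3 s), imgT s 3 = 3 → mulN 24 s (rbQ i) = mulN 24 (rbQ i) s ∧
      κ ⟨_, hs.2.1⟩ * w = w * κ ⟨_, hs.2.1⟩ := fun s hs k => by
    have c1 := cT ⟨_, hs.2.1⟩ hs.2
    have c2 := cm (c := s) ⟨hs.1, hs.2.1⟩ (ev 3 (by simp)) k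
    have c3 : κ ⟨_, hs.2.1⟩ * (w * q i) = w * q i * κ ⟨_, hs.2.1⟩ := by
      rw [e, ← mul_assoc, ← mul_assoc, c1, mul_assoc t, c2, mul_assoc, mul_assoc, c1]; group
    obtain ⟨S, ev, rfl⟩ := (h.T.mem w).1 hw
    rw [← ha, ← mul_assoc, h.act _ ev, mul_assoc, mul_assoc, ← map_mul, ← map_mul] at c3
    obtain ⟨c4, c5⟩ := h.uq (h.T.emem (by rwa [Finset.card_smul_finset])) (h.T.emem ev) c3
    have v := hs.1
    exact ⟨((v.mul a.1).dec_inj (a.1.mul v)).1 (by rw [v.dec_mul a.1, a.1.dec_mul v]; exact congrArg Subtype.val c4),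
      by rw [h.act _ ev, c5]⟩
  obtain ⟨c1, c2⟩ := c rcS1 (rc_in _ (by simp)) (by decide +kernel)
  obtain ⟨c3, c4⟩ := c rcS2 (rc_in _ (by simp)) (by decide +kernel)
  rcases rc_fix i hi c1 c3 with k | k
  · rw [(qR i).one (beq_iff.2 k), mul_one] at e
    have z := mem_centralizer_singleton_iff.1 (hZ.le (VZ _ (h.T.emem (ev 3 (by simp))) (e ▸ hw))).2
    exact absurd (nc (rb_in rbR (by simp)) (ev 3 (by simp)) z.symm (by norm_num)) (by decide +kernel)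
  have iE := rc_in rcE (by simp)
  rw [(qR i).eq (⟨⟨iE.1, iE.2.1⟩, rfl⟩ : UxR κ rcE _) (beq_iff.2 k)] at e
  obtain ⟨r, hr, rfl⟩ := h.T.pkFix (rc_in rcS1 (by simp)).1 rcF ⟨_, h.mem _⟩ (h.th _) hw c2
  have i2 := rc_in rcS2 (by simp)
  simp only [List.mem_cons, List.not_mem_nil, or_false] at hr
  rcases hr with rfl | rfl | rfl | rfl
  · rw [(h.T.one _ (ev 0 (by simp))).2 (om_mem_cw (by decide +kernel)), one_mul] at e
    have e2 : ε (om 3) * κ 1 = 1 * κ ⟨_, iE.2.1⟩ := by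
      calc _ = t * (t * ε (om 3) * t) * t := by
            rw [map_one, mul_one, ← mul_assoc, ← mul_assoc, t2, one_mul, mul_assoc, t2, mul_one]
        _ = _ := by rw [← e, ← cT _ iE.2, mul_assoc, t2, one_mul, mul_one]
    have e3 := congrArg Subtype.val (h.uq (h.T.emem (ev 3 (by simp))) (one_mem V) e2).1
    exact absurd ((iE.1.dec_inj Coding.valid_one).1 (e3.symm.trans Coding.dec_one.symm)) (by decide +kernel)
  · exact e.symm
  · exact absurd (nc ⟨i2.1, i2.2.1⟩ (ev _ (by simp)) c4 (by norm_num)) (by decide +kernel)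
  · exact absurd (nc ⟨i2.1, i2.2.1⟩ (ev _ (by simp)) c4 (by norm_num)) (by decide +kernel)

end LK

theorem rc_form {t : G} (F : t * ε (om 3) * t = ε (om 3) * κ ⟨gc.dec rcE, (rc_in _ (by simp)).2.1⟩) :
    ∃ a ∈ om 0x82402f, ∃ b ∈ om 0x82402f, a ≠ b ∧ ∃ e : M24, e ≠ 1 ∧ (∀ x ∈ om 0x82402f, e.1 x = x) ∧
      t * ε {a, b} * t = ε {a, b} * κ e := by
  have iE := rc_in rcE (by simp)
  have e : om 3 = {gc.pt 0, gc.pt 1} := by decide +kernel
  refine ⟨gc.pt 0, by decide +kernel, gc.pt 1, by decide +kernel, by decide +kernel, ⟨_, iE.2.1⟩, fun k => ?_, fun x hx => ?_,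
    e ▸ F⟩
  · exact absurd ((iE.1.dec_inj Coding.valid_one).1 ((congrArg Subtype.val k).trans Coding.dec_one.symm)) (by decide +kernel)
  · obtain ⟨i, hi, rfl⟩ := gc.exists_pt x
    change gc.dec rcE _ = _
    rw [iE.1.dec_pt hi, (by decide +kernel : ∀ i < 24, gc.pt i ∈ om 0x82402f → app rcE i = i) i hi hx]

theorem AllD.rc_all [Finite G] {E : Subgroup G} {z p : G} {φ : KK z p →* Equiv.Perm GolayPt} {q : Equiv.Perm GolayPt}
    (A : AllD E z p φ q) (hi : IsConj p p⁻¹) :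
    ∃ (ε : Finset GolayPt → G) (θ : 𝐍 (V0 E φ (gc.gen gA)) →* Equiv.Perm GolayPt) (κ : M24 →* G) (g t : G),
      LK (DD (V0 E φ (gc.gen gA)) z) ε θ κ ∧ t = g * z * g⁻¹ ∧ κ (rbE rbR) = g * p * g⁻¹ ∧
      t * t = 1 ∧ t ≠ 1 ∧ (∀ k : M24, (k : Equiv.Perm GolayPt) ∈ HT3 → κ k * t = t * κ k) ∧ t ∉ 𝐍 (V0 E φ (gc.gen gA)) ∧
      t * ε (om 3) * t = ε (om 3) * κ ⟨gc.dec rcE, (rc_in _ (by simp)).2.1⟩ ∧ (κ (uxE uxu) * t) ^ 3 = 1 := by
  obtain ⟨ε, θ, κ, g, t, Z, L, h, a, b, t2, t1, cT, nt, hZ, VZ, -⟩ := A.rb_all hi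
  obtain ⟨Z', L', W, P, w0, hZ'⟩ := A.ri_pd h (rbE rbR) rb_conj
  obtain rfl : Z = Z' := hZ.trans hZ'.symm
  have tZ : t ∈ 𝐍 Z := centralizer_le_normalizer _ (mem_centralizer_iff.2 fun x hx => by
    have m : g⁻¹ * x * g ∈ 𝐍 (zpowers p) := centralizer_le_normalizer _ (mem_centralizer_iff.2 (by
      rintro _ ⟨k, rfl⟩
      have c := mem_centralizer_singleton_iff.1 (hZ.le hx).2
      rw [b] at c
      have : Commute p (g⁻¹ * x * g) := by
        calc p * (g⁻¹ * x * g) = g⁻¹ * (g * p * g⁻¹ * x) * g := by group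
          _ = _ := by rw [← c]; group
      exact (this.zpow_left k).eq))
    have := mem_centralizer_singleton_iff.1 (A.s5563.2.2.2.2 m)
    rw [a]
    calc _ = g * (g⁻¹ * x * g * z) * g⁻¹ := by group
      _ = _ := by rw [this]; group)
  have F := h.rc_F P w0 hZ t2 cT (P.s_N ▸ tZ) VZ
  exact ⟨ε, θ, κ, g, t, h, a, b, t2, t1, cT, nt, F, h.T.r4_R1 (fun k => ⟨h.mem k, h.th k⟩) A.cenD t2 cT (rc_form F)⟩

end Cfsg.Lib.JF
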