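import Cfsg.Agent.S5604
import Cfsg.Agent.Lib.Block2.JG0
import Cfsg.Agent.Lib.PGrp.OmegaBasic

/-! An element of order 7 of `M24`. -/

set_option autoImplicit false
set_option maxRecDepth 100000

namespace Cfsg.Lib.JF

open Subgroup Cfsg.Lib.Golay
open scoped Pointwise symmDiff

structure M7 (σ γ ξ : Equiv.Perm GolayPt) (a b c : GolayPt) : Prop where
  σM : σ ∈ M24
  γM : γ ∈ M24
  ξM : ξ ∈ M24
  o7 : orderOf σ = 7
  γ3 : orderOf γ = 3
  ξ2 : ξ * ξ = 1
  γσ : γ * σ = σ * γ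
  ξσ : ξ * σ = σ * ξ
  ab : a ≠ b
  ac : a ≠ c
  bc : b ≠ c
  fix : ∀ p, σ p = p ↔ p = a ∨ p = b ∨ p = c
  γa : γ a = b
  γb : γ b = c
  ξa : ξ a = b
  ξb : ξ b = a
  ξc : ξ c = c
  K : ∀ g ∈ M24, g * σ = σ * g → g a = a → g b = b → g ∈ zpowers σ
  ni : ∀ g ∈ M24, g * σ * g⁻¹ ≠ σ⁻¹
  sx : ∀ u : Finset GolayPt, u.card = 4 → (σ • u) ∆ u ∉ cw

def s7w7 : ℕ := 0x5130d0907120310081106140c0b0f0a15040116170e0200
def s7w3 : ℕ := 0x80203130e100900151417160406070d11050a010f0c0b12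
def s7w2 : ℕ := 0x816150e1300091003140d020105111707060a040f0c0b12

theorem s7_in : ∀ g ∈ [s7w7, s7w3, s7w2], gc.InH M24 g := inH_of_allL (by decide +kernel)

theorem s7_spec : Nat.card (gc.gen [s7w7, s7w3, s7w2]) = 42 ∧
    (∀ x ∈ gc.gen [s7w7, s7w3, s7w2], ∃ y, gc.Valid y ∧ gc.dec y = x ∧ (band (Nat.beq (mulN 24 y s7w7) (mulN 24 s7w7 y)) (bimp (Nat.beq (app y 0) 0)
      (bimp (Nat.beq (app y 18) 18) (anyN 7 fun i => Nat.beq (powN 24 s7w7 i) y)))) = true) ∧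
    ∀ g ∈ gc.gen [], ∀ x ∈ gc.gen [s7w7, s7w3, s7w2], g * x * g⁻¹ ∈ gc.gen [s7w7, s7w3, s7w2] :=
  Coding.normal_cert (c := gc) (M := 101) (d := 7) (a := 2) (fun g hg => by simp at hg) (fun g hg => (s7_in g hg).1) (by decide +kernel)

theorem s7_m7 : M7 (gc.dec s7w7) (gc.dec s7w3) (gc.dec s7w2) (gc.pt 0) (gc.pt 18) (gc.pt 16) := by
  have h7 := s7_in s7w7 (by simp)
  have h3 := s7_in s7w3 (by simp)
  have h2 := s7_in s7w2 (by simp)
  have o7 : orderOf (gc.dec s7w7) = 7 := h7.1.orderOf_eq (by norm_num) (by decide +kernel)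
  have cm : ∀ y, gc.Valid y → mulN 24 y s7w7 = mulN 24 s7w7 y → gc.dec y * gc.dec s7w7 = gc.dec s7w7 * gc.dec y := fun y hy e => by
    rw [← hy.dec_mul h7.1, ← h7.1.dec_mul hy]; exact congrArg gc.dec e
  have ap : ∀ y i j, gc.Valid y → i < 24 → app y i = j → gc.dec y (gc.pt i) = gc.pt j := fun y i j hy hi e => e ▸ hy.dec_pt hi
  let s : M24 := ⟨_, h7.2⟩
  have os : orderOf s = 7 := (Subgroup.orderOf_coe s).symm.trans o7
  obtain ⟨cN, cC, -⟩ := Agent.S5604.result (zpowers s) (by rw [Nat.card_zpowers, os])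
  have mC : ∀ g : M24, g ∈ centralizer (zpowers s : Set M24) ↔ g.1 * gc.dec s7w7 = gc.dec s7w7 * g := fun g => by
    rw [zpowers_eq_closure, centralizer_closure, mem_centralizer_singleton_iff, Subtype.ext_iff]; rfl
  refine ⟨h7.2, h3.2, h2.2, o7, h3.1.orderOf_eq (by norm_num) (by decide +kernel), (sq_of h2.1).2 (by decide +kernel),
    cm _ h3.1 (by decide +kernel), cm _ h2.1 (by decide +kernel), by decide, by decide, by decide, fun p => ?_,
    ap _ _ _ h3.1 (by norm_num) (by decide +kernel), ap _ _ _ h3.1 (by norm_num) (by decide +kernel),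
    ap _ _ _ h2.1 (by norm_num) (by decide +kernel), ap _ _ _ h2.1 (by norm_num) (by decide +kernel),
    ap _ _ _ h2.1 (by norm_num) (by decide +kernel), fun g hg e ea eb => ?_, fun g hg e => ?_, fun u hu e => ?_⟩
  · obtain ⟨i, hi, rfl⟩ := gc.exists_pt p
    rw [h7.1.dec_pt hi, gc.pt_inj (h7.1.app_lt hi) hi, gc.pt_inj hi (by decide), gc.pt_inj hi (by decide), gc.pt_inj hi (by decide)]
    revert i; change ∀ i < 24, _; decide +kernel
  · have hle := Coding.gen_le s7_in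
    have : (gc.gen [s7w7, s7w3, s7w2]).subgroupOf M24 = centralizer (zpowers s : Set M24) := eq_of_le_of_card_ge (fun x hx => (mC x).2 (by
      obtain ⟨y, hy, e, q⟩ := s7_spec.2.1 x hx
      rw [← e]; exact cm y hy (beq_iff.1 (band_iff.1 q).1))) (by rw [cC, Nat.card_congr (subgroupOfEquivOfLe hle).toEquiv, s7_spec.1])
    obtain ⟨y, hy, rfl, q⟩ := s7_spec.2.1 g (this.ge ((mC ⟨g, hg⟩).2 e))
    rw [hy.dec_pt (by decide), gc.pt_inj (hy.app_lt (by decide)) (by decide)] at ea eb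
    obtain ⟨i, -, e⟩ := anyN_iff.1 (bimp_iff.1 (bimp_iff.1 (band_iff.1 q).2 (beq_iff.2 ea)) (beq_iff.2 eb))
    rw [← beq_iff.1 e]
    exact (h7.1.powN i).2 ▸ pow_mem (mem_zpowers _) i
  · have := Fact.mk Nat.prime_two
    have hn : (⟨g, hg⟩ : M24) ∈ normalizer (zpowers s : Set M24) := mem_normalizer_fintype (by
      rintro _ ⟨k, rfl⟩; rw [← conj_zpow, show (⟨g, hg⟩ : M24) * s * (⟨g, hg⟩ : M24)⁻¹ = s⁻¹ from Subtype.ext e]
      exact zpow_mem (inv_mem (mem_zpowers s)) k)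
    have k := PGrp.card_sup_zpowers_of_mem_normalizer (p := 2) (Core.normalizer_le_normalizer_centralizer _ hn) (fun c => ?_) ((mC _).2 ?_)
    · have := card_dvd_of_le (sup_le (centralizer_le_normalizer _) (zpowers_le.2 hn))
      rw [k, cC, cN] at this; norm_num at this
    · rw [(mC _).1 c, mul_inv_cancel_right, eq_inv_iff_mul_eq_one, ← sq, ← orderOf_dvd_iff_pow_eq_one, o7] at e; norm_num at e
    · refine mul_inv_eq_iff_eq_mul.1 ?_
      calc _ = g * (g * gc.dec s7w7 * g⁻¹) * g⁻¹ := by simp only [sq, coe_mul]; group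
        _ = _ := by rw [e, ← conj_inv, e, inv_inv]
  · have := ncard_fix_sx (n := 0) (one_mem M24) h7 (by decide +kernel)
    rw [Set.ncard_eq_zero] at this
    refine Set.eq_empty_iff_forall_notMem.1 this (sextOf u) ⟨sextOf_mem hu, ?_⟩
    rw [one_mul, inv_one, mul_one, smul_sextOf h7.2, sextOf_congr e]

end Cfsg.Lib.JF
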