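import Cfsg.Agent.Lib.Block2.JGt

/-! Interfaces for the `2^10 : L5(2)` analysis in groups of Janko-four type. -/

set_option autoImplicit false

namespace Cfsg.Lib.JF

open Subgroup Cfsg.Lib.Amalg
open scoped Pointwise symmDiff

variable {G : Type*} [Group G]

/-- `A = 2^10` lies over the pointwise stabiliser of the octad `O`. -/
structure OA (V : Subgroup G) (ε : Finset GolayPt → G) (θ : 𝐍 V →* Equiv.Perm GolayPt) (A : Subgroup G)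
    (O : Finset GolayPt) : Prop where
  oct : O ∈ Golay.cw ∧ O.card = 8
  le : A ≤ 𝐍 V
  sq : ∀ a ∈ A, a * a = 1
  card : Nat.card A = 2 ^ 10
  fix : ∀ a : 𝐍 V, (a : G) ∈ A → ∀ x ∈ O, θ a x = x
  sur : ∀ b ∈ M24, (∀ x ∈ O, b x = x) → ∃ a : 𝐍 V, (a : G) ∈ A ∧ θ a = b
  inf : ∀ v, v ∈ A ⊓ V ↔ ∃ S ⊆ O, Even S.card ∧ ε S = v

/-- the global data on `V = 2^11`. -/
structure PK (V : Subgroup G) (D : Set G) (ε : Finset GolayPt → G) (θ : 𝐍 V →* Equiv.Perm GolayPt) : Prop where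
  tm : TM V D ε θ
  cl : ∀ t ∈ D, centralizer {t} ≤ 𝐍 V
  hD : ∀ g : G, ∀ d ∈ D, g * d * g⁻¹ ∈ V → g * d * g⁻¹ ∈ D
  uq : ∀ g : G, cj g V ≤ 𝐍 V → cj g V = V
  into : ∀ w : G, w * w = 1 → ∀ P : Subgroup G, IsPGroup 2 P → P ≤ centralizer {w} → ∃ g, g * w * g⁻¹ ∈ V ∧ cj g P ≤ 𝐍 V
  split : ∃ K ≤ 𝐍 V, K ⊓ V = ⊥ ∧ K ⊔ V = 𝐍 V

end Cfsg.Lib.JF
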