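import Cfsg.Agent.Lib.Block2.JF3
import Cfsg.Agent.Lib.Linear.Simple

/-! A permutation group on 31 points with full elation groups is `SL5(2)`. -/

set_option autoImplicit false

namespace Cfsg.Lib.JF

open Subgroup Cfsg.Lib.Amalg Cfsg.Lib.Core

theorem dc2 {α β : Type*} [Finite α] [Finite β] (S : Set α) (T : Set β) (r : α → β → Prop) {m n : ℕ}
    (h1 : ∀ a ∈ S, {b | b ∈ T ∧ r a b}.ncard = m) (h2 : ∀ b ∈ T, {a | a ∈ S ∧ r a b}.ncard = n) :
    S.ncard * m = T.ncard * n := by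
  classical
  have := Fintype.ofFinite α
  have := Fintype.ofFinite β
  rw [Set.ncard_eq_toFinset_card' S, Set.ncard_eq_toFinset_card' T]
  refine Finset.card_mul_eq_card_mul r (fun a ha => ?_) fun b hb => ?_
  · rw [← h1 a (by simpa using ha), ← Set.ncard_coe_finset]
    congr 1; ext; simp
  · rw [← h2 b (by simpa using hb), ← Set.ncard_coe_finset]
    congr 1; ext; simp

variable {Ω : Type*} [Finite Ω]

theorem orb_perm (P : Subgroup (Equiv.Perm Ω)) (y : Ω) :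
    {w | ∃ r ∈ P, r y = w}.ncard * Nat.card ↥(P ⊓ MulAction.stabilizer (Equiv.Perm Ω) y) = Nat.card P := by
  have h1 : (MulAction.stabilizer (Equiv.Perm Ω) y).subgroupOf P = MulAction.stabilizer P y := rfl
  have h2 : MulAction.orbit P y = {w | ∃ r ∈ P, r y = w} := by
    ext w
    exact ⟨fun ⟨g, e⟩ => ⟨g, g.2, e⟩, fun ⟨g, hg, e⟩ => ⟨⟨g, hg⟩, e⟩⟩
  rw [← card_inf_mul_relIndex (MulAction.stabilizer (Equiv.Perm Ω) y) P, relIndex, h1, MulAction.index_stabilizer, h2, mul_comm,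
    inf_comm]

theorem dvd_perm {P : Subgroup (Equiv.Perm Ω)} {k : ℕ} (Δ : Set Ω) (hΔ : ∀ g ∈ P, ∀ c ∈ Δ, g c ∈ Δ)
    (h : ∀ c ∈ Δ, k ∣ {w | ∃ r ∈ P, r c = w}.ncard) : k ∣ Δ.ncard := by
  induction hn : Δ.ncard using Nat.strong_induction_on generalizing Δ with | _ n ih
  rcases Δ.eq_empty_or_nonempty with rfl | ⟨c, hc⟩
  · simp [← hn]
  have s : {w | ∃ r ∈ P, r c = w} ⊆ Δ := by rintro _ ⟨g, hg, rfl⟩; exact hΔ g hg c hc
  have := Set.ncard_sdiff_add_ncard_of_subset s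
  have p := (Set.ncard_pos (s := {w | ∃ r ∈ P, r c = w})).2 ⟨c, 1, one_mem _, rfl⟩
  rw [← hn, ← this]
  refine dvd_add (ih _ (by omega) _ (fun g hg a ha => (Set.mem_sdiff _).2 ⟨hΔ g hg a ha.1, ?_⟩) (fun a ha => h a ha.1) rfl) (h c hc)
  rintro ⟨b, hb, e⟩
  exact ha.2 ⟨g⁻¹ * b, mul_mem (inv_mem hg) hb, by simp [e]⟩

/-- the hypotheses of the recognition theorem. -/
structure EL (Γ : Subgroup (Equiv.Perm Ω)) (R : Ω → Subgroup (Equiv.Perm Ω)) : Prop where
  hΩ : Nat.card Ω = 31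
  hR : ∀ x, R x ≤ Γ
  eqv : ∀ g ∈ Γ, ∀ x, cj g (R x) = R (g x)
  fx : ∀ x, ∀ r ∈ R x, r x = x
  sq : ∀ x, ∀ r ∈ R x, r * r = 1
  card : ∀ x, Nat.card (R x) = 16
  tr : ∀ x, ∀ r ∈ R x, ∀ s ∈ R x, r ≠ 1 → s ≠ 1 → ∃ g ∈ Γ, g x = x ∧ g * r * g⁻¹ = s
  nf : ∀ x y, x ≠ y → ∃ r ∈ R x, r y ≠ y

/-- the stabiliser of `y` in `R x`. -/
abbrev St (R : Ω → Subgroup (Equiv.Perm Ω)) (x y : Ω) : Subgroup (Equiv.Perm Ω) := R x ⊓ MulAction.stabilizer (Equiv.Perm Ω) y

namespace EL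
variable {Γ : Subgroup (Equiv.Perm Ω)} {R : Ω → Subgroup (Equiv.Perm Ω)} (h : EL Γ R)
include h

theorem st_cj {g : Equiv.Perm Ω} (hg : g ∈ Γ) (x y : Ω) : cj g (St R x y) = St R (g x) (g y) := by
  ext r
  rw [mem_cj, mem_inf, mem_inf, ← h.eqv g hg, mem_cj, MulAction.mem_stabilizer_iff, MulAction.mem_stabilizer_iff]
  simp [Equiv.symm_apply_eq]

theorem comm {x : Ω} {r s : Equiv.Perm Ω} (hr : r ∈ R x) (hs : s ∈ R x) : r * s = s * r := comm_of_sq (h.sq x) hr hs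

theorem st_mv {x y : Ω} {r : Equiv.Perm Ω} (hr : r ∈ R x) : St R x (r y) = St R x y := by
  conv_lhs => rw [← h.fx x r hr]
  rw [← h.st_cj (h.hR x hr)]
  ext s
  rw [mem_cj]
  constructor
  · intro k
    have : s ∈ R x := by simpa [mul_assoc] using mul_mem (mul_mem hr k.1) (inv_mem hr)
    rwa [mul_assoc, ← h.comm hr this, inv_mul_cancel_left] at k
  · intro k
    rwa [mul_assoc, ← h.comm hr k.1, inv_mul_cancel_left]

theorem c15 (x : Ω) : ((R x : Set (Equiv.Perm Ω)) \ {1}).ncard = 15 := by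
  have := Set.ncard_sdiff_singleton_add_one (s := (R x : Set (Equiv.Perm Ω))) (one_mem _)
  rw [← Nat.card_coe_set_eq (R x : Set (Equiv.Perm Ω))] at this
  change _ = Nat.card (R x) at this
  rw [h.card] at this; omega

theorem cnt {β : Type*} [Finite β] (x : Ω) (T : Set β) (ρ : Equiv.Perm Ω → β → Prop) {n : ℕ}
    (h2 : ∀ b ∈ T, {a | a ∈ (R x : Set (Equiv.Perm Ω)) \ {1} ∧ ρ a b}.ncard = n)
    (h1 : ∀ g ∈ Γ, g x = x → ∃ f : β → β, Function.Injective f ∧ ∀ r b, b ∈ T → ρ r b → f b ∈ T ∧ ρ (g * r * g⁻¹) (f b)) :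
    15 ∣ T.ncard * n := by
  obtain ⟨r0, h0⟩ := Set.nonempty_of_ncard_ne_zero (s := (R x : Set (Equiv.Perm Ω)) \ {1}) (by rw [h.c15]; norm_num)
  have le : ∀ r ∈ (R x : Set (Equiv.Perm Ω)) \ {1}, ∀ s ∈ (R x : Set (Equiv.Perm Ω)) \ {1},
      {b | b ∈ T ∧ ρ r b}.ncard ≤ {b | b ∈ T ∧ ρ s b}.ncard := fun r hr s hs => by
    obtain ⟨g, hg, gx, rfl⟩ := h.tr x r hr.1 s hs.1 hr.2 hs.2
    obtain ⟨f, fi, hf⟩ := h1 g hg gx
    exact Set.ncard_le_ncard_of_injOn f (fun b hb => hf r b hb.1 hb.2) fi.injOn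
  have := dc2 _ T ρ (fun a ha => le_antisymm (le a ha r0 h0) (le r0 h0 a ha)) h2
  rw [h.c15] at this
  exact this ▸ Dvd.intro _ rfl

theorem c30 (x : Ω) : {y | y ≠ x}.ncard = 30 := by
  have := Set.ncard_sdiff_singleton_add_one (s := (Set.univ : Set Ω)) (Set.mem_univ x)
  rw [Set.ncard_univ, h.hΩ] at this
  rw [show {y | y ≠ x} = Set.univ \ {x} by ext; simp]; omega

theorem mem_cnt (x : Ω) {H : Subgroup (Equiv.Perm Ω)} (hH : H ≤ R x) :
    {a | a ∈ (R x : Set (Equiv.Perm Ω)) \ {1} ∧ a ∈ H}.ncard = Nat.card H - 1 := by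
  have := Set.ncard_sdiff_singleton_add_one (s := (H : Set (Equiv.Perm Ω))) (one_mem _)
  rw [← Nat.card_coe_set_eq (H : Set (Equiv.Perm Ω))] at this
  change _ = Nat.card H at this
  rw [show {a | a ∈ (R x : Set (Equiv.Perm Ω)) \ {1} ∧ a ∈ H} = (H : Set (Equiv.Perm Ω)) \ {1} from
    Set.ext fun a => ⟨fun k => ⟨k.2, k.1.2⟩, fun k => ⟨⟨hH k.1, k.2⟩, k.1⟩⟩]
  omega

theorem st8 {x y : Ω} (n : y ≠ x) : Nat.card (St R x y) = 8 := by
  have key : ∀ k m, m * k = 16 → 15 ∣ {y | y ≠ x ∧ Nat.card (St R x y) = k}.ncard * (k - 1) ∧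
      m ∣ {y | y ≠ x ∧ Nat.card (St R x y) = k}.ncard := fun k m e => by
    refine ⟨h.cnt x _ (fun r y => r ∈ St R x y) (fun b hb => by rw [h.mem_cnt x inf_le_left, hb.2]) fun g hg gx =>
      ⟨g, g.injective, fun r b hb hr => ?_⟩, dvd_perm (P := R x) _ (fun g hg c hc => ⟨fun k => hc.1 (g.injective
        (k.trans (h.fx x g hg).symm)), by rw [h.st_mv hg, hc.2]⟩) fun c hc => ?_⟩
    · have e := h.st_cj hg x b
      rw [gx] at e
      exact ⟨⟨fun k => hb.1 (g.injective (k.trans gx.symm)), by rw [← e, card_cj, hb.2]⟩, e ▸ conj_mem_cj g hr⟩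
    · have := orb_perm (R x) c
      rw [hc.2, h.card, ← e] at this
      have k0 : 0 < k := Nat.pos_of_ne_zero (by rintro rfl; simp at e)
      rw [Nat.eq_of_mul_eq_mul_right k0 this]
  have cs : ∀ y, y ≠ x → Nat.card (St R x y) = 1 ∨ Nat.card (St R x y) = 2 ∨ Nat.card (St R x y) = 4 ∨
      Nat.card (St R x y) = 8 := fun y n => by
    obtain ⟨k, hk, e⟩ := (Nat.dvd_prime_pow Nat.prime_two (m := 4)).1 (h.card x ▸ card_dvd_of_le (inf_le_left : St R x y ≤ _))
    have n4 : k ≠ 4 := by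
      rintro rfl
      obtain ⟨r, hr, ry⟩ := h.nf x y n.symm
      exact ry ((eq_of_le_of_card_ge (inf_le_left : St R x y ≤ _) (by rw [e, h.card]; norm_num)).ge hr).2
    rw [e]; interval_cases k <;> simp_all
  obtain ⟨-, d2⟩ := key 1 16 rfl
  obtain ⟨a1, a2⟩ := key 2 8 rfl
  obtain ⟨b1, b2⟩ := key 4 4 rfl
  obtain ⟨c1, c2⟩ := key 8 2 rfl
  have t := h.c30 x
  rw [show {y | y ≠ x} = (({y | y ≠ x ∧ Nat.card (St R x y) = 1} ∪ {y | y ≠ x ∧ Nat.card (St R x y) = 2}) ∪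
    {y | y ≠ x ∧ Nat.card (St R x y) = 4}) ∪ {y | y ≠ x ∧ Nat.card (St R x y) = 8} from Set.ext fun y => ⟨fun k => by
      rcases cs y k with e | e | e | e
      exacts [Or.inl (Or.inl (Or.inl ⟨k, e⟩)), Or.inl (Or.inl (Or.inr ⟨k, e⟩)), Or.inl (Or.inr ⟨k, e⟩), Or.inr ⟨k, e⟩], by
      rintro (((k | k) | k) | k) <;> exact k.1⟩, Set.ncard_union_eq (Set.disjoint_left.2 (by
        rintro y ((k | k) | k) k' <;> · have := k.2; have := k'.2; omega)), Set.ncard_union_eq (Set.disjoint_left.2 (by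
        rintro y (k | k) k' <;> · have := k.2; have := k'.2; omega)), Set.ncard_union_eq (Set.disjoint_left.2 (by
        rintro y k k'; have := k.2; have := k'.2; omega))] at t
  have z : {y | y ≠ x ∧ Nat.card (St R x y) = 8}.ncard = 30 := by omega
  exact ((Set.eq_of_subset_of_ncard_le (s := {y | y ≠ x ∧ Nat.card (St R x y) = 8}) (t := {y | y ≠ x}) (fun _ k => k.1)
    (by rw [z, h.c30])).ge n).2

theorem exs (x y : Ω) : ∃ w, y ≠ x → w ≠ y ∧ (∃ r ∈ R x, r y = w) ∧ ∀ r ∈ R x, r y = y ∨ r y = w := by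
  by_cases n : y = x
  · exact ⟨x, fun k => absurd n k⟩
  have := orb_perm (R x) y
  rw [h.st8 n, h.card] at this
  obtain ⟨a, b, ab, e⟩ := Set.ncard_eq_two.1 (show {w | ∃ r ∈ R x, r y = w}.ncard = 2 by omega)
  rcases e.le ⟨1, one_mem _, rfl⟩ with k | k
  · obtain rfl : y = a := k
    exact ⟨b, fun _ => ⟨ab.symm, e.ge (Or.inr rfl), fun r hr => e.le ⟨r, hr, rfl⟩⟩⟩
  · obtain rfl : y = b := k
    exact ⟨a, fun _ => ⟨ab, e.ge (Or.inl rfl), fun r hr => (e.le ⟨r, hr, rfl⟩).symm⟩⟩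

theorem inj {x y u w : Ω} (n : y ≠ x) (nu : u ≠ x) (e : St R x u = St R x y) (nw : w ≠ y) (hw : ∃ r ∈ R x, r y = w) :
    u = y ∨ u = w := by
  let m : Ω → ℕ := fun y => {u | u ≠ x ∧ St R x u = St R x y}.ncard
  have d := h.cnt x {H | ∃ v, v ≠ x ∧ m v = m y ∧ H = St R x v} (fun r H => r ∈ H) (n := 7) (by
    rintro _ ⟨v, nv, -, rfl⟩
    rw [h.mem_cnt x inf_le_left, h.st8 nv]) fun g hg gx => ⟨fun H => cj g H, fun _ _ => cj_inj.1, by
      rintro r _ ⟨v, nv, mv, rfl⟩ hr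
      have e : ∀ v, cj g (St R x v) = St R x (g v) := fun v => by rw [h.st_cj hg, gx]
      have ne : ∀ v, g v ≠ x ↔ v ≠ x := fun v => ⟨fun k q => k (q ▸ gx), fun k q => k (g.injective (q.trans gx.symm))⟩
      refine ⟨⟨g v, (ne v).2 nv, ?_, e v⟩, conj_mem_cj g hr⟩
      rw [← mv]
      change Set.ncard _ = Set.ncard _
      rw [← Set.ncard_image_of_injective {u | u ≠ x ∧ St R x u = St R x v} g.injective]
      congr 1; ext u
      obtain ⟨u, rfl⟩ := g.surjective u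
      rw [g.injective.mem_set_image]
      change _ ∧ _ ↔ _ ∧ _
      rw [ne, ← e, ← e, cj_inj]⟩
  have d2 := dc2 {H | ∃ v, v ≠ x ∧ m v = m y ∧ H = St R x v} {v | v ≠ x ∧ m v = m y} (fun H v => H = St R x v) (m := m y) (n := 1) (by
    rintro _ ⟨v, nv, mv, rfl⟩
    conv_rhs => rw [← mv]
    congr 1; ext u
    exact ⟨fun k => ⟨k.1.1, k.2.symm⟩, fun k => ⟨⟨k.1, by rw [← mv]; simp only [m, k.2]⟩, k.2.symm⟩⟩) fun v hv =>
      Set.ncard_eq_one.2 ⟨St R x v, Set.ext fun H => ⟨fun k => k.2, fun k => ⟨⟨v, hv.1, hv.2, k⟩, k⟩⟩⟩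
  have d3 := Set.ncard_le_ncard (show {v | v ≠ x ∧ m v = m y} ⊆ {v | v ≠ x} from fun _ k => k.1)
  have d4 := (Set.ncard_pos (s := {H | ∃ v, v ≠ x ∧ m v = m y ∧ H = St R x v})).2 ⟨_, y, n, rfl, rfl⟩
  rw [h.c30] at d3
  have d5 : 15 ≤ {H | ∃ v, v ≠ x ∧ m v = m y ∧ H = St R x v}.ncard := by omega
  have d6 : m y ≤ 2 := by nlinarith
  obtain ⟨r, hr, rfl⟩ := hw
  exact (Set.eq_of_subset_of_ncard_le (s := {y, r y}) (t := {u | u ≠ x ∧ St R x u = St R x y}) (by
    rintro _ (rfl | rfl)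
    exacts [⟨n, rfl⟩, ⟨fun k => n (r.injective (k.trans (h.fx x r hr).symm)), h.st_mv hr⟩])
    (by rw [Set.ncard_pair nw.symm]; exact d6)).ge ⟨nu, e⟩

theorem sts : ∃ t : Option Ω → Option Ω → Option Ω, (∀ a, t none a = a) ∧ (∀ a, t a a = none) ∧ (∀ a b, t a b = t b a) ∧
    (∀ a b c, t (t a b) c = t a (t b c)) ∧ (∀ g ∈ Γ, ∀ a b, (t a b).map g = t (a.map g) (b.map g)) ∧
    ∀ x, ∀ r ∈ R x, ∀ a : Option Ω, a.map r = a ∨ a.map r = t (some x) a := by
  classical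
  choose s hs using h.exs
  have sx : ∀ x y, y ≠ x → s x y ≠ x := fun x y n k => by
    obtain ⟨r, hr, e⟩ := (hs x y n).2.1
    exact n (r.injective (e.trans (k.trans (h.fx x r hr).symm)))
  have un : ∀ x y w, y ≠ x → w ≠ y → (∃ r ∈ R x, r y = w) → w = s x y := fun x y w n nw ⟨r, hr, e⟩ =>
    e ▸ ((hs x y n).2.2 r hr).resolve_left (e ▸ nw)
  have ev : ∀ g ∈ Γ, ∀ x y, y ≠ x → g (s x y) = s (g x) (g y) := fun g hg x y n => by
    obtain ⟨r, hr, e⟩ := (hs x y n).2.1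
    exact un _ _ _ (g.injective.ne n) (g.injective.ne (hs x y n).1) ⟨_, h.eqv g hg x ▸ conj_mem_cj g hr, by simp [e]⟩
  have ss : ∀ x y, y ≠ x → s x (s x y) = y := fun x y n => by
    obtain ⟨r, hr, e⟩ := (hs x y n).2.1
    exact (un _ _ _ (sx x y n) (hs x y n).1.symm ⟨r⁻¹, inv_mem hr, by simp [← e]⟩).symm
  have sy : ∀ x y, y ≠ x → s y x = s x y := fun x y n => by
    have n1 := (hs y x n.symm).1
    refine (h.inj n n1 (eq_of_le_of_card_ge (H := St R x y) (K := St R x (s y x)) (fun r hr => ⟨hr.1, ?_⟩) (by rw [h.st8 n, h.st8 n1])).symm (hs x y n).1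
      (hs x y n).2.1).resolve_left (sx y x n.symm)
    change r _ = _
    rw [ev r (h.hR x hr.1) y x n.symm, h.fx x r hr.1, show r y = y from hr.2]
  have as : ∀ x y w, y ≠ x → w ≠ x → w ≠ y → w ≠ s x y → s (s x y) w = s x (s y w) := fun x y w n1 n2 n3 n4 => by
    obtain ⟨r, hr, nr⟩ : ∃ r ∈ St R x w, r ∉ St R x y := by
      by_contra k
      push Not at k
      exact (h.inj n1 n2 (eq_of_le_of_card_ge k (by rw [h.st8 n1, h.st8 n2])) (hs x y n1).1 (hs x y n1).2.1).elim n3 n4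
    have e1 : r y = s x y := ((hs x y n1).2.2 r hr.1).resolve_left fun k => nr ⟨hr.1, k⟩
    have e2 := ev r (h.hR x hr.1) y w n3
    rw [e1, show r w = w from hr.2] at e2
    have n5 : s y w ≠ x := fun k => n4 (by rw [← sy x y n1, ← k, ss y w n3])
    rw [← e2]
    refine ((hs x _ n5).2.2 r hr.1).resolve_left fun k => (hs x y n1).1 ?_
    rw [k, sy w y n3.symm, sy w _ n4.symm] at e2
    rw [← ss w _ n4.symm, ← e2, ss w y n3.symm]
  let t : Option Ω → Option Ω → Option Ω := fun a b => a.elim b fun x => b.elim (some x) fun y => if y = x then none else some (s x y)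
  have t0 : ∀ a, t none a = a := fun _ => rfl
  have t1 : ∀ a, t a none = a := by rintro (_ | _) <;> rfl
  have t2 : ∀ x y, y ≠ x → t (some x) (some y) = some (s x y) := fun x y n => if_neg n
  have t3 : ∀ a, t a a = none := by
    rintro (_ | x)
    exacts [rfl, if_pos rfl]
  have t4 : ∀ a b, t a b = t b a := by
    rintro (_ | x) (_ | y)
    exacts [rfl, rfl, rfl, by
      by_cases n : y = x
      · rw [n]
      · rw [t2 x y n, t2 y x (Ne.symm n), sy x y n]]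
  have t5 : ∀ a b, t a (t a b) = b := by
    rintro (_ | x) (_ | y)
    exacts [rfl, rfl, t3 _, by
      by_cases n : y = x
      · rw [n, t3, t1]
      · rw [t2 x y n, t2 _ _ (sx x y n), ss x y n]]
  refine ⟨t, t0, t3, t4, ?_, ?_, ?_⟩
  · rintro (_ | x) (_ | y) (_ | w) <;> try simp only [t0, t1]
    by_cases n1 : y = x
    · rw [n1, t3, t0, t5]
    by_cases n2 : w = x
    · rw [n2, t4 _ (some x), t4 (some y)]
    by_cases n3 : w = y
    · rw [n3, t3, t1, t4, t4 (some x), t5]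
    by_cases n4 : w = s x y
    · rw [n4, ← t2 x y n1, t3, t4 (some x) (some y), t5, t3]
    have n5 : s y w ≠ x := fun k => n4 (by rw [← sy x y n1, ← k, ss y w n3])
    rw [t2 x y n1, t2 _ _ n4, t2 _ _ n3, t2 _ _ n5, as x y w n1 n2 n3 n4]
  · rintro g hg (_ | x) (_ | y)
    exacts [rfl, rfl, rfl, by
      by_cases n : y = x
      · rw [n, t3, t3]; rfl
      · rw [t2 x y n, Option.map_some, Option.map_some, Option.map_some, t2 _ _ (g.injective.ne n), ev g hg x y n]]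
  · rintro x r hr (_ | y)
    · exact Or.inl rfl
    by_cases n : y = x
    · left; rw [n, Option.map_some, h.fx x r hr]
    · rw [t2 x y n]
      exact ((hs x y n).2.2 r hr).imp (congrArg some) (congrArg some)

theorem lin : Nonempty (Γ ≃* Matrix.SpecialLinearGroup (Fin 5) (ZMod 2)) := by
  classical
  obtain ⟨t, t0, t3, t4, t5, t6, t7⟩ := h.sts
  letI : Add (Option Ω) := ⟨t⟩
  letI : Zero (Option Ω) := ⟨none⟩
  letI : Neg (Option Ω) := ⟨id⟩
  letI : AddGroup (Option Ω) := AddGroup.ofLeftAxioms t5 t0 t3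
  letI : AddCommGroup (Option Ω) := { ‹AddGroup (Option Ω)› with add_comm := t4 }
  letI : Module (ZMod 2) (Option Ω) := AddCommGroup.zmodModule fun x => by rw [two_nsmul]; exact t3 x
  have fr : Module.finrank (ZMod 2) (Option Ω) = 5 := by
    have := Module.natCard_eq_pow_finrank (K := ZMod 2) (V := Option Ω)
    rw [Finite.card_option, h.hΩ, Nat.card_zmod] at this
    exact Nat.pow_right_injective le_rfl (this.symm.trans (by norm_num))
  let b := Module.finBasisOfFinrankEq (ZMod 2) (Option Ω) fr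
  let L : Γ → (Option Ω →ₗ[ZMod 2] Option Ω) := fun g =>
    (AddMonoidHom.mk' (Option.map (g : Equiv.Perm Ω)) (t6 g g.2)).toZModLinearMap 2
  have dL : ∀ g a, L g a = a.map (g : Equiv.Perm Ω) := fun _ _ => rfl
  have L1 : L 1 = 1 := LinearMap.ext fun a => by rw [dL]; cases a <;> rfl
  have Lm : ∀ g g', L (g * g') = L g * L g' := fun g g' => LinearMap.ext fun a => by
    rw [Module.End.mul_apply, dL, dL, dL]; cases a <;> rfl
  have Li : ∀ g g', L g = L g' → g = g' := fun g g' e => Subtype.ext (Equiv.ext fun x =>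
    Option.some_injective _ (LinearMap.congr_fun e (some x)))
  have dt : ∀ g, (LinearMap.toMatrix b b (L g)).det = 1 := fun g => by
    have : (LinearMap.toMatrix b b (L g)).det * (LinearMap.toMatrix b b (L g⁻¹)).det = 1 := by
      rw [← Matrix.det_mul, ← LinearMap.toMatrix_mul, ← Lm, mul_inv_cancel, L1, LinearMap.toMatrix_one, Matrix.det_one]
    revert this
    generalize (LinearMap.toMatrix b b (L g)).det = u
    generalize (LinearMap.toMatrix b b (L g⁻¹)).det = v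
    revert u v; decide
  let ψ : Γ →* Matrix.SpecialLinearGroup (Fin 5) (ZMod 2) := MonoidHom.mk' (fun g => ⟨_, dt g⟩) fun g g' => Subtype.ext (by
    change LinearMap.toMatrix b b (L (g * g')) = LinearMap.toMatrix b b (L g) * LinearMap.toMatrix b b (L g')
    rw [Lm, LinearMap.toMatrix_mul])
  refine ⟨MulEquiv.ofBijective ψ ⟨fun g g' e => Li g g' ((LinearMap.toMatrix b b).injective (congrArg Subtype.val e)),
    MonoidHom.range_eq_top.1 (Cfsg.Lib.Linear.sl_eq_top_of_transvection_mem _ fun i j hij c => ?_)⟩⟩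
  have hc : c = 0 ∨ c = 1 := by revert c; decide
  rcases hc with rfl | rfl
  · exact ⟨1, Subtype.ext (by simp [Matrix.SpecialLinearGroup.transvection_coe])⟩
  obtain ⟨x, hx⟩ : ∃ x, b i = some x := Option.ne_none_iff_exists'.1 (b.ne_zero i)
  let χ : R x → ({k // k ≠ i} → Prop) := fun r k => (b k).map (r : Equiv.Perm Ω) = b k
  have fi : ∀ r : R x, (b i).map (r : Equiv.Perm Ω) = b i := fun r => by rw [hx, Option.map_some, h.fx x r r.2]
  have ci : Function.Injective χ := fun r r' e => by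
    have := Li ⟨r, h.hR x r.2⟩ ⟨r', h.hR x r'.2⟩ (b.ext fun k => by
      rw [dL, dL]
      by_cases q : k = i
      · rw [q]; exact (fi r).trans (fi r').symm
      have e := (congrFun e ⟨k, q⟩).to_iff
      by_cases c : (b k).map (r : Equiv.Perm Ω) = b k
      · exact c.trans (e.1 c).symm
      · exact ((t7 x r r.2 _).resolve_left c).trans ((t7 x r' r'.2 _).resolve_left fun k => c (e.2 k)).symm)
    exact Subtype.ext (congrArg (fun g : Γ => (g : Equiv.Perm Ω)) this)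
  obtain ⟨r, hr⟩ := (ci.bijective_of_nat_card_le (by rw [h.card, Nat.card_fun]; simp)).2 fun k => k.1 ≠ j
  refine ⟨⟨r, h.hR x r.2⟩, Subtype.ext ?_⟩
  change LinearMap.toMatrix b b (L _) = _
  ext k l
  rw [LinearMap.toMatrix_apply, dL, Matrix.SpecialLinearGroup.transvection_coe]
  by_cases q : l = j
  · subst q
    have e := (congrFun hr ⟨l, hij.symm⟩).to_iff
    have e2 : (b l).map (r : Equiv.Perm Ω) = b i + b l := by
      rw [hx]; exact (t7 x r r.2 _).resolve_left fun c => e.1 c rfl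
    change b.repr ((b l).map (r : Equiv.Perm Ω)) k = _
    rw [e2]
    simp [Matrix.one_apply, Finsupp.single_apply, Matrix.single_apply, eq_comm, add_comm]
  · have e2 : (b l).map (r : Equiv.Perm Ω) = b l := by
      by_cases q2 : l = i
      · rw [q2]; exact fi r
      · exact (congrFun hr ⟨l, q2⟩).to_iff.2 q
    change b.repr ((b l).map (r : Equiv.Perm Ω)) k = _
    rw [e2]
    simp [Matrix.one_apply, Finsupp.single_apply, Matrix.single_apply, eq_comm, q, Ne.symm q]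

end EL

end Cfsg.Lib.JF
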