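import Cfsg.Agent.Lib.Block2.JT1

/-! Recognition of `SL5(2)` from a parabolic subgroup of index 31. -/

set_option autoImplicit false

namespace Cfsg.Lib.JF

open Subgroup Cfsg.Lib.Amalg Cfsg.Lib.Core

theorem card_SL52 : Nat.card (Matrix.SpecialLinearGroup (Fin 5) (ZMod 2)) = 9999360 := by
  have e : Nat.card (Matrix.SpecialLinearGroup (Fin 5) (ZMod 2)) = Nat.card (GL (Fin 5) (ZMod 2)) :=
    Nat.card_eq_of_bijective Matrix.SpecialLinearGroup.toGL ⟨Matrix.SpecialLinearGroup.toGL_injective, fun g =>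
      ⟨⟨g, by
        have := g.det_ne_zero
        revert this
        generalize (g : Matrix (Fin 5) (Fin 5) (ZMod 2)).det = u
        revert u; decide⟩, Units.ext (Matrix.SpecialLinearGroup.coe_GL_coe_matrix _)⟩⟩
  rw [e, Matrix.card_GL_field, ZMod.card]
  decide

theorem l52t {N : Type*} [Group N] [Finite N] {A Q P : Subgroup N} [A.Normal] (hAQ : A ≤ Q) (hQP : Q ≤ P)
    (nQ : ∀ p ∈ P, ∀ q ∈ Q, p * q * p⁻¹ ∈ Q) (iP : P.index = 31) (iQ : A.relIndex Q = 16) (iA : A.index = 9999360)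
    (tr : ∀ q ∈ Q, ∀ r ∈ Q, q ∉ A → r ∉ A → ∃ p ∈ P, p * q * p⁻¹ * r⁻¹ ∈ A)
    (h1 : ∀ g, (∀ q ∈ Q, g⁻¹ * q * g ∈ P) → g ∈ P) :
    Nonempty (N ⧸ A ≃* Matrix.SpecialLinearGroup (Fin 5) (ZMod 2)) := by
  have : Fact (Nat.Prime 2) := ⟨Nat.prime_two⟩
  let π : N →* Equiv.Perm (N ⧸ P) := MulAction.toPermHom N (N ⧸ P)
  have dπ : ∀ g a : N, π g (a : N ⧸ P) = ((g * a : N) : N ⧸ P) := fun _ _ => rfl
  have fxi : ∀ g a : N, π g (a : N ⧸ P) = a ↔ a⁻¹ * g * a ∈ P := fun g a => by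
    rw [dπ, eq_comm, QuotientGroup.eq, mul_assoc]
  have Ak : ∀ a ∈ A, π a = 1 := fun a ha => Equiv.ext fun x => by
    obtain ⟨g, rfl⟩ := QuotientGroup.mk_surjective x
    exact (fxi a g).2 (hQP (hAQ (by simpa using ‹A.Normal›.conj_mem a ha g⁻¹)))
  have kQ : ∀ q ∈ Q, π q = 1 → q ∈ A := fun q hq e => by
    by_contra n
    have : P = ⊤ := eq_top_iff.2 fun g _ => h1 g fun r hr => (fxi r g).1 (by
      by_cases c : r ∈ A
      · rw [Ak r c]; rfl
      · obtain ⟨p, -, k⟩ := tr q hq r hr n c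
        have := Ak _ k
        rw [map_mul, map_mul, map_mul, e, mul_one, map_inv, mul_inv_cancel, one_mul, map_inv, inv_eq_one] at this
        rw [this]; rfl)
    rw [this, index_top] at iP
    omega
  have cQ : Nat.card (Q.map π) = 16 := by
    have c := card_map_mul_card_inf_ker π Q
    have c2 := card_inf_mul_relIndex A Q
    rw [inf_of_le_left hAQ, iQ] at c2
    rw [show π.ker ⊓ Q = A from le_antisymm (fun q hq => kQ q hq.2 hq.1) fun a ha => ⟨Ak a ha, hAQ ha⟩, ← c2, mul_comm] at c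
    exact Nat.eq_of_mul_eq_mul_left Nat.card_pos c
  have tr' : ∀ r ∈ Q.map π, ∀ s ∈ Q.map π, r ≠ 1 → s ≠ 1 → ∃ p ∈ P, π p * r * (π p)⁻¹ = s := by
    rintro _ ⟨r, hr, rfl⟩ _ ⟨s, hs, rfl⟩ r1 s1
    obtain ⟨p, hp, k⟩ := tr r hr s hs (fun c => r1 (Ak r c)) fun c => s1 (Ak s c)
    have := Ak _ k
    rw [map_mul, map_mul, map_mul, map_inv, map_inv, mul_inv_eq_one] at this
    exact ⟨p, hp, this⟩
  have sq : ∀ r ∈ Q.map π, r * r = 1 := fun r hr => by
    obtain ⟨s, hs⟩ := exists_prime_orderOf_dvd_card' (G := Q.map π) 2 (by rw [cQ]; norm_num)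
    have s1 : (s : Equiv.Perm (N ⧸ P)) ≠ 1 := fun e => by rw [show s = 1 from Subtype.ext e] at hs; simp at hs
    have s2 : (s : Equiv.Perm (N ⧸ P)) * s = 1 := congrArg Subtype.val (show s * s = 1 by rw [← pow_two, ← hs, pow_orderOf_eq_one])
    by_cases c : r = 1
    · rw [c, mul_one]
    · obtain ⟨p, -, rfl⟩ := tr' s s.2 r hr s1 c
      rw [conj_mul, s2]; group
  have cP : ∀ p ∈ P, cj (π p) (Q.map π) = Q.map π := fun p hp => cj_eq_self_iff.2 (mem_normalizer_of_cj_le (cj_le_iff'.2 (by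
    rintro _ ⟨q, hq, rfl⟩
    exact ⟨_, nQ p hp q hq, by simp⟩)))
  let R : N ⧸ P → Subgroup (Equiv.Perm (N ⧸ P)) := fun x => cj (π x.out) (Q.map π)
  have dR : ∀ a : N, R a = cj (π a) (Q.map π) := fun a => by
    obtain ⟨p, e⟩ := QuotientGroup.mk_out_eq_mul P a
    simp only [R]
    rw [e, map_mul, cj_mul, cP p p.2]
  have E : EL π.range R := by
    refine ⟨iP, fun x => ?_, ?_, fun x => ?_, fun x => ?_, fun x => ?_, fun x => ?_, fun x y => ?_⟩
    · exact cj_le_iff'.2 (by rintro _ ⟨q, -, rfl⟩; exact ⟨x.out * q * x.out⁻¹, by simp⟩)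
    · rintro _ ⟨g, rfl⟩ x
      obtain ⟨a, rfl⟩ := QuotientGroup.mk_surjective x
      rw [dπ, dR, dR, map_mul, cj_mul]
    all_goals obtain ⟨a, rfl⟩ := QuotientGroup.mk_surjective x
    all_goals rw [dR]
    · intro r hr
      obtain ⟨_, ⟨q, hq, rfl⟩, rfl⟩ := mem_cj'.1 hr
      rw [← map_inv, ← map_mul, ← map_mul, fxi]
      simpa [mul_assoc] using hQP hq
    · intro r hr
      obtain ⟨w, hw, rfl⟩ := mem_cj'.1 hr
      rw [conj_mul, sq w hw]; group
    · rw [card_cj, cQ]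
    · intro r hr s hs r1 s1
      obtain ⟨r', hr', rfl⟩ := mem_cj'.1 hr
      obtain ⟨s', hs', rfl⟩ := mem_cj'.1 hs
      obtain ⟨p, hp, rfl⟩ := tr' r' hr' s' hs' (fun e => r1 (by simp [e])) fun e => s1 (by simp [e])
      refine ⟨π (a * p * a⁻¹), ⟨_, rfl⟩, (fxi _ _).2 (by simpa [mul_assoc] using hp), ?_⟩
      simp only [map_mul, map_inv]; group
    · obtain ⟨b, rfl⟩ := QuotientGroup.mk_surjective y
      intro n
      by_contra k
      push Not at k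
      refine n (QuotientGroup.eq.2 (h1 _ fun q hq => ?_))
      have := k _ (conj_mem_cj (π a) ⟨q, hq, rfl⟩)
      rw [← map_inv, ← map_mul, ← map_mul, fxi] at this
      simpa [mul_assoc] using this
  obtain ⟨e⟩ := E.lin
  have ix : π.ker.index = A.index := by rw [index_ker, Nat.card_congr e.toEquiv, card_SL52, iA]
  have eq : A = π.ker := eq_of_le_of_card_ge (fun a ha => Ak a ha) (by
    have c1 := A.card_mul_index
    have c2 := π.ker.card_mul_index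
    rw [ix, ← c1] at c2
    exact (Nat.eq_of_mul_eq_mul_right (by omega) c2).le)
  exact ⟨((QuotientGroup.quotientMulEquivOfEq eq).trans (QuotientGroup.quotientKerEquivRange π)).trans e⟩

/-- the same with the (unused) hypothesis on the centraliser, in the argument order of the interface. -/
theorem l52t' {N : Type*} [Group N] [Finite N] {A Q P : Subgroup N} [A.Normal] (hAQ : A ≤ Q) (hQP : Q ≤ P)
    (nQ : ∀ p ∈ P, ∀ q ∈ Q, p * q * p⁻¹ ∈ Q) (iP : P.index = 31) (iQ : A.relIndex Q = 16) (iA : A.index = 9999360)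
    (tr : ∀ q ∈ Q, ∀ r ∈ Q, q ∉ A → r ∉ A → ∃ p ∈ P, p * q * p⁻¹ * r⁻¹ ∈ A)
    (_cen : ∀ p ∈ P, (∀ q ∈ Q, p * q * p⁻¹ * q⁻¹ ∈ A) → p ∈ Q)
    (h1 : ∀ g, (∀ q ∈ Q, g⁻¹ * q * g ∈ P) → g ∈ P) :
    Nonempty (N ⧸ A ≃* Matrix.SpecialLinearGroup (Fin 5) (ZMod 2)) := l52t hAQ hQP nQ iP iQ iA tr h1

end Cfsg.Lib.JF
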