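import Cfsg.Agent.Lib.Block2.JU0
import Cfsg.Agent.Lib.Block2.JX3

/-! The involution centralising the normaliser of a `3B` element. -/

set_option autoImplicit false
set_option maxRecDepth 100000

namespace Cfsg.Lib.JF
open Subgroup Cfsg.Lib.Amalg Cfsg.Lib.Core Cfsg.Lib.Known2 Cfsg.Lib.Golay Spor
open scoped Pointwise symmDiff

def u1T (j : ℕ) : ℕ := [0x3080f1312070e0b0d010a1510060416090c171405021100, 0x50c12070f13170a16000b101504060d14080e0903110201, 0x1100612070c0e15080013090a0f140b0416030d17110502, 0x140c040916010a060e0b10150d1307120f050817110203, 0xd1705080e0c13110b1003140a090f120002060116150704, 0x30912150b071708060e0c0d160410130a0f021411000105, 0x160e0514020813111204010c0a090b0f0317100007150d06, 0x4140f050817060a02100c01110e0003090b161213150d07, 0xb0003041110140e0d0c05130607151617010a02120f0908, 0xb130d0315020c161712060e0001110507040a1014080f09, 0x815040e13001210010c070302170511060d09160f0b140a, 0x802011517160c0507140e06130d0410110312000a090f0b, 0x90d0403060512150008100211170e0107160f13140a0b0c,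 0x70c0f170b03060911150800050e0201120a10140413160d, 0x5060d0b040901070800150a140c120f101617130203110e, 0xc06040313011216020b15110017050e0710090d14080a0f, 0x70b09011203130a0e060800110517020c0f04140d151610, 0xe0a0c130806010b07031204100d16150914000f05021711, 0xf041003150e0b1300080d010502111707160a0614090c12, 0x15090f0214110608010d1217000e03050b0c070a10160413, 0x1207130110170916110a060e000502030d150b040c080f14, 0x60a0c05080e0d0b03071217020100110914160f13100415, 0x600020a050f10030c0d1712140b09081101130e15070416, 0x1104160c130a00101403060f0b0809120d07051501020e17].getD j 0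

/-- the code `a` normalises `uS`. -/
noncomputable def u1N (a : ℕ) : Bool := band (inM24 a) (bor (Nat.beq (mulN 24 a uS) (mulN 24 uS a))
  (Nat.beq (mulN 24 a uS) (mulN 24 0x1200110705040a02060f010d10151316030e0917140b0c08 a)))

theorem u1_norm {a : ℕ} (h : u1N a = true) : inM24 a = true ∧ (mm a * mm uS = mm uS * mm a ∨ mm a * mm uS = (mm uS)⁻¹ * mm a) := by
  simp only [u1N, band_iff, bor_iff, beq_iff] at h
  have s : inM24 uS = true := by decide +kernel
  have s' : inM24 0x1200110705040a02060f010d10151316030e0917140b0c08 = true := by decide +kernel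
  have i : mm 0x1200110705040a02060f010d10151316030e0917140b0c08 = (mm uS)⁻¹ :=
    eq_inv_of_mul_eq_one_left ((mm_mul (c := idN 24) (by decide +kernel)).trans mm_one)
  have m : ∀ {a b}, inM24 a = true → inM24 b = true → mm a * mm b = mm (mulN 24 a b) := fun ha hb =>
    mm_mul (by simp only [band_iff, beq_iff]; exact ⟨⟨ha, hb⟩, trivial⟩)
  refine ⟨h.1, h.2.imp (fun e => ?_) fun e => ?_⟩
  · rw [m h.1 s, m s h.1, e]
  · rw [← i, m h.1 s, m s' h.1, e]

variable {G : Type*} [Group G] [Finite G] {E : Subgroup G} {z p : G} {φ : KK z p →* Equiv.Perm GolayPt}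
  {q : Equiv.Perm GolayPt}

theorem AllD.exists_TA (A : AllD E z p φ q) (hi : IsConj p p⁻¹) : ∃ ε θ κ t, TA E z p φ q ε θ κ t := by
  obtain ⟨ε, θ, T⟩ := A.gd.exists_TM
  obtain ⟨K, k1, k2, k3, -⟩ := A.split
  obtain ⟨κ, L⟩ := T.exists_LK k1 k2 k3
  have s : inM24 uS = true := by decide +kernel
  have s3 : mm uS ^ 3 = 1 := by
    rw [pow_succ, pow_two, mm_mul (c := mulN 24 uS uS) (by decide +kernel), mm_mul (c := idN 24) (by decide +kernel), mm_one]
  have s1 : κ (mm uS) ≠ 1 := fun e => by
    have a := (L.uq (one_mem _) (one_mem _) (σ := mm uS) (τ := 1) (by rw [e, map_one])).1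
    have b := congrArg (fun k : M24 => k.1 (gc.pt 0)) a
    simp only [mm_val s, (inH_of_inM24 s).1.dec_pt (show 0 < gc.n by decide), OneMemClass.coe_one, Equiv.Perm.one_apply] at b
    exact absurd ((gc.pt_inj ((inH_of_inM24 s).1.app_lt (show 0 < gc.n by decide)) (show 0 < gc.n by decide)).1 b)
      (by decide +kernel)
  have : Fact (Nat.Prime 3) := ⟨Nat.prime_three⟩
  obtain ⟨g, hg⟩ := isConj_iff.1 (A.s5564 A.s5563.2.2.2.2 hi p (κ (mm uS)) (orderOf_eq_prime A.js.p3 A.js.p1)
    (orderOf_eq_prime (by rw [← map_pow, s3, map_one]) s1))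
  have cN : ∀ x : G, (x * κ (mm uS) = κ (mm uS) * x ∨ x * κ (mm uS) = (κ (mm uS))⁻¹ * x) →
      x * (g * z * g⁻¹) = g * z * g⁻¹ * x := fun x hx => by
    have m : g⁻¹ * x * g ∈ 𝐍 (zpowers p) := by
      rw [← cj_eq_self_iff, cj_zpowers]
      have e : g⁻¹ * x * g * p * (g⁻¹ * x * g)⁻¹ = g⁻¹ * (x * (g * p * g⁻¹) * x⁻¹) * g := by group
      rw [e, hg]
      rcases hx with a | a
      · rw [a, mul_inv_cancel_right, ← hg]; congr 1; group
      · rw [a, mul_inv_cancel_right, ← hg, ← zpowers_inv (g := p)]; congr 1; group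
    have c := mem_centralizer_singleton_iff.1 (A.s5563.2.2.2.2 m)
    calc _ = g * (g⁻¹ * x * g * z) * g⁻¹ := by group
      _ = _ := by rw [c]; group
  refine ⟨ε, θ, κ, g * z * g⁻¹, A, L, ⟨g, rfl, hg⟩, cN, fun n => ?_⟩
  obtain ⟨σ, S, ev, e⟩ := L.dec n
  have key : ∀ a, u1N a = true → mm a * σ = σ * mm a ∧ ((mm a).1 • S) ∆ S ∈ cw := fun a ha => by
    have c := cN (κ (mm a)) ((u1_norm ha).2.imp (fun e => by rw [← map_mul, e, map_mul]) fun e => by
      rw [← map_mul, e, map_mul, map_inv])
    have b := T.act ⟨_, L.mem (mm a)⟩ S ev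
    rw [L.th] at b
    have ev' : Even ((mm a).1 • S).card := by rwa [Finset.card_smul_finset]
    have := L.uq (T.emem ev') (T.emem ev) (σ := mm a * σ) (τ := σ * mm a) (by
      rw [map_mul, map_mul, ← b, ← mul_assoc (ε S), ← e, ← c, e]; group)
    exact ⟨this.1, T.cw_of ev' ev this.2⟩
  have ap : ∀ a, u1N a = true → ∀ j < 24, σ.1 (gc.pt 0) = gc.pt j → σ.1 (gc.pt (app a 0)) = gc.pt (app a j) :=
    fun a ha j hj e => by
      have v := inH_of_inM24 (u1_norm ha).1
      have := congrArg (fun k : M24 => k.1 (gc.pt 0)) (key a ha).1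
      simp only [coe_mul, Equiv.Perm.mul_apply, mm_val (u1_norm ha).1] at this
      rw [e, v.1.dec_pt hj, v.1.dec_pt (show 0 < gc.n by decide)] at this
      exact this.symm
  obtain ⟨j, hj, ej⟩ := gc.exists_pt (σ.1 (gc.pt 0))
  have w1 := ap 0x3080f1312070e0b0d010a1510060416090c171405021100 (by decide +kernel) j hj ej.symm
  have w2 := ap 0x11160d09060a01071217100b140c0f0813040e1505030200 (by decide +kernel) j hj ej.symm
  rw [show app 0x3080f1312070e0b0d010a1510060416090c171405021100 0 = 0 by decide +kernel, ← ej] at w1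
  rw [show app 0x11160d09060a01071217100b140c0f0813040e1505030200 0 = 0 by decide +kernel, ← ej] at w2
  have k : ∀ j < 24, app 0x3080f1312070e0b0d010a1510060416090c171405021100 j < 24 ∧
      app 0x11160d09060a01071217100b140c0f0813040e1505030200 j < 24 ∧
      (j = app 0x3080f1312070e0b0d010a1510060416090c171405021100 j →
        j = app 0x11160d09060a01071217100b140c0f0813040e1505030200 j → j = 0) := by decide +kernel
  obtain rfl := (k j hj).2.2 ((gc.pt_inj hj (k j hj).1).1 w1) ((gc.pt_inj hj (k j hj).2.1).1 w2)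
  have σ1 : σ = 1 := Subtype.ext (Equiv.ext fun x => by
    obtain ⟨i, hi, rfl⟩ := gc.exists_pt x
    have k' : ∀ i < 24, u1N (u1T i) = true ∧ app (u1T i) 0 = i := by decide +kernel
    have := ap _ (k' i hi).1 0 (by norm_num) ej.symm
    rwa [(k' i hi).2] at this)
  obtain ⟨j, hj, h0⟩ := xb_rep S
  have fx : ∀ a, u1N a = true → imgT a (4096 * j) ^^^ 4096 * j < 2 ^ 24 → isCw (imgT a (4096 * j) ^^^ 4096 * j) = true :=
    fun a ha l => by
      have v := inH_of_inM24 (u1_norm ha).1
      have b := (key a ha).2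
      rw [mm_val (u1_norm ha).1] at b
      have c := (smul_mem_cw_iff v.2).2 h0
      rw [Finset.smul_finset_symmDiff, v.1.smul_om] at c
      have d := symmDiff_mem_cw (symmDiff_mem_cw c b) h0
      refine (om_mem_cw_iff l).1 ?_
      rw [show om (imgT a (4096 * j) ^^^ 4096 * j) = om (imgT a (4096 * j)) ∆ om (4096 * j) from gc.ofMask_xor _ _]
      rwa [symmDiff_assoc (om _), symmDiff_symmDiff_cancel_left, symmDiff_comm (om (4096 * j)), symmDiff_assoc,
        symmDiff_symmDiff_cancel_left] at d
  have k2 : ∀ j < 4096, (imgT 0x1708140d0f04030910020a15130706160c0b0e1201051100 (4096 * j) ^^^ 4096 * j < 2 ^ 24 →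
      isCw (imgT 0x1708140d0f04030910020a15130706160c0b0e1201051100 (4096 * j) ^^^ 4096 * j) = true) →
      (imgT 0xf02111317060a01160803070d1504100500120e090c140b (4096 * j) ^^^ 4096 * j < 2 ^ 24 →
      isCw (imgT 0xf02111317060a01160803070d1504100500120e090c140b (4096 * j) ^^^ 4096 * j) = true) → j = 0 := by
    have : allN 4096 (fun j => bor (Nat.beq j 0) (bor
      (band (Nat.blt (imgT 0x1708140d0f04030910020a15130706160c0b0e1201051100 (4096 * j) ^^^ 4096 * j) (2 ^ 24))
        (bnot (isCw (imgT 0x1708140d0f04030910020a15130706160c0b0e1201051100 (4096 * j) ^^^ 4096 * j))))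
      (band (Nat.blt (imgT 0xf02111317060a01160803070d1504100500120e090c140b (4096 * j) ^^^ 4096 * j) (2 ^ 24))
        (bnot (isCw (imgT 0xf02111317060a01160803070d1504100500120e090c140b (4096 * j) ^^^ 4096 * j)))))) = true := by
      decide +kernel
    intro j hj a b
    have := allN_iff.1 this j hj
    simp only [bor_iff, band_iff, bnot_iff, beq_iff, Nat.blt_eq] at this
    rcases this with c | c | c
    exacts [c, absurd (a c.1) c.2, absurd (b c.1) c.2]
  obtain rfl := k2 j hj (fx _ (by decide +kernel)) (fx _ (by decide +kernel))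
  rw [show om (4096 * 0) = ∅ from gc.ofMask_zero, ← Finset.bot_eq_empty, bot_symmDiff] at h0
  rw [σ1, map_one, mul_one, (T.one S ev).2 h0, conj_eq_one_iff] at e
  exact A.js.ls.ne e

end Cfsg.Lib.JF
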