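import Cfsg.Agent.Lib.Block2.JG0
import Cfsg.Agent.Lib.Block2.JF4

/-! Conjugation invariance of the structure `JS`. -/

set_option autoImplicit false

namespace Cfsg.Lib.JF

open Subgroup Cfsg.Lib.Amalg Cfsg.Lib.Core Cfsg.Lib.Known2 Cfsg.Lib.Golay Spor MulAction

variable {G : Type*} [Group G] {E : Subgroup G} {z p : G} {φ : KK z p →* Equiv.Perm GolayPt}

theorem JS.u2cj [Finite G] (h : JS E z p M22 φ) (g : G) {z' p' : G} (hz : g * z * g⁻¹ = z') (hp : g * p * g⁻¹ = p') :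
    ∃ φ' : KK z' p' →* Equiv.Perm GolayPt, JS (cj g E) z' p' M22 φ' ∧
      V0 (cj g E) φ' (gc.gen gA) = cj g (V0 E φ (gc.gen gA)) := by
  subst hz hp
  have eK : cj g (KK z p) = KK (g * z * g⁻¹) (g * p * g⁻¹) := by
    rw [cj_inf, cj_centralizer_singleton, cj_centralizer_singleton]
  have mK : ∀ k, k ∈ KK (g * z * g⁻¹) (g * p * g⁻¹) ↔ g⁻¹ * k * g ∈ KK z p := fun k => by rw [← eK, mem_cj]
  let ψ : KK (g * z * g⁻¹) (g * p * g⁻¹) →* KK z p := MonoidHom.mk' (fun k => ⟨g⁻¹ * k * g, (mK k).1 k.2⟩)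
    fun a b => Subtype.ext (by simp only [coe_mul]; group)
  have tr : ∀ {a b : G}, a * b = b * a → g * a * g⁻¹ * (g * b * g⁻¹) = g * b * g⁻¹ * (g * a * g⁻¹) := fun e => by
    rw [conj_mul, conj_mul, e]
  have un : ∀ {a b : G}, g * a * g⁻¹ * (g * b * g⁻¹) = g * b * g⁻¹ * (g * a * g⁻¹) → a * b = b * a := fun e => by
    rw [conj_mul, conj_mul] at e; simpa using e
  have lL : ∀ k m, L (φ.comp ψ) k m ↔ L φ (g⁻¹ * k * g) m := fun k m =>
    ⟨fun ⟨a, e⟩ => ⟨(mK k).1 a, e⟩, fun ⟨a, e⟩ => ⟨(mK k).2 a, e⟩⟩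
  have eH : hat (φ.comp ψ) (gc.gen gA : Set _) = MulAut.conj g '' hat φ (gc.gen gA : Set _) := by
    ext k
    constructor
    · rintro ⟨⟨m, hm, l⟩, e⟩
      refine ⟨g⁻¹ * k * g, ⟨⟨m, hm, (lL k m).1 l⟩, ?_⟩, by simp [mul_assoc]⟩
      calc _ = g⁻¹ * (k * k) * g := by group
        _ = 1 := by rw [e]; group
    · rintro ⟨k, ⟨⟨m, hm, l⟩, e⟩, rfl⟩
      refine ⟨⟨m, hm, (lL _ m).2 (by simpa [mul_assoc] using l)⟩, ?_⟩
      rw [← map_mul, e, map_one]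
  refine ⟨φ.comp ψ, ⟨h.ls.conj g, by rw [card_cj, h.card], tr h.pz, by rw [conj_pow, h.p3]; group,
    fun e => h.p1 (by simpa using e), ?_, ?_, fun k => ?_, by rw [← eK, card_cj, h.cK], ?_, fun x hx => ?_⟩, ?_⟩
  · rintro _ ⟨c, hc, rfl⟩ e
    rcases h.fp c hc (un e) with d | d <;> rw [d]
    · exact .inl (map_one _)
    · exact .inr rfl
  · rw [← h.rng]
    refine le_antisymm (by rintro _ ⟨k, rfl⟩; exact ⟨_, rfl⟩) ?_
    rintro _ ⟨k, rfl⟩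
    exact ⟨⟨g * k * g⁻¹, eK ▸ conj_mem_cj g k.2⟩, congrArg φ (Subtype.ext (by show g⁻¹ * (g * k * g⁻¹) * g = k; group))⟩
  · rw [MonoidHom.comp_apply, h.ker, ← cj_zpowers]
    constructor
    · rintro ⟨c, hc, e⟩
      refine ⟨_, conj_mem_cj g hc, e.imp (fun e => ?_) fun e => ?_⟩
      · rw [← e]; show _ = g * (g⁻¹ * k * g) * g⁻¹; group
      · rw [conj_mul, ← e]; show _ = g * (g⁻¹ * k * g) * g⁻¹; group
    · rintro ⟨c, hc, e⟩
      refine ⟨_, mem_cj.1 hc, e.imp (fun e => ?_) fun e => ?_⟩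
      · show g⁻¹ * k * g = _; rw [e]
      · show g⁻¹ * k * g = _; rw [e]; group
  · rw [← eK, ← cj_commutator]; exact conj_mem_cj g h.com
  · obtain ⟨e, he, l, e1, e2, e3⟩ := h.dec (g⁻¹ * x * g) (un (by simpa [mul_assoc] using hx))
    refine ⟨_, conj_mem_cj g he, g * l * g⁻¹, by rw [conj_mul, ← e1]; group, tr e2, e3.imp (fun e => ?_) fun e => ?_⟩
    · calc _ = g * (l * p * l⁻¹) * g⁻¹ := by group
        _ = _ := by rw [e]
    · calc _ = g * (l * p * l⁻¹) * g⁻¹ := by group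
        _ = _ := by rw [e]; group
  · rw [V0, V0, cj_sup, cj_closure, Cm, Cm, cj_inf, cj_centralizer_set, eH]

end Cfsg.Lib.JF
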