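import Cfsg.Agent.Lib.Block2.JU0
import Cfsg.Agent.Lib.Block2.JU2a
import Cfsg.Agent.Lib.Block2.JPk

/-! Aligning the pair `(z, p)` with the standard sextet. -/

set_option autoImplicit false
set_option maxRecDepth 100000

namespace Cfsg.Lib.JF

open Subgroup Cfsg.Lib.Amalg Cfsg.Lib.Core Cfsg.Lib.Known2 Cfsg.Lib.Golay Spor
open scoped Pointwise symmDiff

theorem u2F : pkF 0xa0c070d1505010b100212110e04160313061708000f1409 [0x0, 0x800007] = true := by decide +kernel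

theorem u2O : allL uO (fun u => band (band (band (band (inM24 u) (inM24 u)) (Nat.beq (mulN 24 u u) (idN 24)))
    (band (band (inM24 uP) (inM24 u)) (Nat.beq (mulN 24 uP u) (mulN 24 uP u))))
    (band (band (band (band (inM24 (mulN 24 uP u)) (inM24 (mulN 24 uP u)))
      (Nat.beq (mulN 24 (mulN 24 uP u) (mulN 24 uP u)) (invN 24 (mulN 24 uP u))))
      (band (band (inM24 (invN 24 (mulN 24 uP u))) (inM24 (mulN 24 uP u)))
      (Nat.beq (mulN 24 (invN 24 (mulN 24 uP u)) (mulN 24 uP u)) (idN 24))))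
      (isCw (Nat.xor (imgN 24 u 0x800007) 0x800007)))) = true := by decide +kernel

theorem u2B : ∀ r ∈ pkB, r = 0 ∨ ∃ g ∈ pkG, isCw (Nat.xor (imgT g r) r) = false := by decide +kernel

theorem u2ev : Even (om 0x800007).card := by rw [card_om]; decide +kernel

variable {G : Type*} [Group G] {V : Subgroup G} {D : Set G} {ε : Finset GolayPt → G}
  {θ : 𝐍 V →* Equiv.Perm GolayPt} {κ : M24 →* G}

theorem LK.u2al (L : LK D ε θ κ) {p : G} (hp : p ∈ 𝐍 V) (p3 : p ^ 3 = 1) (τ : M24) {k : Equiv.Perm GolayPt}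
    (hk : k ∈ M24) (e : θ ⟨p, hp⟩ = k * τ * k⁻¹) : ∃ g ∈ 𝐍 V, g * p * g⁻¹ = κ τ := by
  let n : 𝐍 V := ⟨κ ⟨k, hk⟩, L.mem _⟩
  have hn : θ (n⁻¹ * ⟨p, hp⟩ * n) = τ := by rw [map_mul, map_mul, map_inv, e, L.th]; group
  obtain ⟨σ, S, a, eu⟩ := L.dec (n⁻¹ * ⟨p, hp⟩ * n).2
  have hσ : σ = τ := Subtype.ext (by
    rw [← L.thm (L.T.emem a) σ (eu ▸ (n⁻¹ * ⟨p, hp⟩ * n).2)]
    exact (congrArg θ (Subtype.ext eu.symm)).trans hn)
  have P3 : (n⁻¹ * ⟨p, hp⟩ * n) ^ 3 = 1 := by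
    rw [show n⁻¹ * ⟨p, hp⟩ * n = n⁻¹ * ⟨p, hp⟩ * n⁻¹⁻¹ by rw [inv_inv], conj_pow,
      show (⟨p, hp⟩ : 𝐍 V) ^ 3 = 1 from Subtype.ext p3]; group
  have u3 : κ τ ^ 3 = 1 := by
    rw [← map_pow, show τ ^ 3 = 1 from Subtype.ext (by rw [coe_pow, ← hn, ← map_pow, P3, map_one]; rfl), map_one]
  have h3 : (ε S * κ τ) ^ 3 = 1 := by rw [← hσ, ← eu, ← coe_pow, P3]; rfl
  have vV := L.T.emem a
  have iv : (ε S)⁻¹ = ε S := inv_eq_of_mul_eq_one_right (L.T.sq vV)
  have iu : κ τ * κ τ = (κ τ)⁻¹ := eq_inv_of_mul_eq_one_left (by rw [← u3, pow_succ, pow_two])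
  rw [hσ] at eu
  change (n : G)⁻¹ * p * n = _ at eu
  refine ⟨κ τ * ε S * (κ τ)⁻¹ * (n : G)⁻¹, mul_mem (mul_mem (mul_mem (L.mem _) (le_normalizer vV)) (inv_mem (L.mem _)))
    (inv_mem n.2), ?_⟩
  have h4 : (κ τ * ε S) ^ 3 = 1 := by
    rw [show κ τ * ε S = κ τ * (ε S * κ τ) * (κ τ)⁻¹ by group, conj_pow, h3]; group
  calc _ = κ τ * (ε S * (κ τ)⁻¹ * ((n : G)⁻¹ * p * n) * κ τ * (ε S)⁻¹ * (κ τ)⁻¹) := by group
    _ = κ τ * (ε S * (κ τ)⁻¹ * ε S * (κ τ * κ τ) * (ε S)⁻¹ * (κ τ)⁻¹) := by rw [eu]; group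
    _ = κ τ * ((κ τ * ε S) ^ 3)⁻¹ := by
      rw [iu, pow_succ, pow_two]; simp only [mul_inv_rev, iv, mul_assoc]
    _ = _ := by rw [h4]; group

theorem LK.u2core [Finite G] (L : LK D ε θ κ) {E : Subgroup G}
    {φ : KK (ε (om 0x800007)) (κ (mm uP)) →* Equiv.Perm GolayPt} (h : JS E (ε (om 0x800007)) (κ (mm uP)) M22 φ)
    (hv : V0 E φ (gc.gen gA) = V) : AL ε θ κ E (κ (mm uP)) φ := by
  subst hv
  have T := L.T
  have k1 : ∀ u ∈ uO, inM24 u = true ∧ κ (mm u) ∈ E := fun u hu => by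
    have c := allL_iff.1 u2O u hu
    have c1 := (band_iff.1 (band_iff.1 c).1).1
    have c2 := (band_iff.1 (band_iff.1 c).1).2
    have c3 := (band_iff.1 (band_iff.1 (band_iff.1 c).2).1).1
    have c4 := (band_iff.1 (band_iff.1 (band_iff.1 c).2).1).2
    have c5 := (band_iff.1 (band_iff.1 c).2).2
    have iu : inM24 u = true := (band_iff.1 (band_iff.1 c1).1).1
    refine ⟨iu, ?_⟩
    have uu : κ (mm u) * κ (mm u) = 1 := by rw [← map_mul, mm_mul c1, mm_one, map_one]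
    have r3 : (κ (mm uP) * κ (mm u)) ^ 3 = 1 := by
      rw [← map_mul, ← map_pow, mm_mul c2, pow_succ, pow_two, mm_mul c3, mm_mul c4, mm_one, map_one]
    have uz : κ (mm u) * ε (om 0x800007) = ε (om 0x800007) * κ (mm u) := by
      rw [L.act _ u2ev, T.eq_of (by rw [Finset.card_smul_finset]; exact u2ev) u2ev (by
        rw [mm_smul iu, om, om, ← gc.ofMask_xor]; exact om_mem_cw c5)]
    have P3 := h.p3
    have pz := h.pz
    have p1 := h.p1
    have nm := h.ls.norm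
    have sq := h.es.sq_mem
    have zz := h.es.sq
    have dec := h.dec
    generalize κ (mm uP) = P at *
    generalize κ (mm u) = U at *
    generalize ε (om 0x800007) = z at *
    have pz' : P⁻¹ * z = z * P⁻¹ := (show Commute P z from pz).inv_left
    have iU : U⁻¹ = U := inv_eq_of_mul_eq_one_right uu
    have iP : P⁻¹ = P * P := inv_eq_of_mul_eq_one_right (by rw [← P3, pow_succ', pow_two])
    have y : P * U * P⁻¹ * P * (P * U * P⁻¹)⁻¹ = U * P := by
      calc _ = P * U * P * U⁻¹ * P⁻¹ := by group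
        _ = (P * U) ^ 3 * U⁻¹ * (P⁻¹ * P⁻¹) := by rw [iU, pow_succ, pow_two]; nth_rw 5 [← iU]; group
        _ = _ := by
          rw [r3, iU, one_mul, iP]
          calc _ = U * P ^ 3 * P := by simp only [pow_succ, pow_zero, one_mul, mul_assoc]
            _ = _ := by rw [P3, mul_one]
    obtain ⟨e, he, l, e1, -, e2 | e2⟩ := dec (P * U * P⁻¹)
      (((show Commute P z from pz).mul_left (show Commute U z from uz)).mul_left (show Commute P⁻¹ z from pz'))
    · have : U = e * (P * e⁻¹ * P⁻¹) := by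
        rw [e1] at y
        calc U = U * P * P⁻¹ := by group
          _ = e * (l * P * l⁻¹) * e⁻¹ * P⁻¹ := by rw [← y]; group
          _ = _ := by rw [e2]; group
      rw [this]
      exact mul_mem he (nm P pz _ (inv_mem he))
    · exfalso
      have x : U * P⁻¹ = e * (P⁻¹ * e⁻¹ * P⁻¹⁻¹) := by
        rw [e1] at y
        calc U * P⁻¹ = U * P * P := by rw [iP]; group
          _ = e * (l * P * l⁻¹) * e⁻¹ * P := by rw [← y]; group
          _ = _ := by rw [e2]; group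
      have xE : U * P⁻¹ ∈ E := x ▸ mul_mem he (nm P⁻¹ pz' _ (inv_mem he))
      have x3 : (U * P⁻¹) ^ 3 = 1 := by rw [← iU, ← mul_inv_rev, inv_pow, r3, inv_one]
      have x4 : (U * P⁻¹) ^ 4 = 1 := by
        rw [show (U * P⁻¹) ^ 4 = (U * P⁻¹ * (U * P⁻¹)) * (U * P⁻¹ * (U * P⁻¹)) by
          simp only [pow_succ, pow_zero, one_mul, mul_assoc]]
        rcases sq _ xE with a | a <;> rw [a]
        exacts [mul_one _, zz]
      rw [pow_succ, x3, one_mul, mul_inv_eq_one] at x4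
      rw [x4] at uu
      exact p1 (inv_eq_one.1 (iP.trans uu))
  have k2 : gc.gen uO ≤ (E.comap κ).map M24.subtype := Coding.gen_le fun g hg =>
    ⟨(inH_of_inM24 (k1 g hg).1).1, _, (k1 g hg).2, mm_val (k1 g hg).1⟩
  have kO : ∀ u : M24, u.1 ∈ gc.gen uO → κ u ∈ E := fun u hu => by
    obtain ⟨l, hl, e⟩ := k2 hu
    rwa [← show l = u from Subtype.ext e]
  have cB : Nat.card ((E.subgroupOf (𝐍 (V0 E φ (gc.gen gA)))).map θ) = 64 := by
    have c := card_map_mul_card_inf_ker θ (E.subgroupOf (𝐍 (V0 E φ (gc.gen gA))))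
    rw [Nat.card_congr (subgroupOfEquivOfLe (h.EN mf)).toEquiv, h.card, ← card_map_subtype (θ.ker ⊓ _),
      show (θ.ker ⊓ E.subgroupOf (𝐍 (V0 E φ (gc.gen gA)))).map (𝐍 (V0 E φ (gc.gen gA))).subtype =
        Cm E φ (gc.gen gA) from
        le_antisymm (by rintro _ ⟨k, hk, rfl⟩; exact h.VE mf ((T.ker k).1 hk.1) hk.2) fun u hu =>
          ⟨⟨u, h.EN mf hu.1⟩, ⟨(T.ker _).2 (mem_sup_left hu), hu.1⟩, rfl⟩, h.cardU mf] at c
    omega
  have eB : gc.gen uO = (E.subgroupOf (𝐍 (V0 E φ (gc.gen gA)))).map θ := eq_of_le_of_card_ge (fun σ hσ => by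
      obtain ⟨l, hl, rfl⟩ := k2 hσ
      exact ⟨⟨κ l, L.mem l⟩, hl, L.th l⟩) (by
    rw [cB, Coding.card_gen (fun g hg => (inH_of_inM24 (k1 g hg).1).1) (M := 61) (d := 6) (a := 2) (n := 64)
      (by decide +kernel)])
  exact ⟨h, Or.inl rfl, h.EN mf, fun e he => eB.ge ⟨e, he, rfl⟩, kO, rfl⟩

theorem LK.exists_AL [Finite G] {E : Subgroup G} {z p : G} {φ : KK z p →* Equiv.Perm GolayPt} {q : Equiv.Perm GolayPt}
    {θ : 𝐍 (V0 E φ (gc.gen gA)) →* Equiv.Perm GolayPt} (A : AllD E z p φ q)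
    (L : LK (DD (V0 E φ (gc.gen gA)) z) ε θ κ) : ∃ E' p' φ', AL ε θ κ E' p' φ' := by
  have : Fact (Nat.Prime 3) := ⟨Nat.prime_three⟩
  have h := A.js
  have T := L.T
  have hp := h.pN mf
  have o : orderOf (θ ⟨p, hp⟩) = 3 := orderOf_eq_prime
    (by rw [← map_pow, show (⟨p, hp⟩ : 𝐍 (V0 E φ (gc.gen gA))) ^ 3 = 1 from Subtype.ext h.p3, map_one]) fun e => by
      have a : p * p = 1 := T.sq ((T.ker _).1 e)
      have b := h.p3
      rw [pow_succ, pow_two, a, one_mul] at b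
      exact h.p1 b
  have key : ∀ {g : G} {τ : M24}, g * p * g⁻¹ = κ τ → ∀ c : M24, c * τ = τ * c →
      κ c * (g * z * g⁻¹) = g * z * g⁻¹ * κ c := fun {g τ} e c hc => by
    have a : g⁻¹ * κ c * g * p = p * (g⁻¹ * κ c * g) := by
      calc _ = g⁻¹ * (κ c * (g * p * g⁻¹)) * g := by group
        _ = g⁻¹ * ((g * p * g⁻¹) * κ c) * g := by rw [e, ← map_mul, hc, map_mul]
        _ = _ := by group
    have b := mem_centralizer_singleton_iff.1 (A.s5563.2.2.2.2
      (centralizer_le_normalizer _ (mem_cent_zpowers.2 a)))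
    calc _ = g * (g⁻¹ * κ c * g * z) * g⁻¹ := by group
      _ = _ := by rw [b]; group
  have zV : ∀ g ∈ 𝐍 (V0 E φ (gc.gen gA)), g * z * g⁻¹ ∈ V0 E φ (gc.gen gA) := fun g hg =>
    (mem_normalizer_iff.1 hg z).1 h.zV
  have z0 : ∀ g : G, g * z * g⁻¹ ≠ ε (om 0) := fun g e => by
    rw [(T.one _ (by rw [card_om]; decide +kernel)).2 (om_mem_cw (by decide +kernel))] at e
    exact h.es.ne (by simpa using e)
  rcases M24_three (T.mM _) o with ⟨k, hk, e⟩ | ⟨k, hk, e⟩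
  · have e1 : mm 0x120b0810030a13040211160c070515060e140d09010f17 * mm z3A =
        mm uP * mm 0x120b0810030a13040211160c070515060e140d09010f17 :=
      (mm_mul (c := mulN 24 uP 0x120b0810030a13040211160c070515060e140d09010f17) (by decide +kernel)).trans
        (mm_mul (by decide +kernel)).symm
    generalize mm 0x120b0810030a13040211160c070515060e140d09010f17 = c at e1
    obtain ⟨g, hg, eg⟩ := L.u2al hp h.p3 (mm uP) (mul_mem hk (inv_mem c.2)) (by
      rw [e, ← mm_val (n := z3A) (by decide +kernel), show mm z3A = c⁻¹ * mm uP * c by rw [mul_assoc, ← e1]; group]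
      simp only [coe_mul, coe_inv]; group)
    obtain ⟨r, hr, er⟩ := T.pkFix (inH_of_inM24 (by decide +kernel)).1 u2F ⟨_, L.mem (mm _)⟩
      ((L.th _).trans (mm_val (by decide +kernel))) (zV g hg) (key eg _
        ((mm_mul (c := mulN 24 uP 0xa0c070d1505010b100212110e04160313061708000f1409) (by decide +kernel)).trans
          (mm_mul (by decide +kernel)).symm))
    simp only [List.mem_cons, List.not_mem_nil, or_false] at hr
    rcases hr with rfl | rfl
    · exact (z0 g er).elim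
    obtain ⟨φ', a, b⟩ := h.u2cj g er eg
    exact ⟨_, _, φ', L.u2core a (b.trans (cj_of_mem_normalizer hg))⟩
  · exfalso
    obtain ⟨g, hg, eg⟩ := L.u2al hp h.p3 ⟨_, inH_z3B.2⟩ hk e
    obtain ⟨r, hr, er⟩ := T.pkFix inH_z3B.1 pkFB ⟨_, L.mem ⟨_, inH_z3B.2⟩⟩ (L.th _) (zV g hg) (key eg _ rfl)
    rcases u2B r hr with rfl | ⟨c, hc, n⟩
    · exact z0 g er
    have i := pkIn c hc
    have ev : Even (om r).card := by
      rw [card_om]; clear * - hr; revert r; decide +kernel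
    have a := key eg ⟨_, i.2.1⟩ (Subtype.ext (mem_centralizer_singleton_iff.1 i.2.2))
    rw [er, L.act _ ev, mul_left_inj] at a
    have b := T.cw_of (by rw [Finset.card_smul_finset]; exact ev) ev a
    change (gc.dec c • om r) ∆ om r ∈ cw at b
    rw [i.1.smul_om, om, om, ← gc.ofMask_xor] at b
    have lt : r < 2 ^ 24 := by clear * - hr; revert r; decide +kernel
    have := (om_mem_cw_iff (Nat.xor_lt_two_pow (i.1.imgT_lt r) lt)).1 b
    exact absurd (n.symm.trans this) (by decide)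

end Cfsg.Lib.JF

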