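import Cfsg.Agent.Lib.Block2.JU0
import Cfsg.Agent.Lib.Block2.JH3
import Cfsg.Agent.Lib.Golay.Hash

/-! Groups of type `J₄`: a lift of `uY` centralises `t`. -/

set_option autoImplicit false
set_option maxRecDepth 100000

namespace Cfsg.Lib.JF

open Subgroup Cfsg.Lib.Amalg Cfsg.Lib.Core Cfsg.Lib.Known2 Cfsg.Lib.Golay Spor
open scoped Pointwise symmDiff

variable {G : Type*} [Group G] {E : Subgroup G} {z p : G} {φ : KK z p →* Equiv.Perm GolayPt} {q : Equiv.Perm GolayPt}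
  {ε : Finset GolayPt → G} {θ : 𝐍 (V0 E φ (gc.gen gA)) →* Equiv.Perm GolayPt} {κ : M24 →* G} {t : G}

theorem u4_val : ∀ g ∈ uO, gc.Valid g := valid_of_allL (by decide +kernel)

theorem u4_card : Nat.card (gc.gen uO) = 64 :=
  Coding.card_gen u4_val (M := 1021) (d := 10) (a := 7) (n := 64) (by decide +kernel)

theorem u4_ev {m : ℕ} (h : Nat.beq (pop24 m % 2) 0 = true) : Even (om m).card := by
  rw [card_om, Nat.even_iff]; exact beq_iff.1 h

theorem LK.u4_com {V : Subgroup G} {D : Set G} {θ : 𝐍 V →* Equiv.Perm GolayPt} (L : LK D ε θ κ) {n m : ℕ}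
    (h : band (band (inM24 n) (Nat.beq (pop24 m % 2) 0)) (isCw (Nat.xor (imgN 24 n m) m)) = true) :
    κ (mm n) * ε (om m) = ε (om m) * κ (mm n) := by
  simp only [band_eq, Bool.and_eq_true] at h
  have e := u4_ev h.1.2
  rw [L.act _ e, L.T.eq_of (by rwa [Finset.card_smul_finset]) e]
  rw [mm_smul h.1.1, ← gc.ofMask_xor]
  exact om_mem_cw h.2

theorem TA.u4_t2 (h : TA E z p φ q ε θ κ t) : t * t = 1 := by
  obtain ⟨g, rfl, -⟩ := h.cg
  rw [conj_mul, h.A.js.es.sq]; group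

theorem TA.u4_L (h : TA E z p φ q ε θ κ t) {E' : Subgroup G} {p' : G}
    {φ' : KK (ε (om 0x800007)) p' →* Equiv.Perm GolayPt} (al : AL ε θ κ E' p' φ') : ∃ m, JF.L φ' t m ∧ m ≠ 1 := by
  have a := h.cN _ (Or.inl (h.L.u4_com (n := uS) (m := 0x800007) (by decide +kernel)).symm)
  have b := h.cN (κ (mm uP)) (Or.inl (by
    rw [← map_mul, ← map_mul, mm_mul (c := mulN 24 uP uS) (by decide +kernel), mm_mul (c := mulN 24 uP uS) (by decide +kernel)]))
  obtain ⟨m, l⟩ := al.js.tot (k := t) (mem_KK.2 ⟨a.symm, by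
    rcases al.pp with rfl | rfl
    exacts [b.symm, (show Commute _ _ from b.symm).inv_right]⟩)
  refine ⟨m, l, ?_⟩
  rintro rfl
  rcases al.js.ker_two l h.u4_t2 with e | e <;> refine h.nN (e ▸ ?_)
  exacts [one_mem _, le_normalizer (h.L.T.emem (u4_ev (by decide +kernel)))]

theorem TA.cov [Finite G] (h : TA E z p φ q ε θ κ t) {E' : Subgroup G} {p' : G}
    {φ' : KK (ε (om 0x800007)) p' →* Equiv.Perm GolayPt} (al : AL ε θ κ E' p' φ')
    (cV : ∀ S : Finset GolayPt, Even S.card → (t * ε S = ε S * t ↔ ∃ r ∈ uZ, S ∆ om r ∈ cw)) :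
    ∃ v ∈ V0 E φ (gc.gen gA), v * κ (mm uY) * t = t * (v * κ (mm uY)) := by
  classical
  obtain ⟨m, l, m1⟩ := h.u4_L al
  have c9 : Nat.card ↥(E' ⊓ centralizer {t}) = 2 ^ 9 := by
    rw [← al.js.Cm_one l h.u4_t2, ← al.js.c9 mf]
    obtain ⟨c, hc, rfl⟩ := mf.cls m (al.js.mem l) m1 ((l.mul l).uniq (h.u4_t2 ▸ JF.L.one))
    obtain ⟨d, ld⟩ := al.js.ex hc
    rw [← al.js.cj_Cm (B := {gc.dec u1}) ld (fun y => by
      simp only [Set.mem_singleton_iff]
      exact ⟨fun e => by rw [e]; group, fun e => by rw [← e]; group⟩), card_cj]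
  obtain ⟨B, c, hB⟩ := h.L.T.img (X := E' ⊓ centralizer {t}) (Z := V0 E φ (gc.gen gA) ⊓ centralizer {t})
    (inf_le_left.trans al.le) fun x hx => ⟨hx.2, hx.1.2⟩
  have c1 : Nat.card ↥(V0 E φ (gc.gen gA) ⊓ centralizer {t}) ≤ uZ.length := by
    refine (Set.ncard_le_ncard (t := (fun j => ε (om j)) '' (uZ.toFinset : Finset ℕ)) ?_).trans
      ((Set.ncard_image_le (Finset.finite_toSet _)).trans ((Set.ncard_coe_finset _).le.trans (List.toFinset_card_le _)))
    rintro v ⟨hv, c⟩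
    obtain ⟨S, hS, rfl⟩ := (h.L.T.mem v).1 hv
    obtain ⟨r, hr, k⟩ := (cV S hS).1 (mem_cent_single.1 c).symm
    exact ⟨r, List.mem_toFinset.2 hr, (h.L.T.eq_of hS (u4_ev (allL_iff.1 (by decide +kernel :
      allL uZ (fun m => Nat.beq (pop24 m % 2) 0) = true) r hr)) k).symm⟩
  have e : B = gc.gen uO := eq_of_le_of_card_ge (fun b hb => by
    obtain ⟨x, a, rfl⟩ := hB b hb
    exact al.th x a.1) (by
      rw [u4_card]; rw [c9] at c
      have := c.trans (Nat.mul_le_mul_right _ c1)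
      change _ ≤ 8 * _ at this
      omega)
  obtain ⟨x, a, b⟩ := hB _ (e.ge (Coding.inH_gen u4_val uY (by simp [uO, uY])).2)
  obtain ⟨σ, S, hS, e1⟩ := h.L.dec x.2
  have : σ = mm uY := Subtype.ext (by
    rw [mm_val (by decide +kernel), ← b, ← h.L.thm (h.L.T.emem hS) σ (e1 ▸ x.2)]
    congr 1; exact Subtype.ext e1.symm)
  subst this
  exact ⟨_, h.L.T.emem hS, e1 ▸ mem_cent_single.1 a.2⟩

end Cfsg.Lib.JF
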