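import Cfsg.Agent.Lib.Block2.JU3
import Cfsg.Agent.Lib.Block2.JU4

/-! The action of `t` on a duad inside an octad of the trio. -/

set_option autoImplicit false
set_option maxRecDepth 100000

namespace Cfsg.Lib.JF

open Subgroup Cfsg.Lib.Amalg Cfsg.Lib.Core Cfsg.Lib.Known2 Cfsg.Lib.Golay Spor
open scoped Pointwise symmDiff

def f3a : ℕ := 0xe071614060c03101205130f080b090a150d170402110100
def f3b : ℕ := 0xe13060f0d1417100c02071209080a0b1615050403110001
def f3c : ℕ := 0x2090b040c13110f160e1406070d10150812050a03170001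
def f3d : ℕ := 0xe151012070a050d0903060c0f140b081304171602110001
def f3e : ℕ := 0x170d0609070b11040a0e1608120f140c1315051003020100

theorem f3chk : allN 4096 (fun j => bimp (band (Nat.beq (pop24 (4096 * j) % 2) 0)
    (band (isCw (4096 * j ^^^ imgN 24 f3c (4096 * j))) (isCw (4096 * j ^^^ imgN 24 f3d (4096 * j)))))
    (bor (isCw (4096 * j)) (isCw (4096 * j ^^^ 3)))) = true := by decide +kernel

variable {G : Type*} [Group G] {V : Subgroup G} {D : Set G} {ε : Finset GolayPt → G}
  {θ : 𝐍 V →* Equiv.Perm GolayPt} {κ : M24 →* G} {t : G}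

theorem LK.f3_of (L : LK D ε θ κ) (t2 : t * t = 1) (cT : ∀ k : M24, (k : Equiv.Perm GolayPt) ∈ HT3 → κ k * t = t * κ k)
    (nc : t * ε (om 3) ≠ ε (om 3) * t) (m : t * ε (om 3) * t ∈ 𝐍 V) : t * ε (om 3) * t = ε (om 3) * κ (mm f3e) := by
  have T := L.T
  have ev3 : Even (om 3).card := u4_ev (by decide +kernel)
  obtain ⟨σ, S, hS, e⟩ := L.dec m
  have eq : ∀ s : M24, s.1 ∈ HT3 → s.1 • om 3 = om 3 → s * σ = σ * s ∧ S ∆ (s.1 • S) ∈ cw := fun s h1 h2 => by
    have a : κ s * (ε S * κ σ) = ε S * κ σ * κ s := by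
      rw [← e, ← mul_assoc, ← mul_assoc, cT s h1, mul_assoc t, L.act s ev3, h2, mul_assoc, mul_assoc, cT s h1]
      simp only [mul_assoc]
    rw [← mul_assoc, L.act s hS, mul_assoc, mul_assoc, ← map_mul, ← map_mul] at a
    have ev : Even (s.1 • S).card := by rwa [Finset.card_smul_finset]
    have := L.uq (T.emem ev) (T.emem hS) a
    exact ⟨this.1, T.cw_of hS ev this.2.symm⟩
  have eq' : ∀ n, band (band (inM24 n) (Nat.beq (famAct 3 n 0x82402f6920d0149f00) 0x82402f6920d0149f00))
      (Nat.beq (imgN 24 n 3) 3) = true → gc.dec n * σ.1 = σ.1 * gc.dec n ∧ S ∆ (gc.dec n • S) ∈ cw := fun n h => by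
    have h1 := band_iff.1 h
    have h2 := (band_iff.1 h1.1).1
    have := eq (mm n) (mm_T h1.1) (by rw [mm_smul h2, beq_iff.1 h1.2])
    rw [← mm_val h2]
    exact ⟨congrArg Subtype.val this.1, this.2⟩
  have ve : gc.InH M24 f3e := inH_of_inM24 (by decide +kernel)
  have cE : ∀ q ∈ E16, q * σ.1 = σ.1 * q := fun q hq => by
    rw [← gen_gE16] at hq
    exact mem_centralizer_singleton_iff.1 (Coding.gen_le (H := centralizer {σ.1}) (fun g hg => ⟨(inH_gE16 g hg).1,
      mem_centralizer_singleton_iff.2 (eq' g ((by decide +kernel : ∀ g ∈ gE16, band (band (inM24 g)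
        (Nat.beq (famAct 3 g 0x82402f6920d0149f00) 0x82402f6920d0149f00)) (Nat.beq (imgN 24 g 3) 3) = true) g hg)).1⟩) hq)
  have eE : gc.dec f3e ∈ E16 := mem_E16.2 ⟨ve.2, fun p hp => by
    obtain ⟨i, hi, rfl⟩ := gc.exists_pt p
    rw [ve.1.dec_pt hi, (by decide +kernel : ∀ i < 24, tb 0x82402f i = true → app f3e i = i) i hi ((pt_mem_om hi).1 hp)]⟩
  have one : ∀ τ ∈ M24, (∀ q ∈ E16, q * τ = τ * q) → τ (gc.pt 4) = gc.pt 4 → τ = 1 := fun τ h1 h2 h3 => by
    have fx : ∀ p ∉ om 0x82402f, τ p = p := fun p hp => by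
      obtain ⟨r, hr, rfl⟩ := exists_E16 pt4_not_mem hp
      rw [← Equiv.Perm.mul_apply, ← h2 r hr, Equiv.Perm.mul_apply, h3]
    refine eq_one_of_fix_off ⟨h1, Finset.eq_of_subset_of_card_le (fun p hp => ?_) (Finset.card_smul_finset _ _).ge⟩ fx
    obtain ⟨y, hy, rfl⟩ := Finset.mem_smul_finset.1 hp
    by_contra n
    have : τ y = y := τ.injective (fx _ n)
    exact n (by rw [Equiv.Perm.smul_def, this]; exact hy)
  have hσ : σ = 1 ∨ σ = mm f3e := by
    obtain ⟨j, hj, e4⟩ := gc.exists_pt (σ.1 (gc.pt 4))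
    have k : ∀ {a}, gc.Valid a → gc.dec a * σ.1 = σ.1 * gc.dec a → σ.1 (gc.pt (app a 4)) = gc.pt (app a j) := fun {a} ha ca => by
      have := congrArg (· (gc.pt 4)) ca
      simp only [Equiv.Perm.mul_apply] at this
      rw [ha.dec_pt (show 4 < gc.n by decide), ← e4, ha.dec_pt hj] at this
      exact this.symm
    have pi : ∀ {a b}, a < 24 → b < 24 → gc.pt a = gc.pt b → a = b := fun {a b} ha hb e => by
      have h2 := congrArg gc.idx e
      rwa [gc.idx_pt _ ha, gc.idx_pt _ hb] at h2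
    have va : gc.Valid f3a := (inH_of_inM24 (by decide +kernel)).1
    have vb : gc.Valid f3b := (inH_of_inM24 (by decide +kernel)).1
    have k1 := k va (eq' _ (by decide +kernel)).1
    have k2 := k vb (eq' _ (by decide +kernel)).1
    have k3 := k ve.1 (cE _ eE)
    rw [show app f3a 4 = 4 by decide +kernel, ← e4] at k1
    rw [show app f3b 4 = 4 by decide +kernel, ← e4] at k2
    have k4 : app f3e j ≠ j := fun c => by
      rw [c, e4] at k3
      exact absurd (pi (by decide +kernel) (by decide) (σ.1.injective k3)) (by decide +kernel)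
    rcases (by decide +kernel : ∀ j < 24, j = app f3a j → j = app f3b j → app f3e j ≠ j → j = 4 ∨ j = 16) j hj
      (pi hj (va.app_lt hj) k1) (pi hj (vb.app_lt hj) k2) k4 with rfl | rfl
    · exact .inl (Subtype.ext (one _ σ.2 cE e4.symm))
    · refine .inr (Subtype.ext ?_)
      rw [mm_val (by decide +kernel)]
      refine (inv_mul_eq_one.1 (one _ (mul_mem (inv_mem ve.2) σ.2) (fun q hq => ?_) ?_)).symm
      · rw [← mul_assoc, E16_comm hq (inv_mem eE), mul_assoc, cE q hq, mul_assoc]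
      · rw [Equiv.Perm.mul_apply, Equiv.Perm.inv_eq_iff_eq, ← e4, ve.1.dec_pt (show 4 < gc.n by decide)]
        exact congrArg gc.pt (by decide +kernel)
  have hS' : ε S = 1 ∨ ε S = ε (om 3) := by
    obtain ⟨j, hj, r⟩ := exists_rep S
    have r' : S ∆ om (4096 * j) ∈ cw := symmDiff_comm S _ ▸ r
    have ev := u3ev r' hS
    have tr : ∀ n, band (band (inM24 n) (Nat.beq (famAct 3 n 0x82402f6920d0149f00) 0x82402f6920d0149f00))
        (Nat.beq (imgN 24 n 3) 3) = true → isCw (4096 * j ^^^ imgN 24 n (4096 * j)) = true := fun n h => by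
      have i := inH_of_inM24 (band_iff.1 (band_iff.1 h).1).1
      have a := symmDiff_mem_cw (symmDiff_mem_cw r (eq' n h).2) ((smul_mem_cw_iff i.2).2 r')
      rw [smul_symmDiff, symmDiff_assoc (om _), symmDiff_symmDiff_cancel_left, symmDiff_assoc,
        symmDiff_symmDiff_cancel_left, i.1.smul_ofMask, ← u3xor] at a
      exact (om_mem_cw_iff (Nat.xor_lt_two_pow (n := 24) (by omega) (i.1.imgT _ ▸ i.1.imgT_lt _))).1 a
    rw [T.eq_of hS ev r']
    rcases bor_iff.1 (bimp_iff.1 (allN_iff.1 f3chk j hj) (band_iff.2 ⟨by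
      rw [card_om, Nat.even_iff] at ev; exact beq_iff.2 ev, band_iff.2 ⟨tr _ (by decide +kernel), tr _ (by decide +kernel)⟩⟩)) with k | k
    · exact .inl ((T.one _ ev).2 (om_mem_cw k))
    · exact .inr (T.eq_of ev ev3 (u3xor _ _ ▸ om_mem_cw k))
  have cs : κ σ * t = t * κ σ := by
    rcases hσ with rfl | rfl
    · simp
    · exact cT _ (mm_T (by decide +kernel))
  rcases hS' with h | h
  · exfalso
    rw [h, one_mul] at e
    have : ε (om 3) = κ σ := by
      calc _ = t * (t * ε (om 3) * t) * t := by rw [← mul_assoc, ← mul_assoc, t2, one_mul, mul_assoc, t2, mul_one]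
        _ = _ := by rw [e, ← cs, mul_assoc, t2, mul_one]
    exact nc (by rw [this, cs])
  rw [h] at e
  rcases hσ with rfl | rfl
  · rw [map_one, mul_one] at e
    exact absurd (by
      calc _ = t * ε (om 3) * t * t := by rw [mul_assoc _ t t, t2, mul_one]
        _ = _ := by rw [e]) nc
  · exact e

theorem TS.duadF [Finite G] {E : Subgroup G} {z p : G} {φ : KK z p →* Equiv.Perm GolayPt} {q : Equiv.Perm GolayPt}
    {θ : 𝐍 (V0 E φ (gc.gen gA)) →* Equiv.Perm GolayPt} (h : TS E z p φ q ε θ κ t) {E' : Subgroup G} {p' : G}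
    {φ' : KK (ε (om 0x800007)) p' →* Equiv.Perm GolayPt} (al : AL ε θ κ E' p' φ') :
    t * ε (om 3) * t = ε (om 3) * κ (mm f3e) := by
  have T := h.L.T
  have ev3 : Even (om 3).card := u4_ev (by decide +kernel)
  have ev9 : Even (om 9).card := u4_ev (by decide +kernel)
  have evz : Even (om 0x800007).card := u4_ev (by decide +kernel)
  have t2 := h.toTA.u4_t2
  refine h.L.f3_of t2 h.cen (fun c => ?_) (al.le ?_)
  · obtain ⟨r, hr, e⟩ := (h.cV _ ev3).1 c
    rw [← u3xor] at e
    have k : ∀ r ∈ uZ, 3 ^^^ r < 2 ^ 24 ∧ isCw (3 ^^^ r) = false := by decide +kernel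
    rw [om_mem_cw_iff (k r hr).1, (k r hr).2] at e
    exact Bool.false_ne_true e
  have uQ : (mm 0x216060a07081110090e0d0b0c140f121315050403170001).1 ∈ gc.gen uO := by
    rw [mm_val (by decide +kernel), show 0x216060a07081110090e0d0b0c140f121315050403170001 = wordN 24 uO [0, 1, 2, 5] by decide +kernel]
    exact (Coding.inH_wordN (Coding.inH_gen u4_val) _).2
  have k := al.kO _ uQ
  have w : ε (om 3) ∈ E' := by
    have a := mul_mem (al.js.ls.norm (ε (om 9)) (T.comm (T.emem ev9) (T.emem evz)) _ k) (inv_mem k)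
    rw [inv_eq_of_mul_eq_one_right (T.esq _), mul_assoc (ε _), h.L.act _ ev9, mul_assoc, mul_inv_cancel_right, ← T.mul,
      mm_smul (by decide +kernel), ← u3xor, T.eq_of (T := om 3) (u4_ev (by decide +kernel)) ev3
        (u3xor _ _ ▸ om_mem_cw (by decide +kernel))] at a
    exact a
  have tz : t * ε (om 0x800007) = ε (om 0x800007) * t :=
    (h.cN _ (Or.inl (h.L.u4_com (n := uS) (m := 0x800007) (by decide +kernel)).symm)).symm
  have := al.js.ls.norm t tz _ w
  rwa [inv_eq_of_mul_eq_one_right t2] at this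

end Cfsg.Lib.JF
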