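import Cfsg.Agent.Lib.Block2.JU0

/-! Twisting the complement so that the involution centralises the trio group. -/

set_option autoImplicit false
set_option maxRecDepth 100000

namespace Cfsg.Lib.JF

open Subgroup Cfsg.Lib.Amalg Cfsg.Lib.Core Cfsg.Lib.Known2 Cfsg.Lib.Golay Spor
open scoped Pointwise symmDiff

/-- in the class of `uZ`. -/
noncomputable def u5z (m : ℕ) : Bool := uZ.any fun r => isCw (m ^^^ r)
/-- centralises `uS` and `uY`. -/
def u5a : ℕ := 0x20d1508130b1106121707140f0a090c16040510000e0301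
/-- inverts `uS`, centralises `uY`. -/
def u5b : ℕ := 0x70e170b001404110c0d05090a12080f0201160310151306

theorem u5_tab : allN 4096 (fun j => !(u5z (4096 * j ^^^ imgT u5a (4096 * j))) || !(u5z (4096 * j ^^^ imgT u5b (4096 * j))) ||
    !(pop24 (4096 * j) % 2 == 0) || u5z (4096 * j) || u5z (4096 * j ^^^ 0x40c8)) = true := by decide +kernel

theorem u5_z {m : ℕ} (hm : m < 2 ^ 24) : (∃ r ∈ uZ, om m ∆ om r ∈ cw) ↔ u5z m = true := by
  rw [u5z, List.any_eq_true]
  refine exists_congr fun r => and_congr_right fun hr => ?_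
  rw [← gc.ofMask_xor]
  exact om_mem_cw_iff (Nat.xor_lt_two_pow hm (by revert r; decide))

theorem u5_even {S T : Finset GolayPt} (h : S ∆ T ∈ cw) : Even S.card ↔ Even T.card := by
  have a := card_symmDiff_add S T
  have b := card_cw h
  rw [Nat.even_iff, Nat.even_iff]
  omega

theorem u5_in : ∀ g ∈ uN ++ [uY], gc.InH HT3 g :=
  inH_inf_fam (inH_of_allL (by decide +kernel)) 3 _ T0_spec.1 (by decide +kernel)

theorem u5_gen : gc.gen (uN ++ [uY]) = HT3 :=
  Coding.gen_eq_of_chain [(0, 24, [[1, 0, 0, 0, 1, 2], [1, 0, 0, 0, 1, 2, 0]]), (4, 16, [[1, 1, 0, 1, 1, 0, 1], [0, 0, 0, 0, 1]]),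
    (8, 8, [[1, 0, 0, 0], [1, 0, 1, 0, 1, 1, 0]]), (1, 7, [[0, 1, 0, 1, 1], [1, 0, 0, 1, 0, 0, 0, 0, 0]]), (2, 3, [])]
    u5_in (by decide +kernel) (le_of_eq card_HT3)

variable {G : Type*} [Group G]

theorem u5_cen {κ : M24 →* G} {t : G} (h : ∀ n ∈ uN ++ [uY], κ (mm n) * t = t * κ (mm n)) (m : M24) (hm : m.1 ∈ HT3) :
    κ m * t = t * κ m := by
  have : gc.gen (uN ++ [uY]) ≤ ((centralizer {t}).comap κ).map M24.subtype := Coding.gen_le fun g hg =>
    ⟨(u5_in g hg).1, mm g, mem_cent_single.2 (h g hg), mm_val (by revert g; decide +kernel)⟩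
  obtain ⟨k, hk, e⟩ := this (u5_gen ▸ hm)
  rw [← show k = m from Subtype.ext e]
  exact mem_cent_single.1 hk

variable {E : Subgroup G} {z p : G} {φ : KK z p →* Equiv.Perm GolayPt} {q : Equiv.Perm GolayPt}
  {ε : Finset GolayPt → G} {θ : 𝐍 (V0 E φ (gc.gen gA)) →* Equiv.Perm GolayPt} {κ : M24 →* G} {t : G}

theorem TA.twist [Finite G] (h : TA E z p φ q ε θ κ t)
    (cV : ∀ S : Finset GolayPt, Even S.card → (t * ε S = ε S * t ↔ ∃ r ∈ uZ, S ∆ om r ∈ cw))
    (cov : ∃ v ∈ V0 E φ (gc.gen gA), v * κ (mm uY) * t = t * (v * κ (mm uY))) : ∃ κ', TS E z p φ q ε θ κ' t := by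
  have L := h.L
  have T := L.T
  obtain ⟨v, hv, c⟩ := cov
  obtain ⟨S, hS, rfl⟩ := (T.mem v).1 hv
  obtain ⟨j, hj, e⟩ := exists_rep S
  have ev := (u5_even e).2 hS
  rw [← T.eq_of ev hS e] at c
  have lt : 4096 * j < 2 ^ 24 := by omega
  have evs : ∀ (n : M24) {R : Finset GolayPt}, Even R.card → Even (n.1 • R).card := fun n R a => by
    rwa [Finset.card_smul_finset]
  have cz : ∀ {m}, m < 2 ^ 24 → Even (om m).card → (Commute t (ε (om m)) ↔ u5z m = true) := fun a b =>
    (cV _ b).trans (u5_z a)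
  have st : ∀ n, inM24 n = true → κ (mm n) * t = t * κ (mm n) → mm n * mm uY = mm uY * mm n →
      u5z (4096 * j ^^^ imgT n (4096 * j)) = true := fun n a b d => by
    have s : (mm n).1 • om (4096 * j) = om (imgT n (4096 * j)) := by rw [mm_val a, (inH_of_inM24 a).1.smul_om]
    have x : om (4096 * j ^^^ imgT n (4096 * j)) = om (4096 * j) ∆ ((mm n).1 • om (4096 * j)) := by
      rw [s]; exact gc.ofMask_xor _ _
    refine (cz (Nat.xor_lt_two_pow lt ((inH_of_inM24 a).1.imgT_lt _)) (x ▸ even_sd ev (evs _ ev))).1 ?_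
    have c1 : Commute t (ε (om (4096 * j)) * κ (mm uY)) := c.symm
    have c2 := ((show Commute t (κ (mm n)) from b.symm).mul_right c1).mul_right (show Commute t (κ (mm n)) from b.symm).inv_right
    rw [← mul_assoc, L.act _ ev, mul_assoc (ε _), ← map_mul, d, map_mul, ← mul_assoc, mul_inv_cancel_right] at c2
    have := c1.mul_right c2.inv_right
    rwa [mul_inv_rev, ← mul_assoc, mul_inv_cancel_right, inv_eq_of_mul_eq_one_right (T.esq _), ← T.mul, ← x] at this
  have cm : ∀ {a b c : ℕ}, band (band (band (inM24 a) (inM24 b)) (Nat.beq (mulN 24 a b) (mulN 24 a b)))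
      (band (band (inM24 c) (inM24 a)) (Nat.beq (mulN 24 c a) (mulN 24 a b))) = true → mm a * mm b = mm c * mm a :=
    fun e => (mm_mul (band_iff.1 e).1).trans (mm_mul (band_iff.1 e).2).symm
  have iS : κ (mm (invN 24 uS)) = (κ (mm uS))⁻¹ := by
    rw [← map_inv]
    exact congrArg κ (eq_inv_of_mul_eq_one_left ((mm_mul (by decide +kernel)).trans mm_one))
  have c1 : ∀ {n}, mm n * mm uS = mm uS * mm n → κ (mm n) * t = t * κ (mm n) := fun e =>
    h.cN _ (.inl (by rw [← map_mul, e, map_mul]))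
  have c2 : ∀ {n}, mm n * mm uS = mm (invN 24 uS) * mm n → κ (mm n) * t = t * κ (mm n) := fun e =>
    h.cN _ (.inr (by rw [← map_mul, e, map_mul, iS]))
  have cN : ∀ n ∈ uN, κ (mm n) * t = t * κ (mm n) := by
    simp only [uN, List.forall_mem_cons]
    exact ⟨c2 (cm (by decide +kernel)), c1 (cm (by decide +kernel)), by simp⟩
  have tb := allN_iff.1 u5_tab j hj
  rw [st u5a (by decide +kernel) (c1 (cm (by decide +kernel))) (cm (by decide +kernel)),
    st u5b (by decide +kernel) (c2 (cm (by decide +kernel))) (cm (by decide +kernel)),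
    ← card_om, Nat.even_iff.1 ev] at tb
  simp only [Bool.not_true, beq_self_eq_true, Bool.false_or, Bool.or_eq_true] at tb
  have cY : Commute t (ε (om (4096 * j)) * κ (mm uY)) := c.symm
  rcases tb with tb | tb
  · refine ⟨κ, h, cV, u5_cen fun n hn => ?_⟩
    rcases List.mem_append.1 hn with a | a
    · exact cN n a
    · rw [List.mem_singleton.1 a]
      have := ((cz lt ev).2 tb).inv_right.mul_right cY
      rw [inv_mul_cancel_left] at this
      exact this.symm.eq
  · have e2 : ∀ σ : M24, Even (om 0x400101 ∆ (σ.1 • om 0x400101)).card := fun σ => by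
      have a := card_symmDiff_add (om 0x400101) (σ.1 • om 0x400101)
      rw [Finset.card_smul_finset] at a
      rw [Nat.even_iff]; omega
    let κ' : M24 →* G := MonoidHom.mk' (fun σ => ε (om 0x400101 ∆ (σ.1 • om 0x400101)) * κ σ) fun σ τ => by
      rw [mul_assoc, ← mul_assoc (κ σ), L.act σ (e2 τ), map_mul, ← mul_assoc, ← mul_assoc, ← mul_assoc,
        ← T.mul, Finset.smul_finset_symmDiff, symmDiff_assoc, symmDiff_symmDiff_cancel_left, coe_mul, mul_smul]
    have kd : ∀ σ, κ' σ = ε (om 0x400101 ∆ (σ.1 • om 0x400101)) * κ σ := fun _ => rfl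
    have km : ∀ n, inM24 n = true → κ' (mm n) = ε (om (0x400101 ^^^ imgN 24 n 0x400101)) * κ (mm n) := fun n a => by
      rw [kd, mm_smul a, ← gc.ofMask_xor]
    have kS : κ' (mm uS) = κ (mm uS) := by
      rw [km _ (by decide +kernel), (T.one _ (by rw [card_om]; decide +kernel)).2 (om_mem_cw (by decide +kernel)), one_mul]
    have mem : ∀ σ, κ' σ ∈ 𝐍 (V0 E φ (gc.gen gA)) := fun σ => mul_mem (le_normalizer (T.emem (e2 σ))) (L.mem σ)
    refine ⟨κ', ⟨h.A, ⟨T, mem, fun σ => L.thm (T.emem (e2 σ)) σ _⟩, kS ▸ h.cg, kS ▸ h.cN, h.nN⟩, cV, u5_cen fun n hn => ?_⟩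
    rcases List.mem_append.1 hn with a | a
    · rw [km n (by revert n; decide +kernel)]
      exact (((cz (by revert n; decide +kernel) (by rw [card_om]; revert n; decide +kernel)).2
        (by revert n; decide +kernel)).mul_right (show Commute t (κ (mm n)) from (cN n a).symm)).symm.eq
    · have x : om (4096 * j ^^^ 0x40c8) = om (4096 * j) ∆ om 0x40c8 := gc.ofMask_xor _ _
      have e4 : Even (om 0x40c8).card := by rw [card_om]; decide +kernel
      have := ((cz (Nat.xor_lt_two_pow lt (by norm_num)) (x ▸ even_sd ev e4)).2 tb).mul_right cY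
      rw [x, symmDiff_comm, T.mul, mul_assoc, ← mul_assoc (ε (om (4096 * j))), T.esq, one_mul] at this
      rw [List.mem_singleton.1 a, km _ (by decide +kernel), T.eq_of (T := om 0x40c8) (by rw [card_om]; decide +kernel) e4
        (by rw [← gc.ofMask_xor]; exact om_mem_cw (by decide +kernel))]
      exact this.symm.eq

end Cfsg.Lib.JF
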