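import Cfsg.Agent.Lib.Block2.JK1
import Cfsg.Agent.Lib.Block2.JHm

/-! A group of Janko-four type is generated by `N(2^11)` and one further element of `C(z)`. -/

set_option autoImplicit false

namespace Cfsg.Lib.JF

open Subgroup Cfsg.Lib.Amalg Cfsg.Lib.Core Cfsg.Lib.Known2 Cfsg.Lib.Golay Cfsg.Spor MulAction
open scoped Pointwise

theorem u6chk : allL tbY (fun e => bfs (fun m => Nat.mod m 4096) (mapL imgT (e.1 :: uq :: ksT)) 0 2 0x82402f
    (fun _ L => Nat.beq (lenL L) 77)) = true := by decide +kernel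

/-- the hexad group is maximal in `M22`. -/
theorem u6max {B : Subgroup (Equiv.Perm GolayPt)} (h1 : M22 ⊓ 𝐍 (gc.gen gA) ≤ B) {m : Equiv.Perm GolayPt}
    (hm : m ∈ M22) (mB : m ∈ B) (n : m ∉ 𝐍 (gc.gen gA)) : M22 ≤ B := by
  have st : ∀ g ∈ M22, g • om 0x82402f = om 0x82402f → g ∈ B := fun g hg e => h1 ⟨hg, nor_of_HO ⟨M22_le hg, e⟩⟩
  rcases orbY hm with e | ⟨e, he, k⟩
  · exact absurd (nor_of_HO ⟨M22_le hm, e⟩) n
  have hr := inY.1 _ (by rw [mapL_eq]; exact List.mem_map_of_mem he)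
  have eB : gc.dec e.1 ∈ B := by
    have := mul_mem mB (st (m⁻¹ * gc.dec e.1) (mul_mem (inv_mem hm) hr.2) (by rw [mul_smul, ← k, inv_smul_smul]))
    rwa [mul_inv_cancel_left] at this
  have hg : ∀ g ∈ e.1 :: uq :: ksT, gc.InH (M22 ⊓ B) g := fun g hg => by
    rcases List.mem_cons.1 hg with rfl | hg
    · exact ⟨hr.1, hr.2, eB⟩
    · exact ⟨(inq g hg).1.1, (inq g hg).1.2, st _ (inq g hg).1.2 (inq g hg).2.2⟩
  obtain ⟨t, L, h2, h3⟩ := Coding.bfs_gen cwCode imgT (fun g a => (hg g a).impl_cw (inf_le_left.trans M22_le))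
    (d := 0) (a := 2) (x0 := 0x82402f) (by decide +kernel : isCw 0x82402f = true) (allL_iff.1 u6chk e he)
  have c1 := h3.ncard
  rw [beq_iff.1 h2] at c1
  have c2 := (stab_cw_cert M22_le gen_gM22 inH_gM22 0x82402f (by decide +kernel) (n := 77) (N := 5760) card_M22
    (by decide +kernel)).1
  have eq := Set.eq_of_subset_of_ncard_le (orbit_mono ((Coding.gen_le hg).trans inf_le_left) (om 0x82402f))
    (c2.trans c1.symm).le
  intro g hg'
  obtain ⟨b, hb, f⟩ := mem_orbit_subgroup.1 (eq.ge (mem_orbit_subgroup.2 ⟨g, hg', rfl⟩))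
  have hb' := Coding.gen_le hg hb
  have := mul_mem hb'.2 (st (b⁻¹ * g) (mul_mem (inv_mem hb'.1) hg') (by rw [mul_smul, ← f, inv_smul_smul]))
  rwa [mul_inv_cancel_left] at this

variable {G : Type*} [Group G] {E : Subgroup G} {z p : G}

theorem AllD.gen_top [Finite G] {φ : KK z p →* Equiv.Perm GolayPt} {q : Equiv.Perm GolayPt} (A : AllD E z p φ q)
    {G0 : Subgroup G} (h1 : 𝐍 (V0 E φ (gc.gen gA)) ≤ G0) {t : G} (tz : t * z = z * t)
    (nt : t ∉ 𝐍 (V0 E φ (gc.gen gA))) (ht : t ∈ G0) : G0 = ⊤ := by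
  have h := A.js
  have dec : ∀ c, c * z = z * c → ∃ k m, L φ k m ∧ k * c ∈ 𝐍 (V0 E φ (gc.gen gA)) := fun c cz => by
    obtain ⟨k, m, l, e⟩ := h.allK mf (W := cj c (V0 E φ (gc.gen gA))) (mem_cj'.2 ⟨z, h.zV, conj_eq_of_comm cz⟩)
      (sq_cj c (h.sqV mf)) (by rw [card_cj, h.cardV mf])
    exact ⟨k, m, l, cj_eq_self_iff.1 (by rw [cj_mul, e])⟩
  obtain ⟨k, m, l, e⟩ := dec t tz
  have le : M22 ≤ img φ G0 := u6max (fun x hx => by
      obtain ⟨y, ly⟩ := h.ex hx.1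
      exact mem_img.2 ⟨y, h1 ((h.KN mf ly).2 hx.2), ly⟩) (h.mem l)
    (mem_img.2 ⟨k, (mul_mem_cancel_right ht).1 (h1 e), l⟩)
    fun a => nt ((mul_mem_cancel_left ((h.KN mf l).2 a)).1 e)
  refine A.top (fun c hc => ?_) h1
  obtain ⟨k', m', l', e'⟩ := dec c (mem_cent_single.1 hc)
  obtain ⟨y, hy, ly⟩ := mem_img.1 (le (h.mem l'))
  have k1 : k' ∈ G0 := (mul_mem_cancel_left (inv_mem hy)).1
    (h1 ((h.KN mf (ly.inv.mul l')).2 (by rw [inv_mul_cancel]; exact one_mem _)))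
  exact (mul_mem_cancel_left k1).1 (h1 e')

end Cfsg.Lib.JF
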