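import Cfsg.Agent.Lib.Block2.JU6
import Cfsg.Agent.Lib.Block2.JUx

/-! A group of Janko-four type containing a triple with the twelve relations is the presented group. -/

set_option autoImplicit false

namespace Cfsg.Lib.JF

open Subgroup Cfsg.Lib.Amalg Cfsg.Lib.Core Cfsg.Lib.Known2 Cfsg.Lib.Golay Cfsg.Spor

/-- local data of the presented group. -/
def U7J : Prop := ∃ (W M : Subgroup Spor.J4) (v s : Spor.J4), (∀ w ∈ W, w * w = 1) ∧ Nat.card W = 2 ^ 11 ∧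
  M ≤ Subgroup.normalizer (W : Set Spor.J4) ∧ Nat.card M = 2 ^ 11 * 244823040 ∧ v ∈ W ∧ v ≠ 1 ∧ s * v = v * s ∧ s ∉ M

variable {G : Type*} [Group G] {E : Subgroup G} {z p : G}

theorem AllD.u7_range [Finite G] {φ : KK z p →* Equiv.Perm GolayPt} {q : Equiv.Perm GolayPt} (A : AllD E z p φ q)
    (hJ : U7J) (f : Spor.J4 →* G) (fi : Function.Injective f) : f.range = ⊤ := by
  obtain ⟨W, M, v, s, sq, cW, nW, cM, vW, v1, sv, sM⟩ := hJ
  have h := A.js
  have sq' : ∀ w ∈ W.map f, w * w = 1 := by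
    rintro _ ⟨w, hw, rfl⟩
    rw [← map_mul, sq w hw, map_one]
  obtain ⟨g, hg⟩ := h.uq2 mf (two_of_sq sq')
  have e := hg _ le_rfl sq' (by rw [card_map_of_injective fi, cW])
  let ψ : Spor.J4 →* G := (MulAut.conj g).toMonoidHom.comp f
  have ψi : Function.Injective ψ := (MulAut.conj g).injective.comp fi
  have eW : W.map ψ = V0 E φ (gc.gen gA) := by rw [← e, ← map_map]
  have eM : M.map ψ = 𝐍 (V0 E φ (gc.gen gA)) := eq_of_le_of_card_ge (by
      rw [← eW]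
      exact (map_mono nW).trans (le_normalizer_map ψ)) (by rw [card_map_of_injective ψi, cM, A.gd.cN])
  have vV : ψ v ∈ V0 E φ (gc.gen gA) := eW ▸ mem_map_of_mem ψ vW
  have sN : ψ s ∉ 𝐍 (V0 E φ (gc.gen gA)) := fun m => by
    rw [← eM] at m
    obtain ⟨a, ha, b⟩ := m
    exact sM (ψi b ▸ ha)
  have c : ψ s * ψ v = ψ v * ψ s := by rw [← map_mul, sv, map_mul]
  have zv : IsConj z (ψ v) := by_contra fun n => sN (A.cenD _ ⟨vV, fun e => v1 (ψi (e.trans (map_one ψ).symm)), n⟩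
    (mem_cent_single.2 c))
  obtain ⟨n, hn, e2⟩ := h.fus mf h.zV vV zv
  have l : 𝐍 (V0 E φ (gc.gen gA)) ≤ ψ.range := eM ▸ map_le_range ψ M
  have top := A.gen_top l (t := n⁻¹ * ψ s * n) (by
      calc _ = n⁻¹ * (ψ s * (n * z * n⁻¹)) * n := by group
        _ = _ := by rw [e2, c, ← e2]; group)
    (fun m => sN (by rwa [mul_mem_cancel_right hn, mul_mem_cancel_left (inv_mem hn)] at m))
    (mul_mem (mul_mem (inv_mem (l hn)) ⟨s, rfl⟩) (l hn))
  refine eq_top_iff.2 fun x _ => ?_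
  obtain ⟨a, ha⟩ := top.ge (mem_top (g * x * g⁻¹))
  exact ⟨a, (MulAut.conj g).injective ha⟩

theorem AllD.iso_of_rel [Finite G] {φ : KK z p →* Equiv.Perm GolayPt} {q : Equiv.Perm GolayPt} (A : AllD E z p φ q)
    [IsSimpleGroup Spor.J4] (hJ : U7J) {x y t : G} (h : RelJ4 x y t) (t1 : t ≠ 1) : IsoJ4 G := by
  let H : Subgroup G := closure {x, y, t}
  have hx : x ∈ H := subset_closure (by simp)
  have hy : y ∈ H := subset_closure (by simp)
  have ht : t ∈ H := subset_closure (by simp)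
  have : Nontrivial H := ⟨⟨⟨t, ht⟩, 1, fun e => t1 (congrArg Subtype.val e)⟩⟩
  have h' : RelJ4 (⟨x, hx⟩ : H) ⟨y, hy⟩ ⟨t, ht⟩ := ⟨Subtype.ext h.r1, Subtype.ext h.r2, Subtype.ext h.r3, Subtype.ext h.r4,
    Subtype.ext h.r5, Subtype.ext h.r6, Subtype.ext h.r7, Subtype.ext h.r8, Subtype.ext h.r9, Subtype.ext h.r10,
    Subtype.ext h.r11, Subtype.ext h.r12⟩
  obtain ⟨e⟩ := h'.iso fun J a b c => by
    have l : H ≤ J.map H.subtype := (closure_le _).2 (by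
      rintro _ (rfl | rfl | rfl)
      exacts [⟨_, a, rfl⟩, ⟨_, b, rfl⟩, ⟨_, c, rfl⟩])
    refine eq_top_iff.2 fun u _ => ?_
    obtain ⟨w, hw, f⟩ := l u.2
    rwa [← show w = u from Subtype.ext f]
  let f : Spor.J4 →* G := H.subtype.comp e.symm.toMonoidHom
  have fi : Function.Injective f := Subtype.val_injective.comp e.symm.injective
  exact ⟨(MulEquiv.ofBijective f ⟨fi, MonoidHom.range_eq_top.1 (A.u7_range hJ f fi)⟩).symm⟩

theorem AllD.iso_of_sym [Finite G] {φ : KK z p →* Equiv.Perm GolayPt} {q : Equiv.Perm GolayPt} (A : AllD E z p φ q)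
    [IsSimpleGroup Spor.J4] (hJ : U7J) (κ : M24 →* G) {t : G} (t1 : t ≠ 1) (t2 : t * t = 1)
    (cT : ∀ k : M24, (k : Equiv.Perm GolayPt) ∈ HT3 → κ k * t = t * κ k)
    (R1 : (κ (uxE uxu) * t) ^ 3 = 1)
    (R2 : (κ (uxE uxp) * t * (κ (uxE uxh) * t * (κ (uxE uxh))⁻¹)) ^ 2 = 1) : IsoJ4 G :=
  A.iso_of_rel hJ (ux_rel κ t2 cT R1 R2) t1

end Cfsg.Lib.JF
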