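import Cfsg.Agent.Lib.Block2.JU0
import Cfsg.Agent.Lib.Block2.JR3

/-! The fifteen involutions attached to the trios refining a sextet are conjugate into the standard `2^11`. -/

set_option autoImplicit false
set_option maxRecDepth 100000

namespace Cfsg.Lib.JF

open Subgroup Cfsg.Lib.Amalg Cfsg.Lib.Core Cfsg.Lib.Known2 Cfsg.Lib.Golay Spor MulAction
open scoped Pointwise symmDiff

variable {G : Type*} [Group G]

/-- lies in all fifteen trio groups. -/
noncomputable def j1b (y : ℕ) : Bool :=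
  allL (List.range 15) fun i => Nat.beq (famAct 3 (mulN 24 (mulN 24 (invN 24 (uM i)) y) (uM i)) 0x82402f6920d0149f00) 0x82402f6920d0149f00

theorem j1_inQ : ∀ g ∈ uO, gc.InH M24 g := inH_of_allL (by decide +kernel)

theorem j1_spec : Nat.card (gc.gen uO) = 64 ∧ (∀ x ∈ gc.gen uO, ∃ y, gc.Valid y ∧ gc.dec y = x ∧
      band (j1b y) (Nat.beq (mulN 24 y y) (idN 24)) = true) ∧
    ∀ g ∈ gc.gen [], ∀ x ∈ gc.gen uO, g * x * g⁻¹ ∈ gc.gen uO :=
  Coding.normal_cert (c := gc) (M := 251) (d := 8) (a := 4) (by simp) (fun g hg => (j1_inQ g hg).1) (by decide +kernel)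

theorem j1_M : ∀ i < 15, inM24 (uM i) = true ∧
    ∃ r ∈ uZ, imgT (invN 24 (uM i)) 0x800007 ^^^ r < 2 ^ 24 ∧ isCw (imgT (invN 24 (uM i)) 0x800007 ^^^ r) = true := by decide +kernel

theorem j1_mm (κ : M24 →* G) {n : ℕ} (h : inM24 n = true) : UxR κ n (κ (mm n)) :=
  ⟨inH_of_inM24 h, congrArg κ (Subtype.ext (mm_val h).symm)⟩

theorem TS.j1 [Finite G] {E : Subgroup G} {z p : G} {φ : KK z p →* Equiv.Perm GolayPt} {q : Equiv.Perm GolayPt}
    {ε : Finset GolayPt → G} {θ : 𝐍 (V0 E φ (gc.gen gA)) →* Equiv.Perm GolayPt} {κ : M24 →* G} {t : G}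
    (h : TS E z p φ q ε θ κ t) {E' : Subgroup G} {p' : G} {φ' : KK (ε (om 0x800007)) p' →* Equiv.Perm GolayPt}
    (al : AL ε θ κ E' p' φ') (dist : ∀ i < 15, ∀ j < 15, tt κ t (uM i) = tt κ t (uM j) → i = j) :
    ∃ k, k * ε (om 0x800007) = ε (om 0x800007) * k ∧ k * κ (mm uP) = κ (mm uP) * k ∧
      ∀ i < 15, k * tt κ t (uM i) * k⁻¹ ∈ V0 E φ (gc.gen gA) := by
  have K := h.L
  have js := al.js
  have ev : Even (om 0x800007).card := by rw [card_om]; decide +kernel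
  have zV : ε (om 0x800007) ∈ V0 E φ (gc.gen gA) := (K.T.mem _).2 ⟨_, ev, rfl⟩
  have inj : ∀ k, κ k ∈ V0 E φ (gc.gen gA) → k = 1 := fun k hk =>
    Subtype.ext ((K.th k).symm.trans ((K.T.ker ⟨κ k, K.mem k⟩).2 hk))
  have fi : Function.Injective κ := (injective_iff_map_eq_one κ).2 fun k e => inj k (e ▸ one_mem _)
  have t2 : t * t = 1 := by
    obtain ⟨g, e, -⟩ := h.cg
    rw [← e, conj_mul, h.A.js.es.sq]; group
  have pr : ∀ {c g}, UxR κ c g → j1b c = true → ∀ i < 15, tt κ t (uM i) * g = g * tt κ t (uM i) := fun {c g} r e i hi => by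
    have u := j1_mm κ (j1_M i hi).1
    rw [tt]
    generalize κ (mm (uM i)) = w at u ⊢
    calc _ = w * (t * (w⁻¹ * g * w)) * w⁻¹ := by group
      _ = _ := by rw [← ((u.inv.mul r).mul u).com h.cen (allL_iff.1 e i (List.mem_range.2 hi))]; group
  have tz : ∀ i < 15, tt κ t (uM i) * ε (om 0x800007) = ε (om 0x800007) * tt κ t (uM i) := fun i hi => by
    obtain ⟨m, r, hr, e⟩ := j1_M i hi
    obtain ⟨hc, e2⟩ := (j1_mm κ m).inv
    have a := K.T.act ⟨_, K.mem ⟨_, hc.2⟩⟩ _ ev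
    rw [K.th] at a
    have c := (h.cV (gc.dec (invN 24 (uM i)) • om 0x800007) (by rwa [Finset.card_smul_finset])).2 ⟨r, hr, by
      rw [hc.1.smul_om, show ∀ a b, om a ∆ om b = om (a ^^^ b) from fun a b => (gc.ofMask_xor a b).symm, om_mem_cw_iff e.1]; exact e.2⟩
    rw [← a] at c
    simp only [e2] at c
    rw [tt]
    generalize κ (mm (uM i)) = w at c ⊢
    calc _ = w * (t * (w⁻¹ * ε (om 0x800007) * w⁻¹⁻¹)) * w⁻¹ := by group
      _ = _ := by rw [c]; group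
  have QM : gc.gen uO ≤ M24 := Coding.gen_le j1_inQ
  let U0 := ((gc.gen uO).subgroupOf M24).map κ
  have el : ∀ x ∈ U0, x ∈ E' ∧ x * x = 1 ∧ ∀ i < 15, tt κ t (uM i) * x = x * tt κ t (uM i) := by
    rintro _ ⟨k, hk, rfl⟩
    obtain ⟨y, hy, e, b⟩ := j1_spec.2.1 k hk
    have r : UxR κ y (κ k) := ⟨⟨hy, e ▸ k.2⟩, congrArg κ (Subtype.ext e)⟩
    exact ⟨al.kO k hk, (r.mul r).one (band_iff.1 b).2, pr r (band_iff.1 b).1⟩
  have c0 : Nat.card U0 = 64 := by
    rw [card_map_of_injective fi, Nat.card_congr (subgroupOfEquivOfLe QM).toEquiv, j1_spec.1]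
  have v1 : ε (om 0x800007) ∉ U0 := by
    rintro ⟨k, -, e⟩
    rw [inj k (e ▸ zV), map_one] at e
    exact js.es.ne e.symm
  have pP : ∀ x, x * p' = p' * x ↔ x * κ (mm uP) = κ (mm uP) * x := fun x => by
    rcases al.pp with e | e <;> rw [e]
    exact Commute.inv_right_iff
  have nN : ∀ i, tt κ t (uM i) ∉ 𝐍 (V0 E φ (gc.gen gA)) := fun i k => h.nN (by
    rwa [tt, mul_mem_cancel_right (inv_mem (K.mem _)), mul_mem_cancel_left (K.mem _)] at k)
  have zN := le_normalizer zV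
  have v0 := al.v0
  clear al
  generalize ε (om 0x800007) = v at *
  have cen : ∀ x, x * v = v * x → (∀ w ∈ U0, x * w = w * x) → ∀ w ∈ U0 ⊔ zpowers v, x * w = w * x := fun x e1 e2 w hw =>
    (mem_cent_single.1 ((sup_le (fun u hu => mem_cent_single.2 (e2 u hu).symm)
      (zpowers_le.2 (mem_cent_single.2 e1.symm)) : U0 ⊔ zpowers v ≤ centralizer {x}) hw)).symm
  have UE : U0 ⊔ zpowers v ≤ E' := sup_le (fun x hx => (el x hx).1) (zpowers_le.2 js.es.mem)
  have vU : v ∈ U0 ⊔ zpowers v := mem_sup_right (mem_zpowers v)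
  have ab : ∀ u ∈ U0 ⊔ zpowers v, ∀ w ∈ U0 ⊔ zpowers v, u * w = w * u := fun u hu w hw =>
    (cen w (js.es.cen w (UE hw)) (fun x hx => (cen x (js.es.cen x (el x hx).1)
      (fun x' hx' => comm_of_sq (fun y hy => (el y hy).2.1) hx hx') w hw).symm) u hu).symm
  have cU : 128 ≤ Nat.card ↥(U0 ⊔ zpowers v) := by
    obtain ⟨r, hr⟩ := card_dvd_of_le (le_sup_left : U0 ≤ U0 ⊔ zpowers v)
    have r1 : r ≠ 1 := fun e => v1 (eq_of_le_of_card_ge (le_sup_left : U0 ≤ U0 ⊔ zpowers v) (by rw [hr, e, mul_one]) ▸ vU)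
    have r0 : r ≠ 0 := fun e => by have := Nat.card_pos (α := ↥(U0 ⊔ zpowers v)); rw [hr, e] at this; omega
    rw [hr, c0]; omega
  have sqS : ∀ {A B : Subgroup G}, (∀ a ∈ A, a * a = 1) → (∀ a ∈ B, a * a = 1) → (∀ a ∈ A, ∀ b ∈ B, a * b = b * a) →
      A ≤ 𝐍 B ∧ ∀ a ∈ A ⊔ B, a * a = 1 := fun {A B} a1 b1 c => by
    have n : A ≤ 𝐍 B := fun a ha => centralizer_le_normalizer _ (mem_centralizer_iff.2 fun b hb => (c a ha b hb).symm)
    refine ⟨n, fun x hx => ?_⟩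
    have : x ∈ ((A ⊔ B : Subgroup G) : Set G) := hx
    rw [coe_mul_of_left_le_normalizer_right A B n] at this
    obtain ⟨a, ha, b, hb, rfl⟩ := this
    show a * b * (a * b) = 1
    rw [mul_assoc, ← mul_assoc b, ← c a ha b hb, mul_assoc, b1 b hb, mul_one, a1 a ha]
  have sqU : ∀ u ∈ U0 ⊔ zpowers v, u * u = 1 := (sqS (fun y hy => (el y hy).2.1) (by
    rintro _ ⟨n, rfl⟩
    show v ^ n * v ^ n = 1
    rw [← Commute.mul_zpow (Commute.refl v), js.es.sq, one_zpow]) fun a ha b hb => ab a (mem_sup_left ha) b (mem_sup_right hb)).2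
  have tU : ∀ i < 15, ∀ w ∈ U0 ⊔ zpowers v, tt κ t (uM i) * w = w * tt κ t (uM i) := fun i hi =>
    cen _ (tz i hi) fun w hw => (el w hw).2.2 i hi
  generalize U0 ⊔ zpowers v = U at *
  let J : Subgroup G :=
    { carrier := {k | k ∈ KK v p' ∧ k * k = 1 ∧ ∀ w ∈ U, k * w = w * k}
      mul_mem' := by
        rintro a b ⟨a1, a2, a3⟩ ⟨b1, b2, b3⟩
        refine ⟨mul_mem a1 b1, ?_, fun w hw => by rw [mul_assoc, b3 w hw, ← mul_assoc, a3 w hw, mul_assoc]⟩
        rw [mul_assoc, ← mul_assoc b, ← js.r3_quad UE vU cU ab a1 b1 a2 b2 a3 b3, mul_assoc, b2, mul_one, a2]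
      one_mem' := ⟨one_mem _, by simp, by simp⟩
      inv_mem' := by
        rintro a ⟨a1, a2, a3⟩
        rw [inv_eq_of_mul_eq_one_right a2]
        exact ⟨a1, a2, a3⟩ }
  have tJ : ∀ i < 15, tt κ t (uM i) ∈ J := fun i hi =>
    ⟨mem_KK.2 ⟨tz i hi, (pP _).2 (pr (j1_mm κ (by decide +kernel)) (by decide +kernel) i hi)⟩,
      by rw [tt, conj_mul, t2]; group, tU i hi⟩
  have vJ : v ∈ J := ⟨mem_KK.2 ⟨rfl, js.pz.symm⟩, js.es.sq, fun w hw => (js.es.cen w (UE hw)).symm⟩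
  have cJ : 17 ≤ Nat.card J := by
    let f : Fin 15 ⊕ Bool → J := Sum.elim (fun i => ⟨_, tJ i i.2⟩) fun b => cond b ⟨v, vJ⟩ 1
    have : Function.Injective f := by
      rintro (i | _ | _) (j | _ | _) e <;> have e' := congrArg Subtype.val e <;> simp only [f, Sum.elim_inl, Sum.elim_inr, cond, OneMemClass.coe_one] at e'
      · exact congrArg _ (Fin.ext (dist _ i.2 _ j.2 e'))
      · exact (nN i (e' ▸ one_mem _)).elim
      · exact (nN i (e' ▸ zN)).elim
      · exact (nN j (e' ▸ one_mem _)).elim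
      · rfl
      · exact (js.es.ne e'.symm).elim
      · exact (nN j (e' ▸ zN)).elim
      · exact (js.es.ne e').elim
      · rfl
    simpa using Nat.card_le_card_of_injective f this
  have := Fact.mk Nat.prime_two
  obtain ⟨n, hn⟩ := IsPGroup.iff_card.1 (two_of_sq fun x (hx : x ∈ J) => hx.2.1)
  have c32 : 32 ≤ Nat.card J := by
    rw [hn] at cJ ⊢
    exact Nat.pow_le_pow_right (n := 2) (by norm_num) (show 5 ≤ n from (Nat.pow_lt_pow_iff_right (a := 2) (n := 4) (by norm_num)).1 (by omega))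
  obtain ⟨nJ, sW⟩ := sqS (A := J) (B := U) (fun x hx => hx.2.1) sqU fun a ha b hb => ha.2.2 b hb
  have cI : Nat.card ↥(J ⊓ U) ≤ 2 := by
    have : J ⊓ U ≤ zpowers v := fun x hx => by
      rcases js.fp x (UE hx.2) (mem_KK.1 hx.1.1).2.symm with e | e <;> rw [e]
      exacts [one_mem _, mem_zpowers _]
    have e := card_le_of_le this
    rwa [Nat.card_zpowers, orderOf_eq_prime ((pow_two v).trans js.es.sq) js.es.ne] at e
  have cs := card_sup_mul_card_inf nJ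
  obtain ⟨k, m, l, e⟩ := js.allK mf (mem_sup_right vU) sW (by nlinarith)
  refine ⟨k, (mem_KK.1 l.1).1, (pP k).1 (mem_KK.1 l.1).2, fun i hi => ?_⟩
  rw [← v0, ← e]
  exact ⟨_, mem_sup_left (tJ i hi), rfl⟩

end Cfsg.Lib.JF
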