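import Cfsg.Agent.Lib.Block2.JU0

/-! The relations among the 15 conjugates of `t` centralising `uP`. -/

set_option autoImplicit false
set_option maxRecDepth 100000
set_option synthInstance.maxSize 4096

namespace Cfsg.Lib.JF
open Subgroup Cfsg.Lib.Amalg Cfsg.Lib.Core Cfsg.Lib.Known2 Cfsg.Lib.Golay Spor
open scoped Pointwise symmDiff

/-- the duads of `0x1c844`. -/
def j7d (a : Fin 15) : ℕ := [0x44, 0x804, 0x4004, 0x8004, 0x10004, 0x840, 0x4040, 0x8040, 0x10040, 0x4800, 0x8800, 0x10800,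
  0xc000, 0x14000, 0x18000].getD a.1 0

/-- the tetrads of `0x1c844`. -/
def j7e (a : Fin 15) : ℕ := 0x1c844 ^^^ j7d a

/-- the action of `uC` on the 15 trios. -/
def j7p (k : Fin 2) (i : Fin 15) : Fin 15 :=
  ![![13, 11, 3, 1, 9, 6, 14, 0, 2, 5, 7, 8, 10, 12, 4], ![7, 9, 5, 14, 2, 8, 3, 6, 13, 10, 11, 12, 1, 4, 0]] k i

/-- distinct duads that meet. -/
def j7M (a b : Fin 15) : Prop := a ≠ b ∧ j7d a &&& j7d b ≠ 0

instance (a b : Fin 15) : Decidable (j7M a b) := by unfold j7M; infer_instance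

theorem j7_comb {σ : Fin 15 → Fin 15} (hi : Function.Injective σ)
    (inv : ∀ k i j, j7M (σ i) (σ j) ↔ j7M (σ (j7p k i)) (σ (j7p k j))) :
    j7e (σ 0) ^^^ j7e (σ 1) ^^^ j7e (σ 2) = 0 ∧
      (j7e (σ 1) ^^^ j7e (σ 3) ^^^ j7e (σ 6) = 0x1c844 ∨ j7e (σ 1) ^^^ j7e (σ 3) ^^^ j7e (σ 6) = 0x1c844 ^^^ j7e (σ 0)) := by
  have w : ∀ (l : List (Fin 2)) i j, j7M (σ i) (σ j) ↔ j7M (σ (l.foldr j7p i)) (σ (l.foldr j7p j)) := fun l i j => by
    induction l with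
    | nil => rfl
    | cons k l ih => exact ih.trans (inv k _ _)
  have a2 : j7M (σ 0) (σ 1) ↔ j7M (σ 0) (σ 2) := w [0, 1, 0, 1] 0 1
  have a3 : j7M (σ 0) (σ 1) ↔ j7M (σ 0) (σ 3) := w [1, 0, 0, 1, 1, 1, 0] 0 1
  have a4 : j7M (σ 0) (σ 1) ↔ j7M (σ 0) (σ 4) := w [1, 0, 0, 0, 0, 1, 0] 0 1
  have a5 : j7M (σ 0) (σ 1) ↔ j7M (σ 0) (σ 5) := w [0, 1] 0 1
  have a6 : j7M (σ 0) (σ 1) ↔ j7M (σ 0) (σ 6) := w [1, 0, 1, 1] 0 1
  have b8 : j7M (σ 0) (σ 7) ↔ j7M (σ 0) (σ 8) := w [1, 1, 0, 0, 0, 1, 0, 0, 0] 0 7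
  have b9 : j7M (σ 0) (σ 7) ↔ j7M (σ 0) (σ 9) := w [1, 0, 1, 1] 0 7
  have b10 : j7M (σ 0) (σ 7) ↔ j7M (σ 0) (σ 10) := w [1, 1, 1, 0, 0, 0, 1, 0] 0 7
  have b11 : j7M (σ 0) (σ 7) ↔ j7M (σ 0) (σ 11) := w [1, 0, 0, 0, 0, 1, 0] 0 7
  have b12 : j7M (σ 0) (σ 7) ↔ j7M (σ 0) (σ 12) := w [1, 0, 0, 1, 1, 1, 0] 0 7
  have b13 : j7M (σ 0) (σ 7) ↔ j7M (σ 0) (σ 13) := w [0, 1, 0, 1] 0 7
  have b14 : j7M (σ 0) (σ 7) ↔ j7M (σ 0) (σ 14) := w [0, 1] 0 7
  have c12 : j7M (σ 0) (σ 1) ↔ j7M (σ 1) (σ 2) := w [0, 1, 0, 1, 1, 1, 0] 0 1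
  have c13 : j7M (σ 0) (σ 7) ↔ j7M (σ 1) (σ 3) := w [1, 0, 0, 1, 0, 1, 1] 0 7
  have c16 : j7M (σ 0) (σ 7) ↔ j7M (σ 1) (σ 6) := w [0, 0, 0, 1, 0, 0, 1, 0] 0 7
  have c36 : j7M (σ 0) (σ 7) ↔ j7M (σ 3) (σ 6) := w [1, 1, 1, 0, 1] 0 7
  have cnt : ∑ j, (if j7M (σ 0) (σ j) then 1 else 0) = 8 := by
    exact ((Equiv.ofBijective σ hi.bijective_of_finite).sum_comp (fun b => if j7M (σ 0) b then 1 else 0)).trans
      ((by decide +kernel : ∀ a, ∑ b, (if j7M a b then 1 else 0) = 8) _)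
  have n0 : ¬ j7M (σ 0) (σ 0) := fun h => h.1 rfl
  simp only [Fin.sum_univ_succ, Fin.sum_univ_zero, Fin.reduceSucc] at cnt
  have key : ¬ j7M (σ 0) (σ 1) ∧ j7M (σ 0) (σ 7) := by
    simp only [n0, ← a2, ← a3, ← a4, ← a5, ← a6, ← b8, ← b9, ← b10, ← b11, ← b12, ← b13, ← b14] at cnt
    by_cases p : j7M (σ 0) (σ 1) <;> by_cases q : j7M (σ 0) (σ 7) <;> simp [p, q] at cnt ⊢
  have ne : ∀ i j, i ≠ j → σ i ≠ σ j := fun i j h e => h (hi e)
  exact ⟨(by decide +kernel : ∀ a b, a ≠ b → ¬ j7M a b → ∀ c, a ≠ c → b ≠ c → ¬ j7M a c → ¬ j7M b c →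
      j7e a ^^^ j7e b ^^^ j7e c = 0) _ _ (ne _ _ (by decide)) key.1 _ (ne _ _ (by decide)) (ne _ _ (by decide))
      (mt a2.2 key.1) (mt c12.2 key.1),
    (by decide +kernel : ∀ b c, j7M b c → ∀ d, j7M b d → j7M c d → ∀ a, a ≠ b → a ≠ c → a ≠ d → ¬ j7M a b → ¬ j7M a c → ¬ j7M a d →
      j7e b ^^^ j7e c ^^^ j7e d = 0x1c844 ∨ j7e b ^^^ j7e c ^^^ j7e d = 0x1c844 ^^^ j7e a) _ _ (c13.1 key.2) _ (c16.1 key.2)
      (c36.1 key.2) _ (ne _ _ (by decide)) (ne _ _ (by decide)) (ne _ _ (by decide)) key.1 (mt a3.2 key.1) (mt a6.2 key.1)⟩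

/-- the even subsets of `0x1c844`. -/
def j7A : List ℕ := [0x0, 0x1c844, 0x44, 0x804, 0x4004, 0x8004, 0x10004, 0x840, 0x4040, 0x8040, 0x10040, 0x4800, 0x8800, 0x10800, 0xc000, 0x14000, 0x18000, 0x1c800, 0x1c040, 0x18840, 0x14840, 0xc840, 0x1c004, 0x18804, 0x14804, 0xc804, 0x18044, 0x14044, 0xc044, 0x10844, 0x8844, 0x4844]

/-- elements of the trio group. -/
def j7c (k : Fin 2) (i : Fin 15) : ℕ := (if k = 0 then [0x30a0c13120d010f0602091610071504080b1714000e0511, 0x507160a0d0800060f0215120b09140c04100113170e1103, 0x1116150c130a17100b020d140f12080907060004010e0305, 0x717030811140d020b1000090f0c120a050e040116061315, 0x717030811140d020b1000090f0c120a050e040116061315, 0x1417031611070c02100b0013060d0415050e1201080f090a, 0x717030811140d020b1000090f0c120a050e040116061315, 0x1205170d00150a0e100f03070604161301020911140b0c08, 0x901050403130802100b171506160d07110e0c00120f0a14, 0x801051503160902060f17041013070d110e14000a0b120c,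 0x1216150313170a100e0f0d010211050007060904140b0c08, 0x1213040116110a06020f07030e1700050d100915140b0c08, 0x901050403130802100b171506160d07110e0c00120f0a14, 0x90300150116080e060b11041013070d17020c05120f0a14, 0x15080a010911040b02100c030e170005140f16120d060713]
  else [0x11214130a0d030b060e081610071504090f110c05020017, 0x10a0c161207030f100e0913060d0415080b111405020017, 0x1040709150c03100f0e16080b140a121306110d05020017, 0x11214130a0d030b060e081610071504090f110c05020017, 0x1150d08041403060b0e13090f0c120a1610110705020017, 0x10a0c161207030f100e0913060d0415080b111405020017, 0x11214130a0d030b060e081610071504090f110c05020017, 0x1040709150c03100f0e16080b140a121306110d05020017, 0x1040709150c03100f0e16080b140a121306110d05020017, 0x1040709150c03100f0e16080b140a121306110d05020017, 0x11214130a0d030b060e081610071504090f110c05020017, 0x1150d08041403060b0e13090f0c120a1610110705020017, 0x1040709150c03100f0e16080b140a121306110d05020017,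 0x11214130a0d030b060e081610071504090f110c05020017, 0x11214130a0d030b060e081610071504090f110c05020017]).getD i.1 0

/-- `g` maps the trio `a` to the trio `b`. -/
noncomputable def j7k (g a b c : ℕ) : Bool :=
  band (band (band (inM24 g) (inM24 a)) (Nat.beq (mulN 24 g a) (mulN 24 g a)))
    (band (band (band (inM24 b) (inM24 c)) (Nat.beq (mulN 24 b c) (mulN 24 g a)))
      (band (inM24 c) (Nat.beq (famAct 3 c 0x82402f6920d0149f00) 0x82402f6920d0149f00)))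

theorem j7kP : ∀ i : Fin 15, j7k uP (uM i) (uM i) uP = true := by decide +kernel

theorem j7kC : ∀ (k : Fin 2) (i : Fin 15), j7k (uC.getD k 0) (uM i) (uM (j7p k i)) (j7c k i) = true := by decide +kernel

theorem j7tab : (allN 4096 fun j => forceN (Nat.mul 4096 j) fun m => bimp (band (Nat.beq (Nat.mod (pop24 m) 2) 0)
    (isCw (Nat.xor m (imgT uP m)))) (anyL j7A fun r => isCw (Nat.xor m r))) = true := by decide +kernel

variable {G : Type*} [Group G]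

theorem j7_mv {κ : M24 →* G} {t : G} (cen : ∀ m : M24, m.1 ∈ HT3 → κ m * t = t * κ m) {g a b c : ℕ} (h : j7k g a b c = true) :
    κ (mm g) * tt κ t a * (κ (mm g))⁻¹ = tt κ t b := by
  obtain ⟨h1, h⟩ := band_iff.1 h
  exact (tt_cj h1).trans (tt_eq cen (band_iff.1 h).1 (band_iff.1 h).2)

theorem TM.j7o {V : Subgroup G} {D : Set G} {ε : Finset GolayPt → G} {θ : 𝐍 V →* Equiv.Perm GolayPt} (h : TM V D ε θ) :
    ε (om 0) = 1 ∧ ε (om 0x1c844) = ε (om 0x800007) :=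
  ⟨(h.one _ (by rw [card_om]; decide +kernel)).2 (om_mem_cw (by decide +kernel)),
    h.eq_of (by rw [card_om]; decide +kernel) (by rw [card_om]; decide +kernel)
      (by rw [← gc.ofMask_xor]; exact om_mem_cw (by decide +kernel))⟩

theorem TM.j7Fix {V : Subgroup G} {D : Set G} {ε : Finset GolayPt → G} {θ : 𝐍 V →* Equiv.Perm GolayPt} (h : TM V D ε θ) (u : 𝐍 V)
    (hu : θ u = gc.dec uP) {v : G} (hv : v ∈ V) (c : u * v = v * u) :
    v = 1 ∨ v ∈ D ∨ v = ε (om 0x800007) ∨ ∃ a, v = ε (om (j7e a)) := by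
  have hτ : gc.Valid uP := (inH_of_inM24 (by decide +kernel)).1
  have ev : ∀ r ∈ j7A, Even (om r).card := fun r hr => by
    rw [card_om]; exact (by decide +kernel : ∀ r ∈ j7A, Even (pop24 r)) r hr
  obtain ⟨S, hS, rfl⟩ := (h.mem v).1 hv
  obtain ⟨j, hj, k⟩ := exists_rep S
  have em : Even (om (4096 * j)).card := by
    have a := card_cw k
    have b := card_symmDiff_add (om (4096 * j)) S
    rw [Nat.even_iff] at *
    omega
  rw [← h.eq_of em hS k] at c ⊢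
  have sm : ∀ (σ : Equiv.Perm GolayPt) (T : Finset GolayPt), Even T.card → Even (σ • T).card := fun σ T e => by
    rwa [Finset.card_smul_finset]
  have f1 : isCw (Nat.xor (4096 * j) (imgT uP (4096 * j))) = true := by
    refine (om_mem_cw_iff (Nat.xor_lt_two_pow (by omega) (hτ.imgT_lt _))).1 ?_
    change gc.ofMask (_ ^^^ _) ∈ _
    rw [gc.ofMask_xor]
    change om _ ∆ om _ ∈ _
    rw [← hτ.smul_om, ← hu]
    exact h.cw_of em (sm _ _ em) (by rw [← h.act u _ em, c, mul_inv_cancel_right])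
  obtain ⟨r, hr, k⟩ := anyL_iff.1 (bimp_iff.1 (allN_iff.1 j7tab j hj) (band_iff.2 ⟨beq_iff.2 (by
    rw [card_om, Nat.even_iff] at em; exact em), f1⟩))
  rw [h.eq_of em (ev r hr) (by rw [← gc.ofMask_xor]; exact om_mem_cw k)]
  rcases (by decide +kernel : ∀ r ∈ j7A, r = 0 ∨ pop24 r = 2 ∨ r = 0x1c844 ∨ ∃ a, r = j7e a) r hr with rfl | e | rfl | ⟨a, rfl⟩
  exacts [.inl h.j7o.1, .inr (.inl ((h.duad _).2 ⟨_, (card_om r).trans e, rfl⟩)), .inr (.inr (.inl h.j7o.2)),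
    .inr (.inr (.inr ⟨a, rfl⟩))]

theorem TS.j2 [Finite G] {E : Subgroup G} {z p : G} {φ : KK z p →* Equiv.Perm GolayPt} {q : Equiv.Perm GolayPt}
    {ε : Finset GolayPt → G} {θ : 𝐍 (V0 E φ (gc.gen gA)) →* Equiv.Perm GolayPt} {κ : M24 →* G} {t : G}
    (h : TS E z p φ q ε θ κ t) (dist : ∀ i < 15, ∀ j < 15, tt κ t (uM i) = tt κ t (uM j) → i = j)
    (j1 : ∃ k, k * ε (om 0x800007) = ε (om 0x800007) * k ∧ k * κ (mm uP) = κ (mm uP) * k ∧
      ∀ i < 15, k * tt κ t (uM i) * k⁻¹ ∈ V0 E φ (gc.gen gA)) :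
    t * tt κ t (uM 1) * tt κ t (uM 2) = 1 ∧ (tt κ t (uM 1) * tt κ t (uM 3) * tt κ t (uM 6) = ε (om 0x800007) ∨
      tt κ t (uM 1) * tt κ t (uM 3) * tt κ t (uM 6) = ε (om 0x800007) * t) := by
  obtain ⟨k, kz, kp, kV⟩ := j1
  have T := h.L.T
  have t0 : tt κ t (uM 0) = t := by
    rw [tt_eq h.cen (a := idN 24) (c := uM 0) (by decide +kernel) (by decide +kernel), tt, mm_one]; simp
  have cz : ∀ n, IsConj z (tt κ t n) := fun n => by
    obtain ⟨g, hg, -⟩ := h.cg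
    exact isConj_iff.2 ⟨κ (mm n) * g, by rw [tt, ← hg]; group⟩
  have cj' : ∀ g x : G, IsConj z (g * x * g⁻¹) ↔ IsConj z x := fun g x =>
    ⟨fun a => a.trans (isConj_iff.2 ⟨g, rfl⟩).symm, fun a => a.trans (isConj_iff.2 ⟨g, rfl⟩)⟩
  have nV : ∀ n, tt κ t n ∉ V0 E φ (gc.gen gA) := fun n a =>
    h.nN ((mul_mem_cancel_left (h.L.mem _)).1 ((mul_mem_cancel_right (inv_mem (h.L.mem _))).1 (le_normalizer a)))
  have kz' : k * ε (om 0x800007) * k⁻¹ = ε (om 0x800007) := mul_inv_eq_iff_eq_mul.2 kz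
  have k1 : (1 : G) = k * 1 * k⁻¹ := by simp
  have ca : ∀ {x y : G}, k * x * k⁻¹ = k * y * k⁻¹ → x = y := fun e => mul_left_cancel (mul_right_cancel e)
  have ex : ∀ i : Fin 15, ∃ a, k * tt κ t (uM i) * k⁻¹ = ε (om (j7e a)) := fun i => by
    have m := mul_inv_eq_iff_eq_mul.1 (j7_mv h.cen (j7kP i))
    rcases T.j7Fix ⟨κ (mm uP), h.L.mem _⟩ ((h.L.th _).trans (mm_val (by decide +kernel))) (kV i i.2)
      (Commute.mul_right (Commute.mul_right kp.symm m) (Commute.inv_right kp.symm) :) with e | e | e | e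
    · exact (nV (uM i) (by rw [ca (e.trans k1)]; exact one_mem _)).elim
    · exact (e.2.2 ((cj' _ _).2 (cz _))).elim
    · exact (nV _ (ca (e.trans kz'.symm) ▸ T.emem (by rw [card_om]; decide +kernel) : tt κ t (uM i) ∈ _)).elim
    · exact e
  choose σ hσ using ex
  have hi : Function.Injective σ := fun i j e => Fin.ext (dist _ i.2 _ j.2 (ca (by rw [hσ, hσ, e])))
  have mu : ∀ {x y : G} {a b : ℕ}, k * x * k⁻¹ = ε (om a) → k * y * k⁻¹ = ε (om b) → k * (x * y) * k⁻¹ = ε (om (a ^^^ b)) :=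
    fun e1 e2 => by rw [om, gc.ofMask_xor, T.mul, ← e1, ← e2]; group
  have R : ∀ i j, j7M (σ i) (σ j) ↔ i ≠ j ∧ ¬ IsConj z (tt κ t (uM i) * tt κ t (uM j)) := fun i j => by
    have m := mu (hσ i) (hσ j)
    refine ⟨fun a => ⟨fun e => a.1 (e ▸ rfl), fun b => ((T.duad _).2 ⟨_, (card_om _).trans
      ((by decide +kernel : ∀ a b, j7M a b → pop24 (j7e a ^^^ j7e b) = 2) _ _ a), m.symm⟩).2.2 ((cj' _ _).2 b)⟩,
      fun a => by_contra fun b => a.2 ?_⟩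
    obtain ⟨c, e⟩ := (by decide +kernel : ∀ a b, a ≠ b → ¬ j7M a b → ∃ c, j7e a ^^^ j7e b = j7e c) _ _ (fun e => a.1 (hi e)) b
    obtain ⟨l, rfl⟩ := hi.bijective_of_finite.2 c
    rw [e, ← hσ] at m
    exact ca m ▸ cz _
  obtain ⟨a, b⟩ := j7_comb hi fun l i j => by
    rw [R, R, ← j7_mv h.cen (j7kC l i), ← j7_mv h.cen (j7kC l j), conj_mul, cj',
      (by decide : ∀ l i j, j7p l i ≠ j7p l j ↔ i ≠ j)]
  have m1 := mu (mu (hσ 0) (hσ 1)) (hσ 2)
  have m2 := mu (mu (hσ 1) (hσ 3)) (hσ 6)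
  rw [a, T.j7o.1] at m1
  have t0' : tt κ t (uM (0 : Fin 15)) = t := t0
  have r1 := ca (m1.trans k1)
  rw [t0'] at r1
  refine ⟨r1, b.imp (fun e => ?_) fun e => ?_⟩
  · rw [e, T.j7o.2, ← kz'] at m2; exact ca m2
  · rw [e, ← mu (kz'.trans T.j7o.2.symm) (hσ 0)] at m2
    have r2 := ca m2
    rw [t0'] at r2
    exact r2

end Cfsg.Lib.JF
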