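import Mathlib
/-! A combinatorial lemma on the 15 duads of a six point set. -/
set_option autoImplicit false
namespace Cfsg.Lib.JF

/-- the masks of the 15 duads of the hexad `0x1c844`. -/
def dl : List ℕ := [0x44, 0x804, 0x4004, 0x8004, 0x10004, 0x840, 0x4040, 0x8040, 0x10040, 0x4800, 0x8800, 0x10800, 0xc000, 0x14000, 0x18000]
/-- the action of the first generator on the 15 trios. -/
def pa (i : ℕ) : ℕ := [13, 11, 3, 1, 9, 6, 14, 0, 2, 5, 7, 8, 10, 12, 4].getD i 0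
/-- the action of the second generator on the 15 trios. -/
def pb (i : ℕ) : ℕ := [7, 9, 5, 14, 2, 8, 3, 6, 13, 10, 11, 12, 1, 4, 0].getD i 0

theorem dl_c6 : ∀ a ∈ dl, (dl.toFinset.filter (fun x => a &&& x = 0)).card = 6 := by decide +kernel
theorem dl_c9 : ∀ a ∈ dl, (dl.toFinset.filter (fun x => ¬ a &&& x = 0)).card = 9 := by decide +kernel
theorem dl_3 : ∀ a ∈ dl, ∀ b ∈ dl, ∀ c ∈ dl, a &&& b = 0 → a &&& c = 0 → b &&& c = 0 →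
    a ^^^ b ^^^ c = 0x1c844 := by decide +kernel
theorem dl_4 : ∀ a ∈ dl, ∀ b ∈ dl, a &&& b = 0 → ∀ c ∈ dl, a &&& c = 0 → b ≠ c → ¬ b &&& c = 0 →
    ∀ d ∈ dl, a &&& d = 0 → b ≠ d → c ≠ d → ¬ b &&& d = 0 → ¬ c &&& d = 0 →
    (b ^^^ c ^^^ d = 0 ∨ b ^^^ c ^^^ d ^^^ a = 0x1c844) := by decide +kernel

theorem comb15 (σ : ℕ → ℕ) (hσ : ∀ i < 15, σ i ∈ dl) (inj : ∀ i < 15, ∀ j < 15, σ i = σ j → i = j)
    (ha : ∀ i < 15, ∀ j < 15, (σ i &&& σ j = 0 ↔ σ (pa i) &&& σ (pa j) = 0))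
    (hb : ∀ i < 15, ∀ j < 15, (σ i &&& σ j = 0 ↔ σ (pb i) &&& σ (pb j) = 0)) :
    σ 0 ^^^ σ 1 ^^^ σ 2 = 0x1c844 ∧
      (σ 1 ^^^ σ 3 ^^^ σ 6 = 0 ∨ σ 1 ^^^ σ 3 ^^^ σ 6 ^^^ σ 0 = 0x1c844) := by
  have q0_1 : σ 0 &&& σ 1 = 0 ↔ σ 0 &&& σ 1 = 0 := Iff.rfl
  have q13_11 : σ 13 &&& σ 11 = 0 ↔ σ 0 &&& σ 1 = 0 := (ha 0 (by decide) 1 (by decide)).symm.trans q0_1
  have q7_9 : σ 7 &&& σ 9 = 0 ↔ σ 0 &&& σ 1 = 0 := (hb 0 (by decide) 1 (by decide)).symm.trans q0_1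
  have q4_12 : σ 4 &&& σ 12 = 0 ↔ σ 0 &&& σ 1 = 0 := (hb 13 (by decide) 11 (by decide)).symm.trans q13_11
  have q0_5 : σ 0 &&& σ 5 = 0 ↔ σ 0 &&& σ 1 = 0 := (ha 7 (by decide) 9 (by decide)).symm.trans q7_9
  have q6_10 : σ 6 &&& σ 10 = 0 ↔ σ 0 &&& σ 1 = 0 := (hb 7 (by decide) 9 (by decide)).symm.trans q7_9
  have q9_10 : σ 9 &&& σ 10 = 0 ↔ σ 0 &&& σ 1 = 0 := (ha 4 (by decide) 12 (by decide)).symm.trans q4_12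
  have q2_1 : σ 2 &&& σ 1 = 0 ↔ σ 0 &&& σ 1 = 0 := (hb 4 (by decide) 12 (by decide)).symm.trans q4_12
  have q7_8 : σ 7 &&& σ 8 = 0 ↔ σ 0 &&& σ 1 = 0 := (hb 0 (by decide) 5 (by decide)).symm.trans q0_5
  have q14_7 : σ 14 &&& σ 7 = 0 ↔ σ 0 &&& σ 1 = 0 := (ha 6 (by decide) 10 (by decide)).symm.trans q6_10
  have q5_7 : σ 5 &&& σ 7 = 0 ↔ σ 0 &&& σ 1 = 0 := (ha 9 (by decide) 10 (by decide)).symm.trans q9_10
  have q5_9 : σ 5 &&& σ 9 = 0 ↔ σ 0 &&& σ 1 = 0 := (hb 2 (by decide) 1 (by decide)).symm.trans q2_1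
  have q0_2 : σ 0 &&& σ 2 = 0 ↔ σ 0 &&& σ 1 = 0 := (ha 7 (by decide) 8 (by decide)).symm.trans q7_8
  have q0_6 : σ 0 &&& σ 6 = 0 ↔ σ 0 &&& σ 1 = 0 := (hb 14 (by decide) 7 (by decide)).symm.trans q14_7
  have q6_0 : σ 6 &&& σ 0 = 0 ↔ σ 0 &&& σ 1 = 0 := (ha 5 (by decide) 7 (by decide)).symm.trans q5_7
  have q6_5 : σ 6 &&& σ 5 = 0 ↔ σ 0 &&& σ 1 = 0 := (ha 5 (by decide) 9 (by decide)).symm.trans q5_9
  have q14_13 : σ 14 &&& σ 13 = 0 ↔ σ 0 &&& σ 1 = 0 := (ha 6 (by decide) 0 (by decide)).symm.trans q6_0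
  have q14_6 : σ 14 &&& σ 6 = 0 ↔ σ 0 &&& σ 1 = 0 := (ha 6 (by decide) 5 (by decide)).symm.trans q6_5
  have q3_8 : σ 3 &&& σ 8 = 0 ↔ σ 0 &&& σ 1 = 0 := (hb 6 (by decide) 5 (by decide)).symm.trans q6_5
  have q0_4 : σ 0 &&& σ 4 = 0 ↔ σ 0 &&& σ 1 = 0 := (hb 14 (by decide) 13 (by decide)).symm.trans q14_13
  have q0_3 : σ 0 &&& σ 3 = 0 ↔ σ 0 &&& σ 1 = 0 := (hb 14 (by decide) 6 (by decide)).symm.trans q14_6
  have q1_2 : σ 1 &&& σ 2 = 0 ↔ σ 0 &&& σ 1 = 0 := (ha 3 (by decide) 8 (by decide)).symm.trans q3_8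
  have q0_7 : σ 0 &&& σ 7 = 0 ↔ σ 0 &&& σ 7 = 0 := Iff.rfl
  have q13_0 : σ 13 &&& σ 0 = 0 ↔ σ 0 &&& σ 7 = 0 := (ha 0 (by decide) 7 (by decide)).symm.trans q0_7
  have q7_6 : σ 7 &&& σ 6 = 0 ↔ σ 0 &&& σ 7 = 0 := (hb 0 (by decide) 7 (by decide)).symm.trans q0_7
  have q12_13 : σ 12 &&& σ 13 = 0 ↔ σ 0 &&& σ 7 = 0 := (ha 13 (by decide) 0 (by decide)).symm.trans q13_0
  have q4_7 : σ 4 &&& σ 7 = 0 ↔ σ 0 &&& σ 7 = 0 := (hb 13 (by decide) 0 (by decide)).symm.trans q13_0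
  have q0_14 : σ 0 &&& σ 14 = 0 ↔ σ 0 &&& σ 7 = 0 := (ha 7 (by decide) 6 (by decide)).symm.trans q7_6
  have q6_3 : σ 6 &&& σ 3 = 0 ↔ σ 0 &&& σ 7 = 0 := (hb 7 (by decide) 6 (by decide)).symm.trans q7_6
  have q10_12 : σ 10 &&& σ 12 = 0 ↔ σ 0 &&& σ 7 = 0 := (ha 12 (by decide) 13 (by decide)).symm.trans q12_13
  have q9_0 : σ 9 &&& σ 0 = 0 ↔ σ 0 &&& σ 7 = 0 := (ha 4 (by decide) 7 (by decide)).symm.trans q4_7
  have q2_6 : σ 2 &&& σ 6 = 0 ↔ σ 0 &&& σ 7 = 0 := (hb 4 (by decide) 7 (by decide)).symm.trans q4_7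
  have q7_0 : σ 7 &&& σ 0 = 0 ↔ σ 0 &&& σ 7 = 0 := (hb 0 (by decide) 14 (by decide)).symm.trans q0_14
  have q14_1 : σ 14 &&& σ 1 = 0 ↔ σ 0 &&& σ 7 = 0 := (ha 6 (by decide) 3 (by decide)).symm.trans q6_3
  have q11_1 : σ 11 &&& σ 1 = 0 ↔ σ 0 &&& σ 7 = 0 := (hb 10 (by decide) 12 (by decide)).symm.trans q10_12
  have q5_13 : σ 5 &&& σ 13 = 0 ↔ σ 0 &&& σ 7 = 0 := (ha 9 (by decide) 0 (by decide)).symm.trans q9_0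
  have q5_3 : σ 5 &&& σ 3 = 0 ↔ σ 0 &&& σ 7 = 0 := (hb 2 (by decide) 6 (by decide)).symm.trans q2_6
  have q0_13 : σ 0 &&& σ 13 = 0 ↔ σ 0 &&& σ 7 = 0 := (ha 7 (by decide) 0 (by decide)).symm.trans q7_0
  have q6_7 : σ 6 &&& σ 7 = 0 ↔ σ 0 &&& σ 7 = 0 := (hb 7 (by decide) 0 (by decide)).symm.trans q7_0
  have q0_9 : σ 0 &&& σ 9 = 0 ↔ σ 0 &&& σ 7 = 0 := (hb 14 (by decide) 1 (by decide)).symm.trans q14_1
  have q8_11 : σ 8 &&& σ 11 = 0 ↔ σ 0 &&& σ 7 = 0 := (ha 11 (by decide) 1 (by decide)).symm.trans q11_1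
  have q6_12 : σ 6 &&& σ 12 = 0 ↔ σ 0 &&& σ 7 = 0 := (ha 5 (by decide) 13 (by decide)).symm.trans q5_13
  have q8_4 : σ 8 &&& σ 4 = 0 ↔ σ 0 &&& σ 7 = 0 := (hb 5 (by decide) 13 (by decide)).symm.trans q5_13
  have q6_1 : σ 6 &&& σ 1 = 0 ↔ σ 0 &&& σ 7 = 0 := (ha 5 (by decide) 3 (by decide)).symm.trans q5_3
  have q3_6 : σ 3 &&& σ 6 = 0 ↔ σ 0 &&& σ 7 = 0 := (hb 6 (by decide) 7 (by decide)).symm.trans q6_7
  have q13_5 : σ 13 &&& σ 5 = 0 ↔ σ 0 &&& σ 7 = 0 := (ha 0 (by decide) 9 (by decide)).symm.trans q0_9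
  have q2_8 : σ 2 &&& σ 8 = 0 ↔ σ 0 &&& σ 7 = 0 := (ha 8 (by decide) 11 (by decide)).symm.trans q8_11
  have q14_10 : σ 14 &&& σ 10 = 0 ↔ σ 0 &&& σ 7 = 0 := (ha 6 (by decide) 12 (by decide)).symm.trans q6_12
  have q3_1 : σ 3 &&& σ 1 = 0 ↔ σ 0 &&& σ 7 = 0 := (hb 6 (by decide) 12 (by decide)).symm.trans q6_12
  have q2_9 : σ 2 &&& σ 9 = 0 ↔ σ 0 &&& σ 7 = 0 := (ha 8 (by decide) 4 (by decide)).symm.trans q8_4
  have q14_11 : σ 14 &&& σ 11 = 0 ↔ σ 0 &&& σ 7 = 0 := (ha 6 (by decide) 1 (by decide)).symm.trans q6_1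
  have q12_6 : σ 12 &&& σ 6 = 0 ↔ σ 0 &&& σ 7 = 0 := (ha 13 (by decide) 5 (by decide)).symm.trans q13_5
  have q3_2 : σ 3 &&& σ 2 = 0 ↔ σ 0 &&& σ 7 = 0 := (ha 2 (by decide) 8 (by decide)).symm.trans q2_8
  have q0_11 : σ 0 &&& σ 11 = 0 ↔ σ 0 &&& σ 7 = 0 := (hb 14 (by decide) 10 (by decide)).symm.trans q14_10
  have q14_9 : σ 14 &&& σ 9 = 0 ↔ σ 0 &&& σ 7 = 0 := (hb 3 (by decide) 1 (by decide)).symm.trans q3_1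
  have q3_5 : σ 3 &&& σ 5 = 0 ↔ σ 0 &&& σ 7 = 0 := (ha 2 (by decide) 9 (by decide)).symm.trans q2_9
  have q0_12 : σ 0 &&& σ 12 = 0 ↔ σ 0 &&& σ 7 = 0 := (hb 14 (by decide) 11 (by decide)).symm.trans q14_11
  have q1_3 : σ 1 &&& σ 3 = 0 ↔ σ 0 &&& σ 7 = 0 := (hb 12 (by decide) 6 (by decide)).symm.trans q12_6
  have q14_5 : σ 14 &&& σ 5 = 0 ↔ σ 0 &&& σ 7 = 0 := (hb 3 (by decide) 2 (by decide)).symm.trans q3_2
  have q0_10 : σ 0 &&& σ 10 = 0 ↔ σ 0 &&& σ 7 = 0 := (hb 14 (by decide) 9 (by decide)).symm.trans q14_9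
  have q1_6 : σ 1 &&& σ 6 = 0 ↔ σ 0 &&& σ 7 = 0 := (ha 3 (by decide) 5 (by decide)).symm.trans q3_5
  have q0_8 : σ 0 &&& σ 8 = 0 ↔ σ 0 &&& σ 7 = 0 := (hb 14 (by decide) 5 (by decide)).symm.trans q14_5
  have pig : ∀ (a b : ℕ) (T : Finset ℕ), b ≤ 15 → (∀ j, a ≤ j → j < b → σ j ∈ T) → b - a ≤ T.card := by
    intro a b T hb hT
    rw [← Nat.card_Ico]
    refine Finset.card_le_card_of_injOn σ (fun j hj => ?_) (fun i hi j hj e => ?_)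
    · rw [Finset.mem_coe, Finset.mem_Ico] at hj
      exact hT j hj.1 hj.2
    · rw [Finset.mem_coe, Finset.mem_Ico] at hi hj
      exact inj i (by omega) j (by omega) e
  have n7 : ¬ σ 0 &&& σ 7 = 0 := by
    intro h
    have := pig 7 15 (dl.toFinset.filter (fun x => σ 0 &&& x = 0)) le_rfl (fun j h1 h2 => by
      rw [Finset.mem_filter, List.mem_toFinset]
      refine ⟨hσ j h2, ?_⟩
      interval_cases j
      exacts [q0_7.2 h, q0_8.2 h, q0_9.2 h, q0_10.2 h, q0_11.2 h, q0_12.2 h, q0_13.2 h, q0_14.2 h])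
    rw [dl_c6 _ (hσ 0 (by decide))] at this
    omega
  have y1 : σ 0 &&& σ 1 = 0 := by
    by_contra h
    have := pig 1 15 (dl.toFinset.filter (fun x => ¬ σ 0 &&& x = 0)) le_rfl (fun j h1 h2 => by
      rw [Finset.mem_filter, List.mem_toFinset]
      refine ⟨hσ j h2, ?_⟩
      interval_cases j
      exacts [fun e => h (q0_1.1 e), fun e => h (q0_2.1 e), fun e => h (q0_3.1 e), fun e => h (q0_4.1 e), fun e => h (q0_5.1 e), fun e => h (q0_6.1 e), fun e => n7 (q0_7.1 e), fun e => n7 (q0_8.1 e), fun e => n7 (q0_9.1 e), fun e => n7 (q0_10.1 e), fun e => n7 (q0_11.1 e), fun e => n7 (q0_12.1 e), fun e => n7 (q0_13.1 e), fun e => n7 (q0_14.1 e)])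
    rw [dl_c9 _ (hσ 0 (by decide))] at this
    omega
  refine ⟨dl_3 _ (hσ 0 (by decide)) _ (hσ 1 (by decide)) _ (hσ 2 (by decide)) y1 (q0_2.2 y1) (q1_2.2 y1),
    dl_4 _ (hσ 0 (by decide)) _ (hσ 1 (by decide)) y1 _ (hσ 3 (by decide)) (q0_3.2 y1)
      (fun e => absurd (inj 1 (by decide) 3 (by decide) e) (by decide)) (fun e => n7 (q1_3.1 e))
      _ (hσ 6 (by decide)) (q0_6.2 y1)
      (fun e => absurd (inj 1 (by decide) 6 (by decide) e) (by decide))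
      (fun e => absurd (inj 3 (by decide) 6 (by decide) e) (by decide))
      (fun e => n7 (q1_6.1 e)) (fun e => n7 (q3_6.1 e))⟩

end Cfsg.Lib.JF
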