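import Cfsg.Agent.Lib.Block2.JU7b
import Cfsg.Agent.Lib.Block2.JU7a
import Cfsg.Agent.Lib.Block2.JU2
import Cfsg.Agent.Lib.Block2.JU3
import Cfsg.Agent.Lib.Block2.JUx

/-! The first symmetric relation. -/

set_option autoImplicit false
set_option maxRecDepth 100000

namespace Cfsg.Lib.JF
open Subgroup Cfsg.Lib.Amalg Cfsg.Lib.Core Cfsg.Lib.Known2 Cfsg.Lib.Golay Spor

variable {G : Type*} [Group G] [Finite G] {E : Subgroup G} {z p : G} {φ : KK z p →* Equiv.Perm GolayPt} {q : Equiv.Perm GolayPt}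
  {ε : Finset GolayPt → G} {θ : 𝐍 (V0 E φ (gc.gen gA)) →* Equiv.Perm GolayPt} {κ : M24 →* G} {t : G}

theorem TS.j3 (h : TS E z p φ q ε θ κ t) :
    t * tt κ t (uM 1) * tt κ t (uM 2) = 1 ∧ (tt κ t (uM 1) * tt κ t (uM 3) * tt κ t (uM 6) = ε (om 0x800007) ∨
      tt κ t (uM 1) * tt κ t (uM 3) * tt κ t (uM 6) = ε (om 0x800007) * t) := by
  obtain ⟨E', p', φ', al⟩ := h.L.exists_AL h.A
  have d : ∀ i < 15, ∀ j < 15, tt κ t (uM i) = tt κ t (uM j) → i = j := fun _ hi _ hj => h.dist hi hj
  exact h.j2 d (h.j1 al d)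

theorem TS.r1 (h : TS E z p φ q ε θ κ t) : (κ (uxE uxu) * t) ^ 3 = 1 := by
  have e : uxE uxu = mm uxu := Subtype.ext (mm_val (by decide +kernel)).symm
  have c := h.cen _ (mm_T (n := 0xe0415121008110d0f00130b0a0c09140716020603010517) (by decide +kernel))
  have a1 := j7_mv h.cen (g := 0xe0415121008110d0f00130b0a0c09140716020603010517) (a := uM 1) (b := uxu)
    (c := 0x170812070c04020a151114130610160d090f000b030e0501) (by decide +kernel)
  have a2 := j7_mv h.cen (g := 0xe0415121008110d0f00130b0a0c09140716020603010517) (a := uM 2)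
    (b := 0x17060d070b1202130f050a0c101509160408011403000e11)
    (c := 0x17041612070a030d0f021314080c090b101500061105010e) (by decide +kernel)
  have u2 := mm_mul (a := uxu) (b := uxu) (c := 0x17060d070b1202130f050a0c101509160408011403000e11) (by decide +kernel)
  have u3 := mm_mul (a := 0x17060d070b1202130f050a0c101509160408011403000e11) (b := uxu) (c := idN 24) (by decide +kernel)
  rw [mm_one, ← u2] at u3
  have u3' := congrArg κ u3
  have r := congrArg (fun x => κ (mm 0xe0415121008110d0f00130b0a0c09140716020603010517) * x *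
    (κ (mm 0xe0415121008110d0f00130b0a0c09140716020603010517))⁻¹) h.j3.1
  simp only [← conj_mul] at r
  rw [a1, a2, c, mul_inv_cancel_right, mul_one, mul_inv_cancel, tt, tt, ← u2, map_mul] at r
  rw [map_mul, map_mul, map_one] at u3'
  rw [e]
  generalize κ (mm uxu) = u at r u3'
  calc _ = t⁻¹ * (t * (u * t * u⁻¹) * (u * u * t * (u * u)⁻¹)) * (u * u * u) * t := by rw [pow_three]; group
    _ = 1 := by rw [r, u3']; group

end Cfsg.Lib.JF
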