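import Cfsg.Agent.Lib.Comp.J4.Main

/-! The subgroup `2^11 : M24` of the presented fourth Janko group. -/

set_option maxRecDepth 100000
set_option autoImplicit false

namespace Cfsg.Lib.JF

open Cfsg.Lib.Comp Cfsg.Lib.Comp.J4 Cfsg.Lib.MatB.F2

theorem ua_sq {H : Type*} [Group H] [Finite H] (K : Subgroup H) [hK : K.Normal] {n : ℕ} (c : Nat.card K = 2 ^ (n + 1))
    (h : ∀ N : Subgroup H, N.Normal → N = ⊥ ∨ N = K ∨ N = ⊤) : ∀ w ∈ K, w * w = 1 := by
  have := Fact.mk Nat.prime_two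
  let N : Subgroup H :=
    { carrier := {w | w ∈ K ∧ (∀ y ∈ K, y * w = w * y) ∧ w * w = 1}
      one_mem' := ⟨one_mem _, fun y _ => by simp, one_mul _⟩
      mul_mem' := fun {a b} ha hb => ⟨mul_mem ha.1 hb.1, fun y hy => by
        rw [← mul_assoc, ha.2.1 y hy, mul_assoc, hb.2.1 y hy, mul_assoc], by
        rw [mul_assoc, ← mul_assoc b, ha.2.1 b hb.1, mul_assoc, hb.2.2, mul_one, ha.2.2]⟩
      inv_mem' := fun {a} ha => by rwa [inv_eq_of_mul_eq_one_right ha.2.2] }
  have nN : N.Normal := ⟨fun a ha g => ⟨hK.conj_mem a ha.1 g, fun y hy => by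
    have := ha.2.1 _ (hK.conj_mem y hy g⁻¹)
    calc y * (g * a * g⁻¹) = g * (g⁻¹ * y * g⁻¹⁻¹ * a) * g⁻¹ := by group
      _ = g * a * g⁻¹ * y := by rw [this]; group, by rw [conj_mul, ha.2.2]; group⟩⟩
  have p : IsPGroup 2 K := IsPGroup.of_card c
  have : Nontrivial K := Finite.one_lt_card_iff_nontrivial.1 (by rw [c]; exact Nat.one_lt_two_pow (by omega))
  have := p.center_nontrivial
  obtain ⟨k, k0, hk⟩ := (p.to_subgroup (Subgroup.center K)).nontrivial_iff_card.1 this
  obtain ⟨x, hx⟩ := exists_prime_orderOf_dvd_card' (G := Subgroup.center K) 2 (by rw [hk]; exact dvd_pow_self 2 k0.ne')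
  have xN : (x.1.1 : H) ∈ N := ⟨x.1.2, fun y hy => congrArg Subtype.val (Subgroup.mem_center_iff.1 x.2 ⟨y, hy⟩), by
    have := pow_orderOf_eq_one x
    rw [hx, pow_two] at this
    exact congrArg (fun u : Subgroup.center K => (u.1.1 : H)) this⟩
  rcases h N nN with e | e | e
  · rw [e, Subgroup.mem_bot] at xN
    rw [show x = 1 from Subtype.ext (Subtype.ext xN), orderOf_one] at hx
    omega
  · exact fun w hw => (show w ∈ N from e ▸ hw).2.2
  · exact fun w _ => (show w ∈ N from e ▸ Subgroup.mem_top w).2.2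

theorem ua_ex : ∃ (W M : Subgroup Spor.J4) (v s : Spor.J4), (∀ w ∈ W, w * w = 1) ∧ Nat.card W = 2 ^ 11 ∧
    M ≤ Subgroup.normalizer (W : Set Spor.J4) ∧ Nat.card M = 2 ^ 11 * 244823040 ∧ v ∈ W ∧ v ≠ 1 ∧ s * v = v * s ∧
    s ∉ M := by
  have : Finite E := Nat.finite_of_card_ne_zero (by rw [e_card]; norm_num)
  refine ⟨fn.ker.map fm, M, ev gam J4m.zw, ev gam [1,2,1,3,1,3,1,3,1,3,4,2,1,2,1,2,1,2,1,3,1], ?_, ?_, ?_, ?_,
    ⟨_, z_ker, fm_z⟩, fun e => az ?_, ?_, fun hs => ?_⟩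
  · rintro _ ⟨w, hw, rfl⟩
    rw [← map_mul, ua_sq fn.ker ker_card (fun N _ => e_norm N) w hw, map_one]
  · rw [Subgroup.card_map_of_injective fm_inj, ker_card]
  · rw [← fm_range, MonoidHom.range_eq_map]
    refine le_trans (Subgroup.map_mono ?_) (Subgroup.le_normalizer_map fm)
    rw [Subgroup.normalizer_eq_top]
  · rw [m_card]; norm_num
  · rw [fm_z, e, map_one]; exact Commute.one_right _
  · refine card_all.2.1 ?_
    rw [map_mul, map_mul]
    exact (cx.mul (rho_ev (by decide +kernel)) (rho_ev (by decide +kernel))).eq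
      (cx.mul (rho_ev (by decide +kernel)) (rho_ev (by decide +kernel))) (by decide +kernel)
  · have m : ∀ w : List ℕ, (∀ x ∈ w, x ∈ LN) → ev gam w ∈ M := fun w hw => by
      induction w with
      | nil => rw [ev_nil]; exact one_mem _
      | cons a t ih =>
        rw [← List.singleton_append, ev_append, ev_single]
        exact mul_mem (n_le (mem_cl (hw a List.mem_cons_self))) (ih fun x hx => hw x (List.mem_cons_of_mem _ hx))
    rw [show [1,2,1,3,1,3,1,3,1,3,4,2,1,2,1,2,1,2,1,3,1] = [1,2,1,3,1,3,1,3,1,3] ++ ([4] ++ [2,1,2,1,2,1,2,1,3,1]) from rfl,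
      ev_append, ev_append, ev_single, Subgroup.mul_mem_cancel_left _ (m _ (by decide)),
      Subgroup.mul_mem_cancel_right _ (m _ (by decide))] at hs
    have : M = ⊤ := by
      rw [eq_top_iff, ← gam_top, cl_le]
      intro x hx
      rcases (by revert x; decide : x ∈ LN ∨ x = 4) with h4 | rfl
      exacts [n_le (mem_cl h4), hs]
    have h := card_all.2.2
    rw [this, Subgroup.index_top] at h
    omega

end Cfsg.Lib.JF
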