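import Cfsg.Agent.Lib.Block2.JU7
import Cfsg.Agent.Lib.Block2.JUa

/-! Recognition of the fourth Janko group from the symmetric relations. -/

set_option autoImplicit false

namespace Cfsg.Lib.JF

open Subgroup Cfsg.Lib.Golay Cfsg.Spor

variable {G : Type*} [Group G] [Finite G]

theorem AllD.sym_iso {E : Subgroup G} {z p : G} {φ : KK z p →* Equiv.Perm GolayPt} {q : Equiv.Perm GolayPt}
    (A : AllD E z p φ q) (κ : M24 →* G) {t : G} (t1 : t ≠ 1) (t2 : t * t = 1)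
    (cT : ∀ k : M24, (k : Equiv.Perm GolayPt) ∈ HT3 → κ k * t = t * κ k)
    (R1 : (κ (uxE uxu) * t) ^ 3 = 1)
    (R2 : (κ (uxE uxp) * t * (κ (uxE uxh) * t * (κ (uxE uxh))⁻¹)) ^ 2 = 1) : IsoJ4 G :=
  have := Cfsg.Lib.Comp.J4.simple
  A.iso_of_sym ua_ex κ t1 t2 cT R1 R2

theorem rel_iso [IsSimpleGroup G] (hG : ¬ IsMulCommutative G) {z : G} {P : Subgroup G}
    (hJ : IsOfJankoFourTypeWith z P) {x y t : G} (h : RelJ4 x y t) (t1 : t ≠ 1) : IsoJ4 G :=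
  have := Cfsg.Lib.Comp.J4.simple
  let ⟨_, _, _, _, _, A⟩ := exists_allD hG hJ
  A.iso_of_rel ua_ex h t1

end Cfsg.Lib.JF
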