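import Cfsg.Agent.Lib.Block2.JU4

/-! Groups of type `J₄`: the action of a conjugate of `t` on a tetrad. -/

set_option autoImplicit false
set_option maxRecDepth 100000

namespace Cfsg.Lib.JF

open Subgroup Cfsg.Lib.Amalg Cfsg.Lib.Core Cfsg.Lib.Known2 Cfsg.Lib.Golay Spor
open scoped Pointwise symmDiff

variable {G : Type*} [Group G] {E : Subgroup G} {z p : G} {φ : KK z p →* Equiv.Perm GolayPt} {q : Equiv.Perm GolayPt}
  {ε : Finset GolayPt → G} {θ : 𝐍 (V0 E φ (gc.gen gA)) →* Equiv.Perm GolayPt} {κ : M24 →* G} {t : G}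

theorem u8_tab : allN 4096 (fun j => forceN (Nat.mul 4096 j) fun m =>
    bimp (allL uO fun g => isCw (Nat.xor (imgN 24 g m) m)) (bor (isCw m) (isCw (Nat.xor m 0x800007)))) = true := by
  decide +kernel

theorem u8_cw {n m : ℕ} (h : inM24 n = true) (hm : m < 2 ^ 24) :
    ((mm n).1 • om m) ∆ om m ∈ cw ↔ isCw (Nat.xor (imgN 24 n m) m) = true := by
  rw [mm_smul h, ← gc.ofMask_xor]
  exact om_mem_cw_iff (Nat.xor_lt_two_pow ((inH_of_inM24 h).1.imgN_lt m) hm)

theorem LK.u8_fix {V : Subgroup G} {D : Set G} {θ : 𝐍 V →* Equiv.Perm GolayPt} (L : LK D ε θ κ) {v : G} (hv : v ∈ V)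
    (c : ∀ g ∈ uO, κ (mm g) * v = v * κ (mm g)) : v = 1 ∨ v = ε (om 0x800007) := by
  obtain ⟨S, hS, rfl⟩ := (L.T.mem v).1 hv
  obtain ⟨j, hj, k⟩ := exists_rep S
  have em : Even (om (4096 * j)).card := by
    have a := card_cw k
    have b := card_symmDiff_add (om (4096 * j)) S
    rw [Nat.even_iff] at *
    omega
  rw [← L.T.eq_of em hS k] at c ⊢
  refine (bor_iff.1 (bimp_iff.1 (allN_iff.1 u8_tab j hj) (allL_iff.2 fun g hg => ?_))).imp
    (fun a => (L.T.one _ em).2 (om_mem_cw a)) fun a => L.T.eq_of em (u4_ev (by decide +kernel)) ?_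
  · refine (u8_cw (allL_iff.1 (by decide +kernel : allL uO inM24 = true) g hg) (show 4096 * j < _ by omega)).1 ?_
    have := c g hg
    rw [L.act _ em, mul_left_inj] at this
    exact L.T.cw_of (by rwa [Finset.card_smul_finset]) em this
  · rw [← gc.ofMask_xor]; exact om_mem_cw a

/-- `g` fixes the trio `a T0`. -/
noncomputable def u8B (a g : ℕ) : Bool :=
  band (band (band (inM24 g) (inM24 a)) (inM24 (mulN 24 (invN 24 a) (mulN 24 g a))))
    (band (Nat.beq (mulN 24 a (mulN 24 (invN 24 a) (mulN 24 g a))) (mulN 24 g a))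
      (Nat.beq (famAct 3 (mulN 24 (invN 24 a) (mulN 24 g a)) 0x82402f6920d0149f00) 0x82402f6920d0149f00))

/-- the table on `O₂(HS6)`. -/
noncomputable def u8Q (y : ℕ) : Bool :=
  band (band (inM24 y) (allL uO fun g => Nat.beq (mulN 24 g y) (mulN 24 y g)))
    (bimp (band (Nat.beq (mulN 24 0x30f150d120c010414050a13080916070b060e1002001711 y)
        (mulN 24 y 0x30f150d120c010414050a13080916070b060e1002001711))
      (Nat.beq (mulN 24 0x112160c0f04001315050b09100608140a0d0e0717031102 y)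
        (mulN 24 y 0x112160c0f04001315050b09100608140a0d0e0717031102)))
      (bor (Nat.beq y (idN 24)) (Nat.beq y 0x170d0609070b11040a0e1608120f140c1315051003020100)))

theorem TS.u8_tt (h : TS E z p φ q ε θ κ t) {g a : ℕ} (e : u8B a g = true) :
    κ (mm g) * tt κ t a = tt κ t a * κ (mm g) := by
  simp only [u8B, band_iff] at e
  obtain ⟨⟨⟨e1, e2⟩, e3⟩, e4, e5⟩ := e
  refine comm_of_conj_eq ?_
  rw [tt_cj (b := mulN 24 g a) (band_iff.2 ⟨band_iff.2 ⟨e1, e2⟩, beq_iff.2 rfl⟩),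
    tt_eq h.cen (band_iff.2 ⟨band_iff.2 ⟨e2, e3⟩, e4⟩) (band_iff.2 ⟨e3, e5⟩)]

theorem TS.rho [Finite G] (h : TS E z p φ q ε θ κ t) {E' : Subgroup G} {p' : G}
    {φ' : KK (ε (om 0x800007)) p' →* Equiv.Perm GolayPt} (al : AL ε θ κ E' p' φ') :
    tt κ t (uM 1) * ε (om 0x2b) * tt κ t (uM 1) =
      ε (om 0x2b) * κ (mm 0x170d0609070b11040a0e1608120f140c1315051003020100) := by
  have L := h.L
  have T := L.T
  have ez : Even (om 0x800007).card := u4_ev (by decide +kernel)
  have ew : Even (om 0x2b).card := u4_ev (by decide +kernel)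
  have iO : ∀ g ∈ uO, inM24 g = true := allL_iff.1 (by decide +kernel : allL uO inM24 = true)
  have kO : ∀ g ∈ uO, κ (mm g) ∈ E' := fun g hg => al.kO _ (by
    rw [mm_val (iO g hg)]; exact (Coding.inH_gen u4_val g hg).2)
  have s2 : tt κ t (uM 1) * tt κ t (uM 1) = 1 := by rw [tt, conj_mul, h.toTA.u4_t2]; group
  have sz : tt κ t (uM 1) * ε (om 0x800007) = ε (om 0x800007) * tt κ t (uM 1) := by
    obtain ⟨m, l, -⟩ := h.toTA.u4_L al
    have := (show Commute t _ from l.kz).conj (κ (mm (uM 1)))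
    rwa [conj_eq_of_comm (L.u4_com (n := uM 1) (m := 0x800007) (by decide +kernel))] at this
  have sO : ∀ g ∈ uO, κ (mm g) * tt κ t (uM 1) = tt κ t (uM 1) * κ (mm g) := fun g hg =>
    h.u8_tt (allL_iff.1 (by decide +kernel : allL uO (u8B (uM 1)) = true) g hg)
  have wE : ε (om 0x2b) ∈ E' := by
    have e : Even (om 0x50).card := u4_ev (by decide +kernel)
    have u := kO (uO.getD 3 0) (by decide +kernel)
    have := mul_mem (al.js.ls.norm _ (T.comm (T.emem e) (T.emem ez)) _ u) (inv_mem u)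
    rwa [inv_eq_of_mul_eq_one_right (T.sq (T.emem e)), mul_assoc (ε _), L.act _ e, ← mul_assoc, mul_inv_cancel_right, ← T.mul,
      T.eq_of (even_sd e (by rwa [Finset.card_smul_finset])) ew (by
        rw [mm_smul (by decide +kernel), ← gc.ofMask_xor, ← gc.ofMask_xor]; exact om_mem_cw (by decide +kernel))] at this
  have nc : tt κ t (uM 1) * ε (om 0x2b) ≠ ε (om 0x2b) * tt κ t (uM 1) := fun c => by
    have e : Even (om (imgN 24 (invN 24 (uM 1)) 0x2b)).card := u4_ev (by decide +kernel)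
    have a := L.act (mm (uM 1)) e
    rw [mm_smul (by decide +kernel), show imgN 24 (uM 1) (imgN 24 (invN 24 (uM 1)) 0x2b) = 0x2b by decide +kernel] at a
    obtain ⟨r, hr, k⟩ := (h.cV _ e).1 (by
      have := (show Commute _ _ from c).conj (κ (mm (uM 1)))⁻¹
      rw [tt, ← mul_inv_eq_iff_eq_mul.2 a] at this
      simpa [mul_assoc] using this.eq)
    rw [← gc.ofMask_xor] at k
    have := allL_iff.1 (by decide +kernel : allL uZ (fun r => band (Nat.ble (Nat.xor (imgN 24 (invN 24 (uM 1)) 0x2b) r) 16777215)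
      (bimp (isCw (Nat.xor (imgN 24 (invN 24 (uM 1)) 0x2b) r)) false)) = true) r hr
    exact absurd (bimp_iff.1 (band_iff.1 this).2 ((om_mem_cw_iff (Nat.lt_succ_of_le (Nat.le_of_ble_eq_true
      (band_iff.1 this).1))).1 k)) (by simp)
  have r1 := h.u8_tt (g := 0x30f150d120c010414050a13080916070b060e1002001711) (a := uM 1) (by decide +kernel)
  have r2 := h.u8_tt (g := 0x112160c0f04001315050b09100608140a0d0e0717031102) (a := uM 1) (by decide +kernel)
  have q1 := L.u4_com (n := 0x30f150d120c010414050a13080916070b060e1002001711) (m := 0x2b) (by decide +kernel)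
  have q2 := L.u4_com (n := 0x112160c0f04001315050b09100608140a0d0e0717031102) (m := 0x2b) (by decide +kernel)
  have qh := L.u4_com (n := 0x170d0609070b11040a0e1608120f140c1315051003020100) (m := 0x2b) (by decide +kernel)
  generalize tt κ t (uM 1) = s at *
  generalize ε (om 0x2b) = w at *
  have si := inv_eq_of_mul_eq_one_right s2
  have cE : s * w * s⁻¹ * w⁻¹ ∈ E' := mul_mem (al.js.ls.norm s sz w wE) (inv_mem wE)
  have cO : ∀ g ∈ uO, κ (mm g) * (s * w * s⁻¹ * w⁻¹) = s * w * s⁻¹ * w⁻¹ * κ (mm g) := fun g hg => by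
    have a := sO g hg
    have b := al.js.es.conj_eq (kO g hg) wE
    have d := al.js.es.cen w wE
    have e := al.js.es.sq
    generalize κ (mm g) = k at *
    generalize ε (om 0x800007) = y at sz b d e
    refine comm_of_conj_eq ?_
    rw [show k * (s * w * s⁻¹ * w⁻¹) * k⁻¹ = (k * s * k⁻¹) * (k * w * k⁻¹) * (k * s * k⁻¹)⁻¹ * (k * w * k⁻¹)⁻¹ by group,
      conj_eq_of_comm a]
    rcases b with b | b <;> rw [b]
    rw [show s * (w * y) * s⁻¹ * (w * y)⁻¹ = s * w * s⁻¹ * (s * y * s⁻¹ * y⁻¹) * w⁻¹ by group, sz]; group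
  obtain ⟨σ, S, hS, e1⟩ := L.dec (al.le cE)
  have sO' : σ.1 ∈ gc.gen uO := by
    have := al.th ⟨_, al.le cE⟩ cE
    rwa [show (⟨_, al.le cE⟩ : 𝐍 (V0 E φ (gc.gen gA))) = ⟨ε S * κ σ, e1 ▸ al.le cE⟩ from Subtype.ext e1,
      L.thm (T.emem hS)] at this
  obtain ⟨y, rfl, hy⟩ : ∃ y, σ = mm y ∧ u8Q y = true := by
    obtain ⟨y, a, b, c⟩ := Coding.forall_mem_gen u4_val (M := 1021) (d := 10) (a := 7) (q := u8Q) (by decide +kernel) sO'
    exact ⟨y, Subtype.ext (by rw [mm_val (band_iff.1 (band_iff.1 c).1).1, b]), c⟩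
  obtain ⟨⟨iy, y1⟩, y2⟩ : (_ ∧ _) ∧ _ := by simpa only [u8Q, band_iff] using hy
  have cm : ∀ g, inM24 g = true → (mm g * mm y = mm y * mm g ↔ Nat.beq (mulN 24 g y) (mulN 24 y g) = true) := fun g ig => by
    have a := (inH_of_inM24 ig).1
    have b := (inH_of_inM24 iy).1
    rw [Subtype.ext_iff, coe_mul, coe_mul, mm_val ig, mm_val iy, ← a.dec_mul b, ← b.dec_mul a, (a.mul b).dec_inj (b.mul a), beq_iff]
    rfl
  have key : ∀ g, κ (mm g) * s = s * κ (mm g) → κ (mm g) * w = w * κ (mm g) →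
      mm g * mm y = mm y * mm g ∧ ε ((mm g).1 • S) = ε S := fun g a b => by
    have : κ (mm g) * (s * w * s⁻¹ * w⁻¹) = s * w * s⁻¹ * w⁻¹ * κ (mm g) :=
      ((((show Commute _ s from a).mul_right b).mul_right (show Commute _ s from a).inv_right).mul_right
        (show Commute _ w from b).inv_right).eq
    rw [e1, ← mul_assoc, L.act _ hS, mul_assoc, mul_assoc, ← map_mul, ← map_mul] at this
    exact L.uq (T.emem (by rwa [Finset.card_smul_finset])) (T.emem hS) this
  have e0 : ε S = 1 := by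
    refine (L.u8_fix (T.emem hS) fun g hg => ?_).resolve_right fun k => ?_
    · have := cO g hg
      rw [e1, ← mul_assoc, mul_assoc (ε S), ← map_mul, ← (cm g (iO g hg)).2 (allL_iff.1 y1 g hg), map_mul, ← mul_assoc] at this
      exact mul_right_cancel this
    · have a := (key _ r1 q1).2
      have b := L.act (mm 0x30f150d120c010414050a13080916070b060e1002001711) hS
      rw [a, k, L.act _ ez, mul_left_inj] at b
      exact absurd ((u8_cw (by decide +kernel) (by norm_num)).1 (T.cw_of (by rwa [Finset.card_smul_finset]) ez b))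
        (by decide +kernel)
  rw [e0, one_mul] at e1
  rcases bor_iff.1 (bimp_iff.1 y2 (band_iff.2 ⟨(cm _ (by decide +kernel)).1 (key _ r1 q1).1,
    (cm _ (by decide +kernel)).1 (key _ r2 q2).1⟩)) with k | k <;> obtain rfl := beq_iff.1 k
  · rw [mm_one, map_one, mul_inv_eq_one, mul_inv_eq_iff_eq_mul] at e1
    exact absurd e1 nc
  · rw [← qh, ← e1, si, inv_mul_cancel_right]

end Cfsg.Lib.JF
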