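import Cfsg.Agent.Lib.Block2.JU9a
import Cfsg.Agent.Lib.Block2.JR5

/-! Groups of Janko-four type are isomorphic to the fourth Janko group. -/

set_option autoImplicit false

namespace Cfsg.Lib.JF

theorem j4_iso {G : Type*} [Group G] [Finite G] [IsSimpleGroup G] (hG : ¬ IsMulCommutative G) {z : G} {P : Subgroup G}
    (hJ : IsOfJankoFourTypeWith z P) : Spor.IsoJ4 G :=
  j4_iso_of hG hJ fun _ h => h.L.T.r5_R2 h.hk h.cl h.toTA.u4_t2 h.cen h.F0 h.R1 (fun S e c => (h.cV S e).1 c) h.t1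

end Cfsg.Lib.JF
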