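import Cfsg.Agent.Lib.Block2.JU1
import Cfsg.Agent.Lib.Block2.JU3
import Cfsg.Agent.Lib.Block2.JU5
import Cfsg.Agent.Lib.Block2.JU2a
import Cfsg.Agent.Lib.Block2.JR3
import Cfsg.Agent.Lib.Block2.JH3
/-! The centraliser of the trio involution covers the `2^6` of the sextet group. -/
set_option autoImplicit false
set_option maxRecDepth 100000
namespace Cfsg.Lib.JF
open Subgroup Cfsg.Lib.Amalg Cfsg.Lib.Core Cfsg.Lib.Known2 Cfsg.Lib.Golay Spor MulAction
open scoped Pointwise symmDiff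

variable {G : Type*} [Group G] [Finite G] {E : Subgroup G} {z p : G} {φ : KK z p →* Equiv.Perm GolayPt}
  {q : Equiv.Perm GolayPt}

theorem AllD.uc_z0 (A : AllD E z p φ q) {v y : G} (v2 : v * v = 1) (v1 : v ≠ 1) (vp : v * p = p * v)
    (y5 : y ^ 5 = 1) (y1 : y ≠ 1) (yp : y * p = p * y) (yv : v * y = y * v) : v = z := by
  have h := A.js
  have kk : ∀ x, x * p = p * x → x ∈ KK z p := fun x e => mem_KK.2 ⟨mem_cent_single.1 (A.s5563.2.2.2.2
    (centralizer_le_normalizer _ (mem_cent_zpowers.2 e))), e⟩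
  have lv : L φ v _ := ⟨kk v vp, rfl⟩
  have ly : L φ y _ := ⟨kk y yp, rfl⟩
  generalize φ ⟨v, kk v vp⟩ = m at lv
  generalize φ ⟨y, kk y yp⟩ = n at ly
  have n5 : n ^ 5 = 1 := (ly.pow 5).uniq (y5 ▸ L.one)
  have n1 : n ≠ 1 := by
    rintro rfl
    have := h.ker_six ly
    rw [pow_succ, y5, one_mul] at this
    exact y1 this
  have m2 : m * m = 1 := (lv.mul lv).uniq (v2 ▸ L.one)
  obtain ⟨k, rfl⟩ := (m22_five (h.mem ly) (@orderOf_eq_prime _ _ _ _ ⟨by norm_num⟩ n5 n1)).1 m (h.mem lv) ((lv.mul ly).uniq (yv ▸ ly.mul lv))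
  have m1 : n ^ k = 1 := by
    have : (n ^ k) ^ 5 = 1 := by rw [← zpow_natCast, ← zpow_mul, mul_comm, zpow_mul, zpow_natCast, n5, one_zpow]
    rw [show 5 = 2 * 2 + 1 from rfl, pow_succ, pow_mul, pow_two (n ^ k), m2, one_pow, one_mul] at this
    exact this
  exact (h.ker_two (lv.of_eq m1) v2).resolve_left v1

theorem AllD.uc_z (A : AllD E z p φ q) (hi : IsConj p p⁻¹) {s v y : G} (s3 : s ^ 3 = 1) (s1 : s ≠ 1) (v2 : v * v = 1)
    (v1 : v ≠ 1) (vp : v * s = s * v) (y5 : y ^ 5 = 1) (y1 : y ≠ 1) (yp : y * s = s * y) (yv : v * y = y * v) :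
    ∃ g, g * z * g⁻¹ = v ∧ g * p * g⁻¹ = s := by
  have := Fact.mk Nat.prime_three
  obtain ⟨g, hg⟩ := isConj_iff.1 (A.s5564 A.s5563.2.2.2.2 hi s p (orderOf_eq_prime s3 s1)
    (orderOf_eq_prime A.js.p3 A.js.p1))
  let f : G →* G := (MulAut.conj g).toMonoidHom
  have fi : Function.Injective f := (MulAut.conj g).injective
  have fs : f s = p := hg
  have tr : ∀ {x y : G}, x * y = y * x → f x * f y = f y * f x := fun e => by rw [← map_mul, e, map_mul]
  have e : f v = z := A.uc_z0 (y := f y) (by rw [← map_mul, v2, map_one]) (fun e => v1 (fi (e.trans (map_one f).symm)))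
    (fs ▸ tr vp) (by rw [← map_pow, y5, map_one]) (fun e => y1 (fi (e.trans (map_one f).symm))) (fs ▸ tr yp) (tr yv)
  refine ⟨g⁻¹, ?_, ?_⟩
  · rw [← e]; show g⁻¹ * (g * v * g⁻¹) * g⁻¹⁻¹ = v; group
  · rw [← hg]; group

theorem JS.uc_c9 (h : JS E z p M22 φ) {t : G} (kt : t ∈ KK z p) (t2 : t * t = 1) (t1 : t ≠ 1) (tz : t ≠ z) :
    Nat.card ↥(E ⊓ centralizer {t}) = 2 ^ 9 := by
  have lt : L φ t _ := ⟨kt, rfl⟩
  generalize φ ⟨t, kt⟩ = m at lt
  have m1 : m ≠ 1 := by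
    rintro rfl
    exact (h.ker_two lt t2).elim t1 tz
  obtain ⟨c, hc, rfl⟩ := mf.cls m (h.mem lt) m1 ((lt.mul lt).uniq (t2 ▸ L.one))
  obtain ⟨k, lk⟩ := h.ex hc
  rw [← h.Cm_one lt t2, ← h.cj_Cm (B := {gc.dec u1}) lk fun y => ?_, card_cj, h.c9 mf]
  simp only [Set.mem_singleton_iff]
  constructor
  · rintro rfl; group
  · intro e; rw [← e]; group

/-- order five, commutes with `uP`. -/
def ucF : ℕ := 0x17030d0704090c0e060b110a0f1513141610120508020100

theorem uc_in : ∀ g ∈ [uP, ucF, uS, uY], gc.InH M24 g := inH_of_allL (by decide +kernel)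
theorem uc_inO : ∀ g ∈ uO, gc.InH M24 g := inH_of_allL (by decide +kernel)

theorem uc_spec : Nat.card (gc.gen uO) = 64 ∧ (∀ x ∈ gc.gen uO, ∃ y, gc.Valid y ∧ gc.dec y = x ∧
      band (Nat.beq (imgT y 0x800007) 0x800007) (band (Nat.beq (mulN 24 y y) (idN 24)) (Nat.beq y (mulN 24 (mulN 24 (mulN 24 uP
        (mulN 24 (mulN 24 uP y) (invN 24 uP))) (invN 24 uP)) (invN 24 (mulN 24 (mulN 24 uP y) (invN 24 uP)))))) = true) ∧
    ∀ g ∈ gc.gen [uP], ∀ x ∈ gc.gen uO, g * x * g⁻¹ ∈ gc.gen uO :=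
  Coding.normal_cert (c := gc) (M := 251) (d := 8) (a := 4) (fun g hg => (uc_in g (by simp at hg ⊢; tauto)).1)
    (fun g hg => (uc_inO g hg).1) (by decide +kernel)

theorem uc_mm {κ : M24 →* G} {c : ℕ} (h : gc.InH M24 c) : UxR κ c (κ (mm c)) :=
  ⟨h, congrArg κ (Subtype.ext (by rw [mm, dif_pos h.2]))⟩

theorem TA.uc_cov {ε : Finset GolayPt → G} {θ : 𝐍 (V0 E φ (gc.gen gA)) →* Equiv.Perm GolayPt} {κ : M24 →* G} {t : G}
    (h : TA E z p φ q ε θ κ t) (hi : IsConj p p⁻¹)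
    (cV : ∀ S : Finset GolayPt, Even S.card → (t * ε S = ε S * t ↔ ∃ r ∈ uZ, S ∆ om r ∈ cw)) :
    ∃ v ∈ V0 E φ (gc.gen gA), v * κ (mm uY) * t = t * (v * κ (mm uY)) := by
  classical
  have A := h.A
  have K := h.L
  have T := K.T
  have cN := h.cN
  have nN := h.nN
  have cV11 := A.gd.card
  obtain ⟨g0, e0, -⟩ := h.cg
  have t2 : t * t = 1 := by rw [← e0, conj_mul, A.js.es.sq]; group
  clear h
  generalize DD (V0 E φ (gc.gen gA)) z = D at K T
  generalize V0 E φ (gc.gen gA) = V at *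
  have ev : Even (om 0x800007).card := by rw [card_om]; decide +kernel
  have inj : ∀ k, κ k ∈ V → k = 1 := fun k hk => Subtype.ext ((K.th k).symm.trans ((K.T.ker ⟨κ k, K.mem k⟩).2 hk))
  have cv : ∀ {c g}, UxR κ c g → isCw (Nat.xor (imgT c 0x800007) 0x800007) = true →
      g * ε (om 0x800007) = ε (om 0x800007) * g := by
    rintro c _ ⟨hc, rfl⟩ e
    refine comm_of_conj_eq ((K.T.act ⟨_, K.mem _⟩ _ ev).trans ?_)
    rw [K.th]
    refine T.eq_of (by rw [Finset.card_smul_finset]; exact ev) ev ?_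
    rw [hc.1.smul_om, ← om_xor]
    exact (om_mem_cw_iff (isCw_lt e)).2 e
  have s := uc_mm (κ := κ) (uc_in uP (by simp))
  have f := uc_mm (κ := κ) (uc_in ucF (by simp))
  have s0 := uc_mm (κ := κ) (uc_in uS (by simp))
  have n1 : ∀ {c g}, UxR κ c g → c ≠ idN 24 → g ≠ 1 := by
    rintro c _ ⟨hc, rfl⟩ n e
    exact ne_of hc.1 n (congrArg Subtype.val (inj _ (e ▸ one_mem V)))
  have zV := T.emem ev
  have z1 : ε (om 0x800007) ≠ 1 := fun e => by
    rw [K.T.one _ ev, om_mem_cw_iff (by norm_num)] at e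
    exact absurd e (by decide +kernel)
  obtain ⟨g, e1, e2⟩ := A.uc_z hi ((s.pow 3).one (by decide +kernel)) (n1 s (by decide +kernel)) (T.esq (om 0x800007)) z1
    (cv s (by decide +kernel)).symm ((f.pow 5).one (by decide +kernel)) (n1 f (by decide +kernel))
    ((f.mul s).eq (s.mul f) (by decide +kernel)) (cv f (by decide +kernel)).symm
  obtain ⟨φ', J, -⟩ := A.js.u2cj g e1 e2
  generalize cj g E = E' at J
  have kO : ∀ u : M24, u.1 ∈ gc.gen uO → κ u ∈ E' := fun u hu => by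
    obtain ⟨y, hy, e, b⟩ := uc_spec.2.1 u hu
    have r : UxR κ y (κ u) := ⟨⟨hy, e ▸ u.2⟩, congrArg κ (Subtype.ext e)⟩
    simp only [band_iff] at b
    have r' := (s.mul r).mul s.inv
    have e3 := r.eq (((s.mul r').mul s.inv).mul r'.inv) b.2.2
    have c1 := cv s (by decide +kernel)
    have c2 := cv r (by rw [beq_iff.1 b.1]; decide +kernel)
    rw [e3]
    refine J.r3_inE ?_ (e3 ▸ (r.mul r).one b.2.1)
    exact (((Commute.mul_left (show Commute _ _ from c1) (show Commute _ _ from c2))).mul_left (Commute.inv_left c1)).eq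
  have c7 := (J.struct mf (V := V) (fun v hv => T.comm hv zV) zV (fun v hv => T.sq hv) cV11.ge).choose_spec.2.2.2.1
  have QM : gc.gen uO ≤ M24 := Coding.gen_le uc_inO
  let F : ↥(V ⊓ E') × gc.gen uO → E' := fun x => ⟨x.1 * κ ⟨x.2, QM x.2.2⟩, mul_mem x.1.2.2 (kO _ x.2.2)⟩
  have Fi : Function.Injective F := fun x y e => by
    have := K.uq x.1.2.1 y.1.2.1 (congrArg Subtype.val e)
    exact Prod.ext (Subtype.ext this.2) (Subtype.ext (congrArg (fun m : M24 => m.1) this.1))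
  have Fs := (Fi.bijective_of_nat_card_le (by rw [Nat.card_prod, c7, uc_spec.1, J.card]; norm_num)).2
  have dc : ∀ e ∈ E', ∃ v ∈ V, ∃ u : M24, u.1 ∈ gc.gen uO ∧ e = v * κ u := fun e he => by
    obtain ⟨x, hx⟩ := Fs ⟨e, he⟩
    exact ⟨_, x.1.2.1, _, x.2.2, (congrArg Subtype.val hx).symm⟩
  have le : E' ≤ 𝐍 V := fun e he => by
    obtain ⟨v, hv, u, -, rfl⟩ := dc e he
    exact mul_mem (le_normalizer hv) (K.mem u)
  have c9 := J.uc_c9 (t := t) (mem_KK.2 ⟨(cN _ (.inl (cv s0 (by decide +kernel)).symm)).symm,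
    (cN _ (.inl ((s.mul s0).eq (s0.mul s) (by decide +kernel)))).symm⟩) t2
    (fun e => nN (e ▸ one_mem _)) fun e => nN (e ▸ le_normalizer zV)
  obtain ⟨B, b1, b2⟩ := T.img (X := E' ⊓ centralizer {t}) (Z := V ⊓ centralizer {t}) (inf_le_left.trans le)
    fun x hx => ⟨hx.2, hx.1.2⟩
  have c8 : Nat.card ↥(V ⊓ centralizer {t}) ≤ 8 := by
    have sb : ((V ⊓ centralizer {t} : Subgroup G) : Set G) ⊆ ↑(uZ.map fun r => ε (om r)).toFinset := by
      rintro x ⟨hx, cx⟩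
      obtain ⟨S, hS, rfl⟩ := (T.mem x).1 hx
      obtain ⟨r, hr, e⟩ := (cV S hS).1 (mem_cent_single.1 cx).symm
      have er : Even (om r).card := by
        rw [card_om]; exact (by decide +kernel : ∀ r ∈ uZ, Even (pop24 r)) r hr
      simp only [List.coe_toFinset, List.mem_map, Set.mem_setOf_eq]
      exact ⟨r, hr, (T.eq_of hS er e).symm⟩
    have := Set.ncard_le_ncard sb (Finset.finite_toSet _)
    rw [Set.ncard_coe_finset] at this
    exact (le_of_eq (Nat.card_coe_set_eq _)).trans (this.trans ((List.toFinset_card_le _).trans (by simp [uZ])))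
  have bl : B ≤ gc.gen uO := fun b hb => by
    obtain ⟨x, hx, rfl⟩ := b2 b hb
    obtain ⟨v, hv, u, hu, e⟩ := dc x hx.1
    have := K.thm hv u (e ▸ x.2)
    rw [show x = ⟨v * κ u, e ▸ x.2⟩ from Subtype.ext e, this]; exact hu
  have be : B = gc.gen uO := eq_of_le_of_card_ge bl (by rw [uc_spec.1]; rw [c9] at b1; nlinarith)
  obtain ⟨x, hx, e⟩ := b2 (gc.dec uY) (be ▸ subset_closure ⟨uY, by simp [uO, uY], rfl⟩)
  obtain ⟨v, hv, u, hu, e'⟩ := dc x hx.1
  have := K.thm hv u (e' ▸ x.2)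
  rw [show x = ⟨v * κ u, e' ▸ x.2⟩ from Subtype.ext e', this] at e
  refine ⟨v, hv, ?_⟩
  rw [show mm uY = u from Subtype.ext ((mm_val (by decide +kernel)).trans e.symm), ← e']
  exact mem_cent_single.1 hx.2

theorem AllD.exists_TS (A : AllD E z p φ q) (hi : IsConj p p⁻¹) : ∃ ε θ κ t, TS E z p φ q ε θ κ t := by
  obtain ⟨ε, θ, κ, t, h⟩ := A.exists_TA hi
  obtain ⟨κ', h'⟩ := h.twist h.cV (h.uc_cov hi h.cV)
  exact ⟨ε, θ, κ', t, h'⟩

end Cfsg.Lib.JF
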