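import Cfsg.Agent.Lib.Block2.JU3f
import Cfsg.Agent.Lib.Block2.JU2
import Cfsg.Agent.Lib.Block2.JUc
import Cfsg.Agent.Lib.Block2.JR4
import Cfsg.Agent.Lib.Block2.JU8

/-! Groups of Janko-four type: reduction to the last relation. -/

set_option autoImplicit false
set_option maxRecDepth 100000

namespace Cfsg.Lib.JF

open Subgroup Cfsg.Lib.Amalg Cfsg.Lib.Core Cfsg.Lib.Known2 Cfsg.Lib.Golay Spor
open scoped Pointwise symmDiff

variable {G : Type*} [Group G] [Finite G] {E : Subgroup G} {z p : G} {φ : KK z p →* Equiv.Perm GolayPt}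
  {q : Equiv.Perm GolayPt} {ε : Finset GolayPt → G} {θ : 𝐍 (V0 E φ (gc.gen gA)) →* Equiv.Perm GolayPt}
  {κ : M24 →* G} {t : G}

theorem TS.F0 (h : TS E z p φ q ε θ κ t) : t * ε (om 3) * t = ε (om 3) * κ (mm f3e) :=
  let ⟨_, _, _, al⟩ := LK.exists_AL h.A h.L
  h.duadF al

omit [Finite G] in
theorem TS.hk (h : TS E z p φ q ε θ κ t) : ∀ k, ∃ m : κ k ∈ 𝐍 (V0 E φ (gc.gen gA)), θ ⟨κ k, m⟩ = k :=
  fun k => ⟨h.L.mem k, h.L.th k⟩

omit [Finite G] in
theorem TS.cl (h : TS E z p φ q ε θ κ t) [Finite G] :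
    ∀ d ∈ DD (V0 E φ (gc.gen gA)) z, centralizer {d} ≤ 𝐍 (V0 E φ (gc.gen gA)) := h.A.cenD

omit [Finite G] in
theorem TS.t1 (h : TS E z p φ q ε θ κ t) : t ≠ 1 := fun e => h.nN (e ▸ one_mem _)

theorem TS.R1 (h : TS E z p φ q ε θ κ t) : (κ (uxE uxu) * t) ^ 3 = 1 := by
  have ve : gc.InH M24 f3e := inH_of_inM24 (by decide +kernel)
  have e3 : ({gc.pt 0, gc.pt 1} : Finset GolayPt) = om 3 := by
    ext x
    obtain ⟨i, hi, rfl⟩ := gc.exists_pt x
    rw [pt_mem_om hi, Finset.mem_insert, Finset.mem_singleton]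
    revert i
    decide +kernel
  refine h.L.T.r4_R1 h.hk h.cl h.toTA.u4_t2 h.cen ⟨gc.pt 0, (pt_mem_om (by norm_num)).2 (by decide), gc.pt 1,
    (pt_mem_om (by norm_num)).2 (by decide), by decide +kernel, mm f3e, fun e => ?_, fun x hx => ?_, e3 ▸ h.F0⟩
  · have := congrArg (fun k : M24 => gc.idx (k.1 (gc.pt 4))) e
    simp only [mm_val (show inM24 f3e = true by decide +kernel), ve.1.dec_pt (show 4 < gc.n by decide), OneMemClass.coe_one,
      Equiv.Perm.one_apply] at this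
    rw [gc.idx_pt _ (ve.1.app_lt (show 4 < gc.n by decide)), gc.idx_pt _ (show 4 < gc.n by decide)] at this
    exact absurd this (by decide +kernel)
  · obtain ⟨i, hi, rfl⟩ := gc.exists_pt x
    rw [mm_val (by decide +kernel), ve.1.dec_pt hi,
      (by decide +kernel : ∀ i < 24, tb 0x82402f i = true → app f3e i = i) i hi ((pt_mem_om hi).1 hx)]

theorem TS.iso (h : TS E z p φ q ε θ κ t)
    (R2 : (κ (uxE uxp) * t * (κ (uxE uxh) * t * (κ (uxE uxh))⁻¹)) ^ 2 = 1) : IsoJ4 G :=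
  h.A.sym_iso κ h.t1 h.toTA.u4_t2 h.cen h.R1 R2

theorem j4_iso_of [IsSimpleGroup G] (hG : ¬ IsMulCommutative G) {z : G} {P : Subgroup G} (hJ : IsOfJankoFourTypeWith z P)
    (H : ∀ {p : G} {φ : KK z p →* Equiv.Perm GolayPt} {q ε θ κ t}, IsConj p p⁻¹ →
      TS (twoCoreOfCentralizer z) z p φ q ε θ κ t →
      (κ (uxE uxp) * t * (κ (uxE uxh) * t * (κ (uxE uxh))⁻¹)) ^ 2 = 1) : IsoJ4 G := by
  obtain ⟨p, φ, q, -, hi, A⟩ := exists_allD hG hJ
  obtain ⟨ε, θ, κ, t, h⟩ := A.exists_TS hi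
  exact h.iso (H hi h)

end Cfsg.Lib.JF
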