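import Cfsg.Agent.Lib.Comp.J4.Main

/-! Words in the presented fourth Janko group normalising large cyclic subgroups. -/

set_option autoImplicit false
set_option maxRecDepth 100000

namespace Cfsg.Lib.JF

open Cfsg.Lib.Comp Cfsg.Lib.Comp.J4 Cfsg.Lib.MatB.F2

theorem uw_of {g x y : List ℕ} {p : ℕ} (hp : p.Prime) (hb : (subB x L && subB (g ++ x) L && subB (y ++ g) L &&
    ordB 112 mR mI (evM 112 mR mI mT x) p 0 && Nat.beq (evM 112 mR mI mT (g ++ x)) (evM 112 mR mI mT (y ++ g))) = true) :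
    orderOf (ev gam x) = p ∧ ev gam g * ev gam x * (ev gam g)⁻¹ = ev gam y := by
  simp only [Bool.and_eq_true] at hb
  refine ⟨(orderOf_injective rho card_all.2.1 _).symm.trans (cx.ord (rho_ev hb.1.1.1.1) hp (by norm_num) hb.1.2), ?_⟩
  rw [mul_inv_eq_iff_eq_mul, ← ev_append, ← ev_append]
  exact card_all.2.1 ((rho_ev hb.1.1.1.2).eq (rho_ev hb.1.1.2) hb.2)

theorem uw_real {x y : List ℕ} {p : ℕ} (hp : p.Prime) (hb : (subB x L && subB ([1] ++ x) L && subB (y ++ [1]) L &&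
    ordB 112 mR mI (evM 112 mR mI mT x) p 0 && Nat.beq (evM 112 mR mI mT ([1] ++ x)) (evM 112 mR mI mT (y ++ [1]))) = true)
    (h : frd iv (y ++ x) = []) : ∃ a x : Spor.J4, orderOf x = p ∧ a * x * a⁻¹ = x⁻¹ :=
  ⟨_, _, (uw_of hp hb).1, (uw_of hp hb).2.trans (by rw [eq_inv_iff_mul_eq_one, ← ev_append, ← ev_frd gam_iv, h, ev_nil])⟩

theorem j4_real31 : ∃ a x : Spor.J4, orderOf x = 31 ∧ a * x * a⁻¹ = x⁻¹ :=
  uw_real (x := [1, 3, 1, 3, 4, 2, 4, 2, 1, 3, 4, 3, 4, 2, 1, 2]) (y := [3, 1, 3, 4, 2, 4, 2, 1, 3, 4, 3, 4, 2, 1, 2, 1])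
    (by norm_num) (by decide +kernel) (by decide +kernel)

theorem j4_23 : ∃ g x : Spor.J4, orderOf x = 23 ∧ g * x * g⁻¹ = x ^ 2 := by
  have := uw_of (g := [2, 1, 2, 1, 3, 1, 3, 1, 3, 1, 3, 1, 3, 1, 3, 1, 2, 1, 2, 1, 3, 1, 2, 1, 3, 1, 2, 1, 2, 1, 2, 1, 2, 1, 2, 1, 2,
    1, 2, 1, 3, 1, 3, 1, 3, 1, 3, 1, 2, 1, 3]) (x := [1, 2]) (y := [1, 2] ++ [1, 2]) (p := 23) (by norm_num) (by decide +kernel)
  exact ⟨_, _, this.1, this.2.trans (by rw [ev_append, sq])⟩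

theorem sl5_31 : ∃ g x : Matrix.SpecialLinearGroup (Fin 5) (ZMod 2), orderOf x = 31 ∧ g * x * g⁻¹ = x ^ 2 := by
  let x : Matrix.SpecialLinearGroup (Fin 5) (ZMod 2) :=
    ⟨!![0, 0, 0, 0, 1; 1, 0, 0, 0, 0; 0, 1, 0, 0, 1; 0, 0, 1, 0, 0; 0, 0, 0, 1, 0], by decide +kernel⟩
  let g : Matrix.SpecialLinearGroup (Fin 5) (ZMod 2) :=
    ⟨!![1, 0, 0, 0, 1; 0, 0, 0, 1, 0; 0, 1, 0, 0, 1; 0, 0, 0, 1, 1; 0, 0, 1, 0, 0], by decide +kernel⟩
  have h1 : g * x = x * x * g := Subtype.ext (by decide +kernel)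
  have h2 : g * g * (g * g) * g = 1 := Subtype.ext (by decide +kernel)
  have h3 : x ≠ 1 := fun e => absurd (congrArg (fun m => m.1 0 0) e) (by decide +kernel)
  have h4 : g * x * g⁻¹ = x ^ 2 := by rw [h1, mul_inv_cancel_right, sq]
  have h5 : ∀ n : ℕ, g ^ n * x * (g ^ n)⁻¹ = x ^ 2 ^ n := fun n => by
    induction n with
    | zero => simp
    | succ n ih => rw [pow_succ' 2, pow_mul, ← h4, conj_pow, ← ih, pow_succ' g]; group
  have h6 := h5 5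
  rw [show g ^ 5 = 1 by rw [← h2]; simp only [pow_succ, pow_zero, one_mul, mul_assoc], one_mul, inv_one, mul_one] at h6
  have : Fact (Nat.Prime 31) := ⟨by norm_num⟩
  exact ⟨g, x, orderOf_eq_prime (mul_right_cancel (b := x) (by rw [← pow_succ, one_mul]; exact h6.symm)) h3, h4⟩

theorem sub_31 {G : Type*} [Group G] {B : Subgroup G} (e : B ≃* Matrix.SpecialLinearGroup (Fin 5) (ZMod 2)) :
    ∃ g x : G, orderOf x = 31 ∧ g * x * g⁻¹ = x ^ 2 := by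
  obtain ⟨g, x, h1, h2⟩ := sl5_31
  refine ⟨e.symm g, e.symm x, by rw [Subgroup.orderOf_coe, MulEquiv.orderOf_eq, h1], ?_⟩
  have := congrArg (fun y => (e.symm y : G)) h2
  simpa using this

end Cfsg.Lib.JF
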