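import Cfsg.Agent.Lib.Comp.J4.Main

/-! The two classes of elements of order eleven in the fourth Janko group. -/

set_option maxRecDepth 100000
set_option Elab.async false
set_option autoImplicit false

namespace Cfsg.Lib.JV

open Cfsg.Lib.Comp Cfsg.Lib.Comp.J4 Cfsg.Lib.MatB Cfsg.Lib.MatB.F2

/-- conjugation by an element on coordinates. -/
def sg (α β γ u : He 11) : He 11 := α ^ u.i.val * β ^ u.j.val * γ ^ u.k.val

/-- distance table. -/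
def rk (u : He 11) : ℕ := [999, 2, 7, 6, 3, 7, 6, 9, 6, 8, 7, 0, 7, 6, 6, 5, 8, 1, 10, 5, 7, 7, 8, 4, 8, 6, 5, 7, 6, 5, 8, 6, 4, 6, 4, 4, 6, 7, 7, 7, 7, 8, 8, 6, 4, 7, 5, 6, 9, 9, 4, 6, 7, 4, 9, 8, 2, 8, 8, 3, 5, 3, 5, 9, 3, 2, 4, 8, 7, 5, 6, 8, 6, 8, 7, 7, 8, 10, 5, 5, 6, 7, 5, 3, 5, 7, 7, 6, 5, 7, 7, 7, 6, 6, 6, 5, 5, 5, 5, 9, 6, 4, 7, 6, 4, 8, 6, 2, 9, 8, 6, 3, 3, 6, 4, 7, 4, 6, 5, 5, 1].getD (u.i.val * 11 + u.j.val) 0

/-- first map. -/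
def s1 : He 11 → He 11 := sg ⟨10, 7, 2⟩ ⟨4, 8, 5⟩ ⟨0, 0, 8⟩
/-- second map. -/
def s2 : He 11 → He 11 := sg ⟨0, 1, 0⟩ ⟨10, 10, 6⟩ ⟨0, 0, 1⟩

theorem d1 : ∀ i j : ZMod 11, (i = 0 ∧ j = 0) ∨ (i = 1 ∧ j = 0) ∨ rk (s1 ⟨i, j, 0⟩) < rk ⟨i, j, 0⟩ ∨
    rk (s2 ⟨i, j, 0⟩) < rk ⟨i, j, 0⟩ := by decide +kernel
theorem d2 : ∀ k : ZMod 11, k = 0 ∨ ∃ n < 10, s1^[n] ⟨0, 0, 1⟩ = ⟨0, 0, k⟩ := by decide +kernel
theorem d3 : ∀ i j k : ZMod 11, (i = 0 ∧ j = 0) ∨ ∃ s t : ZMod 11,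
    (⟨s, t, 0⟩ * ⟨i, j, k⟩ * ⟨s, t, 0⟩⁻¹ : He 11) = ⟨i, j, 0⟩ := by decide +kernel
theorem d4 : ∀ i j : ZMod 11, (i = 0 ∧ j = 0) ∨ rk ⟨i, j, 0⟩ < 999 := by decide +kernel

theorem cls {G : Type*} [Group G] (φ : He 11 →* G) (h1 : ∀ u, IsConj (φ u) (φ (s1 u))) (h2 : ∀ u, IsConj (φ u) (φ (s2 u)))
    (u : He 11) (hu : u ≠ 1) : IsConj (φ u) (φ ⟨1, 0, 0⟩) ∨ IsConj (φ u) (φ ⟨0, 0, 1⟩) := by
  have k : ∀ n, ∀ u : He 11, rk u = n → n < 999 → IsConj (φ u) (φ ⟨1, 0, 0⟩) := fun n => by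
    induction n using Nat.strong_induction_on with | _ n ih
    rintro ⟨i, j, k⟩ e hn
    have nz : ¬ (i = 0 ∧ j = 0) := by rintro ⟨rfl, rfl⟩; exact absurd (e.symm.trans rfl : n = 999) (by omega)
    obtain ⟨s, t, c⟩ := (d3 i j k).resolve_left nz
    refine (φ.map_isConj (isConj_iff.2 ⟨_, c⟩)).trans ?_
    replace e : rk ⟨i, j, 0⟩ = n := e
    rcases (d1 i j).resolve_left nz with ⟨rfl, rfl⟩ | a | a
    · exact IsConj.refl _
    · exact (h1 _).trans (ih _ (e ▸ a) _ rfl (by omega))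
    · exact (h2 _).trans (ih _ (e ▸ a) _ rfl (by omega))
  obtain ⟨i, j, l⟩ := u
  rcases d4 i j with ⟨rfl, rfl⟩ | a
  · obtain ⟨n, -, e⟩ := (d2 l).resolve_left (by rintro rfl; exact hu rfl)
    have q : ∀ n, IsConj (φ (s1^[n] ⟨0, 0, 1⟩)) (φ ⟨0, 0, 1⟩) := fun n => by
      induction n with
      | zero => exact IsConj.refl _
      | succ n ih => rw [Function.iterate_succ_apply']; exact (h1 _).symm.trans ih
    exact .inr (e ▸ q n)
  · exact .inl (k _ ⟨i, j, l⟩ rfl a)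

theorem syl {G : Type*} [Group G] [Finite G] (h4 : ¬ 11 ^ 4 ∣ Nat.card G) (φ : He 11 →* G)
    (h3 : 11 ^ 3 ∣ Nat.card φ.range) {w : G} (hw : orderOf w = 11) : ∃ u, IsConj w (φ u) := by
  have := Fact.mk (show Nat.Prime 11 by norm_num)
  obtain ⟨P, hP⟩ := (IsPGroup.of_card (p := 11) (n := 1) (G := Subgroup.zpowers w)
    (by rw [Nat.card_zpowers, hw, pow_one])).exists_le_sylow
  have p1 : IsPGroup 11 (He 11) := IsPGroup.of_card (n := 3) (by rw [Nat.card_eq_fintype_card, He.card])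
  obtain ⟨Q, hQ⟩ := (p1.of_surjective _ φ.rangeRestrict_surjective).exists_le_sylow
  obtain ⟨n, hn⟩ := IsPGroup.iff_card.1 Q.2
  have e : φ.range = Q := Subgroup.eq_of_le_of_card_ge hQ (le_trans (by
    rw [hn]
    refine Nat.pow_le_pow_right (by norm_num) (not_lt.1 fun c => h4 ((pow_dvd_pow 11 c).trans ?_))
    rw [← hn]; exact Subgroup.card_subgroup_dvd_card _) (Nat.le_of_dvd Nat.card_pos h3))
  obtain ⟨g, rfl⟩ := MulAction.exists_smul_eq G P Q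
  have m : g * w * g⁻¹ ∈ φ.range := by
    rw [e]; exact Subgroup.smul_mem_pointwise_smul w (MulAut.conj g) _ (hP (Subgroup.mem_zpowers w))
  obtain ⟨u, hu⟩ := m
  exact ⟨u, isConj_iff.2 ⟨g, hu.symm⟩⟩

noncomputable def eV : List (ℕ × ℕ) := (apd [(1,0), (0,2), (0,5), (0,4), (0,4), (0,6), (0,9), (0,9), (0,0), (0,1), (0,0), (0,1), (0,3), (0,0), (0,1), (17,15), (0,17), (0,20), (0,19), (21,22), (0,22), (0,21), (0,23), (8,0), (9,5), (1,0), (0,0), (0,0), (2,0), (10,0), (0,0), (1,0), (1,1), (0,0), (2,0), (37,38), (0,38), (0,37), (0,41), (0,41)]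
 (apd [(0,43), (0,43), (43,45), (0,44), (0,47), (0,45), (0,47), (0,50), (0,49), (34,0), (35,8), (1,0), (0,0), (0,0), (2,0), (13,0), (0,0), (0,0), (1,0), (61,59), (0,61), (0,64), (0,63), (0,63), (0,67), (0,66), (68,69), (0,67), (0,70), (0,72), (0,72), (0,71), (0,73), (58,0), (59,8), (1,0), (0,0), (0,0), (2,0), (13,0)]
 (apd [(0,0), (1,0), (1,1), (0,0), (2,0), (50,50), (0,51), (0,7), (0,53), (0,4), (0,31), (0,6), (0,33), (0,63), (0,38), (0,65), (40,16), (0,62), (0,63), (0,19), (0,20), (0,66), (0,22), (0,68), (0,45), (0,75), (107,109), (0,107), (0,111), (112,109), (0,113), (0,113), (16,0), (17,4), (1,0), (0,0), (0,0), (0,0), (0,0), (3,0)]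
 (apd [(11,0), (0,0), (1,0), (1,1), (1,0), (126,128), (0,128), (0,127), (128,129), (0,132), (0,132), (35,0), (36,4), (1,0), (0,0), (0,0), (0,0), (0,0), (10,0), (0,0), (1,0), (1,1), (0,0), (2,0), (145,147), (0,146), (0,149), (0,147), (0,151), (0,149), (150,153), (0,151), (0,155), (0,155), (0,157), (0,157), (60,0), (61,7), (1,0), (0,0)]
 [(0,0), (0,0), (0,0), (13,0), (0,0), (1,0), (1,1), (1,0), (1,1), (1,0), (0,49), (0,7), (0,33), (0,48), (0,4), (0,31), (0,12), (0,13), (0,53), (0,54), (0,0), (167,167), (168,1), (0,1), (173,173), (0,0), (0,0), (176,0)]))))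

noncomputable def vB (g x A B C i j k : ℕ) : Bool :=
  Nat.beq (mu 112 mR g x) (mu 112 mR (mu 112 mR (mu 112 mR (pwM 112 mR mI A i) (pwM 112 mR mI B j)) (pwM 112 mR mI C k)) g)

theorem eV_ok : slpM 112 mR mI eV [m1, m2, m3, m4] (fun l => cnd (cubeB 112 mR mI (nth mI l 7) (nth mI l 4) (nth mI l 0) 11 0)
    (cnd (vB (nth mI l 82) (nth mI l 7) (nth mI l 7) (nth mI l 4) (nth mI l 0) 10 7 2)
    (cnd (vB (nth mI l 82) (nth mI l 4) (nth mI l 7) (nth mI l 4) (nth mI l 0) 4 8 5)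
    (cnd (vB (nth mI l 82) (nth mI l 0) (nth mI l 7) (nth mI l 4) (nth mI l 0) 0 0 8)
    (cnd (vB (nth mI l 174) (nth mI l 7) (nth mI l 7) (nth mI l 4) (nth mI l 0) 0 1 0)
    (cnd (vB (nth mI l 174) (nth mI l 4) (nth mI l 7) (nth mI l 4) (nth mI l 0) 10 10 6)
    (cnd (vB (nth mI l 174) (nth mI l 0) (nth mI l 7) (nth mI l 4) (nth mI l 0) 0 0 1)
    (decide (Matrix.trace (tM 112 (nth mI l 7)) ≠ Matrix.trace (tM 112 (nth mI l 0)))) false) false) false) false) false) false) false) = true := by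
  decide +kernel

theorem vB_ok {g x a b c : Spor.J4} {G X A B C i j k : ℕ} (hg : Rp 112 (rho g) G) (hx : Rp 112 (rho x) X)
    (ha : Rp 112 (rho a) A) (hb : Rp 112 (rho b) B) (hc : Rp 112 (rho c) C) (h : vB G X A B C i j k = true) :
    g * x * g⁻¹ = a ^ i * b ^ j * c ^ k := by
  rw [mul_inv_eq_iff_eq_mul]
  refine card_all.2.1 ?_
  simp only [map_mul, map_pow]
  exact (cx.mul hg hx).eq (cx.mul (cx.mul (cx.mul (cx.pow ha i) (cx.pow hb j)) (cx.pow hc k)) hg) h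

theorem jv11 : ∃ x y : Spor.J4, orderOf x = 11 ∧ orderOf y = 11 ∧ ¬ IsConj x y ∧
    ∀ w : Spor.J4, orderOf w = 11 → IsConj w x ∨ IsConj w y := by
  have := Fact.mk (show Nat.Prime 11 by norm_num)
  have : Finite Spor.J4 := Nat.finite_of_card_ne_zero (by rw [card_all.1]; norm_num)
  obtain ⟨l, h, hl⟩ := cx.slp in_acc eV_ok
  obtain ⟨a, -, ha⟩ := hl 7
  obtain ⟨b, -, hb⟩ := hl 4
  obtain ⟨c, -, hc⟩ := hl 0
  obtain ⟨f, -, hf⟩ := hl 82
  obtain ⟨r, -, hr⟩ := hl 174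
  unfold cubeB at h
  simp only [cnd_tt, decide_eq_true_eq] at h
  obtain ⟨⟨k1, k2, k3, k4, k5, k6⟩, f1, f2, f3, r1, r2, r3, tr⟩ := h
  have inj := card_all.2.1
  have e1 : b * a = a * b * c := inj (by simp only [map_mul]; exact (cx.mul hb ha).eq (cx.mul (cx.mul ha hb) hc) k1)
  have e2 : Commute a c := inj (by simp only [map_mul]; exact cx.com ha hc k2)
  have e3 : Commute b c := inj (by simp only [map_mul]; exact cx.com hb hc k3)
  have e4 : a ^ 11 = 1 := inj (by rw [map_pow, map_one]; exact (cx.pow ha 11).eq cx.one k4)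
  have e5 : b ^ 11 = 1 := inj (by rw [map_pow, map_one]; exact (cx.pow hb 11).eq cx.one k5)
  have oc : orderOf c = 11 := by rw [← orderOf_injective rho inj]; exact cx.ord hc (by norm_num) (by norm_num) k6
  have e6 : c ^ 11 = 1 := oc ▸ pow_orderOf_eq_one c
  have c1 : c ≠ 1 := fun e => by rw [e, orderOf_one] at oc; omega
  let φ := He.hom e1 e2 e3 e4 e5 e6
  have ev : ∀ u, φ u = a ^ u.i.val * b ^ u.j.val * c ^ u.k.val := fun _ => rfl
  have ea : φ ⟨1, 0, 0⟩ = a := by rw [ev]; simp [ZMod.val_one]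
  have eb : φ ⟨0, 1, 0⟩ = b := by rw [ev]; simp [ZMod.val_one]
  have ec : φ ⟨0, 0, 1⟩ = c := by rw [ev]; simp [ZMod.val_one]
  have st : ∀ (g : Spor.J4) (α β γ : He 11), g * a * g⁻¹ = φ α → g * b * g⁻¹ = φ β → g * c * g⁻¹ = φ γ →
      ∀ u, IsConj (φ u) (φ (sg α β γ u)) := fun g α β γ x y w u => isConj_iff.2 ⟨g, by
    rw [sg, map_mul, map_mul, map_pow, map_pow, map_pow, ← x, ← y, ← w, conj_pow, conj_pow, conj_pow, ev]; group⟩
  have nc : ¬ IsConj a c := fun q => tr (by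
    obtain ⟨g, q⟩ := isConj_iff.1 q
    rw [← ha, ← hc, ← q, map_mul, map_mul, map_inv, Units.val_mul, Units.val_mul, Matrix.trace_units_conj])
  refine ⟨a, c, orderOf_eq_prime e4 fun e => c1 (by simpa [e] using e1), oc, nc, fun w hw => ?_⟩
  obtain ⟨u, hu⟩ := syl (by rw [card_all.1]; norm_num) φ (cube_dvd (by norm_num) e1 e2 e3 e4 e5 e6 c1 ⟨_, ea⟩ ⟨_, eb⟩) hw
  have u1 : u ≠ 1 := by
    rintro rfl
    rw [map_one, isConj_one_left] at hu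
    rw [hu, orderOf_one] at hw; omega
  rcases cls φ (st f _ _ _ (vB_ok hf ha ha hb hc f1) (vB_ok hf hb ha hb hc f2) (vB_ok hf hc ha hb hc f3))
    (st r _ _ _ (vB_ok hr ha ha hb hc r1) (vB_ok hr hb ha hb hc r2) (vB_ok hr hc ha hb hc r3)) u u1 with q | q
  exacts [.inl (ea ▸ hu.trans q), .inr (ec ▸ hu.trans q)]

end Cfsg.Lib.JV
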