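import Cfsg.Agent.Lib.Block2.JG0

/-! Elements of order 5 and 7 of `M22`. -/

set_option autoImplicit false
set_option maxRecDepth 100000

namespace Cfsg.Lib.JF

open Subgroup Cfsg.Lib.Amalg Cfsg.Lib.Core Cfsg.Lib.Known2 Cfsg.Lib.Golay Spor

theorem prime_tr_n {Γ : Type*} [Group Γ] [Finite Γ] {M : Subgroup Γ} {p n : ℕ} [Fact p.Prime] {q0 q f0 : Γ} (h0 : q0 ∈ M)
    (o0 : orderOf q0 = p) (hd : ¬ p * p ∣ Nat.card M) (hc : Nat.card ↥(M ⊓ centralizer {q0}) = p) (hf : f0 ∈ M)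
    (e : f0 * q0 * f0⁻¹ = q0 ^ 2) (fn : f0 ^ n = 1) (hq : q ∈ M) (o : orderOf q = p) :
    (∀ c ∈ M, c * q = q * c → c ∈ zpowers q) ∧ ∃ f ∈ M, f ^ n = 1 ∧ f * q * f⁻¹ = q ^ 2 := by
  have sy : ∀ x ∈ M, orderOf x = p → Syl p (zpowers x) M := fun x hx ox =>
    syl_of_not_dvd (zpowers_le.2 hx) (Amalg.isPGroup_zpowers_of_orderOf (k := 1) (by rwa [pow_one])) fun d => hd (by
      rw [← Cfsg.Lib.Core.card_inf_mul_relIndex (zpowers x) M, inf_of_le_left (zpowers_le.2 hx), Nat.card_zpowers, ox]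
      exact Nat.mul_dvd_mul_left _ d)
  obtain ⟨k, hk, ek⟩ := (sy q0 h0 o0).exists_conj (sy q hq o)
  have eq : zpowers q0 = M ⊓ centralizer {q0} := eq_of_le_of_card_ge (zpowers_le.2 ⟨h0, mem_cent_single.2 rfl⟩)
    (by rw [hc, Nat.card_zpowers, o0])
  refine ⟨fun c hc cq => ?_, k * f0 * k⁻¹, mul_mem (mul_mem hk hf) (inv_mem hk), by rw [conj_pow, fn]; group, ?_⟩
  · rw [← ek, mem_cj, eq]
    refine ⟨M.mul_mem (M.mul_mem (M.inv_mem hk) hc) hk, mem_cent_single.2 ?_⟩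
    obtain ⟨j, ej⟩ := ek.le (conj_mem_cj k (mem_zpowers q0))
    have := ((show Commute c q from cq).zpow_right j).eq
    change q ^ j = _ at ej
    rw [ej] at this
    calc k⁻¹ * c * k * q0 = k⁻¹ * (c * (k * q0 * k⁻¹)) * k := by group
      _ = _ := by rw [this]; group
  · obtain ⟨_, ⟨j, rfl⟩, rfl⟩ := mem_cj'.1 (ek.ge (mem_zpowers q))
    change k * f0 * k⁻¹ * (k * q0 ^ j * k⁻¹) * (k * f0 * k⁻¹)⁻¹ = (k * q0 ^ j * k⁻¹) ^ 2
    calc _ = k * (f0 * q0 ^ j * f0⁻¹) * k⁻¹ := by group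
      _ = _ := by rw [← conj_zpow, e, conj_pow, ← zpow_natCast, ← zpow_natCast, ← zpow_mul, ← zpow_mul, mul_comm j]

def q5n : ℕ := 0x170e02141207090f031510111613040a080c0d06050b0100
def f5n : ℕ := 0x170c06011307160510090f02040815120a0e0d0b03111400
def q7n : ℕ := 0x17020c110f050406080a070b0d10140916030e1312150100
def f7n : ℕ := 0x170d15080f0a14100912020b070e13110c03060405160100

theorem in57n : ∀ g ∈ [q5n, f5n, q7n, f7n], gc.InH M22 g := inH_M22 (by decide +kernel)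

theorem card_C22_z2A : Nat.card ↥(M22 ⊓ centralizer {gc.dec z2A}) = 384 :=
  Coding.card_centralizer gen_gM22 (fun g hg => (inH_gM22 g hg).1) inH_z2A.1 (n := 1155) card_M22
    (M := 4093) (d := 12) (a := 36) (by decide +kernel)

theorem cent_bound_n {q m n : ℕ} (_hq : gc.Valid q) (hm : (Finset.univ.filter fun p => gc.dec q p = p) = om m)
    (h0 : tb m 0 = true) (h1 : tb m 1 = true) (h23 : tb m 23 = true)
    (hc : Nat.card ↥(M21 ⊓ centralizer {gc.dec q}) = n) :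
    Nat.card ↥(M22 ⊓ centralizer {gc.dec q}) ≤ (pop24 m - 1 - 1) * n := by
  have h2 := card_le_orbit_mul (K := M22 ⊓ centralizer {gc.dec q})
    (L := M21 ⊓ centralizer {gc.dec q}) (gc.pt 1) (((om m).erase none).erase (some 0))
    (fun g hg => by
      obtain ⟨-, e1, e2⟩ := mem_M22.mp hg.1
      refine Finset.mem_erase.mpr ⟨fun e => ?_, Finset.mem_erase.mpr ⟨fun e => ?_, ?_⟩⟩
      · exact absurd (g.injective (e.trans e2.symm)) (by decide)
      · exact absurd (g.injective (e.trans e1.symm)) (by decide)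
      · have h1 := (pt_mem_om (by decide : 1 < 24)).mpr h1
        rw [← hm, Finset.mem_filter] at h1 ⊢
        exact ⟨Finset.mem_univ _, fix_of_comm (mem_centralizer_singleton_iff.mp hg.2) h1.2⟩)
    (fun g hg e => ⟨⟨hg.1, e⟩, hg.2⟩)
  rwa [hc, Finset.card_erase_of_mem (Finset.mem_erase.mpr ⟨by decide, zero_mem_om.mpr h0⟩),
    Finset.card_erase_of_mem (none_mem_om.mpr h23), card_om] at h2

theorem dvd_n {q : Equiv.Perm GolayPt} (hq : q ∈ M22) : orderOf q ∣ Nat.card ↥(M22 ⊓ centralizer {q}) := by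
  rw [← Nat.card_zpowers]
  exact card_dvd_of_le (zpowers_le.2 ⟨hq, mem_cent_single.2 rfl⟩)

theorem m22_5 {q : Equiv.Perm GolayPt} (hq : q ∈ M22) (o : orderOf q = 5) :
    (∀ c ∈ M22, c * q = q * c → c ∈ zpowers q) ∧ ∃ f ∈ M22, f ^ 4 = 1 ∧ f * q * f⁻¹ = q ^ 2 := by
  have : Fact (Nat.Prime 5) := ⟨by norm_num⟩
  have : Fact (Nat.Prime 2) := ⟨by norm_num⟩
  have i := in57n q5n (by simp)
  have j := in57n f5n (by simp)
  have o0 : orderOf (gc.dec q5n) = 5 := i.1.orderOf_eq (by norm_num) (by decide +kernel)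
  have c := cent_bound_n (m := 0x900003) (n := 5) i.1 (i.1.filter_fix (by decide +kernel)) (by decide) (by decide) (by decide)
    (Coding.card_centralizer gen_gM21 (fun g hg => (inH_gM21 g hg).1) i.1 (n := 4032) card_M21
      (M := 4093) (d := 12) (a := 64) (by decide +kernel))
  rw [show pop24 0x900003 = 4 by decide +kernel] at c
  have d := dvd_n i.2
  rw [o0] at d
  have p := Nat.card_pos (α := ↥(M22 ⊓ centralizer {gc.dec q5n}))
  refine prime_tr_n i.2 o0 (by rw [card_M22]; norm_num) ?_ j.2 ?_ ((j.1.pow_eq_one_iff 4).2 (by decide +kernel)) hq o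
  · by_contra n
    obtain ⟨t, ot⟩ := exists_prime_orderOf_dvd_card' (G := ↥(M22 ⊓ centralizer {gc.dec q5n})) 2 (by omega)
    obtain ⟨k, hk, e⟩ := M22_invol t.2.1 ((orderOf_coe t).trans ot)
    have := card_dvd_of_le (show zpowers (k⁻¹ * gc.dec q5n * k⁻¹⁻¹) ≤ M22 ⊓ centralizer {gc.dec z2A} from
      zpowers_le.2 ⟨M22.mul_mem (M22.mul_mem (M22.inv_mem hk) i.2) (M22.inv_mem (M22.inv_mem hk)), mem_cent_single.2 (by
        have := mem_cent_single.1 t.2.2
        rw [e] at this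
        calc k⁻¹ * gc.dec q5n * k⁻¹⁻¹ * gc.dec z2A = k⁻¹ * (gc.dec q5n * (k * gc.dec z2A * k⁻¹)) * k := by group
          _ = _ := by rw [← this]; group)⟩)
    rw [Nat.card_zpowers, orderOf_conj', o0, card_C22_z2A] at this
    omega
  · rw [pow_two, ← i.1.dec_mul i.1, ← (j.1.conj i.1).2, (j.1.conj i.1).1.dec_inj (i.1.mul i.1)]; decide +kernel

theorem m22_7 {q : Equiv.Perm GolayPt} (hq : q ∈ M22) (o : orderOf q = 7) :
    (∀ c ∈ M22, c * q = q * c → c ∈ zpowers q) ∧ ∃ f ∈ M22, f ^ 3 = 1 ∧ f * q * f⁻¹ = q ^ 2 := by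
  have : Fact (Nat.Prime 7) := ⟨by norm_num⟩
  have i := in57n q7n (by simp)
  have j := in57n f7n (by simp)
  have o0 : orderOf (gc.dec q7n) = 7 := i.1.orderOf_eq (by norm_num) (by decide +kernel)
  have c := cent_bound_n (m := 0x800003) (n := 7) i.1 (i.1.filter_fix (by decide +kernel)) (by decide) (by decide) (by decide)
    (Coding.card_centralizer gen_gM21 (fun g hg => (inH_gM21 g hg).1) i.1 (n := 2880) card_M21
      (M := 4093) (d := 12) (a := 64) (by decide +kernel))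
  rw [show pop24 0x800003 = 3 by decide +kernel] at c
  have d := dvd_n i.2
  rw [o0] at d
  have p := Nat.card_pos (α := ↥(M22 ⊓ centralizer {gc.dec q7n}))
  refine prime_tr_n i.2 o0 (by rw [card_M22]; norm_num) (by omega) j.2 ?_ ((j.1.pow_eq_one_iff 3).2 (by decide +kernel)) hq o
  rw [pow_two, ← i.1.dec_mul i.1, ← (j.1.conj i.1).2, (j.1.conj i.1).1.dec_inj (i.1.mul i.1)]; decide +kernel

end Cfsg.Lib.JF
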