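import Cfsg.Agent.Lib.Block2.JX2
import Cfsg.Agent.Lib.Block2.JJ2

/-! The duads of a self-centralising `2^10` in `2^11 : M24`, and the standard such subgroup. -/

set_option autoImplicit false

namespace Cfsg.Lib.JF

open Subgroup Cfsg.Lib.Amalg Cfsg.Lib.Core Cfsg.Lib.Golay Spor
open scoped Pointwise symmDiff

variable {G : Type*} [Group G] {V A : Subgroup G} {D : Set G} {ε : Finset GolayPt → G}
  {θ : 𝐍 V →* Equiv.Perm GolayPt} {O : Finset GolayPt}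

namespace TM
variable [Finite G] (T : TM V D ε θ)
include T

theorem w1_lift (h : TO ε θ A O) {σ : Equiv.Perm GolayPt} (hσ : σ ∈ M24) (s : σ • O = O) :
    ∃ m : 𝐍 V, θ m = σ ∧ (m : G) ∈ 𝐍 A := by
  obtain ⟨n, rfl⟩ : σ ∈ θ.range := T.rng ▸ hσ
  obtain ⟨u, hu, e⟩ := T.o_two (s ▸ T.o_cj h n) h
  refine ⟨⟨u, le_normalizer hu⟩ * n, by rw [map_mul, (T.ker _).2 hu, one_mul], cj_eq_self_iff.1 ?_⟩
  rw [← cj_mul] at e
  exact e

omit [Finite G] in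
theorem w1_duad (h : TO ε θ A O) {d : G} (a : d ∈ A) (b : d ∈ D) : ∃ R ⊆ O, R.card = 2 ∧ ε R = d := by
  obtain ⟨S, s1, s2⟩ := (T.duad d).1 b
  have ev : Even S.card := by rw [s1]; decide
  obtain ⟨R, r1, r2, r3, r4⟩ := T.o_sub h a (s2 ▸ T.emem ev)
  exact ⟨R, r1, by rw [T.inj r2 ev (by omega) (r4.trans s2.symm), s1], r4⟩

omit [Finite G] in
theorem w1_28 (h : TO ε θ A O) : {d | d ∈ A ∧ d ∈ D}.ncard = 28 := by
  classical
  have e : {d | d ∈ A ∧ d ∈ D} = ((O.powersetCard 2).image ε : Finset G) := by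
    ext d
    simp only [Set.mem_ofPred_eq, Finset.coe_image, Set.mem_image, Finset.mem_coe, Finset.mem_powersetCard]
    constructor
    · rintro ⟨a, b⟩
      obtain ⟨R, r1, r2, r3⟩ := T.w1_duad h a b
      exact ⟨R, ⟨r1, r2⟩, r3⟩
    · rintro ⟨R, ⟨r1, r2⟩, rfl⟩
      exact ⟨T.o_mem h r1 (by rw [r2]; decide), (T.duad _).2 ⟨R, r2, rfl⟩⟩
  rw [e, Set.ncard_coe_finset, Finset.card_image_of_injOn fun R hR S hS e => by
      have a := (Finset.mem_powersetCard.1 hR).2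
      have b := (Finset.mem_powersetCard.1 hS).2
      exact T.inj (by rw [a]; decide) (by rw [b]; decide) (by omega) e, Finset.card_powersetCard,
    (mem_octads.1 h.oct).2]
  rfl

theorem w1_tr (h : TO ε θ A O) : ∀ d ∈ A, d ∈ D → ∀ e ∈ A, e ∈ D → ∃ p ∈ 𝐍 A ⊓ 𝐍 V, p * d * p⁻¹ = e := by
  intro d a b e a' b'
  obtain ⟨R, r1, r2, rfl⟩ := T.w1_duad h a b
  obtain ⟨S, s1, s2, rfl⟩ := T.w1_duad h a' b'
  obtain ⟨σ, h1, h2, h3⟩ := x_flag h.oct h.oct r1 s1 (r2.trans s2.symm) (by omega)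
  obtain ⟨m, rfl, hm⟩ := T.w1_lift h h1 h3
  exact ⟨m, ⟨hm, m.2⟩, by rw [T.act m R (by rw [r2]; decide), h2]⟩

end TM

end Cfsg.Lib.JF
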