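import Cfsg.Agent.Lib.Block2.JX2

/-! Orders and a complement for the normaliser of the `2^10` of an octad. -/

set_option autoImplicit false

namespace Cfsg.Lib.JF

open Subgroup Cfsg.Lib.Amalg Cfsg.Lib.Core Cfsg.Lib.Golay Spor
open scoped Pointwise symmDiff

variable {G : Type*} [Group G] {V A A2 K : Subgroup G} {D : Set G} {ε : Finset GolayPt → G}
  {θ : 𝐍 V →* Equiv.Perm GolayPt} {O : Finset GolayPt}

theorem w2_ev {a b : GolayPt} (n : a ≠ b) : Even ({a, b} : Finset GolayPt).card := by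
  rw [Finset.card_pair n]; decide

/-- the setwise stabiliser. -/
abbrev w2SO (O : Finset GolayPt) : Subgroup (Equiv.Perm GolayPt) :=
  M24 ⊓ MulAction.stabilizer (Equiv.Perm GolayPt) O

theorem w2_SO (hO : O ∈ octads) : Nat.card (w2SO O) = 322560 := by
  obtain ⟨σ, hσ, rfl⟩ := std_octad hO
  have : w2SO (σ • om 0x82402f) = cj σ HO := by
    ext g
    rw [mem_cj, mem_inf, mem_inf, mul_mem_cancel_right hσ, mul_mem_cancel_left (inv_mem hσ)]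
    refine and_congr_right fun _ => ?_
    rw [MulAction.mem_stabilizer_iff, MulAction.mem_stabilizer_iff, mul_smul, mul_smul, inv_smul_eq_iff]
  rw [this, card_cj, card_HO]

theorem w2_pts (hO : O ∈ octads) : ∃ o x, o ∈ O ∧ x ∉ O := by
  have o8 := mem_octads.1 hO
  obtain ⟨o, ho⟩ : O.Nonempty := Finset.card_pos.1 (by omega)
  obtain ⟨x, hx⟩ := exists_not_mem_octad hO
  exact ⟨o, x, ho, hx⟩

namespace TM
variable [Finite G] (T : TM V D ε θ) (h : TO ε θ A O) {o x : GolayPt} (ho : o ∈ O) (hx : x ∉ O)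
include T h ho hx

omit [Finite G] in
theorem w2_d (a : 𝐍 V) (ha : (a : G) ∈ A) (q1 : θ a ≠ 1) : θ a x ≠ x ∧ θ a * θ a = 1 ∧ ε {x, θ a x} ∉ A ∧
    (a : G) * ε {o, x} * (a : G)⁻¹ * ε {o, x} = ε {x, θ a x} := by
  have aa := h.sa.sq _ ha
  have ox : o ≠ x := fun e => hx (e ▸ ho)
  have q2 : θ a * θ a = 1 := by rw [← map_mul, show a * a = 1 from Subtype.ext aa, map_one]
  have qx := (m24_Qc h.oct (T.mM a) (T.mM a) q2 q2 q1 q1 (h.fix a ha) (h.fix a ha)).1 x hx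
  refine ⟨qx, q2, fun m => ?_, ?_⟩
  · obtain ⟨R, r1, r2, r3, r4⟩ := T.o_sub h m (T.emem (w2_ev qx.symm))
    have := T.inj r2 (w2_ev qx.symm) (by rw [Finset.card_pair qx.symm]; omega) r4
    exact hx (r1 (this ▸ Finset.mem_insert_self _ _))
  · rw [T.act a _ (w2_ev ox), ← T.mul, Finset.smul_finset_insert, Finset.smul_finset_singleton, Equiv.Perm.smul_def,
      Equiv.Perm.smul_def, h.fix a ha o ho]
    congr 1
    have : θ a x ≠ o := fun e => ox ((θ a).injective ((h.fix a ha o ho).trans e.symm))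
    ext y
    simp only [Finset.mem_symmDiff, Finset.mem_insert, Finset.mem_singleton]
    grind

theorem w2_key {a' : G} (l : a' ∈ 𝐍 V) (b2 : a' * a' = 1) (f : ∀ y ∈ O, θ ⟨a', l⟩ y = y) (n : θ ⟨a', l⟩ ≠ 1) :
    a' ∈ A ∨ a' ∈ cj (ε {o, x}) A := by
  obtain ⟨i1, i2, i3⟩ := T.o_img h
  have ox : o ≠ x := fun e => hx (e ▸ ho)
  have hu := T.emem (w2_ev ox)
  obtain ⟨a, ha, e⟩ : θ ⟨a', l⟩ ∈ (A.subgroupOf (𝐍 V)).map θ := i1 ▸ mem_QO.2 ⟨T.mM _, f⟩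
  replace ha : (a : G) ∈ A := ha
  have hv : (a : G)⁻¹ * a' ∈ V := (T.ker (a⁻¹ * ⟨a', l⟩)).1 (by rw [map_mul, map_inv, e, inv_mul_cancel])
  have q1 : θ a ≠ 1 := e ▸ n
  have aa := h.sa.sq _ ha
  have ai := inv_eq_of_mul_eq_one_right aa
  obtain ⟨qx, q2, dA, e1⟩ := T.w2_d h ho hx a ha q1
  have qq : θ a (θ a x) = x := by rw [← Equiv.Perm.mul_apply, q2, Equiv.Perm.one_apply]
  let Z : Subgroup G := V ⊓ centralizer {(a : G)}
  obtain ⟨W, w1, w2, w3, w4, -⟩ := T.exW (Z := Z) inf_le_left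
  have cZ := m24_fix (T.mM a) q2 q1 w2 w3 fun S hS =>
    T.fxc a (w2 S hS) (mem_centralizer_singleton_iff.1 (w4 S hS).2).symm
  have lZ : A ⊓ V ≤ Z := fun w hw => ⟨hw.2, mem_centralizer_singleton_iff.2 (comm_of_sq h.sa.sq hw.1 ha)⟩
  have dZ : ε {x, θ a x} ∈ Z := ⟨T.emem (w2_ev qx.symm), mem_centralizer_singleton_iff.2 (mul_inv_eq_iff_eq_mul.1 (by
    rw [T.act a _ (w2_ev qx.symm), Finset.smul_finset_insert, Finset.smul_finset_singleton, Equiv.Perm.smul_def,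
      Equiv.Perm.smul_def, qq, Finset.pair_comm])).symm⟩
  have dA' : ε {x, θ a x} ∉ A ⊓ V := fun m => dA m.1
  have ix : ((A ⊓ V).subgroupOf Z).index = 2 := by
    have c := card_mul_relIndex lZ
    have n1 : (A ⊓ V).relIndex Z ≠ 1 := fun e => dA' (relIndex_eq_one.1 e dZ)
    have : 0 < Nat.card Z := Nat.card_pos
    change (A ⊓ V).relIndex Z = 2
    rw [i3] at c
    omega
  have vZ : (a : G)⁻¹ * a' ∈ Z := ⟨hv, mem_centralizer_singleton_iff.2 (by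
    have b1 := T.sq hv
    rw [ai] at b1 ⊢
    rw [← mul_assoc, aa, one_mul, eq_inv_of_mul_eq_one_left b2, ← mul_inv_eq_one, inv_inv, ← b1,
      inv_eq_of_mul_eq_one_right b2]
    simp only [mul_assoc])⟩
  by_cases m : (a : G)⁻¹ * a' ∈ A
  · exact .inl ((mul_mem_cancel_left (inv_mem ha)).1 m)
  have m2 : ε {x, θ a x} * ((a : G)⁻¹ * a') ∈ A :=
    (((mul_mem_iff_of_index_two ix (a := ⟨_, dZ⟩) (b := ⟨_, vZ⟩)).2 (iff_of_false dA' fun k => m k.1)) :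
      _ ∈ A ⊓ V).1
  refine .inr (mem_cj.2 ?_)
  have := mul_mem ha m2
  rw [← e1, mul_assoc _ (ε {o, x}), T.comm hu hv, ai] at this
  rw [inv_eq_of_mul_eq_one_right (T.esq _)]
  simpa only [← mul_assoc, aa, one_mul, mul_assoc _ (a : G) (a : G), mul_one] using this

omit [Finite G] in
theorem w2_inf : A ⊓ cj (ε {o, x}) A ≤ V := fun a ha => by
  by_contra n
  obtain ⟨-, -, dA, e1⟩ := T.w2_d h ho hx ⟨a, h.le ha.1⟩ ha.1 fun e => n ((T.ker _).1 e)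
  have a1 : a ∈ A := ha.1
  have a2 : (ε {o, x})⁻¹ * a * ε {o, x} ∈ A := mem_cj.1 ha.2
  have := A.mul_mem a1 (A.inv_mem a2)
  refine dA (e1 ▸ ?_)
  rw [inv_eq_of_mul_eq_one_right (T.esq _), mul_inv_rev, mul_inv_rev,
    inv_eq_of_mul_eq_one_right (T.esq _)] at this
  simpa only [mul_assoc] using this

theorem w2_two (h2 : TO ε θ A2 O) : A2 = A ∨ A2 = cj (ε {o, x}) A := by
  have key : (A2 : Set G) ⊆ A ∪ cj (ε {o, x}) A := fun a' ha' => by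
    by_cases q1 : θ ⟨a', h2.le ha'⟩ = 1
    · obtain ⟨R, r1, r2, rfl⟩ := h2.sub a' ha' ((T.ker ⟨a', h2.le ha'⟩).1 q1)
      exact .inl (T.o_mem h r1 r2)
    · exact T.w2_key h ho hx (h2.le ha') (h2.sa.sq _ ha') (h2.fix _ ha') q1
  rcases SubgroupClass.subset_union.1 key with k | k
  · exact .inl (eq_of_le_of_card_ge k (by rw [h.sa.card, h2.sa.card]))
  · exact .inr (eq_of_le_of_card_ge k (by rw [card_cj, h.sa.card, h2.sa.card]))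

theorem w2_tn : cj (ε {o, x}) A ≠ A := fun e => by
  have a := T.w2_inf h ho hx
  rw [e, inf_idem] at a
  have b := (T.o_img h).2.2
  rw [inf_eq_left.2 a, h.sa.card] at b
  omega

omit ho hx in
theorem w2_cj (n : 𝐍 V) (e : θ n • O = O) : TO ε θ (cj (n : G) A) O := e ▸ T.o_cj h n

omit ho hx in
theorem w2_cjV {u : G} (hu : u ∈ V) : TO ε θ (cj u A) O :=
  T.w2_cj h ⟨u, le_normalizer hu⟩ (by rw [(T.ker _).2 hu, one_smul])

omit ho hx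

theorem w2_cV (cV : Nat.card V = 2 ^ 11) : Nat.card ↥(V ⊓ 𝐍 A) = 2 ^ 10 := by
  obtain ⟨o, x, ho, hx⟩ := w2_pts h.oct
  have ox : o ≠ x := fun e => hx (e ▸ ho)
  have hu := T.emem (w2_ev ox)
  have ix : ((V ⊓ 𝐍 A).subgroupOf V).index = 2 := by
    refine index_eq_two_iff_exists_notMem_and.2 ⟨⟨_, hu⟩, fun m => T.w2_tn h ho hx (cj_of_mem_normalizer m.2),
      fun b => ?_⟩
    rcases T.w2_two h ho hx (T.w2_cjV h b.2) with e | e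
    · exact .inr ⟨b.2, cj_eq_self_iff.1 e⟩
    · refine .inl ⟨mul_mem b.2 hu, cj_eq_self_iff.1 ?_⟩
      change cj (b.1 * ε {o, x}) A = A
      rw [T.comm b.2 hu, cj_mul, e, ← cj_mul, T.esq, cj_one]
  have c := card_mul_relIndex (inf_le_left : V ⊓ 𝐍 A ≤ V)
  change _ * ((V ⊓ 𝐍 A).subgroupOf V).index = _ at c
  rw [ix, cV] at c
  omega

theorem w2_uniq {O2 : Finset GolayPt} (h2 : TO ε θ A O2) : O2 = O := by
  obtain ⟨i1, i2, -⟩ := T.o_img h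
  obtain ⟨⟨q, hq⟩, q1⟩ := (ne_bot_iff_exists_ne_one (H := QO O)).1 (fun e => by rw [e, card_bot] at i2; omega)
  replace q1 : q ≠ 1 := fun e => q1 (Subtype.ext e)
  obtain ⟨a, ha, rfl⟩ : q ∈ (A.subgroupOf (𝐍 V)).map θ := i1 ▸ hq
  obtain ⟨o, ho⟩ : O.Nonempty := Finset.card_pos.1 (by have := mem_octads.1 h.oct; omega)
  refine Finset.eq_of_subset_of_card_le (fun y hy => by_contra fun hx =>
    (T.w2_d h ho hx a ha q1).1 (h2.fix a ha y hy)) (by rw [(mem_octads.1 h.oct).2, (mem_octads.1 h2.oct).2])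

theorem w2_map : ((𝐍 A ⊓ 𝐍 V).subgroupOf (𝐍 V)).map θ = w2SO O := by
  refine le_antisymm ?_ fun σ hσ => ?_
  · rintro _ ⟨n, hn, rfl⟩
    have := T.o_cj h n
    rw [cj_of_mem_normalizer (show (n : G) ∈ 𝐍 A from hn.1)] at this
    exact ⟨T.mM n, T.w2_uniq h this⟩
  · obtain ⟨n, rfl⟩ : σ ∈ θ.range := T.rng ▸ hσ.1
    obtain ⟨u, hu, e⟩ := T.o_two (T.w2_cj h n hσ.2) h
    have k : u * n ∈ 𝐍 A ⊓ 𝐍 V := ⟨cj_eq_self_iff.1 (by rw [cj_mul, e]), mul_mem (le_normalizer hu) n.2⟩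
    exact ⟨⟨u, le_normalizer hu⟩ * n, k, by rw [map_mul, (T.ker _).2 hu, one_mul]⟩

omit h in
theorem w2_card {X : Subgroup G} (l : X ≤ 𝐍 V) :
    Nat.card ((X.subgroupOf (𝐍 V)).map θ) * Nat.card ↥(V ⊓ X) = Nat.card X := by
  have c := card_map_mul_card_inf_ker θ (X.subgroupOf (𝐍 V))
  rw [Nat.card_congr (subgroupOfEquivOfLe l).toEquiv] at c
  have : θ.ker ⊓ X.subgroupOf (𝐍 V) = (V ⊓ X).subgroupOf (𝐍 V) :=
    Subgroup.ext fun g => and_congr_left fun _ => T.ker g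
  rwa [this, Nat.card_congr (subgroupOfEquivOfLe (inf_le_right.trans l)).toEquiv] at c

theorem w2_cN (cV : Nat.card V = 2 ^ 11) : Nat.card ↥(𝐍 A ⊓ 𝐍 V) = 2 ^ 10 * 322560 := by
  rw [← T.w2_card (inf_le_right : 𝐍 A ⊓ 𝐍 V ≤ 𝐍 V), T.w2_map h, w2_SO h.oct, inf_comm (𝐍 A), ← inf_assoc,
    inf_eq_left.2 (le_normalizer : V ≤ 𝐍 V), T.w2_cV h cV, mul_comm]

omit h [Finite G] in
theorem w2_sur (k1 : K ≤ 𝐍 V) (k3 : K ⊔ V = 𝐍 V) {σ : Equiv.Perm GolayPt} (hσ : σ ∈ M24) :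
    ∃ k : 𝐍 V, (k : G) ∈ K ∧ θ k = σ := by
  have a : (K.subgroupOf (𝐍 V)).map θ = M24 := by
    have b : (V.subgroupOf (𝐍 V)).map θ = ⊥ := (Subgroup.map_eq_bot_iff _).2 fun g hg => (T.ker g).2 hg
    have c : (K ⊔ V).subgroupOf (𝐍 V) = ⊤ := subgroupOf_eq_top.2 k3.ge
    rw [← T.rng, MonoidHom.range_eq_map, ← c, subgroupOf_sup k1 le_normalizer, Subgroup.map_sup, b, sup_bot_eq]
  obtain ⟨k, hk, e⟩ : σ ∈ (K.subgroupOf (𝐍 V)).map θ := a ▸ hσ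
  exact ⟨k, hk, e⟩

theorem w2_Y0 (cV : Nat.card V = 2 ^ 11) (k1 : K ≤ 𝐍 V) (k2 : K ⊓ V = ⊥) (k3 : K ⊔ V = 𝐍 V) {o x : GolayPt}
    (ho : o ∈ O) (hx : x ∉ O) (hE : ∀ e : 𝐍 V, (e : G) ∈ K → (∀ p ∈ O, θ e p = p) → (e : G) ∈ cj (ε {o, x}) A) :
    ∃ Y : Subgroup G, Y ≤ 𝐍 A ⊓ 𝐍 V ∧ Y ⊓ A = ⊥ ∧ Y ⊔ A = 𝐍 A ⊓ 𝐍 V := by
  let Y : Subgroup G := K ⊓ ((w2SO O).comap θ).map (𝐍 V).subtype
  have yV : Y ≤ 𝐍 V := inf_le_left.trans k1
  have hY : ∀ y : 𝐍 V, (y : G) ∈ Y ↔ (y : G) ∈ K ∧ θ y ∈ w2SO O := fun y => and_congr_right fun _ =>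
    ⟨fun ⟨z, hz, e⟩ => (Subtype.ext e : z = y) ▸ hz, fun hz => ⟨y, hz, rfl⟩⟩
  obtain ⟨-, i2, -⟩ := T.o_img h
  obtain ⟨⟨q, hq⟩, q1⟩ := (ne_bot_iff_exists_ne_one (H := QO O)).1 (fun e => by rw [e, card_bot] at i2; omega)
  replace q1 : q ≠ 1 := fun e => q1 (Subtype.ext e)
  obtain ⟨e, eK, rfl⟩ := T.w2_sur k1 k3 (mem_QO.1 hq).1
  have fe := (mem_QO.1 hq).2
  have yA : Y ≤ 𝐍 A := fun y hy => by
    obtain ⟨y1, y2⟩ := (hY ⟨y, yV hy⟩).1 hy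
    rcases T.w2_two h ho hx (T.w2_cj h ⟨y, yV hy⟩ y2.2) with c | c
    · exact cj_eq_self_iff.1 c
    · have m := hE (⟨y, yV hy⟩ * e * ⟨y, yV hy⟩⁻¹) (mul_mem (mul_mem y1 eK) (inv_mem y1)) fun p hp => by
        have s : θ ⟨y, yV hy⟩ • O = O := y2.2
        rw [← s] at hp
        obtain ⟨r, hr, rfl⟩ := Finset.mem_smul_finset.1 hp
        rw [map_mul, map_mul, map_inv, Equiv.Perm.mul_apply, Equiv.Perm.mul_apply, Equiv.Perm.smul_def,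
          Equiv.Perm.inv_def, Equiv.symm_apply_apply, fe r hr]
      rw [← c, mem_cj] at m
      have m' : (e : G) ∈ A := by simpa [mul_assoc] using m
      exact absurd ((T.ker e).2 (T.w2_inf h ho hx ⟨m', hE e eK fe⟩)) q1
  have yb : Y ⊓ A = ⊥ := eq_bot_iff.2 fun y hy => k2.le ⟨hy.1.1, T.w2_inf h ho hx
    ⟨hy.2, hE ⟨y, yV hy.1⟩ hy.1.1 (h.fix _ hy.2)⟩⟩
  have cY : Nat.card Y = 322560 := by
    have c := T.w2_card yV
    have a : (Y.subgroupOf (𝐍 V)).map θ = w2SO O := le_antisymm (fun _ ⟨y, hy, e⟩ => e ▸ ((hY y).1 hy).2)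
      fun σ hσ => let ⟨k, a, b⟩ := T.w2_sur k1 k3 hσ.1; ⟨k, (hY k).2 ⟨a, b ▸ hσ⟩, b⟩
    have b : V ⊓ Y = ⊥ := eq_bot_iff.2 fun y hy => k2.le ⟨hy.2.1, hy.1⟩
    rw [a, b, card_bot, mul_one, w2_SO h.oct] at c
    exact c.symm
  refine ⟨Y, le_inf yA yV, yb, eq_of_le_of_card_ge (sup_le (le_inf yA yV) (le_inf le_normalizer h.le)) ?_⟩
  rw [card_sup_of_disjoint yA yb, T.w2_cN h cV, cY, h.sa.card, mul_comm]

theorem w2_Y (cV : Nat.card V = 2 ^ 11) (k1 : K ≤ 𝐍 V) (k2 : K ⊓ V = ⊥) (k3 : K ⊔ V = 𝐍 V) :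
    ∃ Y : Subgroup G, Y ≤ 𝐍 A ⊓ 𝐍 V ∧ Y ⊓ A = ⊥ ∧ Y ⊔ A = 𝐍 A ⊓ 𝐍 V := by
  obtain ⟨o, x, ho, hx⟩ := w2_pts h.oct
  have ox : o ≠ x := fun e => hx (e ▸ ho)
  have hu := T.emem (w2_ev ox)
  obtain ⟨i1, -, -⟩ := T.o_img h
  let E : Subgroup G := K ⊓ ((QO O).comap θ).map (𝐍 V).subtype
  have hE : ∀ y : 𝐍 V, (y : G) ∈ K → (∀ p ∈ O, θ y p = p) → (y : G) ∈ E := fun y a b =>
    ⟨a, y, mem_QO.2 ⟨T.mM y, b⟩, rfl⟩
  have key : (E : Set G) ⊆ A ∪ cj (ε {o, x}) A := by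
    rintro _ ⟨a, y, hy, rfl⟩
    replace a : (y : G) ∈ K := a
    replace hy : θ y ∈ QO O := hy
    have inj : ∀ z : 𝐍 V, (z : G) ∈ K → θ z = 1 → (z : G) = 1 := fun z a b => mem_bot.1 (k2.le ⟨a, (T.ker z).1 b⟩)
    by_cases q1 : θ y = 1
    · exact .inl (show (y : G) ∈ A from inj y a q1 ▸ one_mem _)
    refine T.w2_key h ho hx y.2 (inj (y * y) (mul_mem a a) ?_) (mem_QO.1 hy).2 q1
    obtain ⟨b, hb, e⟩ : θ y ∈ (A.subgroupOf (𝐍 V)).map θ := i1 ▸ hy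
    rw [map_mul, ← e, ← map_mul, show b * b = 1 from Subtype.ext (h.sa.sq _ hb), map_one]
  rcases SubgroupClass.subset_union.1 key with k | k
  · have n := le_normalizer hu
    refine T.w2_Y0 h cV (K := cj (ε {o, x}) K) (cj_le_of_le_of_mem_normalizer k1 (le_normalizer n)) ?_ ?_ ho hx
      fun e a b => mem_cj.2 (k (hE ((⟨_, n⟩ : 𝐍 V)⁻¹ * e * ⟨_, n⟩) (mem_cj.1 a) (by
        rwa [map_mul, map_mul, map_inv, (T.ker ⟨_, n⟩).2 hu, inv_one, one_mul, mul_one])))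
    · rw [← cj_of_mem hu, ← cj_inf, k2, cj_bot]
    · have := congrArg (fun X => cj (ε {o, x}) X) k3
      rwa [cj_sup, cj_of_mem hu, cj_of_mem n] at this
  · exact T.w2_Y0 h cV k1 k2 k3 ho hx fun e a b => k (hE e a b)

end TM

end Cfsg.Lib.JF
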