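import Cfsg.Agent.Lib.Block2.JW1

/-! The standard self-centralising `2^10` in `2^11 : M24`. -/

set_option autoImplicit false

namespace Cfsg.Lib.JF

open Subgroup Cfsg.Lib.Amalg Cfsg.Lib.Core Cfsg.Lib.Golay Spor
open scoped Pointwise symmDiff

variable {G : Type*} [Group G] {V K : Subgroup G} {D : Set G} {ε : Finset GolayPt → G}
  {θ : 𝐍 V →* Equiv.Perm GolayPt}

namespace TM
variable (T : TM V D ε θ)
include T

theorem w3_com {O R : Finset GolayPt} {k : 𝐍 V} (hk : θ k ∈ QO O) (r : R ⊆ O) (e : Even R.card) :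
    (k : G) * ε R = ε R * k := mul_inv_eq_iff_eq_mul.1 (by
  have := T.act k R e
  rwa [smul_of_fix fun x hx => (mem_QO.1 hk).2 x (r hx)] at this)

theorem w3_sq (k2 : K ⊓ V = ⊥) {g : G} (h : ∃ k : 𝐍 V, (k : G) ∈ K ∧ θ k ∈ QO (om 0x82402f) ∧
    ∃ R ⊆ om 0x82402f, Even R.card ∧ (k : G) * ε R = g) : g * g = 1 := by
  obtain ⟨k, a, b, R, r, e, rfl⟩ := h
  have : (k : G) * k = 1 := T.eq_one k2 (k := k * k) (mul_mem a a) (by rw [map_mul]; exact E16_sq b)
  rw [mul_assoc, ← mul_assoc (ε R), ← T.w3_com b r e, mul_assoc, T.esq, mul_one, this]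

/-- the standard `2^10`. -/
def w3A (k2 : K ⊓ V = ⊥) : Subgroup G where
  carrier := {g | ∃ k : 𝐍 V, (k : G) ∈ K ∧ θ k ∈ QO (om 0x82402f) ∧
    ∃ R ⊆ om 0x82402f, Even R.card ∧ (k : G) * ε R = g}
  one_mem' := ⟨1, one_mem _, by rw [map_one]; exact one_mem _, ∅, Finset.empty_subset _, by simp, by
    rw [(T.one ∅ (by simp)).2 empty_mem_cw]; simp⟩
  mul_mem' := by
    rintro _ _ ⟨k, a, b, R, r, e, rfl⟩ ⟨l, a', b', S, s, f, rfl⟩
    refine ⟨k * l, mul_mem a a', by rw [map_mul]; exact mul_mem b b', R ∆ S,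
      symmDiff_le_sup.trans (sup_le r s), even_sd e f, ?_⟩
    rw [T.mul, Subgroup.coe_mul, mul_assoc, ← mul_assoc (l : G), T.w3_com b' r e]
    simp only [mul_assoc]
  inv_mem' := fun {g} h => by rwa [inv_eq_of_mul_eq_one_right (T.w3_sq k2 h)]

theorem w3_Zs [Finite G] {O : Finset GolayPt} (hO : O ∈ octads) {o : GolayPt} (ho : o ∈ O) :
    Nat.card (T.Zs (O.erase o)) = 64 ∧ ∀ R ⊆ O, Even R.card → ε R ∈ T.Zs (O.erase o) := by
  have oc := mem_octads.1 hO
  have c7 : (O.erase o).card = 7 := by rw [Finset.card_erase_of_mem ho, oc.2]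
  constructor
  · have : Nat.card (T.Zs (O.erase o)) = ((O.erase o).powerset.filter fun S => Even S.card).card := by
      rw [← Set.ncard_coe_finset]
      refine Set.InjOn.ncard_image (f := ε) fun R hR S hS e => ?_
      obtain ⟨r1, r2⟩ := Finset.mem_filter.1 (Finset.mem_coe.1 hR)
      obtain ⟨s1, s2⟩ := Finset.mem_filter.1 (Finset.mem_coe.1 hS)
      have a := card_cw (T.cw_of r2 s2 e)
      have b : (R ∆ S).card ≤ 7 := c7 ▸ Finset.card_le_card
        (symmDiff_le_sup.trans (sup_le (Finset.mem_powerset.1 r1) (Finset.mem_powerset.1 s1)))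
      exact symmDiff_eq_bot.1 (Finset.card_eq_zero.1 (by omega))
    rw [this, Finset.card_filter, Finset.sum_powerset_apply_card (f := fun m => if Even m then 1 else 0), c7]
    decide
  · intro R r1 r3
    have e8 : Even O.card := by rw [oc.2]; decide
    by_cases e : o ∈ R
    · refine ⟨R ∆ O, Finset.mem_filter.2 ⟨Finset.mem_powerset.2 fun x hx => ?_, even_sd r3 e8⟩, by
        rw [T.mul, (T.one O e8).2 oc.1, mul_one]⟩
      rcases Finset.mem_symmDiff.1 hx with h | h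
      exacts [absurd (r1 h.1) h.2, Finset.mem_erase.2 ⟨fun e' => h.2 (e' ▸ e), h.1⟩]
    · exact ⟨R, Finset.mem_filter.2 ⟨Finset.mem_powerset.2 fun x hx =>
        Finset.mem_erase.2 ⟨fun e' => e (e' ▸ hx), r1 hx⟩, r3⟩, rfl⟩

theorem w3_ex [Finite G] (cl : ∀ t ∈ D, centralizer {t} ≤ 𝐍 V) (k1 : K ≤ 𝐍 V) (k2 : K ⊓ V = ⊥) (k3 : K ⊔ V = 𝐍 V) :
    ∃ A0 : Subgroup G, TO ε θ A0 (om 0x82402f) ∧
      (∀ k : 𝐍 V, (k : G) ∈ K → θ k • om 0x82402f = om 0x82402f → (k : G) ∈ 𝐍 A0) ∧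
      ∀ k : 𝐍 V, (k : G) ∈ K → θ k ∈ QO (om 0x82402f) → (k : G) ∈ A0 := by
  classical
  let A := T.w3A k2
  have oc := mem_octads.1 O0_mem
  have e0 : ε ∅ = 1 := (T.one ∅ (by simp)).2 empty_mem_cw
  have mK : ∀ k : 𝐍 V, (k : G) ∈ K → θ k ∈ QO (om 0x82402f) → (k : G) ∈ A := fun k a b =>
    ⟨k, a, b, ∅, Finset.empty_subset _, by simp, by rw [e0, mul_one]⟩
  have mR : ∀ R ⊆ om 0x82402f, Even R.card → ε R ∈ A := fun R r e =>
    ⟨1, one_mem _, by rw [map_one]; exact one_mem _, R, r, e, by simp⟩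
  have sq : ∀ a ∈ A, a * a = 1 := fun a h => T.w3_sq k2 h
  have le : A ≤ 𝐍 V := by
    rintro _ ⟨k, -, -, R, -, e, rfl⟩
    exact mul_mem k.2 (le_normalizer (T.emem e))
  have fx : ∀ a : 𝐍 V, (a : G) ∈ A → θ a ∈ QO (om 0x82402f) := by
    rintro a ⟨k, -, b, R, -, e, h⟩
    rwa [show a = k * ⟨ε R, le_normalizer (T.emem e)⟩ from Subtype.ext h.symm, map_mul,
      (T.ker ⟨ε R, _⟩).2 (T.emem e), mul_one]
  have sub : ∀ w ∈ A, w ∈ V → ∃ R ⊆ om 0x82402f, Even R.card ∧ ε R = w := by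
    rintro _ ⟨k, a, -, R, r, e, rfl⟩ hv
    have : (k : G) = 1 := k2.le ⟨a, (mul_mem_cancel_right (T.emem e)).1 hv⟩
    exact ⟨R, r, e, by rw [this, one_mul]⟩
  obtain ⟨o, ho⟩ : (om 0x82402f).Nonempty := Finset.card_pos.1 (by omega)
  obtain ⟨z1, z2⟩ := T.w3_Zs O0_mem ho
  have c64 : Nat.card ↥(A ⊓ V) = 64 := by
    rw [← z1]
    congr 2
    refine le_antisymm (fun w hw => ?_) ?_
    · obtain ⟨R, r, e, rfl⟩ := sub w hw.1 hw.2
      exact z2 R r e
    · rintro _ ⟨R, hR, rfl⟩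
      obtain ⟨r1, r2⟩ := Finset.mem_filter.1 hR
      exact ⟨mR R ((Finset.mem_powerset.1 r1).trans (Finset.erase_subset _ _)) r2, T.emem r2⟩
  have lift : ∀ q ∈ QO (om 0x82402f), ∃ k : 𝐍 V, (k : G) ∈ K ∧ θ k = q := fun q hq => by
    obtain ⟨n, rfl⟩ : q ∈ θ.range := T.rng ▸ hq.1
    exact T.lift k1 k3 n
  have cA : Nat.card A = 2 ^ 10 := by
    have c := card_map_mul_card_inf_ker θ (A.subgroupOf (𝐍 V))
    rw [Nat.card_congr (subgroupOfEquivOfLe le).toEquiv] at c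
    have i1 : (A.subgroupOf (𝐍 V)).map θ = E16 := le_antisymm (fun b ⟨a, ha, e⟩ => e ▸ fx a ha) fun q hq => by
      obtain ⟨k, a, rfl⟩ := lift q hq
      exact ⟨k, mK k a hq, rfl⟩
    have i2 : (θ.ker ⊓ A.subgroupOf (𝐍 V)).map (𝐍 V).subtype = A ⊓ V := le_antisymm (by
      rintro _ ⟨k, hk, rfl⟩
      exact ⟨hk.2, (T.ker k).1 hk.1⟩) fun w hw => ⟨⟨w, le hw.1⟩, ⟨(T.ker _).2 hw.2, hw.1⟩, rfl⟩
    rw [← c, i1, card_E16, ← card_map_subtype, i2, c64]
    norm_num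
  have ev : ∀ {a b : GolayPt}, a ≠ b → Even ({a, b} : Finset GolayPt).card := fun n => by
    rw [Finset.card_pair n]; decide
  have pr : ∀ (g : 𝐍 V) {a b : GolayPt}, a ≠ b → (g : G) * ε {a, b} = ε {a, b} * g → θ g a = a ∨ θ g a = b :=
    fun g a b n c => by
      have h1 := T.act g _ (ev n)
      rw [c, mul_inv_cancel_right] at h1
      have h2 := T.inj (ev n) (by rw [Finset.card_smul_finset]; exact ev n)
        (by rw [Finset.card_smul_finset, Finset.card_pair n]; omega) h1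
      have : θ g a ∈ ({a, b} : Finset GolayPt) := h2 ▸ Finset.smul_mem_smul_finset (Finset.mem_insert_self _ _)
      simpa using this
  have lC : A ≤ centralizer (A : Set G) := fun a ha b hb => comm_of_sq sq hb ha
  have cV : V ⊓ centralizer (A : Set G) ≤ A := by
    have := Fintype.ofFinite E16
    obtain ⟨a, b, c, ab, ac, bc⟩ := Fintype.two_lt_card_iff.1
      (show 2 < Fintype.card E16 by rw [← Nat.card_eq_fintype_card, card_E16]; norm_num)
    obtain ⟨k, k4, k5⟩ := lift _ (a⁻¹ * b).2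
    obtain ⟨l, l4, l5⟩ := lift _ (a⁻¹ * c).2
    have kQ : θ k ∈ QO (om 0x82402f) := k5 ▸ (a⁻¹ * b).2
    have lQ : θ l ∈ QO (om 0x82402f) := l5 ▸ (a⁻¹ * c).2
    have fr : ∀ q ∈ QO (om 0x82402f), q ≠ 1 → ∀ x ∉ om 0x82402f, q x ≠ x := fun q hq n =>
      (m24_Qc O0_mem hq.1 hq.1 (E16_sq hq) (E16_sq hq) n n (mem_QO.1 hq).2 (mem_QO.1 hq).2).1
    have n1 : θ k ≠ 1 := fun e => ab (inv_mul_eq_one.1 (Subtype.ext (k5.symm.trans e)))
    have n2 : θ l ≠ 1 := fun e => ac (inv_mul_eq_one.1 (Subtype.ext (l5.symm.trans e)))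
    have n3 : (θ k)⁻¹ * θ l ≠ 1 := fun e => bc (mul_left_cancel (Subtype.ext
      (k5.symm.trans ((inv_mul_eq_one.1 e).trans l5))))
    obtain ⟨x, hx⟩ : ∃ x, x ∉ om 0x82402f := ⟨_, pt4_not_mem⟩
    have qx := fr _ kQ n1 x hx
    have qq : θ k (θ k x) = x := by rw [← Equiv.Perm.mul_apply, E16_sq kQ, Equiv.Perm.one_apply]
    let Z : Subgroup G := V ⊓ centralizer {(k : G)}
    obtain ⟨W, w1, w2, w3, w4, -⟩ := T.exW (Z := Z) inf_le_left
    have cZ := m24_fix kQ.1 (E16_sq kQ) n1 w2 w3 fun S hS =>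
      T.fxc k (w2 S hS) (mem_centralizer_singleton_iff.1 (w4 S hS).2).symm
    have dZ : ε {x, θ k x} ∈ Z := ⟨T.emem (ev qx.symm), mem_centralizer_singleton_iff.2 (mul_inv_eq_iff_eq_mul.1 (by
      rw [T.act k _ (ev qx.symm), Finset.smul_finset_insert, Finset.smul_finset_singleton, Equiv.Perm.smul_def,
        Equiv.Perm.smul_def, qq, Finset.pair_comm])).symm⟩
    have l1 : A ⊓ V ≤ V ⊓ centralizer (A : Set G) := fun w hw => ⟨hw.2, lC hw.1⟩
    have l2 : V ⊓ centralizer (A : Set G) ≤ Z := fun w hw =>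
      ⟨hw.1, mem_centralizer_singleton_iff.2 (hw.2 _ (mK k k4 kQ)).symm⟩
    have dC : ε {x, θ k x} ∉ V ⊓ centralizer (A : Set G) := fun m => by
      rcases pr l qx.symm (m.2 _ (mK l l4 lQ)) with e | e
      · exact fr _ lQ n2 x hx e
      · exact fr _ (mul_mem (inv_mem kQ) lQ) n3 x hx (by
          rw [Equiv.Perm.mul_apply, e]; simp)
    have c1 := card_mul_relIndex l1
    have c2 := card_mul_relIndex l2
    have m1 : (V ⊓ centralizer (A : Set G)).relIndex Z ≠ 1 := fun e => dC (relIndex_eq_one.1 e dZ)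
    have p1 : 0 < Nat.card Z := Nat.card_pos
    rw [← c1, c64] at c2
    rw [w1, ← c2] at cZ
    rw [← c2] at p1
    have m2 : (A ⊓ V).relIndex (V ⊓ centralizer (A : Set G)) = 1 := by
      generalize (A ⊓ V).relIndex (V ⊓ centralizer (A : Set G)) = s at *
      generalize (V ⊓ centralizer (A : Set G)).relIndex Z = t at *
      have t2 : 2 ≤ t := by
        rcases t with _ | _ | t
        · simp at p1
        · exact absurd rfl m1
        · omega
      have s1 : 1 ≤ s := by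
        rcases s with _ | s
        · simp at p1
        · omega
      nlinarith
    exact (relIndex_eq_one.1 m2).trans inf_le_left
  have cen : centralizer (A : Set G) = A := le_antisymm (fun c hc => by
    have du : ∀ a ∈ om 0x82402f, ∀ b ∈ om 0x82402f, a ≠ b → c * ε {a, b} = ε {a, b} * c := fun a ha b hb n =>
      (hc _ (mR _ (Finset.insert_subset ha (Finset.singleton_subset_iff.2 hb)) (ev n))).symm
    obtain ⟨a, b, ha, hb, ab⟩ := Finset.one_lt_card_iff.1 (show 1 < (om 0x82402f).card by omega)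
    have cN : c ∈ 𝐍 V := cl _ ((T.duad _).2 ⟨_, Finset.card_pair ab, rfl⟩)
      (mem_centralizer_singleton_iff.2 (du a ha b hb ab))
    have cQ : θ ⟨c, cN⟩ ∈ QO (om 0x82402f) := mem_QO.2 ⟨T.mM _, fun x hx => by
      obtain ⟨y, w, hy, hw, yw⟩ := Finset.one_lt_card_iff.1 (show 1 < ((om 0x82402f).erase x).card by
        rw [Finset.card_erase_of_mem hx]; omega)
      obtain ⟨y1, y2⟩ := Finset.mem_erase.1 hy
      obtain ⟨w1, w2⟩ := Finset.mem_erase.1 hw
      rcases pr ⟨c, cN⟩ y1.symm (du x hx y y2 y1.symm) with e | e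
      · exact e
      rcases pr ⟨c, cN⟩ w1.symm (du x hx w w2 w1.symm) with e' | e'
      · exact e'
      · exact absurd (e.symm.trans e') yw⟩
    obtain ⟨k, hk, v, hv, e, e'⟩ := T.decK k1 k3 cN
    have kA : k ∈ A := mK ⟨k, k1 hk⟩ hk (by rw [e']; exact cQ)
    rw [← e] at hc ⊢
    exact mul_mem kA (cV ⟨hv, (mul_mem_cancel_left (lC kA)).1 hc⟩)) lC
  refine ⟨A, ⟨⟨sq, cA, cen⟩, le, O0_mem, fun a ha => (mem_QO.1 (fx a ha)).2, c64.le, sub⟩, fun k hk s => ?_, mK⟩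
  refine mem_normalizer_fintype ?_
  rintro _ ⟨l, a, b, R, r, e, rfl⟩
  refine ⟨k * l * k⁻¹, mul_mem (mul_mem hk a) (inv_mem hk), mem_QO.2 ⟨T.mM _, fun x hx => ?_⟩, θ k • R,
    s ▸ Finset.smul_finset_subset_smul_finset r, by rwa [Finset.card_smul_finset], ?_⟩
  · rw [map_mul, map_mul, map_inv, Equiv.Perm.mul_apply, Equiv.Perm.mul_apply, (mem_QO.1 b).2 _
      ((apply_mem_iff_of_smul_eq s _).1 (by simpa using hx))]
    simp
  · rw [← T.act k R e]
    simp only [Subgroup.coe_mul, Subgroup.coe_inv]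
    group

end TM

end Cfsg.Lib.JF
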