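import Cfsg.Agent.Lib.Block2.JX2

/-! The action of `N(A) ⊓ N(V)` on `(V ⊓ N(A)) A / A`. -/

set_option autoImplicit false

namespace Cfsg.Lib.JF

open Subgroup Cfsg.Lib.Amalg Cfsg.Lib.Core Cfsg.Lib.Golay Spor
open scoped Pointwise symmDiff

variable {G : Type*} [Group G] {V A : Subgroup G} {D : Set G} {ε : Finset GolayPt → G}
  {θ : 𝐍 V →* Equiv.Perm GolayPt} {O : Finset GolayPt}

theorem z_out {O O' : Finset GolayPt} (h : O ∈ octads) (h' : O' ∈ octads) : ∃ x, x ∉ O ∧ x ∉ O' := by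
  by_contra a
  push Not at a
  have b : O ∪ O' = Finset.univ := Finset.eq_univ_of_forall fun x => by
    by_cases c : x ∈ O
    exacts [Finset.mem_union_left _ c, Finset.mem_union_right _ (a x c)]
  have := Finset.card_union_le O O'
  rw [b, Finset.card_univ, card_golayPt, (mem_octads.1 h).2, (mem_octads.1 h').2] at this
  omega

namespace TM
variable [Finite G] (T : TM V D ε θ) (h : TO ε θ A O)
include T h

theorem z_sq {q : Equiv.Perm GolayPt} (hq : q ∈ QO O) : q * q = 1 := by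
  rw [← (T.o_img h).1] at hq
  obtain ⟨a, ha, rfl⟩ := hq
  rw [← map_mul, show a * a = 1 from Subtype.ext (h.sa.sq _ ha), map_one]

theorem z_free {q : Equiv.Perm GolayPt} (hq : q ∈ QO O) {x : GolayPt} (hx : x ∉ O) (e : q x = x) : q = 1 := by
  by_contra n
  obtain ⟨q1, q2⟩ := mem_QO.1 hq
  exact (m24_Qc h.oct q1 q1 (T.z_sq h hq) (T.z_sq h hq) n n q2 q2).1 x hx e

theorem z_m24 {σ : Equiv.Perm GolayPt} (hσ : σ ∈ M24) (c : ∀ q ∈ QO O, σ * q = q * σ) : σ ∈ QO O := by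
  classical
  obtain ⟨x, hx, -⟩ := z_out h.oct h.oct
  have c16 := (T.o_img h).2.1
  have out : ∀ q ∈ QO O, ∀ y ∉ O, q y ∉ O := fun q hq y hy m =>
    hy ((q.injective ((mem_QO.1 hq).2 _ m)) ▸ m)
  have reg : ∀ y ∉ O, ∃ q ∈ QO O, q x = y := fun y hy => by
    let f : QO O → {y // y ∉ O} := fun q => ⟨q.1 x, out q q.2 x hx⟩
    have fi : Function.Injective f := fun a b e => by
      have e1 : a.1 x = b.1 x := congrArg Subtype.val e
      have := T.z_free h (mul_mem (inv_mem b.2) a.2) hx (by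
        rw [Equiv.Perm.mul_apply, e1, Equiv.Perm.inv_eq_iff_eq])
      exact Subtype.ext (inv_mul_eq_one.1 this).symm
    obtain ⟨q, e⟩ := ((Nat.bijective_iff_injective_and_card f).2 ⟨fi, by
      rw [c16, Nat.card_eq_fintype_card, Fintype.card_subtype_compl, card_golayPt, Fintype.card_coe,
        (mem_octads.1 h.oct).2]⟩).2 ⟨y, hy⟩
    exact ⟨q, q.2, congrArg Subtype.val e⟩
  have sx : σ x ∉ O := fun m => by
    have : QO O = ⊥ := eq_bot_iff.2 fun q hq => T.z_free h hq hx (σ.injective (by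
      rw [← Equiv.Perm.mul_apply, c q hq, Equiv.Perm.mul_apply, (mem_QO.1 hq).2 _ m]))
    rw [this, card_bot] at c16
    omega
  obtain ⟨e, he, e1⟩ := reg _ sx
  have fx : ∀ y ∉ O, (e⁻¹ * σ) y = y := fun y hy => by
    obtain ⟨q, hq, rfl⟩ := reg y hy
    rw [Equiv.Perm.mul_apply, Equiv.Perm.inv_eq_iff_eq, ← Equiv.Perm.mul_apply σ, c q hq, Equiv.Perm.mul_apply, ← e1,
      ← Equiv.Perm.mul_apply, ← Equiv.Perm.mul_apply e,
      comm_of_sq (B := QO O) (fun _ a => T.z_sq h a) hq he]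
  obtain ⟨k, hk, ek⟩ := std_octad h.oct
  have o2 : k • om 0x149f00 ∈ octads := (smul_mem_octads_iff hk).2 (om_mem_octads (by decide +kernel))
  have dj : Disjoint O (k • om 0x149f00) := by
    rw [ek, disjoint_smul', om_disjoint_iff (by norm_num)]
    decide
  obtain ⟨ρ, r1, -, r2⟩ := x_flag h.oct o2 (Finset.empty_subset _) (Finset.empty_subset _) rfl (by simp)
  obtain ⟨n, rfl⟩ : ρ ∈ θ.range := T.rng ▸ r1
  have h2 := T.o_cj h n
  rw [r2] at h2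
  obtain ⟨y, y1, y2⟩ := z_out h.oct o2
  have := T.z_free h2 (mem_QO.2 ⟨mul_mem (inv_mem (mem_QO.1 he).1) hσ,
    fun z hz => fx z fun m => Finset.disjoint_left.1 dj m hz⟩) y2 (fx y y1)
  exact inv_mul_eq_one.1 this ▸ he

theorem z_nu {o x : GolayPt} (ho : o ∈ O) (hx : x ∉ O) {a : G} (ha : a ∈ A) (m : a ∈ cj (ε {o, x}) A) : a ∈ V := by
  by_contra q0
  let a' : 𝐍 V := ⟨a, h.le ha⟩
  have qx : θ a' x ≠ x := fun e => q0 ((T.ker a').1 (T.z_free h (mem_QO.2 ⟨T.mM _, h.fix a' ha⟩) hx e))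
  have ev : ∀ {a b : GolayPt}, a ≠ b → Even ({a, b} : Finset GolayPt).card := fun n => by
    rw [Finset.card_pair n]; decide
  have ox : o ≠ x := fun e => hx (e ▸ ho)
  have e1 : a * ε {o, x} * a⁻¹ * ε {o, x} = ε {x, θ a' x} := by
    rw [T.act a' _ (ev ox), ← T.mul, Finset.smul_finset_insert, Finset.smul_finset_singleton, Equiv.Perm.smul_def,
      Equiv.Perm.smul_def, h.fix a' ha o ho]
    congr 1
    have : θ a' x ≠ o := fun e => ox ((θ a').injective ((h.fix a' ha o ho).trans e.symm))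
    ext y
    simp only [Finset.mem_symmDiff, Finset.mem_insert, Finset.mem_singleton]
    grind
  have m2 : ε {x, θ a' x} ∈ A := by
    have := mul_mem ha (mem_cj.1 (inv_mem m))
    rwa [inv_eq_of_mul_eq_one_right (T.esq _), ← mul_assoc, ← mul_assoc, e1] at this
  obtain ⟨R, r1, r2, r3, r4⟩ := T.o_sub h m2 (T.emem (ev qx.symm))
  have := T.inj r2 (ev qx.symm) (by rw [Finset.card_pair qx.symm]; omega) r4
  exact hx (r1 (this ▸ Finset.mem_insert_self _ _))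

variable (cV : Nat.card V = 2 ^ 11) (c2 : Nat.card ↥(V ⊓ 𝐍 A) = 2 ^ 10)
include cV c2

theorem z_B : ∃ B : Subgroup G, TO ε θ B O ∧ (∀ b ∈ B, b ∈ V → b ∈ A) ∧ (∀ b ∈ B, b ∈ A → b ∈ V) ∧
    (∀ p ∈ 𝐍 A ⊓ 𝐍 V, p ∈ 𝐍 B) ∧ (∀ σ ∈ M24, σ • O = O → ∃ p : 𝐍 V, (p : G) ∈ 𝐍 A ∧ θ p = σ) ∧
    (∀ b ∈ B, ∃ q ∈ V ⊓ 𝐍 A, ∃ a ∈ A, q * a = b) ∧ ∀ q ∈ V ⊓ 𝐍 A, ∃ b ∈ B, q * b⁻¹ ∈ A := by
  obtain ⟨i1, i2, i3⟩ := T.o_img h
  obtain ⟨o, ho⟩ : O.Nonempty := Finset.card_pos.1 (by rw [(mem_octads.1 h.oct).2]; omega)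
  obtain ⟨x, hx, -⟩ := z_out h.oct h.oct
  have ox : o ≠ x := fun e => hx (e ▸ ho)
  have hu : ε {o, x} ∈ V := T.emem (by rw [Finset.card_pair ox]; decide)
  have nu := fun a ha m => T.z_nu h ho hx (a := a) ha m
  generalize ε {o, x} = u at hu nu
  have AN : A ≤ 𝐍 A := le_normalizer
  have un : u ∉ 𝐍 A := fun m => by
    have : A ≤ A ⊓ V := fun a ha => ⟨ha, nu a ha ((cj_of_mem_normalizer m).ge ha)⟩
    have := card_le_of_le this
    rw [i3, h.sa.card] at this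
    omega
  have ix : ((𝐍 A).subgroupOf V).index = 2 := by
    have := index_mul_card ((𝐍 A).subgroupOf V)
    rw [card_subgroupOf_eq_card_inf, inf_comm, c2, cV] at this
    omega
  have two : ∀ v ∈ V, ∀ w ∈ V, v ∉ 𝐍 A → w ∉ 𝐍 A → v * w ∈ 𝐍 A := fun v hv w hw a b =>
    (mul_mem_iff_of_index_two ix (a := ⟨v, hv⟩) (b := ⟨w, hw⟩)).2 (iff_of_false a b)
  have cu : ∀ v ∈ V, v ∉ 𝐍 A → cj v A = cj u A := fun v hv a => by
    have := cj_of_mem_normalizer (two _ (inv_mem hu) v hv (fun m => un (inv_mem_iff.1 m)) a)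
    exact (congrArg (cj · A) (mul_inv_cancel_left u v).symm).trans ((cj_mul _ _ _).trans (congrArg _ this))
  have hB : TO ε θ (cj u A) O := by
    have := T.o_cj h ⟨u, le_normalizer hu⟩
    rwa [(T.ker _).2 hu, one_smul] at this
  have BV : ∀ b ∈ cj u A, b ∈ V → b ∈ A := fun b hb v => by
    have := mem_cj.1 hb
    rwa [mul_assoc, ← T.comm hu v, inv_mul_cancel_left] at this
  have dec : ∀ b ∈ cj u A, ∃ q ∈ V ⊓ 𝐍 A, ∃ a ∈ A, q * a = b := by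
    rintro _ ⟨a, ha, rfl⟩
    have v1 : a * u⁻¹ * a⁻¹ ∈ V := (mem_normalizer_iff.1 (h.le ha) _).1 (inv_mem hu)
    refine ⟨u * (a * u⁻¹ * a⁻¹), ⟨mul_mem hu v1, two _ hu _ v1 un fun m => un ?_⟩, a, ha, by
      simp [mul_assoc]⟩
    rwa [mul_mem_cancel_right (inv_mem (AN ha)), mul_mem_cancel_left (AN ha), inv_mem_iff] at m
  have BN : cj u A ≤ 𝐍 A := fun b hb => by
    obtain ⟨q, hq, a, ha, rfl⟩ := dec b hb
    exact mul_mem hq.2 (AN ha)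
  refine ⟨cj u A, hB, BV, fun b hb ha => nu b ha hb, fun p hp => cj_eq_self_iff.1 ?_, fun σ hσ e => ?_, dec,
    fun q hq => ?_⟩
  · rw [← cj_mul, show p * u = p * u * p⁻¹ * p by simp, cj_mul, cj_of_mem_normalizer hp.1]
    refine cu _ ((mem_normalizer_iff.1 hp.2 _).1 hu) fun m => un ?_
    have hp1 : p ∈ 𝐍 A := hp.1
    rwa [mul_mem_cancel_right (inv_mem hp1), mul_mem_cancel_left hp1] at m
  · obtain ⟨n, rfl⟩ : σ ∈ θ.range := T.rng ▸ hσ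
    have h2 := T.o_cj h n
    rw [e] at h2
    obtain ⟨v, hv, e2⟩ := T.o_two h h2
    refine ⟨(⟨v, le_normalizer hv⟩ : 𝐍 V)⁻¹ * n, cj_eq_self_iff.1 ?_, by
      rw [map_mul, map_inv, (T.ker _).2 hv, inv_one, one_mul]⟩
    show cj (v⁻¹ * n) A = A
    rw [cj_mul, ← e2, ← cj_mul, inv_mul_cancel, cj_one]
  · have hA : (A.subgroupOf (𝐍 A)).Normal := normal_in_normalizer
    let π := QuotientGroup.mk' (A.subgroupOf (𝐍 A))
    have isd : ∀ H K : Subgroup G, H.subgroupOf (𝐍 A) ⊓ K.subgroupOf (𝐍 A) = (H ⊓ K).subgroupOf (𝐍 A) :=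
      fun _ _ => rfl
    have k1 := card_map_mul_card_inf_ker π ((cj u A).subgroupOf (𝐍 A))
    have k2 := card_map_mul_card_inf_ker π (V.subgroupOf (𝐍 A))
    have e1 : A ⊓ cj u A = A ⊓ V := le_antisymm (fun b hb => ⟨hb.1, nu b hb.1 hb.2⟩) fun b hb => ⟨hb.1, mem_cj.2 (by
      rw [mul_assoc, ← T.comm hu hb.2, inv_mul_cancel_left]; exact hb.1)⟩
    rw [QuotientGroup.ker_mk', isd, card_subgroupOf_of_le (inf_le_left.trans AN)] at k1 k2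
    rw [e1, i3, card_subgroupOf_of_le BN, hB.sa.card] at k1
    rw [i3, card_subgroupOf_eq_card_inf, c2] at k2
    have le : ((cj u A).subgroupOf (𝐍 A)).map π ≤ (V.subgroupOf (𝐍 A)).map π := by
      rintro _ ⟨b, hb, rfl⟩
      obtain ⟨q, hq, a, ha, e⟩ := dec b hb
      refine ⟨⟨q, hq.2⟩, hq.1, QuotientGroup.eq.2 ?_⟩
      show q⁻¹ * (b : G) ∈ A
      rwa [← e, inv_mul_cancel_left]
    obtain ⟨b, hb, e⟩ := (eq_of_le_of_card_ge le (by omega)).ge (mem_map_of_mem π (show (⟨q, hq.2⟩ : 𝐍 A) ∈ _ from hq.1))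
    refine ⟨b, hb, ?_⟩
    have e2 : (b : G)⁻¹ * q ∈ A := (QuotientGroup.eq (s := A.subgroupOf (𝐍 A)) (a := b) (b := ⟨q, hq.2⟩)).1 e
    have := (mem_normalizer_iff.1 b.2 _).1 e2
    rwa [mul_inv_cancel_left] at this

theorem z_tr : ∀ q ∈ V ⊓ 𝐍 A, ∀ r ∈ V ⊓ 𝐍 A, q ∉ A → r ∉ A → ∃ p ∈ 𝐍 A ⊓ 𝐍 V, p * q * p⁻¹ * r⁻¹ ∈ A := by
  intro q hq r hr q1 r1
  obtain ⟨B, hB, BV, -, nB, lift, -, cov⟩ := T.z_B h cV c2
  obtain ⟨b, hb, b1⟩ := cov q hq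
  obtain ⟨c, hc, c1⟩ := cov r hr
  have k : ∀ {q b : G} (hb : b ∈ B), q * b⁻¹ ∈ A → q ∉ A → θ ⟨b, hB.le hb⟩ ≠ 1 := fun {q b} hb e n m =>
    n ((mul_mem_cancel_right (inv_mem (BV b hb ((T.ker _).1 m)))).1 e)
  have s : ∀ {b : G} (hb : b ∈ B), θ ⟨b, hB.le hb⟩ * θ ⟨b, hB.le hb⟩ = 1 := fun hb =>
    T.z_sq h (mem_QO.2 ⟨T.mM _, hB.fix _ hb⟩)
  obtain ⟨σ, s1, s2, s3⟩ := (m24_Qc h.oct (T.mM _) (T.mM _) (s hb) (s hc) (k hb b1 q1) (k hc c1 r1)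
    (hB.fix _ hb) (hB.fix _ hc)).2
  obtain ⟨p, hp, rfl⟩ := lift σ s1 s2
  refine ⟨p, ⟨hp, p.2⟩, ?_⟩
  have m : (p : G) * b * (p : G)⁻¹ * c⁻¹ ∈ A := BV _
    (mul_mem ((mem_normalizer_iff.1 (nB p ⟨hp, p.2⟩) _).1 hb) (inv_mem hc))
    ((T.ker (p * ⟨b, hB.le hb⟩ * p⁻¹ * (⟨c, hB.le hc⟩ : 𝐍 V)⁻¹)).1 (by
      rw [map_mul, map_mul, map_mul, map_inv, map_inv, s3, mul_inv_cancel]))
  have := mul_mem (mul_mem ((mem_normalizer_iff.1 hp _).1 b1) m) (inv_mem c1)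
  convert this using 1
  group

theorem z_cen : ∀ p ∈ 𝐍 A ⊓ 𝐍 V, (∀ q ∈ V ⊓ 𝐍 A, p * q * p⁻¹ * q⁻¹ ∈ A) → p ∈ A ⊔ (V ⊓ 𝐍 A) := by
  intro p hp c
  obtain ⟨B, hB, -, BA, nB, -, dec, -⟩ := T.z_B h cV c2
  have m := T.z_m24 h (T.mM ⟨p, hp.2⟩) fun e he => by
    rw [← (T.o_img hB).1] at he
    obtain ⟨b, hb, rfl⟩ := he
    rw [← mul_inv_eq_iff_eq_mul, ← mul_inv_eq_one, ← map_inv, ← map_inv, ← map_mul, ← map_mul, ← map_mul, T.ker]
    refine BA _ (mul_mem ((mem_normalizer_iff.1 (nB p hp) _).1 hb) (inv_mem hb)) ?_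
    obtain ⟨q, hq, a, ha, e⟩ := dec b hb
    show p * (b : G) * p⁻¹ * (b : G)⁻¹ ∈ A
    have := mul_mem (c q hq) ((mem_normalizer_iff.1 hq.2 _).1
      (mul_mem ((mem_normalizer_iff.1 hp.1 _).1 ha) (inv_mem ha)))
    rw [← e]
    convert this using 1
    group
  rw [← (T.o_img h).1] at m
  obtain ⟨a, ha, e⟩ := m
  replace ha : (a : G) ∈ A := ha
  have v : (a : G)⁻¹ * p ∈ V := (T.ker (a⁻¹ * ⟨p, hp.2⟩)).1 (by rw [map_mul, map_inv, e, inv_mul_cancel])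
  have n1 : (a : G)⁻¹ * p ∈ 𝐍 A := mul_mem (inv_mem (le_normalizer ha)) hp.1
  have := mul_mem (mem_sup_left (T := V ⊓ 𝐍 A) ha) (mem_sup_right (S := A) (show _ ∈ V ⊓ 𝐍 A from ⟨v, n1⟩))
  rwa [mul_inv_cancel_left] at this

end TM

end Cfsg.Lib.JF
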