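import Cfsg.Agent.Lib.Block2.JW2
import Cfsg.Agent.Lib.Block2.JW3
import Cfsg.Agent.Lib.Block2.JZ2

/-! The standard `2^10` in `2^11 : M24`. -/

set_option autoImplicit false

namespace Cfsg.Lib.JF

open Subgroup Cfsg.Lib.Amalg Cfsg.Lib.Core Cfsg.Lib.Golay Spor

variable {G : Type*} [Group G] {V : Subgroup G} {D : Set G} {ε : Finset GolayPt → G}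
  {θ : 𝐍 V →* Equiv.Perm GolayPt}

theorem TM.ten_stdW [Finite G] (T : TM V D ε θ) (cV : Nat.card V = 2 ^ 11) (cl : ∀ t ∈ D, centralizer {t} ≤ 𝐍 V)
    {K : Subgroup G} (k1 : K ≤ 𝐍 V) (k2 : K ⊓ V = ⊥) (k3 : K ⊔ V = 𝐍 V) :
    ∃ A Y : Subgroup G, (∀ a ∈ A, a * a = 1) ∧ Nat.card A = 2 ^ 10 ∧ centralizer (A : Set G) = A ∧ A ≤ 𝐍 V ∧
      Nat.card ↥(𝐍 A ⊓ 𝐍 V) = 2 ^ 10 * 322560 ∧ Nat.card ↥(V ⊓ 𝐍 A) = 2 ^ 10 ∧ Nat.card ↥(A ⊓ V) = 64 ∧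
      (∀ q ∈ V ⊓ 𝐍 A, ∀ r ∈ V ⊓ 𝐍 A, q ∉ A → r ∉ A → ∃ p ∈ 𝐍 A ⊓ 𝐍 V, p * q * p⁻¹ * r⁻¹ ∈ A) ∧
      (∀ p ∈ 𝐍 A ⊓ 𝐍 V, (∀ q ∈ V ⊓ 𝐍 A, p * q * p⁻¹ * q⁻¹ ∈ A) → p ∈ A ⊔ (V ⊓ 𝐍 A)) ∧
      Y ≤ 𝐍 A ⊓ 𝐍 V ∧ Y ⊓ A = ⊥ ∧ Y ⊔ A = 𝐍 A ⊓ 𝐍 V ∧ {d | d ∈ A ∧ d ∈ D}.ncard = 28 ∧
      ∀ d ∈ A, d ∈ D → ∀ e ∈ A, e ∈ D → ∃ p ∈ 𝐍 A ⊓ 𝐍 V, p * d * p⁻¹ = e := by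
  obtain ⟨A, h, -⟩ := T.w3_ex cl k1 k2 k3
  obtain ⟨Y, y1, y2, y3⟩ := T.w2_Y h cV k1 k2 k3
  have c2 := T.w2_cV h cV
  exact ⟨A, Y, h.sa.sq, h.sa.card, h.sa.cen, h.le, T.w2_cN h cV, c2, (T.o_img h).2.2, T.z_tr h cV c2,
    T.z_cen h cV c2, y1, y2, y3, T.w1_28 h, T.w1_tr h⟩

end Cfsg.Lib.JF
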