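import Cfsg.Agent.Lib.Block2.JX1
import Cfsg.Agent.Lib.Block2.JX3
import Cfsg.Agent.Lib.Block2.JI3

/-! Glue for the self-centralising `2^10` of a group of Janko-four type. -/

set_option autoImplicit false

namespace Cfsg.Lib.JF

open Subgroup Cfsg.Lib.Amalg Cfsg.Lib.Core Cfsg.Lib.Known2 Cfsg.Lib.Golay Cfsg.Spor

instance off24 : Fact Off24 := ⟨fun hB e n _ ev inj fx c => m24_off hB e n ev inj fx c⟩

namespace AllD

variable {G : Type*} [Group G] [Finite G] {E : Subgroup G} {z p : G} {φ : KK z p →* Equiv.Perm GolayPt}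
  {q : Equiv.Perm GolayPt} (A : AllD E z p φ q)
include A

theorem x_two : ∀ t : G, orderOf t = 2 → ¬ IsConj z t → ∃ d ∈ DD (V0 E φ (gc.gen gA)) z, IsConj t d := by
  obtain ⟨ε, θ, T⟩ := A.gd.exists_TM
  obtain ⟨K, k1, k2, k3, -⟩ := A.split
  exact A.js.two_cls mf A.oc.nDU T A.cenD k1 k2 k3

variable (cH : Nat.card (centralizer ({z} : Set G)) = 21799895040)
include cH

theorem x_31 {B : Subgroup G} (hB : ST10 B) : 31 ∣ Nat.card (𝐍 B) := by
  obtain ⟨a, -, -, -, h, -⟩ := A.s5571 cH A.x_two hB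
  rw [← x_orb (𝐍 B) a, h]
  exact Dvd.dvd.mul_right (by norm_num) _

end AllD

end Cfsg.Lib.JF
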