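import Cfsg.Agent.Lib.Block2.JXk0

/-! Near-offenders of `M24` on the even cocode module: kernel checks. -/

set_option autoImplicit false
set_option maxRecDepth 100000

namespace Cfsg.Lib.JF

open Subgroup Cfsg.Lib.Amalg Cfsg.Lib.Core Cfsg.Lib.Known2 Cfsg.Lib.Golay Spor MulAction
open scoped Pointwise symmDiff

theorem xdfs_ok : xdfs 191 (2 ^ 191 - 1) (2 ^ 128 - 1) = true := by decide +kernel

end Cfsg.Lib.JF
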