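import Mathlib

/-! The exterior square of `F_2^5` in Plücker coordinates (pairs 01,02,03,04,12,13,14,23,24,34). -/

set_option autoImplicit false

namespace Cfsg.Lib.JY

abbrev W := Fin 10 → ZMod 2

/-- the five Plücker quadrics -/
def pf (x : W) : Fin 5 → ZMod 2 :=
  ![x 4 * x 9 + x 5 * x 8 + x 6 * x 7, x 1 * x 9 + x 2 * x 8 + x 3 * x 7, x 0 * x 9 + x 2 * x 6 + x 3 * x 5,
    x 0 * x 8 + x 1 * x 6 + x 3 * x 4, x 0 * x 7 + x 1 * x 5 + x 2 * x 4]

/-- the decomposable vectors -/
def ZZ (x : W) : Prop := x ≠ 0 ∧ pf x = 0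

instance (x : W) : Decidable (ZZ x) := inferInstanceAs (Decidable (_ ∧ _))

/-- the vector with binary code `n` -/
def wc (n : ℕ) : W := fun i => if n.testBit i then 1 else 0

/-- the linear map sending the `i`-th basis vector to the vector with code `l[i]` -/
def lin (l : List ℕ) (x : W) : W := ∑ i : Fin 10, x i • wc (l.getD i 0)

theorem lin_add (l : List ℕ) (x y : W) : lin l (x + y) = lin l x + lin l y := by
  simp [lin, add_smul, Finset.sum_add_distrib]

def g1 : List ℕ := [132, 4, 160, 512, 6, 179, 776, 3, 8, 320]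
def g2 : List ℕ := [4, 7, 2, 8, 160, 128, 512, 144, 832, 256]
def g3 : List ℕ := [1, 2, 4, 8, 16, 32, 65, 128, 258, 516]

/-- additive permutations preserving the decomposable vectors -/
def AZ : Subgroup (Equiv.Perm W) where
  carrier := {g | (∀ x y, g (x + y) = g x + g y) ∧ ∀ x, ZZ (g x) ↔ ZZ x}
  one_mem' := ⟨fun _ _ => rfl, fun _ => Iff.rfl⟩
  mul_mem' := fun {a b} ha hb => ⟨fun x y => by simp [ha.1, hb.1], fun x => (ha.2 _).trans (hb.2 x)⟩
  inv_mem' := fun {a} ha => ⟨fun x y => a.injective (by simp [ha.1]), fun x => by rw [← ha.2]; simp⟩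

end Cfsg.Lib.JY
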