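import Cfsg.Agent.Lib.Block2.JX1b

/-! Kernel facts on the octad group acting on the even cocode. -/

set_option autoImplicit false
set_option maxRecDepth 100000

namespace Cfsg.Lib.JF

open Subgroup Cfsg.Lib.Golay Spor
open scoped Pointwise symmDiff

def y2oc : List ℕ := [0x17161514131211100f0e0d0c0b0a09080706050403020100, 0x170a0810121311140d0e0f06071604150b0c050903020100, 0x1704130f1508110d140e100b0c090a120607051603020100, 0x1709120d0815110f100e1407060416130c0b050a03020100, 0x170c0f1314101112150e08160406070d090a050b03020100, 0x17060d1210141113080e150a090c0b0f0416050703020100, 0x170b14150f0d1108130e1204160706100a09050c03020100, 0x170710080d0f1115120e13090a0b0c141604050603020100, 0x17140b160c06110a040e091315100d070812050f03020100, 0x1710070a060c1116090e041208140f0b1513050d03020100, 0x170f0c040b071109160e0a15130d10061208051403020100, 0x170d0609070b11040a0e1608120f140c1315051003020100, 0x1713040c160a11060b0e07140f1208090d10051503020100, 0x171209060a16110c070e0b100d1315040f14050803020100,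 0x1715160b040911070c0e060f1408120a100d051303020100, 0x17080a070904110b060e0c0d10151316140f051203020100]

def y2sub : List ℕ := [0, 3, 5, 6, 9, 10, 12, 15, 33, 34, 36, 39, 40, 43, 45, 46, 16385, 16386, 16388, 16391, 16392, 16395, 16397, 16398, 16416, 16419, 16421, 16422, 16425, 16426, 16428, 16431, 131073, 131074, 131076, 131079, 131080, 131083, 131085, 131086, 131104, 131107, 131109, 131110, 131113, 131114, 131116, 131119, 147456, 147459, 147461, 147462, 147465, 147466, 147468, 147471, 147489, 147490, 147492, 147495, 147496, 147499, 147501, 147502]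

noncomputable def y2fx (m : ℕ) : Bool := allL gE16 fun f => isCw (Nat.xor (imgT f m) m)

noncomputable def y2ev (m : ℕ) : Bool := Nat.beq (Nat.mod (pop24 m) 2) 0

theorem y2k0 : allL y2sub (fun r => band (Nat.ble r 16777215) (band (Nat.beq (Nat.land r 0x82402f) r) (y2ev r))) = true := by
  decide +kernel

theorem y2k1 : allN 4096 (fun j => forceN (Nat.mul 4096 j) fun m => bimp (band (y2ev m) (y2fx m))
    (anyL y2sub fun r => isCw (Nat.xor m r))) = true := by decide +kernel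

theorem y2k2 : allN 4096 (fun j => forceN (Nat.mul 4096 j) fun m => bimp (band (y2ev m) (y2ev (Nat.land m 0x82402f)))
    (allL y2oc fun e => forceN (Nat.xor (imgT e m) m) y2fx)) = true := by decide +kernel

theorem y2k3 : allN 4096 (fun j => forceN (Nat.mul 4096 j) fun m => bimp (band (y2ev m) (y2ev (Nat.land m 0x82402f)))
    (anyN 24 fun x => band (bnot (tb 0x82402f x)) (forceN (Nat.xor m (Nat.xor 16 (Nat.pow 2 x))) y2fx))) = true := by
  decide +kernel

theorem y2v : ∀ g ∈ y2oc, gc.Valid g := valid_of_allL (by decide +kernel)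

theorem y2E {e : Equiv.Perm GolayPt} (he : e ∈ E16) : ∃ g ∈ y2oc, gc.dec g = e := by
  rw [← gen_gE16] at he
  obtain ⟨y, -, rfl, h⟩ := Coding.forall_mem_gen (fun g hg => (inH_gE16 g hg).1) (M := 13) (d := 4)
    (a := 1) (q := fun y => anyL y2oc (Nat.beq y)) (by decide +kernel) he
  obtain ⟨g, hg, e⟩ := anyL_iff.1 h
  exact ⟨g, hg, by rw [beq_iff.1 e]⟩

theorem y2_xor (a b : ℕ) : om (a ^^^ b) = om a ∆ om b := gc.ofMask_xor a b

theorem y2_pow {i : ℕ} (hi : i < 24) : om (2 ^ i) = {gc.pt i} := gc.ofMask_two_pow hi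

theorem y2ev_iff {m : ℕ} : y2ev m = true ↔ Even (om m).card := by
  rw [y2ev, beq_iff, card_om, Nat.even_iff]; rfl

theorem y2_even {S T : Finset GolayPt} (h : S ∆ T ∈ cw) : Even S.card ↔ Even T.card := by
  have a := card_symmDiff_add S T
  have b := card_cw h
  rw [Nat.even_iff, Nat.even_iff]; omega

theorem y2_inter (S T O : Finset GolayPt) : (S ∆ T) ∩ O = (S ∩ O) ∆ (T ∩ O) := by
  ext x; simp only [Finset.mem_inter, Finset.mem_symmDiff]; tauto

theorem y2_evO {S T : Finset GolayPt} (h : S ∆ T ∈ cw) :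
    Even (S ∩ om 0x82402f).card ↔ Even (T ∩ om 0x82402f).card := by
  have a := card_symmDiff_add (S ∩ om 0x82402f) (T ∩ om 0x82402f)
  have b := even_card_inter h O0_mem.1
  rw [y2_inter] at b
  rw [Nat.even_iff] at *
  rw [Nat.even_iff]; omega

/-- fixed modulo the code by the octad group -/
def FxO (S : Finset GolayPt) : Prop := ∀ f ∈ gE16, (gc.dec f • S) ∆ S ∈ cw

theorem y2_mv {σ : Equiv.Perm GolayPt} (hσ : σ ∈ M24) {S T : Finset GolayPt} (h : S ∆ T ∈ cw) :
    ((σ • S) ∆ S) ∆ ((σ • T) ∆ T) ∈ cw := by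
  have := symmDiff_mem_cw ((smul_mem_cw_iff hσ).2 h) h
  rwa [smul_symmDiff, symmDiff_symmDiff_symmDiff_comm] at this

theorem FxO.of {S T : Finset GolayPt} (h : S ∆ T ∈ cw) (a : FxO S) : FxO T := fun f hf => by
  have := symmDiff_mem_cw (a f hf) (y2_mv (inH_gE16 f hf).2.1 h)
  rwa [symmDiff_symmDiff_cancel_left] at this

theorem y2fx_iff {m : ℕ} (hm : m < 2 ^ 24) : y2fx m = true ↔ FxO (om m) := by
  rw [y2fx, allL_iff]
  refine forall_congr' fun f => forall_congr' fun hf => ?_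
  rw [(inH_gE16 f hf).1.smul_om, ← gc.ofMask_xor]
  exact (om_mem_cw_iff (Nat.xor_lt_two_pow ((inH_gE16 f hf).1.imgT_lt m) hm)).symm

theorem y2_W {S : Finset GolayPt} (e : Even S.card) (h : FxO S) :
    ∃ R ⊆ om 0x82402f, Even R.card ∧ S ∆ R ∈ cw := by
  obtain ⟨j, hj, c⟩ := xb_rep S
  have lt : 4096 * j < 2 ^ 24 := by omega
  have k := allN_iff.1 y2k1 j hj
  rw [forceN_eq, bimp_iff, band_iff] at k
  obtain ⟨r, hr, a⟩ := anyL_iff.1 (k ⟨y2ev_iff.2 ((y2_even c).2 e), (y2fx_iff lt).2 (FxO.of (by rwa [symmDiff_comm]) h)⟩)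
  have b := allL_iff.1 y2k0 r hr
  rw [band_iff, band_iff, ble_iff, beq_iff] at b
  refine ⟨om r, (om_subset_iff (by omega)).2 b.2.1, y2ev_iff.1 b.2.2, ?_⟩
  have d := symmDiff_mem_cw c ((y2_xor (4096 * j) r) ▸ (om_mem_cw a : om (4096 * j ^^^ r) ∈ cw))
  rwa [symmDiff_comm (om (4096 * j)) S, symmDiff_assoc, symmDiff_symmDiff_cancel_left] at d

theorem y2_N {S : Finset GolayPt} (e : Even S.card) (o : Even (S ∩ om 0x82402f).card) {g : Equiv.Perm GolayPt}
    (hg : g ∈ E16) : FxO ((g • S) ∆ S) := by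
  obtain ⟨j, hj, c⟩ := xb_rep S
  have lt : 4096 * j < 2 ^ 24 := by omega
  have k := allN_iff.1 y2k2 j hj
  rw [forceN_eq, bimp_iff, band_iff] at k
  obtain ⟨x, hx, rfl⟩ := y2E hg
  have a := allL_iff.1 (k ⟨y2ev_iff.2 ((y2_even c).2 e), y2ev_iff.2 (by
    rw [← om_inter]; exact (y2_evO c).2 o)⟩) x hx
  rw [forceN_eq] at a
  have b := (y2fx_iff (m := imgT x (4096 * j) ^^^ 4096 * j) (Nat.xor_lt_two_pow ((y2v x hx).imgT_lt _) lt)).1 a
  rw [y2_xor, ← (y2v x hx).smul_om] at b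
  exact FxO.of (y2_mv hg.1 c) b

theorem y2_Q {S : Finset GolayPt} (e : Even S.card) (o : Even (S ∩ om 0x82402f).card) :
    ∃ x ∉ om 0x82402f, FxO (S ∆ ({gc.pt 4} ∆ {x})) := by
  obtain ⟨j, hj, c⟩ := xb_rep S
  have lt : 4096 * j < 2 ^ 24 := by omega
  have k := allN_iff.1 y2k3 j hj
  rw [forceN_eq, bimp_iff, band_iff] at k
  obtain ⟨x, hx, a⟩ := anyN_iff.1 (k ⟨y2ev_iff.2 ((y2_even c).2 e), y2ev_iff.2 (by
    rw [← om_inter]; exact (y2_evO c).2 o)⟩)
  rw [band_iff, bnot_iff, forceN_eq] at a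
  refine ⟨gc.pt x, fun h => a.1 ((pt_mem_om hx).1 h), ?_⟩
  have b := (y2fx_iff (Nat.xor_lt_two_pow lt (Nat.xor_lt_two_pow (by norm_num)
    (Nat.pow_lt_pow_right (by norm_num) hx)))).1 a.2
  rw [y2_xor, y2_xor, show (16 : ℕ) = 2 ^ 4 from rfl, y2_pow (by decide), y2_pow hx] at b
  refine FxO.of ?_ b
  rwa [symmDiff_symmDiff_symmDiff_comm, symmDiff_self, symmDiff_bot]

def y2pr : List (ℕ × ℕ × ℕ) := [(0, 6053905, 4563017), (1, 6594610, 7438406), (2, 5210132, 7438406), (3, 16056344, 4563017), (5, 6594610, 5939296), (14, 6053905, 15515712), (17, 5210132, 4063314), (23, 16056344, 15515712)]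

theorem y2k4 : allN 24 (fun i => bimp (tb 0x82402f i) (anyL y2pr fun t => band (isOct t.2.1) (band (isOct t.2.2)
    (band (Nat.ble 5 (pop24 (Nat.land t.2.1 (Nat.xor 0x82402f 16777215))))
    (band (Nat.ble 5 (pop24 (Nat.land t.2.2 (Nat.xor 0x82402f 16777215))))
    (Nat.beq (Nat.land (Nat.land t.2.1 t.2.2) 0x82402f) (2 ^ i))))))) = true := by decide +kernel

theorem y2_one {σ : Equiv.Perm GolayPt} (hσ : σ ∈ M24) (h : ∀ x ∉ om 0x82402f, σ x = x) : σ = 1 := by
  have k : ∀ i < 24, tb 0x82402f i = true → ∃ t ∈ y2pr, isOct t.2.1 = true ∧ isOct t.2.2 = true ∧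
      5 ≤ pop24 (Nat.land t.2.1 (Nat.xor 0x82402f 16777215)) ∧ 5 ≤ pop24 (Nat.land t.2.2 (Nat.xor 0x82402f 16777215)) ∧
      Nat.land (Nat.land t.2.1 t.2.2) 0x82402f = 2 ^ i := by
    intro i hi hb
    obtain ⟨t, ht, a⟩ := anyL_iff.1 (bimp_iff.1 (allN_iff.1 y2k4 i hi) hb)
    obtain ⟨a1, a⟩ := band_iff.1 a
    obtain ⟨a2, a⟩ := band_iff.1 a
    obtain ⟨a3, a⟩ := band_iff.1 a
    obtain ⟨a4, a⟩ := band_iff.1 a
    exact ⟨t, ht, a1, a2, ble_iff.1 a3, ble_iff.1 a4, beq_iff.1 a⟩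
  ext1 p
  by_cases hp : p ∈ om 0x82402f
  · obtain ⟨i, hi, rfl⟩ := gc.exists_pt p
    obtain ⟨t, -, a, b, c, d, e⟩ := k i hi ((pt_mem_om hi).1 hp)
    have hF : ∀ x ∈ om (Nat.xor 0x82402f 16777215), σ x = x := fun x hx => h x (by
      rwa [om_compl, Finset.mem_compl] at hx)
    have a' := smul_octad_eq hσ (om_mem_octads a) hF (c.trans (card_om_inter _ _).ge)
    have b' := smul_octad_eq hσ (om_mem_octads b) hF (d.trans (card_om_inter _ _).ge)
    have e' : om t.2.1 ∩ om t.2.2 ∩ om 0x82402f = {gc.pt i} := by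
      rw [om_inter, om_inter, e]; exact gc.ofMask_two_pow hi
    have m : gc.pt i ∈ om t.2.1 ∩ om t.2.2 ∩ om 0x82402f := by rw [e']; simp
    simp only [Finset.mem_inter] at m
    have n : σ (gc.pt i) ∈ om 0x82402f := by
      by_contra n
      exact n ((σ.injective (h _ n)).symm ▸ hp)
    rw [← Finset.mem_singleton, Equiv.Perm.one_apply, ← e']
    exact Finset.mem_inter.2 ⟨Finset.mem_inter.2 ⟨(apply_mem_iff_of_smul_eq a' _).2 m.1.1,
      (apply_mem_iff_of_smul_eq b' _).2 m.1.2⟩, n⟩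
  · exact h p hp

theorem y2_c64 : (((om 0x82402f).erase none).powerset.filter fun S => Even S.card).card = 64 := by decide +kernel

end Cfsg.Lib.JF
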