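import Cfsg.Agent.Lib.Block2.JY2a
import Cfsg.Agent.Lib.Block2.JX2
import Cfsg.Agent.Lib.Block2.JJ1

/-! The standard self-centralising `2^10` in `2^11 : M24`. -/

set_option autoImplicit false
set_option maxRecDepth 100000

namespace Cfsg.Lib.JF

open Subgroup Cfsg.Lib.Amalg Cfsg.Lib.Core Cfsg.Lib.Golay Spor
open scoped Pointwise symmDiff

variable {G : Type*} [Group G] {V : Subgroup G} {D : Set G} {ε : Finset GolayPt → G}
  {θ : 𝐍 V →* Equiv.Perm GolayPt} {s : Equiv.Perm GolayPt → 𝐍 V}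

/-- a multiplicative section of `θ` -/
structure Y2L (θ : 𝐍 V →* Equiv.Perm GolayPt) (s : Equiv.Perm GolayPt → 𝐍 V) : Prop where
  th : ∀ m ∈ M24, θ (s m) = m
  mul : ∀ m ∈ M24, ∀ n ∈ M24, s (m * n) = s m * s n

theorem TM.exY2L (T : TM V D ε θ) {K : Subgroup G} (k1 : K ≤ 𝐍 V) (k2 : K ⊓ V = ⊥) (k3 : K ⊔ V = 𝐍 V) :
    ∃ s, Y2L θ s := by
  have ex : ∀ m : Equiv.Perm GolayPt, ∃ k : 𝐍 V, (k : G) ∈ K ∧ (m ∈ M24 → θ k = m) := fun m => by
    by_cases hm : m ∈ M24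
    · obtain ⟨g, rfl⟩ : m ∈ θ.range := T.rng ▸ hm
      obtain ⟨k, hk, v, -, -, e⟩ := T.decK k1 k3 g.2
      exact ⟨⟨k, k1 hk⟩, hk, fun _ => e _⟩
    · exact ⟨1, one_mem _, fun h => absurd h hm⟩
  choose s s1 s2 using ex
  refine ⟨s, s2, fun m hm n hn => ?_⟩
  have a : θ ((s (m * n))⁻¹ * (s m * s n)) = 1 := by
    rw [map_mul, map_mul, map_inv, s2 _ (mul_mem hm hn), s2 m hm, s2 n hn, inv_mul_cancel]
  have b : (((s (m * n))⁻¹ * (s m * s n) : 𝐍 V) : G) ∈ K ⊓ V :=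
    ⟨K.mul_mem (K.inv_mem (s1 _)) (K.mul_mem (s1 _) (s1 _)), (T.ker _).1 a⟩
  rw [k2, mem_bot] at b
  exact inv_mul_eq_one.1 (Subtype.ext b)

theorem Y2L.one (L : Y2L θ s) : s 1 = 1 := by
  have := L.mul 1 (one_mem _) 1 (one_mem _)
  rw [mul_one] at this
  exact left_eq_mul.1 this

theorem Y2L.inv (L : Y2L θ s) {m : Equiv.Perm GolayPt} (hm : m ∈ M24) : s m⁻¹ = (s m)⁻¹ :=
  eq_inv_of_mul_eq_one_left (by rw [← L.mul _ (inv_mem hm) _ hm, inv_mul_cancel, L.one])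

theorem Y2L.mul' (L : Y2L θ s) {m n : Equiv.Perm GolayPt} (hm : m ∈ M24) (hn : n ∈ M24) :
    (s (m * n) : G) = s m * s n := congrArg Subtype.val (L.mul m hm n hn)

theorem Y2L.inv' (L : Y2L θ s) {m : Equiv.Perm GolayPt} (hm : m ∈ M24) : (s m⁻¹ : G) = (s m : G)⁻¹ :=
  congrArg Subtype.val (L.inv hm)

theorem y2_fixO {e : Equiv.Perm GolayPt} (he : e ∈ E16) {R : Finset GolayPt} (h : R ⊆ om 0x82402f) : e • R = R :=
  smul_of_fix fun x hx => (mem_E16.1 he).2 x (h hx)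

theorem y2_cjE {h e : Equiv.Perm GolayPt} (hh : h ∈ HO) (he : e ∈ E16) : h * e * h⁻¹ ∈ E16 :=
  mem_E16.2 ⟨mul_mem (mul_mem hh.1 he.1) (inv_mem hh.1), fun p hp => by
    have : h⁻¹ p ∈ om 0x82402f := (apply_mem_iff_of_smul_eq (inv_mem hh).2 p).2 hp
    rw [Equiv.Perm.mul_apply, Equiv.Perm.mul_apply, (mem_E16.1 he).2 _ this]; simp⟩

theorem y2_ev2 (a b : GolayPt) : Even (({a} : Finset GolayPt) ∆ {b}).card := by
  have := card_symmDiff_add ({a} : Finset GolayPt) {b}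
  rw [Finset.card_singleton, Finset.card_singleton] at this
  rw [Nat.even_iff]; omega

theorem y2_sm2 (σ : Equiv.Perm GolayPt) (a b : GolayPt) :
    σ • (({a} : Finset GolayPt) ∆ {b}) = {σ a} ∆ {σ b} := by
  rw [smul_symmDiff, Finset.smul_finset_singleton, Finset.smul_finset_singleton]; rfl

namespace TM
variable (T : TM V D ε θ) (L : Y2L θ s)
include T L

theorem y2act {m : Equiv.Perm GolayPt} (hm : m ∈ M24) {S : Finset GolayPt} (e : Even S.card) :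
    (s m : G) * ε S = ε (m • S) * s m := by
  rw [← mul_inv_eq_iff_eq_mul, T.act _ _ e, L.th m hm]

theorem y2V {m : Equiv.Perm GolayPt} (hm : m ∈ M24) (h : (s m : G) ∈ V) : m = 1 := by
  rw [← L.th m hm]; exact (T.ker _).2 h

/-- the standard `2^10` -/
def A2 : Subgroup G where
  carrier := {a | ∃ R ⊆ om 0x82402f, Even R.card ∧ ∃ e ∈ E16, a = ε R * s e}
  one_mem' := ⟨∅, by simp, by simp, 1, one_mem _, by
    rw [(T.one ∅ (by simp)).2 empty_mem_cw, L.one]; simp⟩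
  mul_mem' := by
    rintro _ _ ⟨R, r1, r2, e, he, rfl⟩ ⟨S, s1, s2, f, hf, rfl⟩
    refine ⟨R ∆ S, symmDiff_le_sup.trans (sup_le r1 s1), even_sd r2 s2, e * f, mul_mem he hf, ?_⟩
    rw [T.mul, L.mul' he.1 hf.1, mul_assoc, ← mul_assoc (s e : G), T.y2act L he.1 s2, y2_fixO he s1]
    simp only [mul_assoc]
  inv_mem' := by
    rintro _ ⟨R, r1, r2, e, he, rfl⟩
    refine ⟨R, r1, r2, e⁻¹, inv_mem he, ?_⟩
    rw [mul_inv_rev, inv_eq_of_mul_eq_one_right (T.esq R), ← L.inv' he.1, T.y2act L (inv_mem he).1 r2,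
      y2_fixO (inv_mem he) r1]

theorem a2_e {R : Finset GolayPt} (r1 : R ⊆ om 0x82402f) (r2 : Even R.card) : ε R ∈ T.A2 L :=
  ⟨R, r1, r2, 1, one_mem _, by rw [L.one]; simp⟩

theorem a2_s {e : Equiv.Perm GolayPt} (he : e ∈ E16) : (s e : G) ∈ T.A2 L :=
  ⟨∅, by simp, by simp, e, he, by rw [(T.one ∅ (by simp)).2 empty_mem_cw, one_mul]⟩

theorem a2_sq : ∀ a ∈ T.A2 L, a * a = 1 := by
  rintro _ ⟨R, r1, r2, e, he, rfl⟩
  rw [mul_assoc, ← mul_assoc (s e : G), T.y2act L he.1 r2, y2_fixO he r1, mul_assoc, ← L.mul' he.1 he.1, E16_sq he,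
    L.one, OneMemClass.coe_one, mul_one, T.esq]

theorem a2_le : T.A2 L ≤ 𝐍 V := by
  rintro _ ⟨R, -, r2, e, -, rfl⟩
  exact mul_mem (le_normalizer (T.emem r2)) (s e).2

theorem a2_th (a : 𝐍 V) (ha : (a : G) ∈ T.A2 L) : θ a ∈ E16 := by
  obtain ⟨R, -, r2, e, he, h⟩ := ha
  have : a = ⟨ε R, le_normalizer (T.emem r2)⟩ * s e := Subtype.ext h
  rw [this, map_mul, (T.ker _).2 (T.emem r2), one_mul, L.th e he.1]; exact he

theorem a2_V {w : G} (a : w ∈ T.A2 L) (v : w ∈ V) : ∃ R ⊆ om 0x82402f, Even R.card ∧ ε R = w := by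
  obtain ⟨R, r1, r2, e, he, rfl⟩ := a
  have := T.y2V L he.1 ((mul_mem_cancel_left (T.emem r2)).1 v)
  exact ⟨R, r1, r2, by rw [this, L.one]; simp⟩

theorem a2_V4 {w : G} (a : w ∈ T.A2 L) (v : w ∈ V) : ∃ R ⊆ om 0x82402f, Even R.card ∧ R.card ≤ 4 ∧ ε R = w := by
  obtain ⟨R, r1, r2, rfl⟩ := T.a2_V L a v
  by_cases c : R.card ≤ 4
  · exact ⟨R, r1, r2, c, rfl⟩
  have o := mem_octads.1 O0_mem
  have k := Finset.card_sdiff_add_card_eq_card r1
  refine ⟨om 0x82402f \ R, Finset.sdiff_subset, by rw [Nat.even_iff] at *; omega, by omega, ?_⟩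
  rw [← symmDiff_of_ge r1, T.mul, (T.one _ (by rw [o.2]; decide)).2 o.1, one_mul]

theorem a2_two {x y : GolayPt} (h : ε ({x} ∆ {y}) ∈ T.A2 L) : x = y ∨ (x ∈ om 0x82402f ∧ y ∈ om 0x82402f) := by
  obtain ⟨R, r1, r2, r3, r4⟩ := T.a2_V4 L h (T.emem (y2_ev2 x y))
  have c := card_symmDiff_add ({x} : Finset GolayPt) {y}
  rw [Finset.card_singleton, Finset.card_singleton] at c
  have := T.inj r2 (y2_ev2 x y) (by omega) r4
  by_cases e : x = y
  · exact .inl e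
  · exact .inr ⟨r1 (by rw [this]; simp [Finset.mem_symmDiff, e]), r1 (by rw [this]; simp [Finset.mem_symmDiff, Ne.symm e])⟩

theorem a2_fx {S : Finset GolayPt} (e : Even S.card) (h : FxO S) : ε S ∈ T.A2 L := by
  obtain ⟨R, r1, r2, c⟩ := y2_W e h
  have := (T.one _ (even_sd e r2)).2 c
  rw [T.mul, ← T.esq R, mul_left_inj] at this
  exact this ▸ T.a2_e L r1 r2

variable [Finite G]

theorem a2_c64 : Nat.card ↥(T.A2 L ⊓ V) = 64 := by
  rw [← y2_c64, ← Set.ncard_coe_finset, ← Set.InjOn.ncard_image (f := ε)]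
  · refine congrArg Set.ncard (Set.ext fun w => ⟨fun ⟨a, v⟩ => ?_, ?_⟩)
    · obtain ⟨R, r1, r2, rfl⟩ := T.a2_V L a v
      have o := mem_octads.1 O0_mem
      by_cases n : none ∈ R
      · have k := Finset.card_sdiff_add_card_eq_card r1
        refine ⟨om 0x82402f \ R, ?_, ?_⟩
        · simp only [Finset.coe_filter, Finset.mem_powerset, Set.mem_ofPred_eq]
          refine ⟨fun x hx => Finset.mem_erase.2 ⟨fun e => (Finset.mem_sdiff.1 hx).2 (e ▸ n), (Finset.mem_sdiff.1 hx).1⟩, ?_⟩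
          rw [Nat.even_iff] at *; omega
        · rw [← symmDiff_of_ge r1, T.mul, (T.one _ (by rw [o.2]; decide)).2 o.1, one_mul]
      · refine ⟨R, ?_, rfl⟩
        simp only [Finset.coe_filter, Finset.mem_powerset, Set.mem_ofPred_eq]
        exact ⟨fun x hx => Finset.mem_erase.2 ⟨fun e => n (e ▸ hx), r1 hx⟩, r2⟩
    · rintro ⟨R, hR, rfl⟩
      simp only [Finset.coe_filter, Finset.mem_powerset, Set.mem_ofPred_eq] at hR
      exact ⟨T.a2_e L (hR.1.trans (Finset.erase_subset _ _)) hR.2, T.emem hR.2⟩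
  · intro R hR S hS e
    simp only [Finset.coe_filter, Finset.mem_powerset, Set.mem_ofPred_eq] at hR hS
    have a := card_cw (T.cw_of hR.2 hS.2 e)
    have b : (R ∆ S).card ≤ ((om 0x82402f).erase none).card :=
      Finset.card_le_card (symmDiff_le_sup.trans (sup_le hR.1 hS.1))
    rw [Finset.card_erase_of_mem (none_mem_om.2 (by decide)), O0_mem.2] at b
    exact symmDiff_eq_bot.1 (Finset.card_eq_zero.1 (by omega))

omit L in
theorem y2_card {X : Subgroup G} (hX : X ≤ 𝐍 V) :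
    Nat.card X = Nat.card ((X.subgroupOf (𝐍 V)).map θ) * Nat.card ↥(X ⊓ V) := by
  have c := card_map_mul_card_inf_ker θ (X.subgroupOf (𝐍 V))
  rw [Nat.card_congr (subgroupOfEquivOfLe hX).toEquiv] at c
  rw [← c, ← card_map_subtype]
  congr 3
  ext x
  exact ⟨fun ⟨k, hk, e⟩ => e ▸ ⟨hk.2, (T.ker k).1 hk.1⟩, fun h => ⟨⟨x, hX h.1⟩, ⟨(T.ker _).2 h.2, h.1⟩, rfl⟩⟩

theorem a2_card : Nat.card (T.A2 L) = 2 ^ 10 := by
  have : ((T.A2 L).subgroupOf (𝐍 V)).map θ = E16 :=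
    le_antisymm (fun b ⟨a, ha, e⟩ => e ▸ T.a2_th L a ha) fun e he => ⟨s e, T.a2_s L he, L.th e he.1⟩
  rw [T.y2_card (T.a2_le L), this, card_E16, T.a2_c64 L]; rfl

omit [Finite G] in
theorem a2_cen (cl : ∀ t ∈ D, centralizer {t} ≤ 𝐍 V) : centralizer (T.A2 L : Set G) = T.A2 L := by
  refine le_antisymm (fun c hc => ?_) fun a ha b hb => comm_of_sq (T.a2_sq L) hb ha
  have s0 : ({none, some 0} : Finset GolayPt) ⊆ om 0x82402f := by
    intro x hx
    simp only [Finset.mem_insert, Finset.mem_singleton] at hx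
    rcases hx with rfl | rfl
    exacts [none_mem_om.2 (by decide), zero_mem_om.2 (by decide)]
  have cN : c ∈ 𝐍 V := cl _ ((T.duad _).2 ⟨{none, some 0}, by decide, rfl⟩)
    (mem_centralizer_singleton_iff.2 (hc _ (T.a2_e L s0 (by decide))).symm)
  have cZ : c ∈ 𝐂 (T.Zs (om 0x82402f)) := fun w ⟨R, hR, e⟩ => hc w (e ▸ T.a2_e L
    (Finset.mem_powerset.1 (Finset.mem_filter.1 hR).1) (Finset.mem_filter.1 hR).2)
  have he : θ ⟨c, cN⟩ ∈ E16 := mem_E16.2 ⟨T.mM _, fun p hp => by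
    obtain ⟨q, r, hq, hr, n1, n2, n3⟩ : ∃ q r, q ∈ om 0x82402f ∧ r ∈ om 0x82402f ∧ p ≠ q ∧ p ≠ r ∧ q ≠ r := by
      obtain ⟨q, hq, r, hr, n⟩ := Finset.one_lt_card.1 (show 1 < ((om 0x82402f).erase p).card by
        rw [Finset.card_erase_of_mem hp, O0_mem.2]; norm_num)
      exact ⟨q, r, (Finset.mem_erase.1 hq).2, (Finset.mem_erase.1 hr).2, (Finset.mem_erase.1 hq).1.symm,
        (Finset.mem_erase.1 hr).1.symm, n⟩
    have a := T.fixp ⟨c, cN⟩ cZ (S := {p, q}) (Finset.insert_subset hp (by simpa)) (Finset.card_pair n1) (p := p) (by simp)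
    have b := T.fixp ⟨c, cN⟩ cZ (S := {p, r}) (Finset.insert_subset hp (by simpa)) (Finset.card_pair n2) (p := p) (by simp)
    simp only [Finset.mem_insert, Finset.mem_singleton] at a b
    rcases a with a | a
    · exact a
    · exact b.resolve_right fun b => n3 (a.symm.trans b)⟩
  have v : c * (s (θ ⟨c, cN⟩) : G)⁻¹ ∈ V := (T.ker (⟨c, cN⟩ * (s (θ ⟨c, cN⟩))⁻¹)).1 (by
    rw [map_mul, map_inv, L.th _ he.1, mul_inv_cancel])
  have vc : c * (s (θ ⟨c, cN⟩) : G)⁻¹ ∈ centralizer (T.A2 L : Set G) :=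
    mul_mem hc (inv_mem fun b hb => comm_of_sq (T.a2_sq L) hb (T.a2_s L he))
  obtain ⟨S, s1, s2⟩ := (T.mem _).1 v
  rw [← s2] at vc
  have := T.a2_fx L s1 fun f hf => by
    have := T.fxc (s (gc.dec f)) s1 (vc _ (T.a2_s L (inH_gE16 f hf).2))
    rwa [L.th _ (inH_gE16 f hf).2.1] at this
  rw [s2] at this
  exact (mul_mem_cancel_right (inv_mem (T.a2_s L he))).1 this

end TM

end Cfsg.Lib.JF
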