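import Mathlib

/-! A group acting on 31 points with a normal `2^4` in the point stabiliser: orbits of size two. -/

set_option autoImplicit false

namespace Cfsg.Lib.JF

open Subgroup MulAction Finset

theorem z_part {α β : Type*} [DecidableEq β] (F : Finset α) (g : α → β) (c : ℕ)
    (h : ∀ x ∈ F, (F.filter fun y => g y = g x).card = c) : c ∣ F.card := by
  classical
  rw [card_eq_sum_card_fiberwise (f := g) (t := F.image g) fun x hx => mem_coe.2 (mem_image_of_mem g hx)]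
  refine dvd_sum fun b hb => ?_
  obtain ⟨x, hx, rfl⟩ := mem_image.1 hb
  rw [h x hx]

structure ZH {N Ω : Type*} [Group N] [MulAction N Ω] (A Q : Subgroup N) (o : Ω) : Prop where
  hAQ : A ≤ Q
  Qo : ∀ q ∈ Q, q • o = o
  Af : ∀ a ∈ A, ∀ x : Ω, a • x = x
  nQ : ∀ p : N, p • o = o → ∀ q ∈ Q, p * q * p⁻¹ ∈ Q
  nA : ∀ p : N, ∀ q ∈ A, p * q * p⁻¹ ∈ A
  cO : Nat.card Ω = 31
  cQ : Nat.card Q = 16 * Nat.card A
  tr : ∀ q ∈ Q, ∀ r ∈ Q, q ∉ A → r ∉ A → ∃ p : N, p • o = o ∧ p * q * p⁻¹ * r⁻¹ ∈ A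
  h1 : ∀ x : Ω, (∀ q ∈ Q, q • x = x) → x = o

variable {N Ω : Type*} [Group N] [MulAction N Ω] {A Q : Subgroup N} {o : Ω} [Finite N] [Finite Ω]

namespace ZH
variable (h : ZH A Q o)
include h

open scoped Classical in
theorem dc {F : Finset Ω} (hF : ∀ p : N, p • o = o → ∀ x ∈ F, p • x ∈ F) {k : ℕ}
    (hk : ∀ x ∈ F, Nat.card (stabilizer Q x) = k * Nat.card A) {q0 : N} (h0 : q0 ∈ Q) (h0' : q0 ∉ A) :
    F.card * k = F.card + 15 * (F.filter fun x => q0 • x = x).card := by
  have := Fintype.ofFinite N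
  have ha : 0 < Nat.card A := Nat.card_pos
  have cs : ∀ H : Subgroup N, (univ.filter fun q => q ∈ H).card = Nat.card H := fun H => by
    rw [Nat.card_eq_fintype_card, Fintype.card_subtype]
  have e1 : ∑ x ∈ F, ((univ.filter fun q => q ∈ Q).filter fun q => q • x = x).card =
      ∑ q ∈ univ.filter fun q => q ∈ Q, (F.filter fun x => q • x = x).card := sum_card_bipartiteAbove_eq_sum_card_bipartiteBelow (fun x q => q • x = x)
  have e2 : ∀ x ∈ F, ((univ.filter fun q => q ∈ Q).filter fun q => q • x = x).card = k * Nat.card A := fun x hx => by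
    rw [← hk x hx, ← card_map_of_injective Q.subtype_injective, ← cs, filter_filter]
    congr 1; ext q
    simp only [mem_filter, mem_univ, true_and, mem_map, mem_stabilizer_iff]
    exact ⟨fun ⟨a, b⟩ => ⟨⟨q, a⟩, b, rfl⟩, fun ⟨a, b, c⟩ => c ▸ ⟨a.2, b⟩⟩
  have e3 : ∀ q ∈ (univ.filter fun q => q ∈ Q).filter fun q => q ∉ A,
      (F.filter fun x => q • x = x).card = (F.filter fun x => q0 • x = x).card := fun q hq => by
    simp only [mem_filter, mem_univ, true_and] at hq
    obtain ⟨p, hp, ha⟩ := h.tr q hq.1 q0 h0 hq.2 h0'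
    have hp' : p⁻¹ • o = o := inv_smul_eq_iff.2 hp.symm
    have key : ∀ x : Ω, q0 • p • x = p • q • x := fun x => by
      have := h.Af _ ha (q0 • p • x)
      rw [← this]; simp [mul_smul]
    refine card_bij (fun x _ => p • x) (fun x hx => ?_) (fun x _ y _ e => MulAction.injective p e) fun y hy => ?_
    · rw [mem_filter] at hx ⊢
      exact ⟨hF p hp x hx.1, by rw [key, hx.2]⟩
    · rw [mem_filter] at hy
      refine ⟨p⁻¹ • y, mem_filter.2 ⟨hF _ hp' y hy.1, MulAction.injective p ?_⟩, by simp⟩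
      show p • q • p⁻¹ • y = p • p⁻¹ • y
      rw [← key, smul_inv_smul, hy.2]
  have e4 : ∀ q ∈ (univ.filter fun q => q ∈ Q).filter fun q => q ∈ A,
      (F.filter fun x => q • x = x).card = F.card := fun q hq => by
    rw [filter_true_of_mem fun x _ => h.Af q (mem_filter.1 hq).2 x]
  have e5 : ((univ.filter fun q => q ∈ Q).filter fun q => q ∈ A).card = Nat.card A := by
    rw [← cs, filter_filter]; congr 1; ext q; simpa using fun a => h.hAQ a
  have e6 := card_filter_add_card_filter_not (s := univ.filter fun q => q ∈ Q) fun q => q ∈ A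
  rw [e5, cs, h.cQ] at e6
  rw [sum_congr rfl e2, ← sum_filter_add_sum_filter_not _ (fun q => q ∈ A), sum_congr rfl e3, sum_congr rfl e4] at e1
  simp only [sum_const, smul_eq_mul] at e1
  rw [e5, show ((univ.filter fun q => q ∈ Q).filter fun q => q ∉ A).card = 15 * Nat.card A by omega] at e1
  refine Nat.eq_of_mul_eq_mul_right ha ?_
  rw [mul_assoc, e1]; ring

theorem ex0 : ∃ q ∈ Q, q ∉ A := by
  by_contra c; push Not at c
  have := card_le_of_le (show Q ≤ A from c)
  have ha : 0 < Nat.card A := Nat.card_pos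
  rw [h.cQ] at this; omega

theorem stab_conj {p : N} (hp : p • o = o) (x : Ω) : Nat.card (stabilizer Q (p • x)) = Nat.card (stabilizer Q x) := by
  have key : ∀ p : N, p • o = o → ∀ x : Ω, Nat.card (stabilizer Q x) ≤ Nat.card (stabilizer Q (p • x)) := fun p hp x =>
    Nat.card_le_card_of_injective (fun s => ⟨⟨p * s.1.1 * p⁻¹, h.nQ p hp _ s.1.2⟩, by
      show (p * s.1.1 * p⁻¹) • p • x = p • x
      rw [mul_smul, inv_smul_smul, mul_smul]; exact congrArg _ s.2⟩) fun a b e =>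
      Subtype.ext (Subtype.ext (by simpa using e))
  refine le_antisymm ?_ (key p hp x)
  simpa using key p⁻¹ (inv_smul_eq_iff.2 hp.symm) (p • x)

theorem orb (x : Ω) : ∃ k, Nat.card (stabilizer Q x) = k * Nat.card A ∧ Nat.card (orbit Q x) * k = 16 := by
  have ha : 0 < Nat.card A := Nat.card_pos
  obtain ⟨k, hk⟩ : Nat.card A ∣ Nat.card (stabilizer Q x) := by
    rw [← Nat.card_congr (subgroupOfEquivOfLe h.hAQ).toEquiv]
    exact card_dvd_of_le fun a ha => h.Af _ ha x
  refine ⟨k, by rw [hk, mul_comm], Nat.eq_of_mul_eq_mul_right ha ?_⟩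
  rw [← h.cQ, ← Nat.card_congr (orbitProdStabilizerEquivGroup Q x), Nat.card_prod, hk]; ring

open scoped Classical in
theorem dv {F : Finset Ω} (hF : ∀ p : N, p • o = o → ∀ x ∈ F, p • x ∈ F) {k : ℕ}
    (hk : ∀ x ∈ F, Nat.card (stabilizer Q x) = k * Nat.card A) {m : ℕ} (hm : m * k = 16) : m ∣ F.card := by
  have ha : 0 < Nat.card A := Nat.card_pos
  refine z_part F (fun x => orbit Q x) m fun x hx => ?_
  obtain ⟨k', e1, e2⟩ := h.orb x
  obtain rfl : k' = k := Nat.eq_of_mul_eq_mul_right ha (e1.symm.trans (hk x hx))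
  have e3 : Nat.card (orbit Q x) = m := Nat.eq_of_mul_eq_mul_right (n := _) (by
    rcases k' with _ | k' <;> omega) (e2.trans hm.symm)
  rw [← e3, Nat.card_coe_set_eq, ← Set.ncard_coe_finset]
  congr 1; ext y
  simp only [coe_filter, Set.mem_setOf_eq, orbit_eq_iff]
  exact ⟨fun a => a.2, fun ⟨q, e⟩ => ⟨e ▸ hF q (h.Qo _ q.2) x hx, q, e⟩⟩

theorem eight {x : Ω} (hx : x ≠ o) : Nat.card (stabilizer Q x) = 8 * Nat.card A := by
  classical
  have := Fintype.ofFinite Ω
  have ha : 0 < Nat.card A := Nat.card_pos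
  obtain ⟨q0, h0, h0'⟩ := h.ex0
  let F : ℕ → Finset Ω := fun k => univ.filter fun x => x ≠ o ∧ Nat.card (stabilizer Q x) = k * Nat.card A
  have hF : ∀ k, ∀ p : N, p • o = o → ∀ x ∈ F k, p • x ∈ F k := fun k p hp x hx => by
    simp only [F, mem_filter, mem_univ, true_and] at hx ⊢
    exact ⟨fun e => hx.1 (MulAction.injective p (e.trans hp.symm)), (h.stab_conj hp x).trans hx.2⟩
  have hk : ∀ k, ∀ x ∈ F k, Nat.card (stabilizer Q x) = k * Nat.card A := fun k x hx => (mem_filter.1 hx).2.2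
  have cov : ∀ x, x ≠ o → x ∈ F 1 ∨ x ∈ F 2 ∨ x ∈ F 4 ∨ x ∈ F 8 := fun x hx => by
    obtain ⟨k, e1, e2⟩ := h.orb x
    have e3 : k ∣ 2 ^ 4 := Dvd.intro_left _ e2
    obtain ⟨j, hj, rfl⟩ := (Nat.dvd_prime_pow Nat.prime_two).1 e3
    simp only [F, mem_filter, mem_univ, true_and, e1]
    interval_cases j
    · simp [hx]
    · simp [hx]
    · simp [hx]
    · simp [hx]
    · refine absurd (h.h1 x fun q hq => ?_) hx
      have : stabilizer Q x = ⊤ := eq_top_of_card_eq _ (by rw [e1, h.cQ]; rfl)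
      exact (this ▸ mem_top _ : (⟨q, hq⟩ : Q) ∈ stabilizer Q x)
  have dis : ∀ k l, k ≠ l → Disjoint (F k) (F l) := fun k l hkl => disjoint_left.2 fun x a b =>
    hkl (Nat.eq_of_mul_eq_mul_right ha ((hk k x a).symm.trans (hk l x b)))
  have tot : (F 1).card + (F 2).card + (F 4).card + (F 8).card = 30 := by
    rw [← card_union_of_disjoint (dis 1 2 (by norm_num)),
      ← card_union_of_disjoint (disjoint_union_left.2 ⟨dis 1 4 (by norm_num), dis 2 4 (by norm_num)⟩),
      ← card_union_of_disjoint (disjoint_union_left.2 ⟨disjoint_union_left.2 ⟨dis 1 8 (by norm_num),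
        dis 2 8 (by norm_num)⟩, dis 4 8 (by norm_num)⟩)]
    have : F 1 ∪ F 2 ∪ F 4 ∪ F 8 = univ.erase o := by
      ext y
      simp only [mem_union, mem_erase, mem_univ, and_true, or_assoc]
      exact ⟨fun a => by rcases a with a | a | a | a <;> exact (mem_filter.1 a).2.1, cov y⟩
    rw [this, card_erase_of_mem (mem_univ _), card_univ, ← Nat.card_eq_fintype_card, h.cO]
  have a1 := h.dv (hF 1) (hk 1) (m := 16) rfl
  have a2 := h.dv (hF 2) (hk 2) (m := 8) rfl
  have a4 := h.dv (hF 4) (hk 4) (m := 4) rfl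
  have a8 := h.dv (hF 8) (hk 8) (m := 2) rfl
  have b2 := h.dc (hF 2) (hk 2) h0 h0'
  have b4 := h.dc (hF 4) (hk 4) h0 h0'
  have b8 := h.dc (hF 8) (hk 8) h0 h0'
  rcases cov x hx with a | a | a | a
  · have := card_pos.2 ⟨x, a⟩; omega
  · have := card_pos.2 ⟨x, a⟩; omega
  · have := card_pos.2 ⟨x, a⟩; omega
  · exact hk 8 x a

theorem two {x : Ω} (hx : x ≠ o) : ∃ y, y ≠ x ∧ y ≠ o ∧ (∃ q ∈ Q, q • x = y) ∧ ∀ q ∈ Q, q • x = x ∨ q • x = y := by
  have ha : 0 < Nat.card A := Nat.card_pos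
  obtain ⟨k, e1, e2⟩ := h.orb x
  obtain rfl : k = 8 := Nat.eq_of_mul_eq_mul_right ha (e1.symm.trans (h.eight hx))
  have e3 : (orbit Q x).ncard = 2 := by rw [← Nat.card_coe_set_eq]; omega
  obtain ⟨a, b, hab, e4⟩ := Set.ncard_eq_two.1 e3
  have m : ∀ q ∈ Q, q • x = a ∨ q • x = b := fun q hq => by
    have : q • x ∈ orbit Q x := ⟨⟨q, hq⟩, rfl⟩
    rwa [e4] at this
  have ex : ∀ y, y = a ∨ y = b → y ≠ o ∧ ∃ q ∈ Q, q • x = y := fun y hy => by
    obtain ⟨q, hq⟩ : y ∈ orbit Q x := by rw [e4]; exact hy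
    exact ⟨fun e => hx (MulAction.injective (q : N) (hq.trans (e.trans (h.Qo _ q.2).symm))), q, q.2, hq⟩
  rcases m 1 (one_mem _) with e | e <;> rw [one_smul] at e <;> subst e
  · exact ⟨b, hab.symm, (ex b (.inr rfl)).1, (ex b (.inr rfl)).2, m⟩
  · exact ⟨a, hab, (ex a (.inl rfl)).1, (ex a (.inl rfl)).2, fun q hq => (m q hq).symm⟩

open scoped Classical in
theorem fourteen [Fintype Ω] {q : N} (h0 : q ∈ Q) (h0' : q ∉ A) : ((univ.erase o).filter fun x => q • x = x).card = 14 := by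
  have := h.dc (F := univ.erase o) (fun p hp x hx => mem_erase.2
    ⟨fun e => (mem_erase.1 hx).1 (MulAction.injective p (e.trans hp.symm)), mem_univ _⟩)
    (fun x hx => h.eight (mem_erase.1 hx).1) h0 h0'
  rw [card_erase_of_mem (mem_univ _), card_univ, ← Nat.card_eq_fintype_card, h.cO] at this
  omega

theorem trans {x y : Ω} (hx : x ≠ o) (hy : y ≠ o) : ∃ p : N, p • o = o ∧ p • x = y := by
  classical
  have := Fintype.ofFinite Ω
  obtain ⟨q0, h0, h0'⟩ := h.ex0
  let F : Finset Ω := univ.filter fun y => ∃ p : N, p • o = o ∧ p • x = y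
  have hF : ∀ p : N, p • o = o → ∀ y ∈ F, p • y ∈ F := fun p hp y hy => by
    obtain ⟨r, h1, rfl⟩ := (mem_filter.1 hy).2
    exact mem_filter.2 ⟨mem_univ _, p * r, by rw [mul_smul, h1, hp], mul_smul _ _ _⟩
  have sub : F ⊆ univ.erase o := fun y hy => by
    obtain ⟨r, h1, rfl⟩ := (mem_filter.1 hy).2
    exact mem_erase.2 ⟨fun e => hx (MulAction.injective r (e.trans h1.symm)), mem_univ _⟩
  have hk : ∀ x ∈ F, Nat.card (stabilizer Q x) = 8 * Nat.card A := fun x hx => h.eight (mem_erase.1 (sub hx)).1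
  have a := h.dv hF hk (m := 2) rfl
  have b := h.dc hF hk h0 h0'
  have c : 0 < F.card := card_pos.2 ⟨x, (mem_filter.2 ⟨mem_univ _, 1, one_smul _ _, one_smul _ _⟩ : x ∈ F)⟩
  have c2 : F.card ≤ 30 := (card_le_card sub).trans (by
    rw [card_erase_of_mem (mem_univ _), card_univ, ← Nat.card_eq_fintype_card, h.cO])
  have d : F = univ.erase o := eq_of_subset_of_card_le sub (by
    rw [card_erase_of_mem (mem_univ _), card_univ, ← Nat.card_eq_fintype_card, h.cO]; omega)
  exact (mem_filter.1 (d ▸ mem_erase.2 ⟨hy, mem_univ _⟩ : y ∈ F)).2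

theorem sep {x y : Ω} (hx : x ≠ o) (hy : y ≠ o) (hs : ∀ q ∈ Q, q • x = x → q • y = y) : ∃ q ∈ Q, q • x = y := by
  classical
  have := Fintype.ofFinite Ω
  obtain ⟨q0, h0, h0'⟩ := h.ex0
  let c : Ω → ℕ := fun x => ((univ.erase o).filter fun y => stabilizer Q y = stabilizer Q x).card
  have le : ∀ p : N, p • o = o → ∀ x, c x ≤ c (p • x) := fun p hp x => by
    refine card_le_card_of_injOn (fun y => p • y) (fun y hy => ?_) fun a _ b _ e => MulAction.injective p e
    rw [mem_coe, mem_filter, mem_erase] at hy ⊢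
    refine ⟨⟨fun e => hy.1.1 (MulAction.injective p (e.trans hp.symm)), mem_univ _⟩, ?_⟩
    have hp' : p⁻¹ • o = o := inv_smul_eq_iff.2 hp.symm
    have key : ∀ (q : Q) (z : Ω), q ∈ stabilizer Q (p • z) ↔
        (⟨p⁻¹ * q * p⁻¹⁻¹, h.nQ _ hp' _ q.2⟩ : Q) ∈ stabilizer Q z := fun q z => by
      show (q : N) • p • z = p • z ↔ (p⁻¹ * q * p⁻¹⁻¹) • z = z
      rw [inv_inv, mul_smul, mul_smul, inv_smul_eq_iff]
    ext q; rw [key, key, hy.2]
  have cc : ∀ z, z ≠ o → c z = c x := fun z hz => by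
    obtain ⟨p, hp, rfl⟩ := h.trans hx hz
    obtain ⟨r, hr, e⟩ := h.trans hz hx
    exact le_antisymm (by simpa [e] using le r hr (p • x)) (le p hp x)
  have d1 : c x ∣ 30 := by
    have := z_part (univ.erase o) (fun y => stabilizer Q y) (c x) fun z hz => cc z (mem_erase.1 hz).1
    rwa [card_erase_of_mem (mem_univ _), card_univ, ← Nat.card_eq_fintype_card, h.cO] at this
  have d2 : c x ∣ 14 := by
    rw [← h.fourteen h0 h0']
    refine z_part _ (fun y => stabilizer Q y) (c x) fun z hz => ?_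
    rw [mem_filter] at hz
    rw [← cc z (mem_erase.1 hz.1).1, filter_filter]
    congr 1
    refine filter_congr fun w _ => ⟨fun a => a.2, fun a => ⟨?_, a⟩⟩
    exact (a ▸ hz.2 : (⟨q0, h0⟩ : Q) ∈ stabilizer Q w)
  have d3 : c x ≤ 2 := Nat.le_of_dvd two_pos (Nat.dvd_gcd d1 d2)
  obtain ⟨w, w1, w2, ⟨q, hq, w3⟩, w4⟩ := h.two hx
  by_contra hc
  push Not at hc
  have st : ∀ z, z ≠ o → (∀ q ∈ Q, q • x = x → q • z = z) → stabilizer Q z = stabilizer Q x := fun z hz a =>
    (eq_of_le_of_card_ge (fun s hs => a _ s.2 hs) (by rw [h.eight hz, h.eight hx])).symm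
  have : ({x, y, w} : Finset Ω) ⊆ (univ.erase o).filter fun y => stabilizer Q y = stabilizer Q x := by
    intro z hz
    simp only [mem_insert, mem_singleton] at hz
    rcases hz with rfl | rfl | rfl
    · simp [hx]
    · simp [hy, st z hy hs]
    · refine mem_filter.2 ⟨by simp [w2], st z w2 fun r hr e => ?_⟩
      rcases w4 (r * q) (mul_mem hr hq) with a | a <;> rw [mul_smul, w3] at a
      · exact absurd (MulAction.injective r (a.trans e.symm)) w1
      · exact a
  have := card_le_card this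
  rw [card_eq_three.2 ⟨x, y, w, by simpa using hc 1 (one_mem _), w1.symm, fun e => hc q hq (w3.trans e.symm), rfl⟩]
    at this
  exact absurd (this.trans d3) (by norm_num)

end ZH

end Cfsg.Lib.JF
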