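import Cfsg.Agent.Lib.Amalg.Conj

/-! Jordan's counting argument: abelian subgroups of bounded index from those of centralizers. -/

set_option autoImplicit false
set_option linter.dupNamespace false
set_option linter.unusedSectionVars false
set_option linter.style.haveILetI false

open Cfsg Cfsg.Lib.Amalg Subgroup

namespace Cfsg.Lib.Block2.Jor

theorem landau (k : ℕ) : ∀ D : ℕ, 0 < D → ∃ F : ℕ, ∀ (γ : ℕ) (s : Multiset ℕ) (a : ℤ), s.card ≤ k →
    (∀ n ∈ s, 0 < n ∧ n < γ) → 0 < γ → (γ : ℚ)⁻¹ = (s.map fun n : ℕ => (n : ℚ)⁻¹).sum - a / D → γ ≤ F := by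
  have base : ∀ D : ℕ, 0 < D → ∀ (γ : ℕ) (a : ℤ), 0 < γ → (γ : ℚ)⁻¹ = 0 - a / D → γ ≤ D := fun D hD γ a hγ h => by
    have h1 : (D : ℚ) = -a * γ := by field_simp at h; linarith
    have h2 : (D : ℤ) = -a * γ := by exact_mod_cast h1
    exact Nat.le_of_dvd hD (Int.natCast_dvd_natCast.1 ⟨-a, by rw [h2, mul_comm]⟩)
  induction k with
  | zero => exact fun D hD => ⟨D, fun γ s a hs _ hγ h => base D hD γ a hγ (by
      rwa [Multiset.card_eq_zero.1 (Nat.le_zero.1 hs)] at h)⟩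
  | succ k ih =>
    intro D hD
    obtain ⟨F, hF⟩ := ih (D * ((k + 1) * D).factorial) (by positivity)
    refine ⟨max D F, fun γ s a hs h1 hγ h => ?_⟩
    by_cases h0 : s = 0
    · subst h0; exact (base D hD γ a hγ h).trans (le_max_left _ _)
    have hD' : (0 : ℚ) < D := by exact_mod_cast hD
    have hγ' : (0 : ℚ) < γ := by exact_mod_cast hγ
    have ha : 1 ≤ a := by
      by_contra! ha
      obtain ⟨n, hn⟩ := Multiset.exists_mem_of_ne_zero h0
      have h2 : (n : ℚ)⁻¹ ≤ (s.map fun n : ℕ => (n : ℚ)⁻¹).sum :=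
        Multiset.single_le_sum (fun x hx => by
          obtain ⟨m, -, rfl⟩ := Multiset.mem_map.1 hx; positivity) _ (Multiset.mem_map_of_mem _ hn)
      have h3 : (γ : ℚ)⁻¹ < (n : ℚ)⁻¹ :=
        inv_strictAnti₀ (by exact_mod_cast (h1 n hn).1) (by exact_mod_cast (h1 n hn).2)
      have h4 : (a : ℚ) / D ≤ 0 := div_nonpos_of_nonpos_of_nonneg (by exact_mod_cast Int.lt_add_one_iff.1 ha) hD'.le
      linarith
    obtain ⟨n, hn, hn'⟩ : ∃ n ∈ s, n ≤ (k + 1) * D := by
      by_contra! h2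
      have h3 := Multiset.sum_le_card_nsmul (s.map fun n : ℕ => (n : ℚ)⁻¹) ((k + 1 : ℚ) * D)⁻¹ fun x hx => by
        obtain ⟨m, hm, rfl⟩ := Multiset.mem_map.1 hx
        exact inv_anti₀ (by positivity) (by exact_mod_cast (h2 m hm).le)
      rw [Multiset.card_map, nsmul_eq_mul] at h3
      have h4 : (s.card : ℚ) * ((k + 1 : ℚ) * D)⁻¹ ≤ (k + 1) * ((k + 1 : ℚ) * D)⁻¹ :=
        mul_le_mul_of_nonneg_right (by exact_mod_cast hs) (by positivity)
      have h5 : (k + 1) * ((k + 1 : ℚ) * D)⁻¹ = 1 / D := by field_simp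
      have h6 : (1 : ℚ) / D ≤ a / D := div_le_div_of_nonneg_right (by exact_mod_cast ha) hD'.le
      have := inv_pos.2 hγ'
      linarith
    obtain ⟨t, rfl⟩ := Multiset.exists_cons_of_mem hn
    obtain ⟨e, he⟩ := Nat.dvd_factorial (h1 n hn).1 hn'
    refine (hF γ t (a * n * e - D * e) (by simpa using hs) (fun m hm => h1 m (Multiset.mem_cons_of_mem hm))
      hγ ?_).trans (le_max_right _ _)
    have hn0 : (0 : ℚ) < n := by exact_mod_cast (h1 n hn).1
    have he0 : (e : ℚ) ≠ 0 := by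
      rintro h; rw [show e = 0 by exact_mod_cast h] at he; exact Nat.factorial_ne_zero _ he
    rw [h, Multiset.map_cons, Multiset.sum_cons, he]
    push_cast
    field_simp
    ring

theorem sum_orbits {Γ X : Type*} [Group Γ] [Fintype X] (φ : Γ →* Equiv.Perm X) (h : X → ℚ)
    (hh : ∀ g x, h (φ g x) = h x) :
    ∃ R : Finset X, ∑ x, h x = ∑ x ∈ R, ((MulAction.stabilizer (Equiv.Perm X) x).comap φ).index * h x := by
  classical
  letI : MulAction Γ X := MulAction.compHom X φ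
  haveI := Fintype.ofFinite (MulAction.orbitRel.Quotient Γ X)
  refine ⟨Finset.univ.image fun ω : MulAction.orbitRel.Quotient Γ X => ω.out, ?_⟩
  rw [Finset.sum_image fun _ _ _ _ e => Quotient.out_injective e,
    ← Finset.sum_fiberwise Finset.univ (fun x => (Quotient.mk'' x : MulAction.orbitRel.Quotient Γ X))]
  refine Finset.sum_congr rfl fun ω _ => ?_
  have h1 : ∀ x, (Quotient.mk'' x : MulAction.orbitRel.Quotient Γ X) = ω ↔ x ∈ MulAction.orbit Γ ω.out :=
    fun x => by rw [← MulAction.orbitRel_apply, ← Quotient.eq'', Quotient.out_eq']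
  rw [Finset.sum_congr rfl (g := fun _ => h ω.out) fun x hx => by
    obtain ⟨g, rfl⟩ := (h1 x).1 (Finset.mem_filter.1 hx).2; exact hh g _, Finset.sum_const, nsmul_eq_mul]
  congr 2
  rw [show (MulAction.stabilizer (Equiv.Perm X) ω.out).comap φ = MulAction.stabilizer Γ ω.out from rfl,
    MulAction.index_stabilizer, ← Set.ncard_coe_finset]
  congr 1
  ext x; simp [h1]

structure Hyp (G : Type*) [Group G] (f d w : ℕ) : Prop where
  pos : 0 < f
  ab : ∀ g, g ∉ center G → ∃ A : Subgroup G, A ≤ 𝐂 A ∧ A.relIndex (centralizer {g}) ≤ f ∧ A ≤ centralizer {g}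
  rk : ∃ r : Subgroup G → ℕ, (∀ A, r A ≤ d) ∧ ∀ A B, B ≤ A → ¬ 𝐂 B ≤ 𝐂 A → r A < r B
  nc : ∀ A : Subgroup G, A ≤ 𝐂 A → (𝐂 A).relIndex (𝐍 A) ≤ w

variable {G : Type*} [Group G] [Finite G] {f d w : ℕ} {A B F F' H T T' : Subgroup G} {g : G}

variable (f) in
def Fan (F : Subgroup G) : Prop := F ≤ 𝐂 F ∧ ∀ B ≤ F, B.relIndex F ≤ f → 𝐂 B ≤ 𝐂 F

variable (f) in
def MaxFan (T : Subgroup G) : Prop := Fan f T ∧ ¬ T ≤ center G ∧ ∀ F, Fan f F → T ≤ F → F ≤ T

variable (f) in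
def St (T : Subgroup G) : Set G := {g | ∃ F, Fan f F ∧ ¬ F ≤ center G ∧ F ≤ T ∧ g ∈ 𝐂 F}

theorem rel_ne (A B : Subgroup G) : A.relIndex B ≠ 0 := index_ne_zero_of_finite

theorem fan_center : Fan f (center G) :=
  ⟨fun _ _ => mem_centralizer_iff.2 fun _ h => (mem_center_iff.1 h _).symm,
    fun _ _ _ _ _ => mem_centralizer_iff.2 fun _ h => (mem_center_iff.1 h _).symm⟩

theorem Fan.le (h : Fan f F) (hF : F ≤ H) (hA : A.relIndex H ≤ f) : 𝐂 (A ⊓ F) ≤ 𝐂 F :=
  h.2 _ inf_le_right (by rw [inf_relIndex_right]; exact (relIndex_le_of_le_right hF (rel_ne _ _)).trans hA)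

theorem Fan.comm (h : Fan f F) (h' : Fan f F') (hF : F ≤ H) (hF' : F' ≤ H) (hA : A.relIndex H ≤ f)
    (hc : A ≤ 𝐂 A) : F ≤ 𝐂 F' :=
  (le_centralizer_iff.1 (hc.trans ((Core.centralizer_anti inf_le_left).trans (h.le hF hA)))).trans
    ((Core.centralizer_anti inf_le_left).trans (h'.le hF' hA))

theorem cent_sup (A B : Subgroup G) : 𝐂 (A ⊔ B : Subgroup G) = 𝐂 A ⊓ 𝐂 B :=
  le_antisymm (le_inf (Core.centralizer_anti le_sup_left) (Core.centralizer_anti le_sup_right))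
    (le_centralizer_iff.1 (sup_le (le_centralizer_iff.1 inf_le_left) (le_centralizer_iff.1 inf_le_right)))

theorem Fan.sup (h : Fan f F) (h' : Fan f F') (hc : F ≤ 𝐂 F') : Fan f (F ⊔ F') := by
  refine ⟨?_, fun B _ hB => ?_⟩ <;> rw [cent_sup]
  · exact sup_le (le_inf h.1 hc) (le_inf (le_centralizer_iff.1 hc) h'.1)
  · exact le_inf ((Core.centralizer_anti inf_le_left).trans (h.le le_sup_left hB))
      ((Core.centralizer_anti inf_le_left).trans (h'.le le_sup_right hB))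

theorem Fan.cj (h : Fan f F) (g : G) : Fan f (cj g F) := by
  refine ⟨by rw [← cj_centralizer]; exact cj_mono g h.1, fun B h1 h2 => ?_⟩
  rw [← cj_cj_inv g B, relIndex_cj] at h2
  have := cj_mono g (h.2 _ (le_cj_iff.1 h1) h2)
  rwa [cj_centralizer, cj_centralizer, cj_cj_inv] at this

theorem cj_le_center : cj g F ≤ center G ↔ F ≤ center G := by rw [cj_le_iff, cj_normal]

theorem MaxFan.cj (h : MaxFan f T) (g : G) : MaxFan f (cj g T) :=
  ⟨h.1.cj g, fun e => h.2.1 (cj_le_center.1 e), fun F h1 h2 =>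
    le_cj_iff.2 (h.2.2 _ (h1.cj g⁻¹) (cj_le_iff.1 h2))⟩

theorem mem_St_cj {x : G} (h : x ∈ St f T) (g : G) : g * x * g⁻¹ ∈ St f (cj g T) := by
  obtain ⟨F, h1, h2, h3, h4⟩ := h
  exact ⟨_, h1.cj g, fun e => h2 (cj_le_center.1 e), cj_mono g h3, by
    rw [← cj_centralizer]; exact conj_mem_cj g h4⟩

theorem Hyp.sub (h : Hyp G f d w) (hA : A ≤ 𝐂 A) : ∃ F, Fan f F ∧ F ≤ A ∧ F.relIndex A ≤ f ^ d := by
  obtain ⟨r, h1, h2⟩ := h.rk
  have key : ∀ k (A : Subgroup G), A ≤ 𝐂 A → d ≤ r A + k → ∃ F, Fan f F ∧ F ≤ A ∧ F.relIndex A ≤ f ^ k := by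
    intro k
    induction k with
    | zero => exact fun A hA hk => ⟨A, ⟨hA, fun B h3 _ => by_contra fun h4 =>
        (h2 A B h3 h4).not_ge ((h1 B).trans hk)⟩, le_rfl, by simp⟩
    | succ k ih =>
      intro A hA hk
      by_cases h3 : Fan f A
      · exact ⟨A, h3, le_rfl, by simpa using Nat.one_le_pow _ _ h.pos⟩
      obtain ⟨B, h4, h5, h6⟩ : ∃ B ≤ A, B.relIndex A ≤ f ∧ ¬ 𝐂 B ≤ 𝐂 A := by
        by_contra! h4; exact h3 ⟨hA, h4⟩
      obtain ⟨F, a1, a2, a3⟩ := ih B (h4.trans (hA.trans (Core.centralizer_anti h4)))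
        (by have := h2 A B h4 h6; omega)
      exact ⟨F, a1, a2.trans h4, by
        rw [← relIndex_mul_relIndex F B A a2 h4, pow_succ]; exact Nat.mul_le_mul a3 h5⟩
  exact key d A hA le_add_self

theorem Hyp.comm (h : Hyp G f d w) (hg : g ∉ center G) (h1 : Fan f F) (h2 : Fan f F')
    (h3 : F ≤ centralizer {g}) (h4 : F' ≤ centralizer {g}) : F ≤ 𝐂 F' :=
  let ⟨_, a1, a2, _⟩ := h.ab g hg; h1.comm h2 h3 h4 a2 a1

theorem Hyp.top (h : Hyp G f d w) (hg : g ∉ center G) : ∃ M, Fan f M ∧ M ≤ centralizer {g} ∧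
    (∀ F, Fan f F → F ≤ centralizer {g} → F ≤ M) ∧ M.relIndex (centralizer {g}) ≤ f ^ (d + 1) := by
  obtain ⟨A, a1, a2, a3⟩ := h.ab g hg
  obtain ⟨F, b1, b2, b3⟩ := h.sub a1
  obtain ⟨M, c1, c2⟩ := Finite.exists_le_maximal (p := fun M => Fan f M ∧ M ≤ centralizer {g}) ⟨b1, b2.trans a3⟩
  refine ⟨M, c2.1.1, c2.1.2, fun F' h1 h2 => le_sup_left.trans (c2.2
    ⟨h1.sup c2.1.1 (h.comm hg h1 c2.1.1 h2 c2.1.2), sup_le h2 c2.1.2⟩ le_sup_right), ?_⟩
  refine (relIndex_le_of_le_left c1 (rel_ne _ _)).trans ?_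
  rw [← relIndex_mul_relIndex F A _ b2 a3, pow_succ]; exact Nat.mul_le_mul b3 a2

theorem le_cent_of_mem (hF : F ≤ 𝐂 F) (hg : g ∈ F) : F ≤ centralizer {g} := fun _ hx =>
  mem_centralizer_singleton_iff.2 (mem_centralizer_iff.1 (hF hx) g hg).symm

theorem Hyp.up (h : Hyp G f d w) (hF : Fan f F) (hZ : ¬ F ≤ center G) :
    ∃ T, MaxFan f T ∧ ∀ F', Fan f F' → F ≤ F' → F' ≤ T := by
  obtain ⟨x, h1, h2⟩ := SetLike.not_le_iff_exists.1 hZ
  obtain ⟨M, a1, -, a3, -⟩ := h.top h2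
  have key : ∀ F', Fan f F' → F ≤ F' → F' ≤ M := fun F' h3 h4 => a3 F' h3 (le_cent_of_mem h3.1 (h4 h1))
  exact ⟨M, ⟨a1, fun e => h2 (e (key F hF le_rfl h1)), fun F' h3 h4 =>
    key F' h3 ((key F hF le_rfl).trans h4)⟩, key⟩

theorem Hyp.uniq (h : Hyp G f d w) (hT : MaxFan f T) (hT' : MaxFan f T') (hF : Fan f F) (hZ : ¬ F ≤ center G)
    (h1 : F ≤ T) (h2 : F ≤ T') : T = T' := by
  obtain ⟨M, a1, a2⟩ := h.up hF hZ
  exact (le_antisymm (a2 T hT.1 h1) (hT.2.2 M a1.1 (a2 T hT.1 h1))).trans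
    (le_antisymm (hT'.2.2 M a1.1 (a2 T' hT'.1 h2)) (a2 T' hT'.1 h2))

theorem Hyp.idx (h : Hyp G f d w) (hT : MaxFan f T) :
    center G ≤ T ∧ T.relIndex (𝐍 T) ≤ f ^ (d + 1) * w := by
  obtain ⟨x, h1, h2⟩ := SetLike.not_le_iff_exists.1 hT.2.1
  obtain ⟨M, a1, -, a3, a4⟩ := h.top h2
  have h3 := a3 T hT.1 (le_cent_of_mem hT.1.1 h1)
  obtain rfl : M = T := le_antisymm (hT.2.2 M a1 h3) h3
  refine ⟨a3 _ fan_center (center_le_centralizer _), ?_⟩
  rw [← relIndex_mul_relIndex M _ _ a1.1 (centralizer_le_normalizer _)]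
  refine Nat.mul_le_mul ((relIndex_le_of_le_right (fun y hy => ?_) (rel_ne _ _)).trans a4) (h.nc M a1.1)
  exact mem_centralizer_singleton_iff.2 (mem_centralizer_iff.1 hy x h1).symm

theorem Hyp.mem_norm (h : Hyp G f d w) (hT : MaxFan f T) (hg : g ∈ St f T) : g ∈ 𝐍 T := by
  obtain ⟨F, h1, h2, h3, h4⟩ := hg
  exact cj_eq_self_iff.1 (h.uniq (hT.cj g) hT h1 h2 (cj_of_mem_centralizer h4 ▸ cj_mono g h3) h3)

theorem Hyp.eq_of_mem (h : Hyp G f d w) (hT : MaxFan f T) (hT' : MaxFan f T') (hg : g ∉ center G)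
    (h1 : g ∈ St f T) (h2 : g ∈ St f T') : T = T' := by
  obtain ⟨F, a1, a2, a3, a4⟩ := h1
  obtain ⟨F', b1, b2, b3, b4⟩ := h2
  have e : ∀ {F : Subgroup G}, g ∈ 𝐂 F → F ≤ centralizer {g} := fun h x hx =>
    mem_centralizer_singleton_iff.2 (mem_centralizer_iff.1 h x hx)
  have h3 := a1.sup b1 (h.comm hg a1 b1 (e a4) (e b4))
  obtain ⟨M, c1, c2⟩ := h.up h3 fun e => a2 (le_sup_left.trans e)
  have h4 := c2 _ h3 le_rfl
  exact (h.uniq hT c1 a1 a2 a3 (le_sup_left.trans h4)).trans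
    (h.uniq hT' c1 b1 b2 b3 (le_sup_right.trans h4)).symm

theorem Hyp.small (h : Hyp G f d w) (hg : g ∉ center G) (h1 : ∀ T, MaxFan f T → g ∉ St f T) :
    (center G).relIndex (𝐍 (zpowers g ⊔ center G : Subgroup G)) ≤ f ^ (d + 1) * w := by
  obtain ⟨M, a1, a2, -, a4⟩ := h.top hg
  have h2 : M ≤ center G := by_contra fun h2 => by
    obtain ⟨T, b1, b2⟩ := h.up a1 h2
    exact h1 T b1 ⟨M, a1, h2, b2 M a1 le_rfl, mem_centralizer_iff.2 fun x hx =>
      mem_centralizer_singleton_iff.1 (a2 hx)⟩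
  have h3 : zpowers g ⊔ center G ≤ 𝐂 (zpowers g ⊔ center G : Subgroup G) := by
    rw [cent_sup]
    exact sup_le (le_inf (le_centralizer _) (le_centralizer_iff.1 (center_le_centralizer _)))
      (le_inf (center_le_centralizer _) (center_le_centralizer _))
  rw [← relIndex_mul_relIndex _ _ _ (center_le_centralizer _) (centralizer_le_normalizer _)]
  refine Nat.mul_le_mul ((relIndex_le_of_le_right (fun y hy => ?_) (rel_ne _ _)).trans
    ((relIndex_le_of_le_left h2 (rel_ne _ _)).trans a4)) (h.nc _ h3)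
  exact mem_centralizer_singleton_iff.2 (mem_centralizer_iff.1 hy g (mem_sup_left (mem_zpowers g))).symm

theorem ncard_eq_mul (T : Subgroup G) {S : Set G} (h : ∀ x ∈ S, ∀ t ∈ T, x * t ∈ S) :
    S.ncard = Nat.card T * ((↑) '' S : Set (G ⧸ T)).ncard := by
  rw [← Nat.card_coe_set_eq, ← Nat.card_coe_set_eq, ← QuotientGroup.card_preimage_mk]
  congr 2
  refine Set.ext fun x => ⟨fun hx => ⟨x, hx, rfl⟩, fun ⟨y, hy, e⟩ => ?_⟩
  simpa using h y hy _ (QuotientGroup.eq.1 e)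

variable (f) in
def Us (G : Type*) [Group G] : Set G := {g | g ∉ center G ∧ ∀ T, MaxFan f T → g ∉ St f T}

theorem St_mul (hT : T ≤ 𝐂 T) {x t : G} (h : x ∈ St f T) (ht : t ∈ T) : x * t ∈ St f T :=
  let ⟨F, h1, h2, h3, h4⟩ := h; ⟨F, h1, h2, h3, mul_mem h4 (Core.centralizer_anti h3 (hT ht))⟩

theorem Us_mul {x z : G} (h : x ∈ Us f G) (hz : z ∈ center G) : x * z ∈ Us f G :=
  ⟨fun e => h.1 ((mul_mem_cancel_right hz).1 e), fun T hT ⟨F, h1, h2, h3, h4⟩ =>
    h.2 T hT ⟨F, h1, h2, h3, (mul_mem_cancel_right (center_le_centralizer _ hz)).1 h4⟩⟩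

theorem Us_conj {x : G} (h : x ∈ Us f G) (g : G) : g * x * g⁻¹ ∈ Us f G :=
  ⟨fun e => h.1 (by simpa [mul_assoc] using (inferInstance : (center G).Normal).conj_mem _ e g⁻¹),
    fun T hT e => h.2 _ (hT.cj g⁻¹) (by simpa [mul_assoc] using mem_St_cj e g⁻¹)⟩

theorem Hyp.card_Us (h : Hyp G f d w) :
    ∃ b : ℕ, ((Us f G).ncard : ℚ) * (f ^ (d + 1) * w).factorial = b * Nat.card G := by
  classical
  haveI := Fintype.ofFinite (G ⧸ center G)
  set φ := (MulAut.toPerm (G ⧸ center G)).comp (MulAut.conj.comp (QuotientGroup.mk' (center G)))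
  set V : Set (G ⧸ center G) := (↑) '' Us f G
  have hV : ∀ g x, x ∈ V → φ g x ∈ V := by
    rintro g _ ⟨x, hx, rfl⟩
    exact ⟨_, Us_conj hx g, rfl⟩
  obtain ⟨R, hR⟩ := sum_orbits φ (fun x => if x ∈ V then 1 else 0) fun g x =>
    if_congr ⟨fun e => by simpa using hV g⁻¹ _ e, hV g x⟩ rfl rfl
  have h1 : ∀ x ∈ V, ∃ e : ℕ, ((MulAction.stabilizer (Equiv.Perm _) x).comap φ).index *
      (f ^ (d + 1) * w).factorial = e * (center G).index := by
    rintro _ ⟨x, hx, rfl⟩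
    set K := (MulAction.stabilizer (Equiv.Perm _) (x : G ⧸ center G)).comap φ
    have h2 : center G ≤ K := fun z hz => by
      change ((z * x * z⁻¹ : G) : G ⧸ center G) = x
      rw [← mem_center_iff.1 hz, mul_inv_cancel_right]
    have h3 : K ≤ 𝐍 (zpowers x ⊔ center G : Subgroup G) := fun y hy => mem_normalizer_of_cj_le (by
      rw [cj_sup, cj_zpowers, cj_normal]
      refine sup_le (zpowers_le.2 ?_) le_sup_right
      have : ((x : G) : G ⧸ center G) = (y * x * y⁻¹ : G) := Eq.symm hy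
      simpa using mul_mem_sup (mem_zpowers x) (QuotientGroup.eq.1 this))
    obtain ⟨e, he⟩ := Nat.dvd_factorial (Nat.pos_of_ne_zero (rel_ne (center G) K))
      ((relIndex_le_of_le_right h3 (rel_ne _ _)).trans (h.small hx.1 hx.2))
    exact ⟨e, by rw [he, ← relIndex_mul_index h2]; ring⟩
  choose! e he using h1
  refine ⟨∑ x ∈ R, if x ∈ V then e x else 0, ?_⟩
  have h2 : (V.ncard : ℚ) = ∑ x, if x ∈ V then 1 else 0 := by
    rw [Finset.sum_boole, ← Set.ncard_coe_finset]; simp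
  rw [ncard_eq_mul (center G) fun _ hx _ => Us_mul hx, ← (center G).card_mul_index]
  push_cast
  rw [h2, hR, mul_assoc, Finset.sum_mul, mul_left_comm, Finset.sum_mul]
  refine congrArg _ (Finset.sum_congr rfl fun x _ => ?_)
  split_ifs with hx
  · rw [mul_one]; exact_mod_cast he x hx
  · simp

open scoped Classical in
theorem Hyp.count [Fintype (Subgroup G)] (h : Hyp G f d w) : (Nat.card G : ℚ) = Nat.card (center G) + (Us f G).ncard +
    ∑ T : Subgroup G, if MaxFan f T then ((St f T).ncard - Nat.card (center G) : ℚ) else 0 := by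
  haveI := Fintype.ofFinite G
  have e : ∀ S : Set G, (S.ncard : ℚ) = ∑ x, if x ∈ S then 1 else 0 := fun S => by
    rw [Finset.sum_boole, ← Set.ncard_coe_finset]; simp
  have h1 : ∀ T : Subgroup G, (if MaxFan f T then ((St f T).ncard - Nat.card (center G) : ℚ) else 0) =
      ∑ x, if MaxFan f T ∧ x ∈ St f T ∧ x ∉ center G then 1 else 0 := fun T => by
    split_ifs with hT
    · rw [← SetLike.coe_sort_coe, Nat.card_coe_set_eq, e, e, ← Finset.sum_sub_distrib]
      refine Finset.sum_congr rfl fun x _ => ?_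
      by_cases hx : x ∈ center G
      · have : x ∈ St f T := ⟨T, hT.1, hT.2.1, le_rfl, center_le_centralizer _ hx⟩
        simp [hx, this]
      · simp [hx, hT]
    · simp [hT]
  rw [Finset.sum_congr rfl fun T _ => h1 T, Finset.sum_comm, ← SetLike.coe_sort_coe (center G),
    Nat.card_coe_set_eq, e, e, ← Finset.sum_add_distrib, ← Finset.sum_add_distrib, Nat.card_eq_fintype_card,
    Fintype.card_eq_sum_ones, Nat.cast_sum]
  refine Finset.sum_congr rfl fun x _ => ?_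
  by_cases hx : x ∈ center G
  · simp [hx, Us]
  by_cases hx' : x ∈ Us f G
  · rw [Finset.sum_eq_zero fun T _ => if_neg fun e => hx'.2 T e.1 e.2.1]
    simp [hx, hx']
  · obtain ⟨T, h2, h3⟩ : ∃ T, MaxFan f T ∧ x ∈ St f T := by
      by_contra! h2; exact hx' ⟨hx, h2⟩
    rw [Finset.sum_eq_single T (fun T' _ h4 => if_neg fun e => h4 (h.eq_of_mem e.1 h2 hx e.2.1 h3)) (by simp)]
    simp [hx, hx', h2, h3]

open scoped Pointwise in
theorem jordan (f d w : ℕ) : ∃ F : ℕ, ∀ (G : Type*) [Group G] [Finite G], Hyp G f d w →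
    ∃ A : Subgroup G, A ≤ 𝐂 A ∧ A.index ≤ F := by
  classical
  set c := f ^ (d + 1) * w
  obtain ⟨F, hF⟩ := landau (2 * c) c.factorial c.factorial_pos
  refine ⟨max c F, fun G _ _ h => ?_⟩
  by_cases h0 : ∃ T : Subgroup G, MaxFan f T ∧ 𝐍 T = ⊤
  · obtain ⟨T, h1, h2⟩ := h0
    have := (h.idx h1).2
    rw [h2, relIndex_top_right] at this
    exact ⟨T, h1.1.1, this.trans (le_max_left _ _)⟩
  refine ⟨center G, fan_center (f := f).1, le_trans ?_ (le_max_right _ _)⟩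
  haveI := Fintype.ofFinite (Subgroup G)
  set φ := (MulAction.toPermHom (MulAut G) (Subgroup G)).comp MulAut.conj
  have hφ : ∀ g T, φ g T = cj g T := fun _ _ => rfl
  have hS : ∀ g (T : Subgroup G), (St f T).ncard ≤ (St f (cj g T)).ncard := fun g T =>
    Set.ncard_le_ncard_of_injOn (MulAut.conj g) (fun _ hx => mem_St_cj hx g) (MulAut.conj g).injective.injOn
  obtain ⟨R, hR⟩ := sum_orbits φ (fun T => if MaxFan f T then ((St f T).ncard - Nat.card (center G) : ℚ) else 0)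
    fun g T => by
      rw [hφ, le_antisymm (hS g T) (by simpa only [cj_inv_cj] using hS g⁻¹ (cj g T))]
      exact if_congr ⟨fun e => by simpa only [cj_inv_cj] using e.cj g⁻¹, fun e => e.cj g⟩ rfl rfl
  have hN : ∀ T, (MulAction.stabilizer (Equiv.Perm _) T).comap φ = 𝐍 T := fun T =>
    Subgroup.ext fun g => cj_eq_self_iff
  obtain ⟨b, hb⟩ := h.card_Us
  have hc := h.count
  set n : Subgroup G → ℕ := fun T => (center G).relIndex (𝐍 T)
  have hG : (0 : ℚ) < Nat.card G := by exact_mod_cast Nat.card_pos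
  have hD : (0 : ℚ) < c.factorial := by exact_mod_cast c.factorial_pos
  have key : ∀ T, MaxFan f T → ∃ a : ℕ, ((𝐍 T).index * ((St f T).ncard - Nat.card (center G)) : ℚ) =
      Nat.card G * (a / c.factorial - (n T : ℚ)⁻¹) ∧ (1 : ℚ) ≤ 2 * c * (a / c.factorial - (n T : ℚ)⁻¹) := by
    intro T hT
    obtain ⟨h1, h2⟩ := h.idx hT
    obtain ⟨e, he⟩ := Nat.dvd_factorial (Nat.pos_of_ne_zero (rel_ne T (𝐍 T))) h2
    have h3 := ncard_eq_mul T fun _ hx _ => St_mul (f := f) hT.1.1 hx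
    set q := ((↑) '' St f T : Set (G ⧸ T)).ncard
    have h4 : 1 ≤ q := (Set.ncard_pos (Set.toFinite _)).2 ⟨_, 1, ⟨T, hT.1, hT.2.1, le_rfl, one_mem _⟩, rfl⟩
    have h5 : 2 ≤ (center G).relIndex T := by
      have := rel_ne (center G) T
      have : (center G).relIndex T ≠ 1 := fun e => hT.2.1 (relIndex_eq_one.1 e)
      omega
    have h6 : n T = (center G).relIndex T * T.relIndex (𝐍 T) :=
      (relIndex_mul_relIndex _ _ _ h1 le_normalizer).symm
    have h7 := (𝐍 T).card_mul_index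
    rw [← Core.card_mul_relIndex (le_normalizer (H := T))] at h7
    rw [h3, ← h7, ← Core.card_mul_relIndex h1, h6, he]
    have r0 : (0 : ℚ) < T.relIndex (𝐍 T) := by exact_mod_cast Nat.pos_of_ne_zero (rel_ne _ _)
    have r1 : (T.relIndex (𝐍 T) : ℚ) ≤ c := by exact_mod_cast h2
    have e0 : (0 : ℚ) < e := by
      have := c.factorial_pos; rw [he] at this; exact_mod_cast Nat.pos_of_mul_pos_left this
    have t2 : (2 : ℚ) ≤ (center G).relIndex T := by exact_mod_cast h5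
    have q1 : (1 : ℚ) ≤ q := by exact_mod_cast h4
    refine ⟨q * e, ?_, ?_⟩ <;> push_cast
    · field_simp
    · generalize (T.relIndex (𝐍 T) : ℚ) = r at *
      generalize ((center G).relIndex T : ℚ) = t at *
      rw [show q * e / (r * e) - (t * r)⁻¹ = (q * t - 1) / (t * r) by field_simp, mul_div_assoc', one_le_div
        (by positivity)]
      nlinarith [mul_le_mul_of_nonneg_right q1 (by positivity : 0 ≤ t)]
  choose! a ha ha' using key
  set R' := R.filter (MaxFan f)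
  have h1 : (1 : ℚ) = ((center G).index : ℚ)⁻¹ + b / c.factorial +
      ∑ T ∈ R', (a T / c.factorial - (n T : ℚ)⁻¹ : ℚ) := by
    rw [hR, Finset.sum_congr rfl (g := fun T => if MaxFan f T then
      Nat.card G * (a T / c.factorial - (n T : ℚ)⁻¹) else 0) fun T _ => by
        split_ifs with hT
        · rw [hN, ha T hT]
        · simp, ← Finset.sum_filter, ← Finset.mul_sum] at hc
    have h2 : (Nat.card (center G) : ℚ) * (center G).index = Nat.card G := by
      exact_mod_cast (center G).card_mul_index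
    have h3 : ((center G).index : ℚ) ≠ 0 := by exact_mod_cast index_ne_zero_of_finite
    apply mul_left_cancel₀ hG.ne'
    rw [mul_add, mul_add, mul_one, mul_div_assoc', mul_comm _ (b : ℚ), ← hb, mul_div_cancel_right₀ _ hD.ne']
    nth_rewrite 2 [← h2]
    rw [mul_inv_cancel_right₀ h3]
    exact hc
  refine hF _ (R'.val.map n) (∑ T ∈ R', a T + b - c.factorial) ?_ (fun m hm => ?_)
    (Nat.pos_of_ne_zero index_ne_zero_of_finite) ?_
  · have h2 := Finset.sum_le_sum (s := R') fun T hT => ha' T (Finset.mem_filter.1 hT).2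
    rw [← Finset.mul_sum, Finset.sum_const, nsmul_eq_mul, mul_one] at h2
    have h3 : ∑ T ∈ R', (a T / c.factorial - (n T : ℚ)⁻¹ : ℚ) ≤ 1 := by
      have : (0 : ℚ) ≤ ((center G).index : ℚ)⁻¹ + b / c.factorial := by positivity
      linarith
    have h4 : (R'.card : ℚ) ≤ 2 * c := h2.trans (mul_le_of_le_one_right (by positivity) h3)
    rw [Multiset.card_map]
    exact_mod_cast h4
  · obtain ⟨T, h2, rfl⟩ := Multiset.mem_map.1 hm
    refine ⟨Nat.pos_of_ne_zero (rel_ne _ _), ?_⟩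
    rw [← relIndex_mul_index ((center_le_centralizer _).trans (centralizer_le_normalizer T))]
    exact lt_mul_of_one_lt_right (Nat.pos_of_ne_zero (rel_ne _ _)) (one_lt_index_of_ne_top fun e =>
      h0 ⟨T, (Finset.mem_filter.1 h2).2, e⟩)
  · rw [Multiset.map_map]
    change _ = ∑ T ∈ R', (n T : ℚ)⁻¹ - _
    rw [Finset.sum_sub_distrib, ← Finset.sum_div] at h1
    push_cast
    rw [sub_div, add_div, div_self hD.ne']
    linarith

end Cfsg.Lib.Block2.Jor
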