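import Cfsg.Agent.Lib.Block2.Jor
import Cfsg.Agent.Lib.Coprime.Blichfeldt

/-! The analogue of Jordan's theorem in characteristic `p`. -/

set_option autoImplicit false
set_option linter.dupNamespace false
set_option linter.unusedSectionVars false
set_option linter.style.haveILetI false

open Cfsg Cfsg.Lib.Amalg Subgroup Module

universe u v

namespace Cfsg.Lib.Block2.Jor

theorem index_le_card {H T : Type*} [Group H] [Finite T] (C : Subgroup H) (φ : H → T)
    (h : ∀ x y, φ x = φ y → x⁻¹ * y ∈ C) : C.index ≤ Nat.card T :=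
  Nat.card_le_card_of_injective (fun q : H ⧸ C => φ q.out) fun q q' e => by
    rw [← q.out_eq', ← q'.out_eq']; exact QuotientGroup.eq.2 (h _ _ e)

theorem mem_of_coprime {H : Type*} [Group H] {C : Subgroup H} {a : H} {m n : ℕ} (h : m.Coprime n)
    (h1 : a ^ m ∈ C) (h2 : a ^ n ∈ C) : a ∈ C := by
  obtain ⟨x, y, e⟩ := Nat.isCoprime_iff_coprime.2 h
  have := mul_mem (zpow_mem h1 x) (zpow_mem h2 y)
  rwa [← zpow_natCast, ← zpow_natCast, ← zpow_mul, ← zpow_mul, ← zpow_add, mul_comm _ x, mul_comm _ y, e,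
    zpow_one] at this

variable {p m : ℕ} [hp : Fact p.Prime]

theorem card_le_pow {G H : Type*} [Group G] [Group H] [Finite G] [Finite H] (hH : IsPGroup p H)
    (hd : Nat.card H ∣ Nat.card G) (hm : (Nat.card G).factorization p ≤ m) : Nat.card H ≤ p ^ m := by
  obtain ⟨k, hk⟩ := hH.exists_card_eq
  rw [hk] at hd ⊢
  exact Nat.pow_le_pow_right hp.out.pos
    (((hp.out.pow_dvd_iff_le_factorization Nat.card_pos.ne').1 hd).trans hm)

omit hp in
theorem fact_le {G H : Type*} [Group G] [Group H] [Finite G] [Finite H]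
    (hd : Nat.card H ∣ Nat.card G) (hm : (Nat.card G).factorization p ≤ m) : (Nat.card H).factorization p ≤ m :=
  ((Nat.factorization_le_iff_dvd Nat.card_pos.ne' Nat.card_pos.ne').2 hd p).trans hm

section lin

variable {G : Type*} [Group G] [Finite G] {K : Type*} [Field K] [CharP K p] {V : Type*} [AddCommGroup V]
  [Module K V] [FiniteDimensional K V]

theorem sub_pow_eq (f : End K V) (μ : K) (k : ℕ) : (f - μ • 1) ^ p ^ k = f ^ p ^ k - μ ^ p ^ k • 1 := by
  rcases subsingleton_or_nontrivial V with h | h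
  · exact Subsingleton.elim _ _
  haveI : CharP (End K V) p := charP_of_injective_algebraMap (algebraMap K (End K V)).injective p
  rw [sub_pow_char_pow_of_commute _ _ ((Commute.one_right f).smul_right μ), smul_pow, one_pow]

theorem pow_apply_of_mem {f : End K V} {μ : K} {v : V} (h : v ∈ f.maxGenEigenspace μ) :
    (f ^ p ^ finrank K V) v = μ ^ p ^ finrank K V • v := by
  rw [End.maxGenEigenspace_eq_genEigenspace_finrank, End.mem_genEigenspace_nat, LinearMap.mem_ker] at h
  obtain ⟨c, hc⟩ := Nat.exists_eq_add_of_le' (Nat.lt_pow_self hp.out.one_lt (n := finrank K V)).le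
  have : ((f - μ • 1) ^ p ^ finrank K V) v = 0 := by rw [hc, pow_add, End.mul_apply, h, map_zero]
  rw [sub_pow_eq] at this
  simpa [sub_eq_zero] using this

theorem lin_nc [IsAlgClosed K] (ρ : G →* End K V) (hρ : Function.Injective ρ)
    (hm : (Nat.card G).factorization p ≤ m) {n : ℕ} (hn : finrank K V ≤ n) (A : Subgroup G) (hA : A ≤ 𝐂 A) :
    (𝐂 A).relIndex (𝐍 A) ≤ (n + 1) ^ n * (p ^ m) ^ p ^ m := by
  classical
  have hc : ∀ a b : A, Commute a b := fun a b => Subtype.ext (mem_centralizer_iff.1 (hA b.2) a a.2)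
  have hc' : ∀ a b : A, Commute (ρ a) (ρ b) := fun a b => (hc a b).map (ρ.comp A.subtype)
  set E : (A → K) → Submodule K V := fun χ => ⨅ a : A, (ρ a).maxGenEigenspace (χ a) with hE
  have h1 : iSupIndep E := End.independent_iInf_maxGenEigenspace_of_forall_mapsTo (fun a : A => ρ a)
    fun a b => End.mapsTo_maxGenEigenspace_of_comm (hc' b a)
  have h2 : ⨆ χ, E χ = ⊤ := End.iSup_iInf_maxGenEigenspace_eq_top_of_iSup_maxGenEigenspace_eq_top_of_commute
    (fun a : A => ρ a) (fun a b _ => hc' a b) fun a => End.iSup_maxGenEigenspace_eq_top _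
  letI := h1.fintypeNeBotOfFiniteDimensional
  have h3 : Nat.card {χ // E χ ≠ ⊥} ≤ n := by
    rw [Nat.card_eq_fintype_card]; exact h1.subtype_ne_bot_le_finrank.trans hn
  let P : Subgroup A :=
    { carrier := {a | a ^ p ^ m = 1}
      mul_mem' := fun {a b} ha hb => by
        change _ = _ at ha hb ⊢
        rw [(hc a b).mul_pow, ha, hb, one_mul]
      one_mem' := one_pow _
      inv_mem' := fun {a} ha => by
        change _ = _ at ha ⊢
        rw [inv_pow, ha, inv_one] }
  have h4 : Nat.card P ≤ p ^ m := card_le_pow (fun a => ⟨m, Subtype.ext a.2⟩)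
    ((card_subgroup_dvd_card P).trans (card_subgroup_dvd_card A)) hm
  let c : 𝐍 A → A → A := fun x a => ⟨x * a * x⁻¹, (mem_normalizer_iff.1 x.2 a).1 a.2⟩
  have hΛ : ∀ (x : 𝐍 A) χ, E χ ≠ ⊥ → E (fun a => χ (c x a)) ≠ ⊥ := fun x χ hχ => by
    obtain ⟨v, hv, hv'⟩ := (Submodule.ne_bot_iff _).1 hχ
    refine (Submodule.ne_bot_iff _).2 ⟨ρ x⁻¹ v, (Submodule.mem_iInf _).2 fun a => ?_, fun e => hv' ?_⟩
    · obtain ⟨k, hk⟩ := (End.mem_maxGenEigenspace _ _ _).1 ((Submodule.mem_iInf _).1 hv (c x a))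
      refine (End.mem_maxGenEigenspace _ _ _).2 ⟨k, ?_⟩
      have : SemiconjBy (ρ x⁻¹) (ρ (c x a) - χ (c x a) • 1) (ρ a - χ (c x a) • 1) := by
        simp only [SemiconjBy, mul_sub, sub_mul, ← map_mul, c, mul_smul_comm, smul_mul_assoc, mul_one, one_mul]
        simp [mul_assoc]
      rw [← End.mul_apply, ← (this.pow_right k).eq, End.mul_apply, hk, map_zero]
    · have := congrArg (ρ x) e
      rwa [← End.mul_apply, ← map_mul, map_zero, mul_inv_cancel, map_one] at this
  have hP : ∀ (x : 𝐍 A) (a : P), c x a ∈ P := fun x a => Subtype.ext (by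
    have : (a.1 : G) ^ p ^ m = 1 := congrArg Subtype.val a.2
    simp [c, this])
  refine (index_le_card _ (fun x : 𝐍 A => ((fun χ : {χ // E χ ≠ ⊥} => (⟨_, hΛ x χ.1 χ.2⟩ : {χ // E χ ≠ ⊥})),
    fun a : P => (⟨c x a, hP x a⟩ : P))) fun x y e => ?_).trans ?_
  · obtain ⟨e1, e2⟩ := Prod.ext_iff.1 e
    refine mem_subgroupOf.2 (mem_centralizer_iff.2 fun a ha => mem_centralizer_singleton_iff.1 ?_)
    have key : ∀ b : A, c x b = c y b → (b : G) ∈ centralizer {((x⁻¹ * y : 𝐍 A) : G)} := fun b hb => by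
      have : (x : G) * b * (x : G)⁻¹ = y * b * (y : G)⁻¹ := congrArg Subtype.val hb
      refine mem_centralizer_singleton_iff.2 ?_
      push_cast
      calc (b : G) * ((x : G)⁻¹ * y) = (x : G)⁻¹ * (x * b * (x : G)⁻¹) * y := by group
        _ = _ := by rw [this]; group
    refine mem_of_coprime (m := p ^ finrank K V) (n := ordCompl[p] (Nat.card G))
      ((Nat.coprime_ordCompl hp.out Nat.card_pos.ne').pow_left _) (key (⟨a, ha⟩ ^ _) ?_) (key (⟨a, ha⟩ ^ _) ?_)
    · have h5 : ∀ z : 𝐍 A, ρ (c z (⟨a, ha⟩ ^ p ^ finrank K V)) = ρ (c z ⟨a, ha⟩) ^ p ^ finrank K V := fun z => by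
        rw [← map_pow]; simp [c]
      refine Subtype.ext (hρ (LinearMap.ext_on_codisjoint (S := ⊥) (T := ⊤) codisjoint_top_right (by simp) ?_))
      rw [← h2, h5, h5]
      intro v hv
      refine Submodule.iSup_induction E (motive := fun v => (ρ (c x ⟨a, ha⟩) ^ p ^ finrank K V) v =
        (ρ (c y ⟨a, ha⟩) ^ p ^ finrank K V) v) hv (fun χ w hw => ?_) (by simp) fun v w h h' => by
          rw [map_add, map_add, h, h']
      by_cases h0 : E χ = ⊥
      · rw [h0, Submodule.mem_bot] at hw; simp [hw]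
      · rw [pow_apply_of_mem ((Submodule.mem_iInf _).1 hw _), pow_apply_of_mem ((Submodule.mem_iInf _).1 hw _),
          show χ (c x ⟨a, ha⟩) = χ (c y ⟨a, ha⟩) from congrFun (congrArg Subtype.val (congrFun e1 ⟨χ, h0⟩)) _]
    · refine congrArg Subtype.val (congrFun e2 ⟨_, Subtype.ext ?_⟩)
      obtain ⟨k, hk⟩ := Nat.exists_eq_add_of_le hm
      push_cast
      rw [← pow_mul, hk, pow_add, ← mul_assoc, mul_comm (ordCompl[p] _), Nat.ordProj_mul_ordCompl_eq_self,
        pow_mul, pow_card_eq_one', one_pow]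
  · rw [Nat.card_prod, Nat.card_fun, Nat.card_fun]
    exact Nat.mul_le_mul ((Nat.pow_le_pow_left (h3.trans n.le_succ) _).trans (Nat.pow_le_pow_right n.succ_pos h3))
      ((Nat.pow_le_pow_left h4 _).trans (Nat.pow_le_pow_right (pow_pos hp.out.pos _) h4))

omit hp [CharP K p] in
theorem lin_rk (ρ : G →* End K V) (hρ : Function.Injective ρ) {n : ℕ} (hn : finrank K V ≤ n) :
    ∃ r : Subgroup G → ℕ, (∀ A, r A ≤ n * n) ∧ ∀ A B, B ≤ A → ¬ 𝐂 B ≤ 𝐂 A → r A < r B := by
  refine ⟨fun A => finrank K (Subalgebra.centralizer K (ρ '' A)).toSubmodule, fun A => ?_, fun A B h1 h2 => ?_⟩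
  · refine (Submodule.finrank_le _).trans ?_
    rw [finrank_linearMap]; exact Nat.mul_le_mul hn hn
  · obtain ⟨x, h3, h4⟩ := SetLike.not_le_iff_exists.1 h2
    refine Submodule.finrank_lt_finrank_of_lt (SetLike.lt_iff_le_and_exists.2
      ⟨Subalgebra.centralizer_le K _ _ (Set.image_mono h1), ρ x, ?_, fun h => h4 ?_⟩)
    · rintro _ ⟨b, hb, rfl⟩
      rw [← map_mul, ← map_mul, mem_centralizer_iff.1 h3 b hb]
    · exact mem_centralizer_iff.2 fun a ha => hρ (by rw [map_mul, map_mul]; exact h _ ⟨a, ha, rfl⟩)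

omit [CharP K p] in
theorem exists_of_comm_le (hm : (Nat.card G).factorization p ≤ m) {Q : Subgroup G} (hQ : IsPGroup p Q)
    (h : commutator G ≤ Q) : ∃ L : Subgroup G, L ≤ 𝐂 L ∧ L.index ≤ p ^ m := by
  obtain ⟨S, hS⟩ := hQ.exists_le_sylow
  haveI := Normal.of_commutator_le _ (h.trans hS)
  obtain ⟨L, hL⟩ := exists_right_complement'_of_coprime S.card_coprime_index
  refine ⟨L, fun a ha => mem_centralizer_iff.2 fun b hb => commutatorElement_eq_one_iff_mul_comm.1 ?_, ?_⟩
  · exact mem_bot.1 (hL.disjoint.le_bot ⟨hS (h (commutator_mem_commutator (mem_top b) (mem_top a))),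
      L.mul_mem (L.mul_mem (L.mul_mem hb ha) (L.inv_mem hb)) (L.inv_mem ha)⟩)
  · rw [hL.index_eq_card]; exact card_le_pow S.isPGroup' (card_subgroup_dvd_card _) hm

end lin

variable (p m) in
def Bd (n f : ℕ) : Prop := ∀ (G : Type u) [Group G] [Finite G] (K : Type v) [Field K] [IsAlgClosed K] [CharP K p]
  (V : Type v) [AddCommGroup V] [Module K V] [FiniteDimensional K V] (ρ : G →* End K V), finrank K V ≤ n →
  (Nat.card G).factorization p ≤ m → ∃ A : Subgroup G, (∀ a ∈ A, ∀ b ∈ A, ρ (a * b) = ρ (b * a)) ∧ A.index ≤ f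

theorem Bd.red {n f : ℕ} (h : Bd.{u, v} p m n f) {G : Type u} [Group G] [Finite G] {K : Type v} [Field K]
    [IsAlgClosed K] [CharP K p] {V : Type v} [AddCommGroup V] [Module K V] [FiniteDimensional K V]
    (ρ : G →* End K V) (hρ : Function.Injective ρ) (hn : finrank K V ≤ n + 1)
    (hm : (Nat.card G).factorization p ≤ m) {W : Submodule K V} (h0 : W ≠ ⊥) (h1 : W ≠ ⊤)
    (hW : ∀ g, W ≤ W.comap (ρ g)) : ∃ A : Subgroup G, A ≤ 𝐂 A ∧ A.index ≤ p ^ m * (f * f) := by
  have e1 := Submodule.finrank_lt h1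
  have e2 := W.finrank_quotient_add_finrank
  have e3 := Submodule.finrank_eq_zero.not.2 h0
  obtain ⟨A, a1, a2⟩ := h G K W (Representation.subrepresentation ρ W hW) (by omega) hm
  obtain ⟨B, b1, b2⟩ := h G K (V ⧸ W) (Representation.quotient ρ W hW) (by omega) hm
  set Q := (Representation.subrepresentation ρ W hW).ker ⊓ (Representation.quotient ρ W hW).ker
  have hQ : IsPGroup p Q := fun x => ⟨1, Subtype.ext (hρ ?_)⟩
  · obtain ⟨L, c1, c2⟩ := exists_of_comm_le (fact_le (card_subgroup_dvd_card (A ⊓ B)) hm)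
      (hQ.comap_subtype (K := A ⊓ B)) (commutator_le.2 fun a _ b _ => ⟨by
        change Representation.subrepresentation ρ W hW (a * b * (a : G)⁻¹ * (b : G)⁻¹) = 1
        rw [mul_assoc, ← mul_inv_rev, map_mul, a1 _ a.2.1 _ b.2.1, ← map_mul, mul_inv_cancel, map_one], by
        change Representation.quotient ρ W hW (a * b * (a : G)⁻¹ * (b : G)⁻¹) = 1
        rw [mul_assoc, ← mul_inv_rev, map_mul, b1 _ a.2.2 _ b.2.2, ← map_mul, mul_inv_cancel, map_one]⟩)
    refine ⟨L.map (A ⊓ B).subtype, ?_, ?_⟩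
    · rintro _ ⟨a, ha, rfl⟩ _ ⟨b, hb, rfl⟩
      exact congrArg Subtype.val (mem_centralizer_iff.1 (c1 ha) b hb)
    · rw [index_map_subtype]; exact Nat.mul_le_mul c2 (index_inf_le.trans (Nat.mul_le_mul a2 b2))
  · have h2 : (ρ x - (1 : K) • 1) ^ 2 = 0 := LinearMap.ext fun v => by
      have h3 : ρ x v - v ∈ W := (Submodule.Quotient.eq W).1
        (LinearMap.congr_fun (MonoidHom.mem_ker.1 x.2.2) (Submodule.Quotient.mk v))
      have h4 := congrArg Subtype.val (LinearMap.congr_fun (MonoidHom.mem_ker.1 x.2.1) ⟨_, h3⟩)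
      rw [sq, one_smul]
      exact sub_eq_zero.2 h4
    have h3 := sub_pow_eq (p := p) (ρ x) 1 1
    rw [pow_eq_zero_of_le (by simpa using hp.out.two_le) h2, one_pow, one_smul, eq_comm, sub_eq_zero] at h3
    simpa using h3

theorem exists_bd (n : ℕ) : ∃ f, Bd.{u, v} p m n f := by
  induction n with
  | zero => exact ⟨1, fun G _ _ K _ _ _ V _ _ _ ρ hn _ => ⟨⊤, fun _ _ _ _ => by
      haveI := finrank_zero_iff.1 (Nat.le_zero.1 hn)
      exact Subsingleton.elim _ _, by simp⟩⟩
  | succ n ih =>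
    obtain ⟨f, hf⟩ := ih
    obtain ⟨F, hF⟩ := jordan.{u} (p ^ m * (f * f) + 1) ((n + 1) * (n + 1)) ((n + 1 + 1) ^ (n + 1) * (p ^ m) ^ p ^ m)
    refine ⟨F, fun G _ _ K _ _ _ V _ _ _ ρ hn hm => ?_⟩
    set σ := QuotientGroup.lift ρ.ker ρ le_rfl
    have hσ : Function.Injective σ := (injective_iff_map_eq_one σ).2 fun q hq => by
      obtain ⟨x, rfl⟩ := QuotientGroup.mk_surjective q
      exact (QuotientGroup.eq_one_iff x).2 hq
    have hm' := fact_le (card_quotient_dvd_card ρ.ker) hm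
    obtain ⟨A, a1, a2⟩ := hF (G ⧸ ρ.ker) ⟨Nat.succ_pos _, fun g hg => by
      haveI : Nontrivial V := not_subsingleton_iff_nontrivial.1 fun _ =>
        hg (mem_center_iff.2 fun _ => hσ (Subsingleton.elim _ _))
      obtain ⟨μ, hμ⟩ := End.exists_eigenvalue (σ g)
      obtain ⟨A, a1, a2⟩ := hf.red (σ.comp (centralizer {g}).subtype) (hσ.comp Subtype.val_injective) hn
        (fact_le (card_subgroup_dvd_card _) hm') hμ (fun e => hg (mem_center_iff.2 fun x => hσ (by
          have : σ g = μ • 1 := LinearMap.ext fun v => End.mem_eigenspace_iff.1 (e.ge Submodule.mem_top)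
          simp [this])))
        fun x => End.mapsTo_genEigenspace_of_comm (Commute.map (mem_centralizer_singleton_iff.1 x.2).symm σ) μ 1
      refine ⟨A.map (centralizer {g}).subtype, ?_, ?_, map_subtype_le _⟩
      · rintro _ ⟨a, ha, rfl⟩ _ ⟨b, hb, rfl⟩
        exact congrArg Subtype.val (mem_centralizer_iff.1 (a1 ha) b hb)
      · rw [relIndex, map_subtype_subgroupOf]; exact a2.trans (Nat.le_succ _),
      lin_rk σ hσ hn, lin_nc σ hσ hm' hn⟩
    refine ⟨A.comap (QuotientGroup.mk' _), fun a ha b hb => ?_, by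
      rwa [index_comap_of_surjective _ (QuotientGroup.mk'_surjective _)]⟩
    exact congrArg σ (mem_centralizer_iff.1 (a1 hb) _ ha)

theorem brauer_feit (p : ℕ) [Fact p.Prime] : ∃ f : ℕ → ℕ → ℕ, ∀ (G : Type u) [Group G] [Finite G] (F : Type v)
    [Field F] [CharP F p] (n : ℕ) (ρ : Representation F G (Fin n → F)), Function.Injective ρ → ∀ m : ℕ,
    (Nat.card G).factorization p = m → ∃ A : Subgroup G, A.Normal ∧ IsMulCommutative A ∧ A.index < f m n := by
  choose f hf using fun m n => exists_bd.{u, v} (p := p) (m := m) n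
  refine ⟨fun m n => (f m n).factorial + 1, fun G _ _ F _ _ n ρ hρ m hm => ?_⟩
  let K := AlgebraicClosure F
  let τ : End F (Fin n → F) →* End K (Fin n → K) := ((Matrix.toLinAlgEquiv' (R := K) (n := Fin n)).toMonoidHom.comp
    (algebraMap F K).mapMatrix.toMonoidHom).comp (LinearMap.toMatrixAlgEquiv' (R := F) (n := Fin n)).toMonoidHom
  have hτ : Function.Injective τ := Matrix.toLinAlgEquiv'.injective.comp
    ((Matrix.map_injective (algebraMap F K).injective).comp LinearMap.toMatrixAlgEquiv'.injective)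
  obtain ⟨A, a1, a2⟩ := hf m n G K (Fin n → K) (τ.comp ρ) (by simp) hm.le
  refine ⟨A.normalCore, inferInstance, ⟨⟨fun a b => Subtype.ext (hρ (hτ
    (a1 _ (A.normalCore_le a.2) _ (A.normalCore_le b.2))))⟩⟩, Nat.lt_succ_of_le ?_⟩
  exact (Nat.le_of_dvd (Nat.factorial_pos _) (Coprime.index_normalCore_dvd A)).trans (Nat.factorial_le a2)

end Cfsg.Lib.Block2.Jor
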