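import Cfsg.Agent.Lib.Block2.Har
import Cfsg.Agent.Lib.Block2.PPart

/-! The number of conjugacy classes of a permutation group of degree `d` is at most `(17/4)^d`
(prime by prime: `p`-parts, centralisers acting on cycles). -/

set_option autoImplicit false

namespace Cfsg.Lib.Block2.KPerm

open Cfsg Subgroup Finset MulAction
open scoped Nat Classical

/-- the classes of elements whose order has only prime divisors `≤ n` have at most `m` representatives -/
def Cov (n : ℕ) (G : Type) [Group G] (m : ℝ) : Prop :=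
  ∃ s : Finset G, (s.card : ℝ) ≤ m ∧ ∀ x : G, (∀ q, q.Prime → q ∣ orderOf x → q ≤ n) → ∃ y ∈ s, IsConj y x

variable {G Ω : Type} [Group G] [Finite G] {p n : ℕ} {m y z : ℝ}

theorem Cov.lift {H : Type} [Group H] [Finite H] [Fact p.Prime] (hn : n < p) {f : G →* H} (hf : Function.Surjective f)
    (hk : IsPGroup p f.ker) (h : Cov n H m) : Cov n G m := by
  obtain ⟨s, h1, h2⟩ := h
  have : ∀ a : H, ∃ b : G, (∃ c : G, ¬ p ∣ orderOf c ∧ IsConj a (f c)) → ¬ p ∣ orderOf b ∧ IsConj a (f b) :=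
    fun a => by
      by_cases e : ∃ c : G, ¬ p ∣ orderOf c ∧ IsConj a (f c)
      · exact e.imp fun _ h _ => h
      · exact ⟨1, fun h => (e h).elim⟩
  choose g hg using this
  refine ⟨s.image g, le_trans (Nat.cast_le.2 card_image_le) h1, fun x hx => ?_⟩
  obtain ⟨a, ha, h3⟩ := h2 (f x) fun q hq hd => hx q hq (hd.trans (orderOf_map_dvd f x))
  have h4 : ¬ p ∣ orderOf x := fun e => (hx p Fact.out e).not_gt hn
  obtain ⟨h5, h6⟩ := hg a ⟨x, h4, h3⟩
  exact ⟨g a, mem_image_of_mem _ ha, isConj_of_regular_of_map hf hk h5 h4 (h6.symm.trans h3)⟩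

theorem cov_sum [Fact p.Prime] (hn : n + 1 = p) (P : Sylow p G) [Fintype (P : Subgroup G)] {w : G → ℝ}
    (h : ∀ u ∈ (P : Subgroup G), Cov n (centralizer ({u} : Set G)) (w u)) :
    Cov p G (∑ u : (P : Subgroup G), w u) := by
  choose s h1 h2 using fun u : (P : Subgroup G) => h u u.2
  refine ⟨univ.biUnion fun u : (P : Subgroup G) => (s u).image
    fun v : centralizer ({(u : G)} : Set G) => (u : G) * (v : G), ?_, fun x hx => ?_⟩
  · refine le_trans (Nat.cast_le.2 card_biUnion_le) ?_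
    rw [Nat.cast_sum]
    exact sum_le_sum fun u _ => le_trans (Nat.cast_le.2 card_image_le) (h1 u)
  obtain ⟨a, ha⟩ := exists_isPPart (p := p) Fact.out x
  obtain ⟨_, -, -, ⟨k, hk⟩, -⟩ := id ha
  obtain ⟨Q, hQ⟩ := (IsPGroup.of_card ((Nat.card_zpowers a).trans hk)).exists_le_sylow
  obtain ⟨g, rfl⟩ := exists_smul_eq G Q P
  have hu : g * a * g⁻¹ ∈ ((g • Q : Sylow p G) : Subgroup G) :=
    smul_mem_pointwise_smul a (MulAut.conj g) _ (hQ (mem_zpowers a))
  obtain ⟨b, e, hc, -, hb⟩ := Cfsg.IsPPart.conj Fact.out ha g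
  have hx' : orderOf (g * x * g⁻¹) = orderOf x := ((MulAut.conj g).orderOf_eq x)
  have hb' : b ∈ zpowers (g * x * g⁻¹) := by
    rw [eq_inv_mul_of_mul_eq e]
    exact mul_mem (inv_mem (Cfsg.IsPPart.mem_zpowers Fact.out (Cfsg.IsPPart.conj Fact.out ha g))) (mem_zpowers _)
  obtain ⟨v, hv, c, hc'⟩ := h2 ⟨_, hu⟩ ⟨b, mem_centralizer_singleton_iff.2 hc.symm.eq⟩ fun q hq hd => by
    rw [← orderOf_coe] at hd
    have h3 := hx q hq (hx' ▸ hd.trans (orderOf_dvd_of_mem_zpowers hb'))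
    have h4 : q ≠ p := fun e => hb (e ▸ hd)
    omega
  refine ⟨_, mem_biUnion.2 ⟨⟨_, hu⟩, mem_univ _, mem_image_of_mem _ hv⟩, ?_⟩
  refine IsConj.trans ?_ (isConj_iff.2 ⟨g, rfl⟩).symm
  have h3 : ((c : centralizer ({g * a * g⁻¹} : Set G)) : G) * v = b * (c : centralizer ({g * a * g⁻¹} : Set G)) :=
    congrArg Subtype.val hc'.eq
  have h4 := mem_centralizer_singleton_iff.1 (c : centralizer ({g * a * g⁻¹} : Set G)).2
  refine isConj_iff.2 ⟨(c : centralizer ({g * a * g⁻¹} : Set G)), ?_⟩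
  rw [← e, ← mul_assoc, h4, mul_assoc _ _ (v : G), h3]
  group

variable [MulAction G Ω]

/-- the centraliser of `u` permutes the cycles of `u` -/
noncomputable def cyc (u : G) : centralizer ({u} : Set G) →* Equiv.Perm (orbitRel.Quotient (zpowers u) Ω) :=
  letI : MulAction (centralizer ({u} : Set G)) (orbitRel.Quotient (zpowers u) Ω) :=
    { smul := fun c => Quotient.map' (fun a => (c : G) • a) (by
        rintro _ b ⟨⟨_, k, rfl⟩, rfl⟩
        refine ⟨⟨_, k, rfl⟩, ?_⟩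
        have : Commute (c : G) u := mem_centralizer_singleton_iff.1 c.2
        show u ^ k • (c : G) • b = (c : G) • u ^ k • b
        rw [smul_smul, smul_smul, (this.zpow_right k).eq])
      one_smul := fun q => Quotient.inductionOn' q fun a => congrArg Quotient.mk'' (one_smul G a)
      mul_smul := fun c d q => Quotient.inductionOn' q fun a => congrArg Quotient.mk'' (mul_smul (c : G) (d : G) a) }
  toPermHom _ _

omit [Finite G] in
theorem cyc_ker [FaithfulSMul G Ω] {u : G} {k : ℕ} (hu : u ^ p ^ k = 1) : IsPGroup p (cyc (Ω := Ω) u).ker := by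
  rintro ⟨c, hc⟩
  refine ⟨k, Subtype.ext (Subtype.ext (eq_of_smul_eq_smul (α := Ω) fun a => ?_))⟩
  have h1 : (Quotient.mk'' ((c : G) • a) : orbitRel.Quotient (zpowers u) Ω) = Quotient.mk'' a :=
    congrArg (fun f : Equiv.Perm _ => f (Quotient.mk'' a)) hc
  obtain ⟨⟨_, i, rfl⟩, hi⟩ := Quotient.exact' h1
  have hi : u ^ i • a = (c : G) • a := hi
  have h2 : Commute (c : G) (u ^ i) := (show Commute (c : G) u from mem_centralizer_singleton_iff.1 c.2).zpow_right i
  have h3 : ∀ j : ℕ, (c : G) ^ j • a = (u ^ i) ^ j • a := fun j => by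
    induction j with
    | zero => simp
    | succ j ih => rw [pow_succ', mul_smul, ih, smul_smul, (h2.pow_right j).eq, mul_smul, ← hi, smul_smul, pow_succ]
  show (c : G) ^ p ^ k • a = (1 : G) • a
  rw [h3, ← zpow_natCast, ← zpow_mul, mul_comm, zpow_mul, zpow_natCast, hu, one_zpow]

variable [Fintype Ω]

theorem card_cyc [Fact p.Prime] {u : G} (hu : IsPGroup p (zpowers u)) :
    p * Nat.card (orbitRel.Quotient (zpowers u) Ω) ≤ p * #{a : Ω | u • a = a} + #{a : Ω | u • a ≠ a} := by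
  have := Fintype.ofFinite (orbitRel.Quotient (zpowers u) Ω)
  have h1 := Finset.sum_fiberwise (univ : Finset Ω) (fun a => (Quotient.mk'' a : orbitRel.Quotient (zpowers u) Ω))
    fun a => if u • a = a then p else 1
  rw [sum_ite, sum_const, sum_const, smul_eq_mul, smul_eq_mul, mul_one, mul_comm] at h1
  rw [← h1, Nat.card_eq_fintype_card, mul_comm, ← smul_eq_mul, ← card_univ]
  refine card_nsmul_le_sum _ _ _ fun q _ => Quotient.inductionOn' q fun a => ?_
  by_cases e : u • a = a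
  · refine le_trans (le_of_eq (if_pos e).symm) (single_le_sum (f := fun a => if u • a = a then p else 1)
      (fun _ _ => Nat.zero_le _) (mem_filter.2 ⟨mem_univ _, rfl⟩))
  have hp := (Fact.out : p.Prime)
  refine le_trans ?_ (card_nsmul_le_sum _ _ 1 fun b _ => by split_ifs; exacts [hp.one_le, le_rfl])
  obtain ⟨k, hk⟩ := hu.card_orbit a
  have h2 : Nat.card (MulAction.orbit (zpowers u) a) = #{b : Ω | (Quotient.mk'' b : orbitRel.Quotient (zpowers u) Ω) =
      Quotient.mk'' a} := by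
    rw [← Fintype.card_subtype, ← Nat.card_eq_fintype_card]
    exact Nat.card_congr (Equiv.subtypeEquivRight fun b => by rw [Quotient.eq'']; rfl)
  rw [smul_eq_mul, mul_one, ← h2, hk]
  refine Nat.le_self_pow (fun e' => e ?_) p
  rw [e', pow_zero, Nat.card_eq_one_iff_unique] at hk
  exact congrArg Subtype.val (hk.1.elim (⟨u • a, ⟨u, mem_zpowers u⟩, rfl⟩ : MulAction.orbit (zpowers u) a)
    ⟨a, mem_orbit_self a⟩)

theorem dvd_fiber [Fact p.Prime] (hG : IsPGroup p G) {H : Subgroup G} (hH : H ≠ ⊤) :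
    p ∣ #{a : Ω | stabilizer G a = H} := by
  have := hG.isNilpotent
  have h1 := Group.normalizerCondition_of_isNilpotent H (lt_top_iff_ne_top.2 hH)
  let X : SubMulAction (normalizer (H : Set G)) Ω := ⟨{a | stabilizer G a = H}, fun g a (ha : _ = _) => by
    show stabilizer G ((g : G) • a) = H
    rw [stabilizer_smul_eq_stabilizer_map_conj, ha]
    exact (mem_normalizer_iff_map_conj_eq.1 g.2)⟩
  have h2 := (hG.to_subgroup (normalizer (H : Set G))).card_modEq_card_fixedPoints X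
  have : IsEmpty (fixedPoints (normalizer (H : Set G)) X) := ⟨fun a => h1.not_ge fun g hg => by
    have h3 : stabilizer G (a.1 : Ω) = H := a.1.2
    rw [← h3]
    exact congrArg Subtype.val (a.2 ⟨g, hg⟩)⟩
  rw [Nat.card_of_isEmpty (α := fixedPoints _ _), Nat.modEq_zero_iff_dvd] at h2
  rwa [← Fintype.card_subtype, ← Nat.card_eq_fintype_card]

theorem pow_le_of_dvd [Fact p.Prime] {k j : ℕ} (h : p ^ k ∣ (p * j)!) : p ^ k ≤ (2 * p) ^ j := by
  have hp := (Fact.out : p.Prime)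
  have h1 := (padicValNat_dvd_iff_le (Nat.factorial_ne_zero _)).1 h
  have h2 : (p - 1) * k ≤ p * j := (Nat.mul_le_mul_left _ h1).trans
    (sub_one_mul_padicValNat_factorial (p := p) (p * j) ▸ Nat.sub_le _ _)
  rw [mul_pow]
  by_cases e : k ≤ j
  · exact le_trans (Nat.pow_le_pow_right hp.pos e) (Nat.le_mul_of_pos_left _ (by positivity))
  obtain ⟨i, rfl⟩ := Nat.exists_eq_add_of_le (not_le.1 e).le
  obtain ⟨r, rfl⟩ : ∃ r, p = r + 1 := ⟨p - 1, (Nat.sub_add_cancel hp.pos).symm⟩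
  rw [pow_add, mul_comm]
  refine Nat.mul_le_mul_right _ (le_trans (Nat.pow_le_pow_left (Nat.lt_two_pow_self (n := r)) i) ?_)
  rw [← pow_mul]
  exact Nat.pow_le_pow_right two_pos (by rw [Nat.add_sub_cancel] at h2; nlinarith)

theorem card_supp [Fact p.Prime] [FaithfulSMul G Ω] [Fintype G] (hG : IsPGroup p G) (D : Finset Ω) {j : ℕ}
    (hj : #D = p * j) : #{u : G | ∀ a ∉ D, u • a = a} ≤ (2 * p) ^ j := by
  let F : Subgroup G := fixingSubgroup G {a | a ∉ D}
  have hF : ∀ u, u ∈ F ↔ ∀ a ∉ D, u • a = a := fun u => mem_fixingSubgroup_iff G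
  let X : SubMulAction F Ω := ⟨{a | a ∈ D}, fun g a (ha : a ∈ D) => by
    by_contra e
    have h1 : (g : G) • a = a := smul_left_cancel (g : G) ((hF g).1 g.2 _ e)
    exact e (show (g : G) • a ∈ D by rwa [h1])⟩
  have hi : Function.Injective (toPermHom F X) := (injective_iff_map_eq_one _).2 fun g hg =>
    Subtype.ext (eq_of_smul_eq_smul (α := Ω) fun a => by
      rw [OneMemClass.coe_one, one_smul]
      by_cases e : a ∈ D
      · exact congrArg Subtype.val (congrArg (fun f : Equiv.Perm X => f ⟨a, e⟩) hg)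
      · exact (hF g).1 g.2 a e)
  have h1 := card_dvd_of_injective _ hi
  obtain ⟨k, hk⟩ := IsPGroup.iff_card.1 (hG.to_subgroup F)
  have h2 : Nat.card X = p * j := by rw [← hj, ← Nat.card_eq_finsetCard]; rfl
  rw [Nat.card_perm, h2, hk] at h1
  refine le_trans (le_of_eq ?_) (pow_le_of_dvd h1)
  rw [← hk, ← Fintype.card_subtype, ← Nat.card_eq_fintype_card]
  exact Nat.card_congr (Equiv.subtypeEquivRight fun u => (hF u).symm)

theorem sum_cyc [Fact p.Prime] [FaithfulSMul G Ω] [Fintype G] (hG : IsPGroup p G) (h1 : 1 ≤ y) (h2 : y ≤ z)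
    (h3 : y ^ p + 2 * p * y ≤ z ^ p) :
    ∑ u : G, y ^ Nat.card (orbitRel.Quotient (zpowers u) Ω) ≤ z ^ Nat.card Ω := by
  have hp := (Fact.out : p.Prime)
  obtain ⟨I, hI⟩ : ∃ I : Finset (Subgroup G), I = ((univ : Finset Ω).image (stabilizer G)).erase ⊤ := ⟨_, rfl⟩
  have hd : ∀ H : Subgroup G, ∃ r, H ≠ ⊤ → #{a : Ω | stabilizer G a = H} = p * r := fun H => by
    by_cases e : H = ⊤
    · exact ⟨0, fun h => (h e).elim⟩
    · exact (dvd_fiber hG e).imp fun _ h _ => h
  choose r hr using hd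
  have hs : ∀ T ⊆ I, #{a : Ω | stabilizer G a ∈ T} = p * ∑ H ∈ T, r H := fun T hT => by
    rw [← sum_card_fiberwise_eq_card_filter, mul_sum]
    exact sum_congr rfl fun H hH => hr H (ne_of_mem_erase (hI ▸ hT hH))
  have hI' : ∀ a : Ω, stabilizer G a ∈ I ↔ stabilizer G a ≠ ⊤ := fun a => by
    simp [hI]
  obtain ⟨f, hf⟩ : ∃ f, f = #{a : Ω | stabilizer G a = ⊤} := ⟨_, rfl⟩
  have hc : Nat.card Ω = f + p * ∑ H ∈ I, r H := by
    rw [hf, ← hs I subset_rfl, filter_congr fun a _ => hI' a, card_filter_add_card_filter_not, Nat.card_eq_fintype_card,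
      card_univ]
  obtain ⟨T, hT0⟩ : ∃ T : G → Finset (Subgroup G), ∀ u, T u = {H ∈ I | u ∉ H} := ⟨_, fun _ => rfl⟩
  have hTI : ∀ u, T u ⊆ I := fun u => hT0 u ▸ filter_subset _ _
  have hT : ∀ u a, stabilizer G a ∈ T u ↔ u • a ≠ a := fun u a => by
    rw [hT0, mem_filter, hI', mem_stabilizer_iff]
    exact ⟨fun h => h.2, fun h => ⟨fun e => h (mem_stabilizer_iff.1 (e ▸ mem_top u)), h⟩⟩
  have hb : ∀ u : G, Nat.card (orbitRel.Quotient (zpowers u) Ω) ≤
      f + (∑ H ∈ T u, r H + p * ∑ H ∈ I \ T u, r H) := fun u => by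
    have h4 := card_cyc (Ω := Ω) (hG.to_subgroup (zpowers u))
    have h5 := hs (T u) (hTI u)
    rw [filter_congr fun a _ => hT u a] at h5
    have h6 := card_filter_add_card_filter_not (s := (univ : Finset Ω)) fun a => u • a = a
    have h7 := sum_sdiff (f := r) (hTI u)
    rw [card_univ, ← Nat.card_eq_fintype_card, hc, ← h7, mul_add] at h6
    refine Nat.le_of_mul_le_mul_left (h4.trans (le_of_eq ?_)) hp.pos
    simp only [ne_eq] at h5 ⊢
    rw [h5] at h6 ⊢
    rw [Nat.add_right_cancel (h6.trans (add_assoc _ _ _).symm)]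
    ring
  have y0 : 0 ≤ y := by linarith
  calc ∑ u : G, y ^ Nat.card (orbitRel.Quotient (zpowers u) Ω)
      ≤ ∑ u : G, y ^ (f + (∑ H ∈ T u, r H + p * ∑ H ∈ I \ T u, r H)) :=
        sum_le_sum fun u _ => pow_le_pow_right₀ h1 (hb u)
    _ = ∑ S ∈ I.powerset, ∑ u : G with T u = S, y ^ (f + (∑ H ∈ S, r H + p * ∑ H ∈ I \ S, r H)) :=
        (sum_fiberwise_of_maps_to' (fun u _ => mem_powerset.2 (hTI u))
          fun S => y ^ (f + (∑ H ∈ S, r H + p * ∑ H ∈ I \ S, r H))).symm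
    _ ≤ ∑ S ∈ I.powerset, y ^ f * ((∏ H ∈ S, (2 * p * y) ^ r H) * ∏ H ∈ I \ S, (y ^ p) ^ r H) := by
        refine sum_le_sum fun S hS => ?_
        have h4 := card_supp hG _ (hs S (mem_powerset.1 hS))
        have h5 : #{u : G | T u = S} ≤ (2 * p) ^ ∑ H ∈ S, r H := le_trans (card_le_card fun u hu =>
          mem_filter.2 ⟨mem_univ _, fun a ha => by_contra fun e => ha (mem_filter.2 ⟨mem_univ _,
            (mem_filter.1 hu).2 ▸ (hT u a).2 e⟩)⟩) h4
        rw [sum_const, nsmul_eq_mul, prod_pow_eq_pow_sum, prod_pow_eq_pow_sum, pow_add, pow_add, pow_mul, mul_pow,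
          mul_left_comm, mul_assoc]
        gcongr
        exact_mod_cast h5
    _ ≤ z ^ f * ∏ H ∈ I, (z ^ p) ^ r H := by
        rw [← mul_sum, ← prod_add]
        refine mul_le_mul (pow_le_pow_left₀ y0 h2 _) (prod_le_prod (fun _ _ => by positivity) fun H hH => ?_)
          (prod_nonneg fun _ _ => by positivity) (pow_nonneg (y0.trans h2) _)
        refine le_trans (pow_add_pow_le (by positivity) (by positivity) fun e => ?_)
          (pow_le_pow_left₀ (by positivity) (by linarith) _)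
        rw [hI] at hH
        obtain ⟨a, -, ha⟩ := mem_image.1 (mem_of_mem_erase hH)
        have h4 := hr H (ne_of_mem_erase hH)
        rw [e, mul_zero, card_eq_zero] at h4
        exact notMem_empty a (h4 ▸ mem_filter.2 ⟨mem_univ _, ha⟩)
    _ = _ := by rw [prod_pow_eq_pow_sum, ← pow_mul, ← pow_add, hc]

/-- the bound `y ^ d` at level `n` for all permutation groups -/
def All (n : ℕ) (y : ℝ) : Prop := ∀ (G Ω : Type) [Group G] [Finite G] [MulAction G Ω] [FaithfulSMul G Ω] [Finite Ω],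
  Cov n G (y ^ Nat.card Ω)

theorem All.step (h : All n y) (h1 : 1 ≤ y) (h2 : y ≤ z) (h3 : y ^ (n + 1) + 2 * (n + 1 : ℕ) * y ≤ z ^ (n + 1)) :
    All (n + 1) z := fun G Ω _ _ _ _ _ => by
  by_cases hp : (n + 1).Prime
  · have := Fact.mk hp
    have := Fintype.ofFinite Ω
    obtain ⟨P⟩ : Nonempty (Sylow (n + 1) G) := inferInstance
    have := Fintype.ofFinite (P : Subgroup G)
    obtain ⟨s, h4, h5⟩ := cov_sum rfl P (w := fun u => y ^ Nat.card (orbitRel.Quotient (zpowers u) Ω)) fun u hu => by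
      obtain ⟨k, hk⟩ := P.2 ⟨u, hu⟩
      refine Cov.lift n.lt_succ_self (cyc (Ω := Ω) u).rangeRestrict_surjective ?_ (h _ _)
      rw [MonoidHom.ker_rangeRestrict]
      exact cyc_ker (congrArg Subtype.val hk)
    refine ⟨s, h4.trans (le_trans (le_of_eq (sum_congr rfl fun u _ => ?_)) (sum_cyc P.2 h1 h2 h3)), h5⟩
    refine congrArg _ (Nat.card_congr (Quotient.congrRight fun a b => ?_))
    exact ⟨fun ⟨⟨_, k, rfl⟩, e⟩ => ⟨⟨_, k, rfl⟩, e⟩, fun ⟨⟨_, k, rfl⟩, e⟩ => ⟨⟨_, k, rfl⟩, e⟩⟩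
  · obtain ⟨s, h4, h5⟩ := h G Ω
    refine ⟨s, h4.trans (pow_le_pow_left₀ (by linarith) h2 _), fun x hx => h5 x fun q hq hd => ?_⟩
    have h6 := hx q hq hd
    have : q ≠ n + 1 := fun e => hp (e ▸ hq)
    omega

theorem all_one : All 1 1 := fun G Ω _ _ _ _ _ => ⟨{1}, by simp, fun x hx => ⟨1, mem_singleton_self _, by
  rw [orderOf_eq_one_iff.1 (Nat.eq_one_iff_not_exists_prime_dvd.2 fun q hq hd => (hx q hq hd).not_gt hq.one_lt)]⟩⟩

theorem all (n : ℕ) : All (n + 2) (17 / 4 - 2 * (1 / 2) ^ n) := by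
  induction n with
  | zero => exact all_one.step le_rfl (by norm_num) (by norm_num)
  | succ n ih =>
    have h1 : (0 : ℝ) < (1 / 2) ^ n := by positivity
    have h2 : (1 / 2 : ℝ) ^ n ≤ 1 := pow_le_one₀ (by norm_num) (by norm_num)
    refine ih.step (by linarith) (by rw [pow_succ]; linarith) ?_
    rw [show (17 / 4 - 2 * (1 / 2) ^ (n + 1) : ℝ) = 17 / 4 - 2 * (1 / 2) ^ n + (1 / 2) ^ n by ring]
    refine le_trans ?_ (pow_add_mul_le_add_pow (by linarith) (by linarith) _)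
    have h3 : (2 : ℝ) ≤ 17 / 4 - 2 * (1 / 2) ^ n := by linarith
    generalize (17 / 4 - 2 * (1 / 2) ^ n : ℝ) = y at *
    have h4 : (2 : ℝ) ^ (n + 1) ≤ y ^ (n + 1) := pow_le_pow_left₀ (by norm_num) h3 _
    have h5 : (2 : ℝ) ^ (n + 1) * (1 / 2) ^ n = 2 := by rw [pow_succ', mul_assoc, ← mul_pow]; norm_num
    have h6 : 2 ≤ y ^ (n + 1) * (1 / 2) ^ n := h5.ge.trans (mul_le_mul_of_nonneg_right h4 h1.le)
    rw [Nat.add_sub_cancel, pow_succ y (n + 1)]
    have h7 := mul_le_mul_of_nonneg_left h6 (show 0 ≤ ((n + 2 + 1 : ℕ) : ℝ) * y by positivity)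
    linarith

theorem card_conj_le [FaithfulSMul G Ω] : (Nat.card (ConjClasses G) : ℝ) ≤ (17 / 4) ^ Nat.card Ω := by
  obtain ⟨s, h1, h2⟩ := all (Nat.card G) G Ω
  refine le_trans (Nat.cast_le.2 ?_) (h1.trans (pow_le_pow_left₀ ?_ ?_ _))
  · rw [← Nat.card_eq_finsetCard]
    refine Nat.card_le_card_of_surjective (fun x : s => ConjClasses.mk x.1) fun C => ?_
    obtain ⟨x, rfl⟩ := ConjClasses.mk_surjective C
    obtain ⟨y, hy, e⟩ := h2 x fun q _ hd =>
      (Nat.le_of_dvd Nat.card_pos (hd.trans (orderOf_dvd_natCard x))).trans (by omega)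
    exact ⟨⟨y, hy⟩, ConjClasses.mk_eq_mk_iff_isConj.2 e⟩
  · have : (1 / 2 : ℝ) ^ Nat.card G ≤ 1 := pow_le_one₀ (by norm_num) (by norm_num)
    linarith
  · have : (0 : ℝ) < (1 / 2) ^ Nat.card G := by positivity
    linarith

end Cfsg.Lib.Block2.KPerm
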