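import Cfsg.Agent.Lib.Block2.Star
import Cfsg.Agent.Lib.Amalg.PIrr

/-! The Knörr–Robinson alternating sum over normal chains. -/

set_option autoImplicit false
set_option linter.dupNamespace false
set_option linter.unusedSectionVars false
set_option linter.style.haveILetI false

open Cfsg Cfsg.Lib.Block Cfsg.Lib.Block2 Cfsg.Lib.Char Cfsg.Lib.Amalg MonoidAlgebra Subgroup
open Cfsg.Lib.Small
open scoped ComplexConjugate

namespace Cfsg.Lib.Block2

variable {G : Type*} [Group G] [Finite G] {p : ℕ} [Fact p.Prime]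

section chain

variable (p) in
/-- Chains of nontrivial `p`-subgroups normal in the largest member (possibly empty). -/
structure NCh (s : Finset (Subgroup G)) : Prop where
  chain : ∀ Q ∈ s, ∀ R ∈ s, Q ≤ R ∨ R ≤ Q
  ne : ∀ Q ∈ s, Q ≠ ⊥ ∧ IsPGroup p Q
  norm : ∀ Q ∈ s, s.sup id ≤ 𝐍 Q

/-- Stabilizer of a chain. -/
def nch (s : Finset (Subgroup G)) : Subgroup G := ⨅ Q ∈ s, 𝐍 Q

theorem mem_nch {s : Finset (Subgroup G)} {g : G} : g ∈ nch s ↔ ∀ Q ∈ s, g ∈ 𝐍 Q := by
  simp [nch, mem_iInf]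

theorem sup_mem_of_chain {s : Finset (Subgroup G)} (h : ∀ Q ∈ s, ∀ R ∈ s, Q ≤ R ∨ R ≤ Q) :
    s.sup id = ⊥ ∨ s.sup id ∈ s :=
  Finset.sup_induction (p := fun T => T = ⊥ ∨ T ∈ s) (.inl rfl) (fun a ha b hb => by
    rcases ha with rfl | ha
    · rwa [bot_sup_eq]
    rcases hb with rfl | hb
    · rw [sup_bot_eq]; exact .inr ha
    rcases h a ha b hb with e | e
    · rw [sup_eq_right.2 e]; exact .inr hb
    · rw [sup_eq_left.2 e]; exact .inr ha) fun b hb => .inr hb

theorem nch_le_norm_sup {s t : Finset (Subgroup G)} (h : t ⊆ s) : nch s ≤ 𝐍 (t.sup id) := by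
  rw [Finset.sup_id_eq_sSup, sSup_eq_iSup]
  exact le_normalizer_iSup fun Q => le_normalizer_iSup fun hQ g hg => mem_nch.1 hg Q (h hQ)

theorem NCh.isPGroup {s : Finset (Subgroup G)} (h : NCh p s) : IsPGroup p (s.sup id : Subgroup G) := by
  rcases sup_mem_of_chain h.chain with e | e
  · rw [e]; exact IsPGroup.of_bot
  · exact (h.ne _ e).2

theorem NCh.tp_le' {s : Finset (Subgroup G)} (h : NCh p s) : s.sup id ≤ nch s :=
  fun _ hg => mem_nch.2 fun Q hQ => h.norm Q hQ hg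

open scoped Classical in
/-- The subgroup added to or removed from a chain fixed by `u`. -/
noncomputable def nr (u : G) (s : Finset (Subgroup G)) : Subgroup G :=
  (s.filter (u ∉ ·)).sup id ⊔ ncl (zpowers u) (s.sup id ⊔ zpowers u)

variable {s : Finset (Subgroup G)} {u : G}

theorem mem_nr : u ∈ nr u s :=
  mem_sup_right (cj_le_ncl (one_mem _) (by rw [cj_one]; exact mem_zpowers u))

open scoped Classical in
theorem nr_le : nr u s ≤ s.sup id ⊔ zpowers u :=
  sup_le ((Finset.sup_mono (Finset.filter_subset _ _)).trans le_sup_left) (ncl_le le_sup_right)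

theorem le_nr {Q : Subgroup G} (hQ : Q ∈ s) (hu : u ∉ Q) : Q ≤ nr u s := by
  classical
  exact le_sup_of_le_left (Finset.le_sup (f := id) (Finset.mem_filter.2 ⟨hQ, hu⟩))

theorem NCh.tp_le (h : NCh p s) (hu : u ∈ nch s) : s.sup id ⊔ zpowers u ≤ nch s :=
  sup_le h.tp_le' (zpowers_le.2 hu)

theorem NCh.nr_le (h : NCh p s) (hu : u ∈ nch s) {Q : Subgroup G} (hQ : Q ∈ s) (huQ : u ∈ Q) :
    nr u s ≤ Q := by
  classical
  refine sup_le (Finset.sup_le fun R hR => ?_) (iSup_le fun g => ?_)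
  · rw [Finset.mem_filter] at hR
    exact (h.chain R hR.1 Q hQ).resolve_right fun e => hR.2 (e huQ)
  · exact cj_le_of_le_of_mem_normalizer (zpowers_le.2 huQ) (mem_nch.1 (h.tp_le hu g.2) Q hQ)

open scoped Classical in
theorem le_norm_nr {K : Subgroup G} (h1 : K ≤ nch s) (h2 : K ≤ 𝐍 (s.sup id ⊔ zpowers u))
    (h3 : K ≤ 𝐍 (ncl (zpowers u) (s.sup id ⊔ zpowers u))) : K ≤ 𝐍 (nr u s) := fun g hg => by
  rw [← cj_eq_self_iff, nr, cj_sup, cj_of_mem_normalizer (h3 hg),
    cj_of_mem_normalizer (nch_le_norm_sup (Finset.filter_subset _ _) (h1 hg))]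

theorem NCh.tp_le_norm (h : NCh p s) (hu : u ∈ nch s) : s.sup id ⊔ zpowers u ≤ 𝐍 (nr u s) :=
  le_norm_nr (h.tp_le hu) le_normalizer (le_normalizer_iSup_cj _ _)

theorem inf_le_norm_nr : nch s ⊓ centralizer {u} ≤ 𝐍 (nr u s) := by
  have h1 : nch s ⊓ centralizer {u} ≤ 𝐍 (zpowers u) :=
    inf_le_right.trans (by rw [← centralizer_zpowers_eq]; exact cent_le_norm _)
  have h2 : nch s ⊓ centralizer {u} ≤ 𝐍 (s.sup id ⊔ zpowers u) := fun g hg => by
    rw [← cj_eq_self_iff, cj_sup, cj_of_mem_normalizer (h1 hg),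
      cj_of_mem_normalizer (nch_le_norm_sup subset_rfl hg.1)]
  exact le_norm_nr inf_le_left h2 (le_norm_ncl h1 h2)

theorem NCh.isPGroup_tp (h : NCh p s) (hu : u ∈ nch s) (hp : ∃ k, orderOf u = p ^ k) :
    IsPGroup p (s.sup id ⊔ zpowers u : Subgroup G) :=
  isPGroup_sup_of_le_normalizer' h.isPGroup (isPGroup_zpowers hp)
    (zpowers_le.2 (nch_le_norm_sup subset_rfl hu))

theorem nr_eq_of_eq {t : Finset (Subgroup G)} (h1 : ∀ Q, u ∉ Q → (Q ∈ t ↔ Q ∈ s))
    (h2 : t.sup id ⊔ zpowers u = s.sup id ⊔ zpowers u) : nr u t = nr u s := by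
  unfold nr
  rw [h2]
  congr 2
  ext Q
  simp only [Finset.mem_filter]
  exact ⟨fun h => ⟨(h1 Q h.2).1 h.1, h.2⟩, fun h => ⟨(h1 Q h.2).2 h.1, h.2⟩⟩

theorem NCh.insert [DecidableEq (Subgroup G)] (h : NCh p s) (hu : u ∈ nch s)
    (hp : ∃ k, orderOf u = p ^ k) (h1 : u ≠ 1) :
    NCh p (insert (nr u s) s) ∧ u ∈ nch (insert (nr u s) s) ∧
      (insert (nr u s) s).sup id ⊔ zpowers u = s.sup id ⊔ zpowers u ∧
      nch (insert (nr u s) s) ⊓ centralizer {u} = nch s ⊓ centralizer {u} := by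
  have e : (Insert.insert (nr u s) s).sup id ⊔ zpowers u = s.sup id ⊔ zpowers u := by
    rw [Finset.sup_insert, sup_assoc]
    exact sup_eq_right.2 Block2.nr_le
  have e1 : ∀ Q ∈ s, nr u s ≤ Q ∨ Q ≤ nr u s := fun Q hQ =>
    (em (u ∈ Q)).imp (h.nr_le hu hQ) (le_nr hQ)
  have e2 : nch (Insert.insert (nr u s) s) = 𝐍 (nr u s) ⊓ nch s := by
    ext g; simp [mem_nch]
  refine ⟨⟨fun Q hQ R hR => ?_, fun Q hQ => ?_, fun Q hQ => ?_⟩, ?_, e, ?_⟩
  · rcases Finset.mem_insert.1 hQ with rfl | hQ <;> rcases Finset.mem_insert.1 hR with rfl | hR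
    exacts [.inl le_rfl, e1 R hR, (e1 Q hQ).symm, h.chain Q hQ R hR]
  · rcases Finset.mem_insert.1 hQ with rfl | hQ
    · exact ⟨fun e => h1 (mem_bot.1 (e ▸ mem_nr)), (h.isPGroup_tp hu hp).to_le Block2.nr_le⟩
    · exact h.ne Q hQ
  · refine (le_sup_left.trans e.le).trans ?_
    rcases Finset.mem_insert.1 hQ with rfl | hQ
    · exact h.tp_le_norm hu
    · exact fun g hg => mem_nch.1 (h.tp_le hu hg) Q hQ
  · rw [e2]; exact ⟨le_normalizer mem_nr, hu⟩
  · rw [e2, inf_assoc]; exact inf_eq_right.2 inf_le_norm_nr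

theorem NCh.erase [DecidableEq (Subgroup G)] (h : NCh p s) (hu : u ∈ nch s)
    (hp : ∃ k, orderOf u = p ^ k) (hR : nr u s ∈ s) :
    NCh p (s.erase (nr u s)) ∧ u ∈ nch (s.erase (nr u s)) ∧
      (s.erase (nr u s)).sup id ⊔ zpowers u = s.sup id ⊔ zpowers u := by
  have h0 : (s.erase (nr u s)).sup id ≤ s.sup id := Finset.sup_mono (Finset.erase_subset _ _)
  refine ⟨⟨fun Q hQ R hR => h.chain Q (Finset.mem_of_mem_erase hQ) R (Finset.mem_of_mem_erase hR),
    fun Q hQ => h.ne Q (Finset.mem_of_mem_erase hQ),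
    fun Q hQ => h0.trans (h.norm Q (Finset.mem_of_mem_erase hQ))⟩,
    mem_nch.2 fun Q hQ => mem_nch.1 hu Q (Finset.mem_of_mem_erase hQ), ?_⟩
  by_contra hne
  have h2 := lt_of_le_of_ne (sup_le_sup_right h0 (zpowers u)) hne
  obtain ⟨X, ⟨h3, h4⟩, hm⟩ := Set.Finite.exists_maximal (Set.toFinite
    {X | (s.erase (nr u s)).sup id ⊔ zpowers u ≤ X ∧ X < s.sup id ⊔ zpowers u}) ⟨_, le_rfl, h2⟩
  have h5 := lt_inf_normalizer_of_lt (h.isPGroup_tp hu hp) h4
  have h6 : s.sup id ⊔ zpowers u ≤ 𝐍 X := by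
    by_contra hn
    exact h5.not_ge (hm ⟨h3.trans h5.le, lt_of_le_of_ne inf_le_left fun e => hn (e ▸ inf_le_right)⟩
      h5.le)
  have h7 : ∀ Q ∈ s, Q ≠ nr u s → Q ≤ X := fun Q hQ e =>
    (Finset.le_sup (f := id) (Finset.mem_erase.2 ⟨e, hQ⟩)).trans (le_sup_left.trans h3)
  refine h4.not_ge (sup_le (Finset.sup_le fun Q hQ => ?_) (le_sup_right.trans h3))
  by_cases e : Q = nr u s
  · classical
    rw [e]
    refine sup_le (Finset.sup_le fun R hR => ?_) (iSup_le fun g => ?_)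
    · rw [Finset.mem_filter] at hR
      exact h7 R hR.1 fun e => hR.2 (e ▸ mem_nr)
    · exact cj_le_of_le_of_mem_normalizer (le_sup_right.trans h3) (h6 g.2)
  · exact h7 Q hQ e

theorem sum_nch_eq_zero (hp : ∃ k, orderOf u = p ^ k) (h1 : u ≠ 1)
    (S : Finset (Finset (Subgroup G))) (hS : ∀ s, s ∈ S ↔ NCh p s ∧ u ∈ nch s)
    (F : Subgroup G → Subgroup G → ℂ) :
    ∑ s ∈ S, (-1) ^ s.card * F (nch s ⊓ centralizer {u}) (s.sup id ⊔ zpowers u) = 0 := by
  classical
  have key : ∀ s ∈ S, nr u s ∈ s → s.erase (nr u s) ∈ S ∧ nr u (s.erase (nr u s)) = nr u s :=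
    fun s hs hR => by
    obtain ⟨h, hu⟩ := (hS s).1 hs
    obtain ⟨a, b, c⟩ := h.erase hu hp hR
    exact ⟨(hS _).2 ⟨a, b⟩, nr_eq_of_eq (fun Q hQ => by
      rw [Finset.mem_erase, and_iff_right fun e : Q = _ => hQ (e ▸ mem_nr)]) c⟩
  have key' : ∀ s ∈ S, insert (nr u s) s ∈ S ∧ nr u (insert (nr u s) s) = nr u s :=
    fun s hs => by
    obtain ⟨h, hu⟩ := (hS s).1 hs
    obtain ⟨a, b, c, -⟩ := h.insert hu hp h1
    exact ⟨(hS _).2 ⟨a, b⟩, nr_eq_of_eq (fun Q hQ => by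
      rw [Finset.mem_insert, or_iff_right fun e : Q = _ => hQ (e ▸ mem_nr)]) c⟩
  have key2 : ∀ s ∈ S, nr u s ∉ s →
      (-1) ^ s.card * F (nch s ⊓ centralizer {u}) (s.sup id ⊔ zpowers u) +
      (-1) ^ (insert (nr u s) s).card * F (nch (insert (nr u s) s) ⊓ centralizer {u})
        ((insert (nr u s) s).sup id ⊔ zpowers u) = 0 := fun s hs hR => by
    obtain ⟨h, hu⟩ := (hS s).1 hs
    obtain ⟨-, -, c, d⟩ := h.insert hu hp h1
    rw [c, d, Finset.card_insert_of_notMem hR]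
    ring
  refine Finset.sum_involution
    (fun s _ => if nr u s ∈ s then s.erase (nr u s) else insert (nr u s) s) (fun s hs => ?_)
    (fun s hs _ => ?_) (fun s hs => ?_) fun s hs => ?_
  · split_ifs with hR
    · obtain ⟨a, b⟩ := key s hs hR
      have := key2 _ a (by rw [b]; exact Finset.notMem_erase _ _)
      rwa [b, Finset.insert_erase hR, add_comm] at this
    · exact key2 s hs hR
  · split_ifs with hR
    · exact fun e => Finset.notMem_erase (nr u s) s (e.symm ▸ hR)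
    · exact fun e => hR (by rw [← e]; exact (key' s hs).2.symm ▸ Finset.mem_insert_self _ _)
  · split_ifs with hR
    exacts [(key s hs hR).1, (key' s hs).1]
  · by_cases hR : nr u s ∈ s
    · simp only [if_pos hR, (key s hs hR).2, Finset.notMem_erase, if_false, Finset.insert_erase hR]
    · simp only [if_neg hR, (key' s hs).2, Finset.mem_insert_self, if_true, Finset.erase_insert hR]

end chain

omit [Fact p.Prime] in
theorem blockRank_irrCongr {K : Type*} [Group K] [Finite K] (e : K ≃* G)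
    (A : Set (IrrCharacter K)) : blockRank p (irrCongr e '' A) = blockRank p A := by
  rw [← blockRank_preimage_infl_of_le (A := A) (f := e.toMonoidHom) e.surjective
    (fun x hx => by rwa [MulEquiv.coe_toMonoidHom, e.orderOf_eq]) fun χ _ => by
      rw [(MonoidHom.ker_eq_bot_iff _).2 e.injective]; exact bot_le, Equiv.image_eq_preimage_symm]
  rfl

omit [Fact p.Prime] in
theorem bset_top {M : Ideal AlgInt} [M.IsMaximal] {A : Set (IrrCharacter G)}
    (hA : IsBlockUnion M A) : bset ⊤ (eB M A) = irrCongr topEquiv.symm '' A := by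
  rw [← bset_EB (hA.irrCongr topEquiv.symm)]
  congr 1
  ext g
  rw [show g = ((topEquiv.symm g : (⊤ : Subgroup G)) : G) from rfl, coeff_EB_coe, eB_irrCongr]
  simp

variable {M : Ideal AlgInt} [M.IsMaximal] [Fintype G] {H T : Subgroup G}
  {z : MonoidAlgebra (resField M) G}

open scoped Classical in
/-- A subgroup as a finite set. -/
noncomputable def fsub' (H : Subgroup G) : Finset G := Finset.univ.filter (· ∈ H)

theorem mem_fsub' {g : G} : g ∈ fsub' H ↔ g ∈ H := by simp [fsub']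

theorem btr_IB (A : Set (IrrCharacter H)) (c : H) :
    btr (fsub' H) c c (IB A) = ∑ᶠ ξ ∈ A, ξ.1 c * conj (ξ.1 c) := by
  classical
  rw [btr_apply, Finset.sum_subtype (fsub' H) (p := (· ∈ H)) fun _ => mem_fsub', finsum_mem_irr]
  have e : ∀ x : H, (IB A).coeff (x * c * (x : G)⁻¹ * (c : G)⁻¹) =
      blockCoeff A (x * c * x⁻¹ * c⁻¹) := fun x => coeff_incl_coe _ _ (x * c * x⁻¹ * c⁻¹)
  simp only [e, blockCoeff_eq_sum]
  rw [← Finset.mul_sum, Finset.sum_comm, Finset.mul_sum]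
  refine Finset.sum_congr rfl fun ξ _ => ?_
  have h0 : (Nat.card H : ℂ) ≠ 0 := Nat.cast_ne_zero.2 Nat.card_pos.ne'
  have h1 := ξ.2.apply_one_ne_zero
  have := sum_apply_mul_conj ξ.2 c c⁻¹
  rw [← Finset.mul_sum, Finset.sum_congr rfl (g := fun k => ξ.1 (c * (k * c⁻¹ * k⁻¹))) fun k _ => by
    congr 1; group, this, ξ.2.isCharacter.apply_inv]
  field_simp

open scoped Classical in
theorem card_mul_sub_rank (hM : IsPModular p M) {A : Set (IrrCharacter H)} (hA : IsBlockUnion M A) :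
    (Nat.card H : ℂ) * (Nat.card A - blockRank p A) =
      ∑ c with p ∣ orderOf c, if c ∈ H then btr (fsub' H) c c (IB A) else 0 := by
  have h1 : (Nat.card H : ℂ) * Nat.card A = ∑ g : H, ∑ᶠ χ ∈ A, χ.1 g * conj (χ.1 g) := by
    simp only [finsum_mem_irr]
    rw [Finset.sum_comm, card_block_eq]
    simp only [← card_mul_classInner, fun χ : IrrCharacter H => χ.2.classInner_self]
    simp [mul_comm]
  rw [mul_sub, h1, card_mul_rank_eq hM hA, ← Finset.sum_sub_distrib, ← Finset.sum_filter,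
    Finset.filter_comm, Finset.sum_filter, Finset.sum_subtype _ (p := (· ∈ H)) (by simp)]
  refine Finset.sum_congr rfl fun c _ => ?_
  rw [btr_IB, Subgroup.orderOf_coe]
  split_ifs <;> simp

theorem btr_lft_eq (hM : IsPModular p M) (hz : CenIn H z) (hzz : z * z = z) {c : G} (hc : c ∈ H) :
    btr (fsub' H) c c (lft H z) = btr (fsub' (H ⊓ centralizer {pp p c})) c c
      (lft (H ⊓ centralizer {pp p c}) (brauer (zpowers (pp p c)) z)) := by
  classical
  have hu := isPPart_pp (p := p) c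
  have hc' : c ∈ H ⊓ centralizer {pp p c} := ⟨hc, mem_centralizer_pp c⟩
  have h1 : CenIn (H ⊓ centralizer {pp p c}) (brauer (zpowers (pp p c)) z) := by
    rw [← centralizer_zpowers_eq]; exact hz.brauer_inf_centralizer
  have h2 := brauer_idem hM (isPGroup_zpowers hu.orderOf_eq)
    (hz.fixed.mono (zpowers_le.2 (hu.mem hM.1 hc))) hzz
  have hσ : ∀ x, c * x * c⁻¹ ∈ fsub' H ↔ x ∈ fsub' H := fun x => by
    rw [mem_fsub', mem_fsub', mul_mem_cancel_right (inv_mem hc), mul_mem_cancel_left hc]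
  rw [btr_eq_of_brauer (C := H) hM isInt_lft lft_mul_self cenIn_lft isInt_lft lft_mul_self
    (cenIn_lft.supp.mono inf_le_left) (fun a ha x hx => mem_fsub'.2 (mul_mem ha (mem_fsub'.1 hx)))
    hu hu hσ (cenIn_lft.fixed.cjA_eq hc) (cenIn_lft.fixed.cjA_eq hc')
    (by rw [redA_lft hz hzz, redA_lft h1 h2]),
    btr_eq_filter hM isInt_lft lft_mul_self cenIn_lft.supp inf_le_right
    (fun a ha x hx => mem_fsub'.2 (mul_mem ha.1 (mem_fsub'.1 hx))) hu hu hσ
    (cenIn_lft.fixed.cjA_eq hc')]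
  congr 2
  ext x
  simp [mem_fsub', mem_centralizer_singleton_iff, eq_comm]

omit [Fintype G] in
theorem bset_brauer (hM : IsPModular p M) (hT : IsPGroup p T) (h1 : T ≤ H) (h2 : H ≤ 𝐍 T)
    (hz : IsFixed H z) : bset H (brauer T z) = bset H z := by
  ext ξ
  have hb := isPBlock_blockOf (M := M) ξ
  have := (blk_EB hb).lamE_brauer hM hT h1 h2 hz
  rw [lamE_EB hb (mem_blockOf_self ξ), lamE_EB hb (mem_blockOf_self ξ)] at this
  simp only [bset, Set.mem_ofPred_eq, this]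

omit [Fintype G] in
theorem sum_nch_rank (hM : IsPModular p M) (hz : IsCen z) (hzz : z * z = z)
    (S : Finset (Finset (Subgroup G))) (hS : ∀ s, s ∈ S ↔ NCh p s) :
    ∑ s ∈ S, (-1) ^ s.card * ((Nat.card (nch s) : ℂ) *
      (Nat.card (bset (nch s) z) - blockRank p (bset (nch s) z))) = 0 := by
  classical
  haveI := Fintype.ofFinite G
  simp only [card_mul_sub_rank hM isBlockUnion_bset, Finset.mul_sum]
  rw [Finset.sum_comm]
  refine Finset.sum_eq_zero fun c hc => ?_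
  have hu := isPPart_pp (p := p) c
  refine Eq.trans ?_ (sum_nch_eq_zero hu.orderOf_eq
    (fun e => (hu.eq_one_iff hM.1).1 e (Finset.mem_filter.1 hc).2)
    (S.filter (pp p c ∈ nch ·)) (by simp [hS])
    fun X Y => if c ∈ X then btr (fsub' X) c c (lft X (brauer Y z)) else 0)
  rw [Finset.sum_filter]
  refine Finset.sum_congr rfl fun s hs => ?_
  have h := (hS s).1 hs
  by_cases hc : c ∈ nch s
  · have h1 : CenIn (nch s) (brauer (s.sup id) z) := hz.cenIn_top.brauer_of_le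
      (fun g hg => mem_nch.2 fun Q hQ => cent_le_norm _
        (centralizer_le (show Q ≤ s.sup id from Finset.le_sup (f := id) hQ) hg.2)) le_top (nch_le_norm_sup subset_rfl)
    rw [if_pos hc, if_pos (hu.mem hM.1 hc), if_pos ⟨hc, mem_centralizer_pp c⟩, sup_comm, brauer_sup,
      ← btr_lft_eq hM h1 (brauer_idem hM h.isPGroup (hz.isFixed _) hzz) hc, lft,
      bset_brauer hM h.isPGroup h.tp_le' (nch_le_norm_sup subset_rfl) (hz.isFixed _)]
  · rw [if_neg hc, if_neg (c := c ∈ nch s ⊓ _) fun h => hc h.1]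
    simp

end Cfsg.Lib.Block2
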