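import Mathlib

/-! A permutation group of degree `n` with `r` orbits has at most `2 ^ (n - r)` conjugacy classes: follow the cycles
of an element point by point. -/

set_option autoImplicit false

namespace Cfsg.Lib.Block2.KTwo

open Subgroup Finset MulAction Equiv
open scoped Classical

variable {α : Type*} [Fintype α]

/-- the number of orbits -/
noncomputable abbrev orbs (K : Subgroup (Perm α)) : ℕ := Nat.card (orbitRel.Quotient K α)

/-- `s` meets every orbit of `H` (acting by conjugation) on the coset `g K` -/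
def Meets (s : Finset (Perm α)) (K H : Subgroup (Perm α)) (g : Perm α) : Prop :=
  ∀ k ∈ K, ∃ y ∈ s, ∃ h ∈ H, h * y * h⁻¹ = g * k

theorem orbs_le (K : Subgroup (Perm α)) : orbs K ≤ Fintype.card α :=
  (Nat.card_le_card_of_surjective _ Quotient.mk''_surjective).trans Nat.card_eq_fintype_card.le

theorem orbs_add {K H : Subgroup (Perm α)} {g : Perm α} (h : ∀ x ∈ H, g⁻¹ * x * g ∈ K) (a : α)
    (B : Finset (orbitRel.Quotient H α)) (hB : ∀ q ∈ B, ∃ k ∈ K, q = Quotient.mk'' (g (k a))) :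
    orbs K + #B ≤ orbs H + 1 := by
  have := Fintype.ofFinite (orbitRel.Quotient H α)
  have := Fintype.ofFinite (orbitRel.Quotient K α)
  have hg : ∀ x, g⁻¹ (g x) = x := fun x => by simp
  let f : orbitRel.Quotient H α → orbitRel.Quotient K α := Quotient.map' (fun x => g⁻¹ x) (by
    rintro _ b ⟨⟨x, hx⟩, rfl⟩
    exact ⟨⟨_, h x hx⟩, by simp [Perm.smul_def]⟩)
  have h1 : (univ : Finset (orbitRel.Quotient K α)) ⊆ insert (Quotient.mk'' a) (Bᶜ.image f) := fun q _ =>
    Quotient.inductionOn' q fun x => by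
      by_cases e : (Quotient.mk'' (g x) : orbitRel.Quotient H α) ∈ B
      · obtain ⟨k, hk, e⟩ := hB _ e
        have h2 : (Quotient.mk'' (g⁻¹ (g x)) : orbitRel.Quotient K α) = Quotient.mk'' (g⁻¹ (g (k a))) := congrArg f e
        rw [hg, hg] at h2
        exact mem_insert.2 (Or.inl (h2.trans (Quotient.sound' ⟨⟨k, hk⟩, rfl⟩)))
      · exact mem_insert_of_mem (mem_image.2 ⟨_, mem_compl.2 e, congrArg Quotient.mk'' (hg x)⟩)
  have h2 := (card_le_card h1).trans ((card_insert_le _ _).trans (Nat.succ_le_succ card_image_le))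
  have h3 := card_add_card_compl B
  rw [card_univ] at h2
  rw [orbs, orbs, Nat.card_eq_fintype_card, Nat.card_eq_fintype_card]
  omega

/-- the statement for `K` -/
def Good (K : Subgroup (Perm α)) (g : Perm α) (a : α) : Prop :=
  (∀ x ∈ K ⊓ stabilizer (Perm α) a, g⁻¹ * x * g ∈ K) →
    ∃ s, Meets s K (K ⊓ stabilizer (Perm α) a) g ∧ #s * 2 ^ orbs K ≤ 2 ^ Fintype.card α

theorem step {K : Subgroup (Perm α)} {g : Perm α} {a : α} (ih : ∀ g b, Good (K ⊓ stabilizer (Perm α) a) g b) :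
    Good K g a := fun h => by
  generalize hH : K ⊓ stabilizer (Perm α) a = H at *
  have hm : ∀ x, x ∈ H ↔ x ∈ K ∧ x a = a := fun x => by rw [← hH]; rfl
  have := Fintype.ofFinite (orbitRel.Quotient H α)
  obtain ⟨B, hB⟩ : ∃ B : Finset (orbitRel.Quotient H α), ∀ q, q ∈ B ↔ ∃ k ∈ K, q = Quotient.mk'' (g (k a)) :=
    ⟨univ.filter fun q => ∃ k ∈ K, q = Quotient.mk'' (g (k a)), fun q => by simp⟩
  have h1 := orbs_add h a B fun q => (hB q).1
  choose! k hk e using fun q => (hB q).1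
  have h2 : ∀ q ∈ B, ∃ s, Meets s H H (g * k q) ∧ #s * 2 ^ orbs H ≤ 2 ^ Fintype.card α := fun q hq => by
    obtain ⟨s, h3, h4⟩ := ih (g * k q) (g (k q a)) fun x hx => (hm _).2 ⟨by
      have := mul_mem (mul_mem (inv_mem (hk q hq)) (h x hx.1)) (hk q hq)
      simpa only [mul_inv_rev, mul_assoc] using this, by
      have h3 : x (g (k q a)) = g (k q a) := hx.2
      simp [h3]⟩
    exact ⟨s, fun x hx => (h3 x hx).imp fun y ⟨hy, z, hz, e⟩ => ⟨hy, z, hz.1, e⟩, h4⟩
  choose! s h3 h4 using h2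
  refine ⟨B.biUnion s, fun x hx => ?_, ?_⟩
  · have hq := (hB _).2 ⟨x, hx, rfl⟩
    obtain ⟨⟨z, hz⟩, h5⟩ := Quotient.exact' (e _ hq)
    generalize (Quotient.mk'' (g (x a)) : orbitRel.Quotient H α) = q at *
    have h5 : z (g (k q a)) = g (x a) := h5
    obtain ⟨y, hy, w, hw, h6⟩ := h3 q hq ((g * k q)⁻¹ * (z⁻¹ * (g * x) * z)) ((hm _).2 ⟨by
      have := mul_mem (mul_mem (mul_mem (inv_mem (hk q hq)) (h _ (inv_mem hz))) hx) ((hm z).1 hz).1
      simpa only [mul_inv_rev, mul_assoc] using this, by simp [((hm z).1 hz).2, ← h5]⟩)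
    refine ⟨y, mem_biUnion.2 ⟨q, hq, hy⟩, z * w, mul_mem hz hw, ?_⟩
    rw [mul_inv_cancel_left] at h6
    rw [mul_inv_rev, show z * w * y * (w⁻¹ * z⁻¹) = z * (w * y * w⁻¹) * z⁻¹ by group, h6]
    group
  · have h5 : #(B.biUnion s) * 2 ^ orbs H ≤ #B * 2 ^ Fintype.card α := by
      refine (Nat.mul_le_mul_right _ card_biUnion_le).trans ?_
      rw [sum_mul]
      exact sum_le_card_nsmul _ _ _ h4
    have h6 : #B * 2 ^ orbs K ≤ 2 ^ orbs H := by
      refine Nat.le_of_mul_le_mul_right ?_ two_pos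
      rw [← pow_succ]
      refine le_trans ?_ (Nat.pow_le_pow_right two_pos h1)
      rw [pow_add, mul_comm (#B), mul_assoc]
      refine Nat.mul_le_mul_left _ ?_
      rcases #B with _ | b
      · simp
      · rw [pow_succ]; exact Nat.mul_le_mul_right _ Nat.lt_two_pow_self
    refine Nat.le_of_mul_le_mul_right ?_ (Nat.two_pow_pos (orbs H))
    calc _ = #(B.biUnion s) * 2 ^ orbs H * 2 ^ orbs K := by ring
      _ ≤ #B * 2 ^ Fintype.card α * 2 ^ orbs K := Nat.mul_le_mul_right _ h5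
      _ = 2 ^ Fintype.card α * (#B * 2 ^ orbs K) := by ring
      _ ≤ _ := Nat.mul_le_mul_left _ h6

theorem good (K : Subgroup (Perm α)) : ∀ g a, Good K g a := by
  induction K using WellFoundedLT.induction with
  | _ K ih =>
  have key : ∀ g a, (∃ x ∈ K, x a ≠ a) → Good K g a := fun g a ⟨x, hx, e⟩ =>
    step (ih _ (lt_of_le_of_ne inf_le_left fun h => e (h.ge hx).2))
  intro g a
  by_cases e : ∃ x ∈ K, x a ≠ a
  · exact key g a e
  push Not at e
  intro h
  by_cases e' : ∃ c, ∃ x ∈ K, x c ≠ c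
  · obtain ⟨c, hc⟩ := e'
    obtain ⟨s, h1, h2⟩ := key g c hc fun x hx => h x ⟨hx.1, e x hx.1⟩
    exact ⟨s, fun x hx => (h1 x hx).imp fun y ⟨hy, z, hz, e'⟩ => ⟨hy, z, ⟨hz.1, e z hz.1⟩, e'⟩, h2⟩
  push Not at e'
  refine ⟨{g}, fun x hx => ⟨g, mem_singleton_self g, 1, one_mem _, ?_⟩, ?_⟩
  · rw [show x = 1 from Equiv.ext fun c => e' c x hx]; group
  · rw [card_singleton, one_mul]
    exact Nat.pow_le_pow_right two_pos (orbs_le K)

theorem card_conj_le (S : Subgroup (Perm α)) (a : α) :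
    Nat.card (ConjClasses S) * 2 ^ orbs S ≤ 2 ^ Fintype.card α := by
  obtain ⟨s, h1, h2⟩ := good S 1 a fun x hx => by simpa using hx.1
  refine le_trans (Nat.mul_le_mul_right _ ?_) h2
  rw [← Nat.card_eq_finsetCard]
  refine Nat.card_le_card_of_surjective
    (fun y : s => if h : y.1 ∈ S then ConjClasses.mk ⟨y.1, h⟩ else ConjClasses.mk 1) fun C => ?_
  obtain ⟨⟨x, hx⟩, rfl⟩ := ConjClasses.mk_surjective C
  obtain ⟨y, hy, z, hz, e⟩ := h1 x hx
  rw [one_mul] at e
  have hz : z ∈ S := hz.1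
  have h3 : y ∈ S := (mul_mem_cancel_left hz).1 ((mul_mem_cancel_right (inv_mem hz)).1 (e ▸ hx))
  exact ⟨⟨y, hy⟩, (dif_pos h3).trans (ConjClasses.mk_eq_mk_iff_isConj.2 (isConj_iff.2 ⟨⟨z, hz⟩, Subtype.ext e⟩))⟩

end Cfsg.Lib.Block2.KTwo
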