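import Cfsg.Agent.Lib.Block2.KThreeN
import Cfsg.Agent.Lib.Block2.KTwo

/-! A permutation group of degree `n ≥ 3` has at most `√3 ^ (n - 1)` conjugacy classes. -/

set_option autoImplicit false

namespace Cfsg.Lib.Block2.KThree

open Subgroup Finset MulAction Equiv KTwo
open scoped Classical

variable {α : Type*} [Fintype α] {K H : Subgroup (Perm α)} {g : Perm α} {a b : α}

/-- the orbits -/
abbrev Orb (K : Subgroup (Perm α)) := orbitRel.Quotient K α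

noncomputable instance orbFintype (K : Subgroup (Perm α)) : Fintype (Orb K) := Fintype.ofFinite _

/-- the length of an orbit -/
noncomputable def sz (K : Subgroup (Perm α)) (q : Orb K) : ℕ := #{x : α | (Quotient.mk'' x : Orb K) = q}

/-- the potential -/
noncomputable def Phi (K : Subgroup (Perm α)) : ℝ := ∏ q : Orb K, gg (sz K q)

omit [Fintype α] in
theorem mk_eq {x y : α} : (Quotient.mk'' x : Orb K) = Quotient.mk'' y ↔ ∃ k ∈ K, k y = x :=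
  Quotient.eq''.trans ⟨fun ⟨k, e⟩ => ⟨k, k.2, e⟩, fun ⟨k, hk, e⟩ => ⟨⟨k, hk⟩, e⟩⟩

theorem sz_pos (q : Orb K) : 1 ≤ sz K q :=
  Quotient.inductionOn' q fun x => card_pos.2 ⟨x, mem_filter.2 ⟨mem_univ _, rfl⟩⟩

theorem sz_one (h : ∀ k ∈ K, k a = a) : sz K (Quotient.mk'' a) = 1 :=
  card_eq_one.2 ⟨a, Finset.ext fun x => by
    rw [mem_filter, mk_eq, mem_singleton]
    exact ⟨fun ⟨_, k, hk, e⟩ => e ▸ h k hk, fun e => ⟨mem_univ _, 1, one_mem _, e.symm⟩⟩⟩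

theorem sz_two (h : ∃ k ∈ K, k a ≠ a) : ∃ m, sz K (Quotient.mk'' a) = m + 2 := by
  obtain ⟨k, hk, e⟩ := h
  have : 1 < sz K (Quotient.mk'' a) := one_lt_card.2 ⟨k a, mem_filter.2 ⟨mem_univ _, mk_eq.2 ⟨k, hk, rfl⟩⟩, a,
    mem_filter.2 ⟨mem_univ _, rfl⟩, e⟩
  exact ⟨sz K (Quotient.mk'' a) - 2, by omega⟩

theorem sz_mul (K : Subgroup (Perm α)) (a : α) :
    sz K (Quotient.mk'' a) * Nat.card ↥(K ⊓ stabilizer (Perm α) a) = Nat.card K := by
  have h1 : sz K (Quotient.mk'' a) = (stabilizer K a).index := by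
    rw [index_stabilizer, sz, ← Set.ncard_coe_finset]
    congr 1
    ext x
    simp only [coe_filter, mem_univ, true_and, Set.mem_ofPred_eq, Quotient.eq'']
    rfl
  have h2 : stabilizer K a = (K ⊓ stabilizer (Perm α) a).subgroupOf K := by
    rw [inf_subgroupOf_left]; rfl
  rw [h1, ← index_mul_card (stabilizer K a), h2, Nat.card_congr (subgroupOfEquivOfLe inf_le_left).toEquiv]

/-- the orbit of `K` below an orbit of `H ≤ g K g⁻¹` -/
def dn (h : ∀ x ∈ H, g⁻¹ * x * g ∈ K) : Orb H → Orb K := Quotient.map' (fun x => g⁻¹ x) (by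
  rintro _ b ⟨⟨x, hx⟩, rfl⟩
  exact ⟨⟨_, h x hx⟩, by simp [Perm.smul_def]⟩)

/-- the orbits of `H` over an orbit of `K` -/
noncomputable def Fib (h : ∀ x ∈ H, g⁻¹ * x * g ∈ K) (q : Orb K) : Finset (Orb H) := {p | dn h p = q}

theorem mk_mem_Fib (h : ∀ x ∈ H, g⁻¹ * x * g ∈ K) {x : α} {q : Orb K} :
    Quotient.mk'' x ∈ Fib h q ↔ Quotient.mk'' (g⁻¹ x) = q := by
  rw [Fib, mem_filter, and_iff_right (mem_univ _)]; rfl

theorem mem_Fib (h : ∀ x ∈ H, g⁻¹ * x * g ∈ K) {p : Orb H} :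
    p ∈ Fib h (Quotient.mk'' a) ↔ ∃ k ∈ K, p = Quotient.mk'' (g (k a)) := by
  refine Quotient.inductionOn' p fun x => ?_
  rw [mk_mem_Fib, mk_eq]
  refine ⟨fun ⟨k, hk, e⟩ => ⟨k, hk, by simp [e]⟩, fun ⟨k, hk, e⟩ => ?_⟩
  obtain ⟨z, hz, rfl⟩ := mk_eq.1 e
  exact ⟨_, mul_mem (h z hz) hk, by simp⟩

theorem sum_Fib (h : ∀ x ∈ H, g⁻¹ * x * g ∈ K) (q : Orb K) : ∑ p ∈ Fib h q, sz H p = sz K q := by
  simp only [sz]
  rw [sum_card_fiberwise_eq_card_filter]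
  exact card_bijective _ (g⁻¹).bijective fun x => by simp only [mem_filter, mem_univ, true_and, mk_mem_Fib]

theorem Phi_le (h : ∀ x ∈ H, g⁻¹ * x * g ∈ K) (w : Orb K → ℝ) (hw : ∀ q, ∏ p ∈ Fib h q, gg (sz H p) ≤ w q) :
    Phi H ≤ ∏ q, w q := by
  rw [Phi, ← Finset.prod_fiberwise univ (dn h)]
  exact prod_le_prod (fun _ _ => prod_nonneg fun _ _ => (gg_pos _).le) fun q _ => hw q

theorem Fib_le (h : ∀ x ∈ H, g⁻¹ * x * g ∈ K) (q : Orb K) : ∏ p ∈ Fib h q, gg (sz H p) ≤ gg (sz K q) :=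
  sum_Fib h q ▸ prod_le _ fun _ _ => sz_pos _

/-- the potential of the other orbits -/
noncomputable def Rest (K : Subgroup (Perm α)) (q : Orb K) : ℝ := ∏ p ∈ univ.erase q, gg (sz K p)

theorem Rest_pos (q : Orb K) : 0 < Rest K q := prod_pos fun _ _ => gg_pos _

theorem Phi_eq (q : Orb K) : Phi K = gg (sz K q) * Rest K q := (mul_prod_erase _ _ (mem_univ q)).symm

theorem Phi_le_one (h : ∀ x ∈ H, g⁻¹ * x * g ∈ K) (q : Orb K) :
    Phi H ≤ (∏ p ∈ Fib h q, gg (sz H p)) * Rest K q := by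
  refine (Phi_le h _ fun _ => le_rfl).trans ?_
  rw [← mul_prod_erase _ _ (mem_univ q)]
  exact mul_le_mul_of_nonneg_left (prod_le_prod (fun _ _ => prod_nonneg fun _ _ => (gg_pos _).le)
    fun p _ => Fib_le h p) (prod_nonneg fun _ _ => (gg_pos _).le)

theorem Phi_le_two (h : ∀ x ∈ H, g⁻¹ * x * g ∈ K) {q q' : Orb K} (e : q' ≠ q) :
    Phi H * gg (sz K q') ≤ (∏ p ∈ Fib h q, gg (sz H p)) * (∏ p ∈ Fib h q', gg (sz H p)) * Rest K q := by
  have hq : q' ∈ univ.erase q := mem_erase.2 ⟨e, mem_univ _⟩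
  have h1 := Phi_le h _ fun _ => le_rfl
  rw [← mul_prod_erase _ _ (mem_univ q), ← mul_prod_erase _ _ hq] at h1
  rw [Rest, ← mul_prod_erase _ _ hq, mul_comm (gg _), ← mul_assoc]
  refine mul_le_mul_of_nonneg_right (h1.trans ?_) (gg_pos _).le
  rw [mul_assoc]
  have h0 : ∀ q, 0 ≤ ∏ p ∈ Fib h q, gg (sz H p) := fun _ => prod_nonneg fun _ _ => (gg_pos _).le
  exact mul_le_mul_of_nonneg_left (mul_le_mul_of_nonneg_left (prod_le_prod (fun _ _ => h0 _)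
    fun p _ => Fib_le h p) (h0 _)) (h0 _)

/-- an orbit family containing a fixed point -/
theorem Fib_erase (h : ∀ x ∈ H, g⁻¹ * x * g ∈ K) {q : Orb K} (ha : ∀ k ∈ H, k a = a) (hq : Quotient.mk'' a ∈ Fib h q)
    {m : ℕ} (hm : sz K q = m + 2) : ∑ p ∈ (Fib h q).erase (Quotient.mk'' a), sz H p = m + 1 ∧
    ∏ p ∈ Fib h q, gg (sz H p) = ∏ p ∈ (Fib h q).erase (Quotient.mk'' a), gg (sz H p) ∧
    ∑ p ∈ Fib h q, rr (sz H p) = 1 + ∑ p ∈ (Fib h q).erase (Quotient.mk'' a), rr (sz H p) := by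
  have h1 := sum_Fib h q
  rw [← add_sum_erase _ _ hq, sz_one ha, hm] at h1
  rw [← mul_prod_erase _ _ hq, ← add_sum_erase _ _ hq, sz_one ha, gg_one, rr_one, one_mul]
  exact ⟨Nat.add_left_cancel (h1.trans (show m + 2 = 1 + (m + 1) by ring)), rfl, rfl⟩

/-- the state while following a cycle from `a` to `b` -/
def St (K : Subgroup (Perm α)) (g : Perm α) (b a : α) : Prop :=
  ∀ x, x ∈ K ∧ x b = b ↔ g⁻¹ * x * g ∈ K ∧ x a = a

/-- the statement in the middle of a cycle -/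
def GoodB (K : Subgroup (Perm α)) : Prop := ∀ g b a, St K g b a →
  ∃ s, Meets s K (K ⊓ stabilizer (Perm α) b) g ∧ (#s : ℝ) ≤ Phi K * rr (sz K (Quotient.mk'' b))

/-- the statement at the start of a cycle -/
def GoodA (K : Subgroup (Perm α)) : Prop := ∀ g, (∀ x, x ∈ K ↔ g⁻¹ * x * g ∈ K) →
  ∃ s, Meets s K K g ∧ (#s : ℝ) ≤ Phi K

theorem branch (hm : ∀ x, x ∈ H ↔ x ∈ K ∧ x b = b) (hs : St K g b a) (ih : GoodB H)
    (h : ∀ x ∈ H, g⁻¹ * x * g ∈ K) {B : Finset (Orb H)} (hB : B ⊆ Fib h (Quotient.mk'' b)) :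
    ∃ s : Finset (Perm α), (∀ x ∈ K, Quotient.mk'' (g (x b)) ∈ B → ∃ y ∈ s, ∃ z ∈ H, z * y * z⁻¹ = g * x) ∧
      (#s : ℝ) ≤ Phi H * ∑ p ∈ B, rr (sz H p) := by
  choose! k hk e using fun q (hq : q ∈ B) => (mem_Fib h).1 (hB hq)
  have h2 : ∀ q ∈ B, ∃ s, Meets s H H (g * k q) ∧ (#s : ℝ) ≤ Phi H * rr (sz H q) := fun q hq => by
    have h0 : ∀ x, (g * k q)⁻¹ * x * (g * k q) ∈ K ↔ g⁻¹ * x * g ∈ K := fun x => by
      rw [show (g * k q)⁻¹ * x * (g * k q) = (k q)⁻¹ * (g⁻¹ * x * g) * k q by group,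
        mul_mem_cancel_right (hk q hq), mul_mem_cancel_left (inv_mem (hk q hq))]
    have h1 : ∀ x, ((g * k q)⁻¹ * x * (g * k q)) b = b ↔ x (g (k q b)) = g (k q b) := fun x => by
      rw [Perm.mul_apply, Perm.mul_apply, Perm.inv_eq_iff_eq]; rfl
    obtain ⟨s, h3, h4⟩ := ih (g * k q) (g (k q b)) a fun x => by
      rw [hm, hm, h0, h1, hs x]; tauto
    rw [← e q hq] at h4
    exact ⟨s, fun x hx => (h3 x hx).imp fun y ⟨hy, z, hz, e⟩ => ⟨hy, z, hz.1, e⟩, h4⟩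
  choose! s h3 h4 using h2
  refine ⟨B.biUnion s, fun x hx hq => ?_, ?_⟩
  · obtain ⟨z, hz, h5⟩ := mk_eq.1 (e _ hq)
    generalize (Quotient.mk'' (g (x b)) : Orb H) = q at *
    obtain ⟨y, hy, w, hw, h6⟩ := h3 q hq ((g * k q)⁻¹ * (z⁻¹ * (g * x) * z)) ((hm _).2 ⟨by
      have := mul_mem (mul_mem (mul_mem (inv_mem (hk q hq)) (h _ (inv_mem hz))) hx) ((hm z).1 hz).1
      simpa only [mul_inv_rev, mul_assoc] using this, by simp [((hm z).1 hz).2, ← h5]⟩)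
    refine ⟨y, mem_biUnion.2 ⟨q, hq, hy⟩, z * w, mul_mem hz hw, ?_⟩
    rw [mul_inv_cancel_left] at h6
    rw [mul_inv_rev, show z * w * y * (w⁻¹ * z⁻¹) = z * (w * y * w⁻¹) * z⁻¹ by group, h6]
    group
  · refine (Nat.cast_le.2 card_biUnion_le).trans ?_
    rw [Nat.cast_sum, mul_sum]
    exact sum_le_sum h4

theorem two_orbits (hm : ∀ x, x ∈ H ↔ x ∈ K ∧ x b = b) (hs : St K g b a) (h : ∀ x ∈ H, g⁻¹ * x * g ∈ K)
    (hb : ∃ k ∈ K, k b ≠ b) (ha : Quotient.mk'' a ∉ Fib h (Quotient.mk'' b)) :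
    Phi H * ∑ p ∈ Fib h (Quotient.mk'' b), rr (sz H p) ≤ Phi K := by
  obtain ⟨m, h1⟩ := sz_two hb
  have h2 : sz K (Quotient.mk'' (g⁻¹ a)) = m + 2 := by
    have h3 := (sz_mul K (g⁻¹ a)).trans (sz_mul K b).symm
    have h4 : Nat.card ↥(K ⊓ stabilizer (Perm α) (g⁻¹ a)) = Nat.card ↥(K ⊓ stabilizer (Perm α) b) := by
      refine (Nat.card_congr (Equiv.subtypeEquiv (MulAut.conj g⁻¹).toEquiv fun x => ?_)).symm
      refine (hs x).trans (and_congr (by simp) ?_)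
      show _ ↔ _ = _
      simp [Perm.smul_def]
    rw [h4, h1] at h3
    exact Nat.eq_of_mul_eq_mul_right Nat.card_pos h3
  have h3 := Phi_le_two h (mt (mk_mem_Fib h).2 ha)
  obtain ⟨h4, h5, -⟩ := Fib_erase h (fun k hk => ((hs k).1 ((hm k).1 hk)).2) ((mk_mem_Fib h).2 rfl) h2
  have h6 := prod_le ((Fib h (Quotient.mk'' (g⁻¹ a))).erase (Quotient.mk'' a)) fun p _ => sz_pos (K := H) p
  have h7 := (sum_le (Fib h (Quotient.mk'' b)) (fun _ _ => sz_pos (K := H) _) ((sum_Fib h _).trans h1)).1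
  rw [h4, ← h5] at h6
  rw [h2] at h3
  rw [Phi_eq (K := K) (Quotient.mk'' b), h1]
  have h8 := Rest_pos (K := K) (Quotient.mk'' b)
  have h9 : 0 ≤ ∑ p ∈ Fib h (Quotient.mk'' b), rr (sz H p) := sum_nonneg fun _ _ => zero_le_one.trans (one_le_rr _)
  have h10 : 0 ≤ ∏ p ∈ Fib h (Quotient.mk'' b), gg (sz H p) := prod_nonneg fun _ _ => (gg_pos _).le
  refine le_of_mul_le_mul_right ?_ (gg_pos (m + 2))
  generalize ∑ p ∈ Fib h (Quotient.mk'' b), rr (sz H p) = S at *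
  generalize ∏ p ∈ Fib h (Quotient.mk'' b), gg (sz H p) = P at *
  calc _ = Phi H * gg (m + 2) * S := by ring
    _ ≤ P * gg (m + 1) * Rest K (Quotient.mk'' b) * S := mul_le_mul_of_nonneg_right (h3.trans (by gcongr)) h9
    _ = P * S * gg (m + 1) * Rest K (Quotient.mk'' b) := by ring
    _ ≤ (gg (m + 3) - 1) * gg (m + 1) * Rest K (Quotient.mk'' b) := by
      have := gg_pos (m + 1)
      gcongr; linarith
    _ ≤ gg (m + 2) * gg (m + 2) * Rest K (Quotient.mk'' b) := mul_le_mul_of_nonneg_right (gg_sq m) h8.le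
    _ = _ := by ring

theorem Phi_pos : 0 < Phi K := prod_pos fun _ _ => gg_pos _

theorem goodB (hA : GoodA K) (ih : ∀ H < K, GoodB H) : GoodB K := fun g b a hs => by
  by_cases hb : ∃ k ∈ K, k b ≠ b
  swap
  · push Not at hb
    have h1 : ∀ x ∈ K, g⁻¹ * x * g ∈ K := fun x hx => ((hs x).1 ⟨hx, hb x hx⟩).1
    have h2 : K.map (MulAut.conj g⁻¹).toMonoidHom = K := eq_of_le_of_card_ge
      (by rintro _ ⟨x, hx, rfl⟩; simpa using h1 x hx) (card_map_of_injective (MulAut.conj g⁻¹).injective).ge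
    obtain ⟨s, h3, h4⟩ := hA g fun x => ⟨h1 x, fun h => by
      obtain ⟨y, hy, e⟩ := h2.ge h
      have e : y = x := by simpa using e
      exact e ▸ hy⟩
    exact ⟨s, fun x hx => (h3 x hx).imp fun y ⟨hy, z, hz, e⟩ => ⟨hy, z, ⟨hz, hb z hz⟩, e⟩,
      by rwa [sz_one hb, rr_one, mul_one]⟩
  have hlt : K ⊓ stabilizer (Perm α) b < K := by
    obtain ⟨x, hx, e⟩ := hb
    exact lt_of_le_of_ne inf_le_left fun h => e (h.ge hx).2
  have hm : ∀ x, x ∈ K ⊓ stabilizer (Perm α) b ↔ x ∈ K ∧ x b = b := fun x => Iff.rfl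
  generalize K ⊓ stabilizer (Perm α) b = H at *
  have h : ∀ x ∈ H, g⁻¹ * x * g ∈ K := fun x hx => ((hs x).1 ((hm x).1 hx)).1
  obtain ⟨s, h1, h2⟩ := branch hm hs (ih H hlt) h subset_rfl
  refine ⟨s, fun x hx => h1 x hx ((mem_Fib h).2 ⟨x, hx, rfl⟩), h2.trans ?_⟩
  by_cases ha : Quotient.mk'' a ∈ Fib h (Quotient.mk'' b)
  swap
  · exact (two_orbits hm hs h hb ha).trans (le_mul_of_one_le_right Phi_pos.le (one_le_rr _))
  obtain ⟨m, h3⟩ := sz_two hb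
  obtain ⟨h4, h5, h6⟩ := Fib_erase h (fun k hk => ((hs k).1 ((hm k).1 hk)).2) ha h3
  have h7 := (sum_le _ (fun _ _ => sz_pos (K := H) _) h4).2
  rw [← h5, ← h6] at h7
  rw [Phi_eq (K := K) (Quotient.mk'' b), h3, mul_right_comm]
  refine le_trans (mul_le_mul_of_nonneg_right (Phi_le_one h (Quotient.mk'' b))
    (sum_nonneg fun _ _ => zero_le_one.trans (one_le_rr _))) ?_
  rw [mul_right_comm]
  exact mul_le_mul_of_nonneg_right h7 (Rest_pos _).le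

theorem goodA (ih : ∀ H < K, GoodA H ∧ GoodB H) : GoodA K := fun g hg => by
  by_cases e : ∃ b, ∃ k ∈ K, k b ≠ b
  swap
  · push Not at e
    refine ⟨{g}, fun x hx => ⟨g, mem_singleton_self g, 1, one_mem _, ?_⟩, ?_⟩
    · rw [show x = 1 from Equiv.ext fun c => e c x hx]; group
    · rw [card_singleton, Nat.cast_one, Phi]
      exact (prod_eq_one fun q _ => Quotient.inductionOn' q fun c => by rw [sz_one (e c), gg_one]).ge
  obtain ⟨b, hb⟩ := e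
  have hlt : K ⊓ stabilizer (Perm α) b < K := by
    obtain ⟨x, hx, e⟩ := hb
    exact lt_of_le_of_ne inf_le_left fun h => e (h.ge hx).2
  have hm : ∀ x, x ∈ K ⊓ stabilizer (Perm α) b ↔ x ∈ K ∧ x b = b := fun x => Iff.rfl
  generalize K ⊓ stabilizer (Perm α) b = H at *
  have hs : St K g b b := fun x => and_congr_left' (hg x)
  have h : ∀ x ∈ H, g⁻¹ * x * g ∈ K := fun x hx => (hg x).1 ((hm x).1 hx).1
  by_cases ha : Quotient.mk'' b ∈ Fib h (Quotient.mk'' b)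
  swap
  · obtain ⟨s, h1, h2⟩ := branch hm hs (ih H hlt).2 h subset_rfl
    exact ⟨s, fun x hx => (h1 x hx ((mem_Fib h).2 ⟨x, hx, rfl⟩)).imp fun y ⟨hy, z, hz, e⟩ =>
      ⟨hy, z, ((hm z).1 hz).1, e⟩, h2.trans (two_orbits hm hs h hb ha)⟩
  obtain ⟨s, h1, h2⟩ := branch hm hs (ih H hlt).2 h (erase_subset (Quotient.mk'' b) _)
  obtain ⟨m, h3⟩ := sz_two hb
  obtain ⟨h4, h5, -⟩ := Fib_erase h (fun k hk => ((hm k).1 hk).2) ha h3
  have h7 := (sum_le _ (fun _ _ => sz_pos (K := H) _) h4).1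
  rw [← h5] at h7
  -- the elements fixing the orbit of `b` pointwise
  obtain ⟨s', h8, h9⟩ : ∃ s' : Finset (Perm α), (∀ x ∈ K, (∀ k ∈ K, (g * x) (k b) = k b) →
      ∃ y ∈ s', ∃ z ∈ K, z * y * z⁻¹ = g * x) ∧ (#s' : ℝ) ≤ Rest K (Quotient.mk'' b) := by
    by_cases e : ∃ x ∈ K, ∀ k ∈ K, (g * x) (k b) = k b
    swap
    · exact ⟨∅, fun x hx h => (e ⟨x, hx, h⟩).elim, by simpa using (Rest_pos _).le⟩
    obtain ⟨u, hu, e⟩ := e
    obtain ⟨L, hL⟩ : ∃ L : Subgroup (Perm α), ∀ x, x ∈ L ↔ x ∈ K ∧ ∀ k ∈ K, x (k b) = k b :=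
      ⟨K ⊓ fixingSubgroup (Perm α) {c | ∃ k ∈ K, k b = c}, fun x => and_congr_right' ((mem_fixingSubgroup_iff _).trans
        ⟨fun h k hk => h _ ⟨k, hk, rfl⟩, fun h _ ⟨k, hk, e⟩ => e ▸ h k hk⟩)⟩
    have hLK : L < K := lt_of_le_of_lt (fun x hx => (hm x).2 ⟨((hL x).1 hx).1, ((hL x).1 hx).2 1 (one_mem _)⟩) hlt
    have e' : ∀ k ∈ K, (g * u)⁻¹ (k b) = k b := fun k hk => Perm.inv_eq_iff_eq.2 (e k hk).symm
    obtain ⟨s', h8, h9⟩ := (ih L hLK).1 (g * u) fun x => by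
      rw [hL, hL, show (g * u)⁻¹ * x * (g * u) = u⁻¹ * (g⁻¹ * x * g) * u by group, mul_mem_cancel_right hu,
        mul_mem_cancel_left (inv_mem hu), ← hg, show u⁻¹ * (g⁻¹ * x * g) * u = (g * u)⁻¹ * x * (g * u) by group]
      refine and_congr_right' (forall₂_congr fun k hk => ?_)
      rw [Perm.mul_apply, Perm.mul_apply, e k hk, Perm.inv_eq_iff_eq, e k hk]
    refine ⟨s', fun x hx hx' => ?_, h9.trans ?_⟩
    · obtain ⟨y, hy, z, hz, h10⟩ := h8 (u⁻¹ * x) ((hL _).2 ⟨mul_mem (inv_mem hu) hx, fun k hk => by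
        rw [show u⁻¹ * x = (g * u)⁻¹ * (g * x) by group, Perm.mul_apply, hx' k hk, e' k hk]⟩)
      exact ⟨y, hy, z, hLK.le hz, by rw [h10]; group⟩
    · have h10 : ∀ x ∈ L, (1 : Perm α)⁻¹ * x * 1 ∈ K := fun x hx => by simpa using hLK.le hx
      refine (Phi_le_one h10 (Quotient.mk'' b)).trans (le_of_eq ?_)
      rw [prod_eq_one fun p hp => ?_, one_mul]
      obtain ⟨k, hk, rfl⟩ := (mem_Fib h10).1 hp
      rw [Perm.one_apply, sz_one fun x hx => ((hL x).1 hx).2 k hk, gg_one]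
  refine ⟨s ∪ s', fun x hx => ?_, ?_⟩
  · by_cases e : ∀ k ∈ K, (g * x) (k b) = k b
    · exact (h8 x hx e).imp fun y ⟨hy, h⟩ => ⟨mem_union_right _ hy, h⟩
    push Not at e
    obtain ⟨k, hk, e⟩ := e
    have h10 : g⁻¹ * k⁻¹ * g * x * k ∈ K := mul_mem (mul_mem ((hg _).1 (inv_mem hk)) hx) hk
    obtain ⟨y, hy, z, hz, h11⟩ := h1 _ h10 (mem_erase.2 ⟨fun h => e (by
      obtain ⟨w, hw, h12⟩ := mk_eq.1 h
      rw [((hm w).1 hw).2] at h12
      have h13 : b = k⁻¹ ((g * x) (k b)) := by simpa using h12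
      exact (Perm.eq_inv_iff_eq.1 h13).symm), (mem_Fib h).2 ⟨_, h10, rfl⟩⟩)
    refine ⟨y, mem_union_left _ hy, k * z, mul_mem hk ((hm z).1 hz).1, ?_⟩
    rw [show k * z * y * (k * z)⁻¹ = k * (z * y * z⁻¹) * k⁻¹ by group, h11]
    group
  · refine (Nat.cast_le.2 (card_union_le _ _)).trans ?_
    rw [Nat.cast_add, Phi_eq (K := K) (Quotient.mk'' b), h3]
    have h10 := mul_le_mul_of_nonneg_right (Phi_le_one h (Quotient.mk'' b))
      (sum_nonneg fun p (_ : p ∈ (Fib h (Quotient.mk'' b)).erase (Quotient.mk'' b)) =>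
        zero_le_one.trans (one_le_rr (sz H p)))
    have h11 := mul_le_mul_of_nonneg_right h7 (Rest_pos (K := K) (Quotient.mk'' b)).le
    linarith

theorem good (K : Subgroup (Perm α)) : GoodA K ∧ GoodB K := by
  induction K using WellFoundedLT.induction with
  | _ K ih => exact ⟨goodA ih, goodB (goodA ih) fun H h => (ih H h).2⟩

theorem card_conj_le (S : Subgroup (Perm α)) : (Nat.card (ConjClasses S) : ℝ) ≤ gg (Fintype.card α) := by
  obtain ⟨s, h1, h2⟩ := (good S).1 1 fun x => by simp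
  have h3 := prod_le (univ : Finset (Orb S)) fun p _ => sz_pos (K := S) p
  have h4 : ∑ q, sz S q = Fintype.card α := (card_eq_sum_card_fiberwise fun _ _ => mem_univ _).symm
  refine le_trans (Nat.cast_le.2 ?_) (h2.trans (h4 ▸ h3))
  rw [← Nat.card_eq_finsetCard]
  refine Nat.card_le_card_of_surjective
    (fun y : s => if h : y.1 ∈ S then ConjClasses.mk ⟨y.1, h⟩ else ConjClasses.mk 1) fun C => ?_
  obtain ⟨⟨x, hx⟩, rfl⟩ := ConjClasses.mk_surjective C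
  obtain ⟨y, hy, z, hz, e⟩ := h1 x hx
  rw [one_mul] at e
  have h3 : y ∈ S := (mul_mem_cancel_left hz).1 ((mul_mem_cancel_right (inv_mem hz)).1 (e ▸ hx))
  exact ⟨⟨y, hy⟩, (dif_pos h3).trans (ConjClasses.mk_eq_mk_iff_isConj.2 (isConj_iff.2 ⟨⟨z, hz⟩, Subtype.ext e⟩))⟩

theorem card_conj_sq_le (S : Subgroup (Perm α)) (h : 3 ≤ Fintype.card α) :
    Nat.card (ConjClasses S) ^ 2 ≤ 3 ^ (Fintype.card α - 1) := by
  have h1 := pow_le_pow_left₀ (Nat.cast_nonneg _) (card_conj_le S) 2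
  rw [gg, if_neg (by omega), ← pow_mul, mul_comm, pow_mul, s3_sq] at h1
  exact_mod_cast h1

end Cfsg.Lib.Block2.KThree
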