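import Mathlib

/-! Numerical lemmas for the bound `√3 ^ (n - 1)` on the class number of a permutation group. -/

set_option autoImplicit false

namespace Cfsg.Lib.Block2.KThree

open Finset

/-- the weight of an orbit of length `t` -/
noncomputable def gg (t : ℕ) : ℝ := if t = 2 then 2 else √3 ^ (t - 1)

/-- the extra factor for the orbit of the current point -/
noncomputable def rr (t : ℕ) : ℝ := if t ≤ 2 then 1 else 11 / 8

/-- `1 / √3` -/
noncomputable def mu : ℝ := (√3)⁻¹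

theorem s3_pos : (0 : ℝ) < √3 := by positivity
theorem s3_sq : (√3 : ℝ) ^ 2 = 3 := Real.sq_sqrt (by norm_num)
theorem mu_mul : mu * √3 = 1 := inv_mul_cancel₀ s3_pos.ne'
theorem mu_pos : 0 < mu := inv_pos.2 s3_pos
theorem mu_sq : mu ^ 2 = 1 / 3 := by rw [mu, inv_pow, s3_sq, one_div]
theorem mu_lt : mu < 0.5774 := by nlinarith [mu_sq, mu_pos]
theorem s3_ge : (1.732 : ℝ) < √3 := by nlinarith [s3_sq, s3_pos]
theorem s3_le : (√3 : ℝ) < 1.7321 := by nlinarith [s3_sq, s3_pos]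
theorem mu_pow (n : ℕ) : mu ^ n = (1 / 3) ^ (n / 2) * mu ^ (n % 2) := by
  rw [← mu_sq, ← pow_mul, ← pow_add, Nat.div_add_mod]

theorem gg_pos (t : ℕ) : 0 < gg t := by unfold gg; split_ifs <;> positivity
theorem one_le_rr (t : ℕ) : 1 ≤ rr t := by unfold rr; split_ifs <;> norm_num
theorem gg_one : gg 1 = 1 := by simp [gg]
theorem rr_one : rr 1 = 1 := by simp [rr]
theorem gg_succ {m : ℕ} (h : m ≠ 1) : gg (m + 1) = √3 ^ m := by rw [gg, if_neg (by omega), Nat.add_sub_cancel]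

theorem big {b : ℕ} (h : 6 ≤ b) : (11 / 8 * b + 1 : ℝ) * (2 / 3) ^ b ≤ 1 := by
  induction b, h using Nat.le_induction with
  | base => norm_num
  | succ b h ih =>
    have : (0 : ℝ) < (2 / 3) ^ b := by positivity
    have h6 : (6 : ℝ) ≤ b := by exact_mod_cast h
    rw [pow_succ]; push_cast; nlinarith

theorem num (a c d : ℕ) : (2 ≤ a + 2 * c + 3 * d →
    (2 / 3) ^ c * mu ^ (a + d) * (a + c + 11 / 8 * d) + mu ^ (a + 2 * c + 3 * d) ≤ 1) ∧
    (2 / 3) ^ c * mu ^ (a + d) * (1 + (a + c + 11 / 8 * d)) ≤ 11 / 8 := by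
  have h1 := mu_pos
  have h2 := mu_lt
  by_cases h : 6 ≤ a + c + d
  · have h3 := big h
    have h4 : (2 / 3) ^ c * mu ^ (a + d) ≤ (2 / 3 : ℝ) ^ (a + c + d) := by
      rw [show a + c + d = c + (a + d) by ring, pow_add (2 / 3 : ℝ) c]
      gcongr; linarith
    have h5 : mu ^ (a + 2 * c + 3 * d) ≤ (2 / 3 : ℝ) ^ (a + c + d) :=
      (pow_le_pow_of_le_one h1.le (by linarith) (by omega)).trans (pow_le_pow_left₀ h1.le (by linarith) _)
    have h6 : (a + c + 11 / 8 * d : ℝ) ≤ 11 / 8 * (a + c + d : ℕ) := by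
      push_cast; nlinarith [Nat.cast_nonneg (α := ℝ) a, Nat.cast_nonneg (α := ℝ) c]
    have h7 := mul_le_mul h4 h6 (by positivity) (by positivity)
    exact ⟨fun _ => by linarith, by linarith⟩
  · rw [mu_pow (a + d), mu_pow (a + 2 * c + 3 * d)]
    have ha : a ≤ 5 := by omega
    have hc : c ≤ 5 := by omega
    have hd : d ≤ 5 := by omega
    interval_cases a <;> interval_cases c <;> interval_cases d <;>
      first | omega | (norm_num; done) | (norm_num; first | linarith | (constructor <;> linarith))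

variable {ι : Type*} {s : ι → ℕ}

theorem shape (B : Finset ι) (h : ∀ i ∈ B, 1 ≤ s i) : ∃ a c d : ℕ,
    ∏ i ∈ B, gg (s i) = (2 / 3) ^ c * mu ^ (a + d) * √3 ^ ∑ i ∈ B, s i ∧
    ∑ i ∈ B, rr (s i) = a + c + 11 / 8 * d ∧ a + 2 * c + 3 * d ≤ ∑ i ∈ B, s i ∧
    (d = 0 → ∑ i ∈ B, s i = a + 2 * c) := by
  classical
  induction B using Finset.induction_on with
  | empty => exact ⟨0, 0, 0, by simp⟩
  | insert i B hi ih =>
    obtain ⟨a, c, d, h1, h2, h3, h4⟩ := ih fun j hj => h j (mem_insert_of_mem hj)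
    have h5 := h i (mem_insert_self _ _)
    rw [prod_insert hi, sum_insert hi, sum_insert hi, h1, h2, pow_add √3]
    obtain ⟨t, ht⟩ : ∃ t, s i = t + 1 := ⟨s i - 1, by omega⟩
    rw [ht]
    have h6 : t ≠ 1 → gg (t + 1) = mu * √3 ^ (t + 1) := fun e => by
      rw [gg_succ e, pow_succ', ← mul_assoc, mu_mul, one_mul]
    rcases t with _ | _ | t
    · refine ⟨a + 1, c, d, ?_, ?_, by omega, by omega⟩
      · rw [h6 (by omega)]; ring
      · rw [rr_one]; push_cast; ring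
    · refine ⟨a, c + 1, d, ?_, ?_, by omega, by omega⟩
      · rw [gg, if_pos rfl, s3_sq]; ring
      · rw [rr, if_pos le_rfl]; push_cast; ring
    · refine ⟨a, c, d + 1, ?_, ?_, by omega, by omega⟩
      · rw [h6 (by omega)]; ring
      · rw [rr, if_neg (by omega)]; push_cast; ring

theorem prod_le (B : Finset ι) (h : ∀ i ∈ B, 1 ≤ s i) : ∏ i ∈ B, gg (s i) ≤ gg (∑ i ∈ B, s i) := by
  obtain ⟨a, c, d, h1, -, h3, h4⟩ := shape B h
  rw [h1]
  generalize ∑ i ∈ B, s i = m at *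
  have h5 := mu_pos
  have h6 := mu_lt
  have h7 : ∀ k, mu ^ k ≤ 1 := fun k => pow_le_one₀ h5.le (by linarith)
  have h8 : ∀ k, (2 / 3 : ℝ) ^ k ≤ 1 := fun k => pow_le_one₀ (by norm_num) (by norm_num)
  rcases m with _ | m
  · obtain ⟨rfl, rfl, rfl⟩ : a = 0 ∧ c = 0 ∧ d = 0 := by omega
    simp [gg]
  by_cases e : m = 1
  · subst e
    rw [gg, if_pos rfl, s3_sq]
    obtain ⟨rfl, rfl, rfl⟩ | ⟨rfl, rfl, rfl⟩ : a = 2 ∧ c = 0 ∧ d = 0 ∨ a = 0 ∧ c = 1 ∧ d = 0 := by omega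
    · rw [mu_sq]; norm_num
    · norm_num
  rw [gg_succ e, pow_succ' √3, ← mul_assoc]
  refine mul_le_of_le_one_left (by positivity) ?_
  rw [← mu_mul]
  refine mul_le_mul_of_nonneg_right ?_ s3_pos.le
  rcases Nat.eq_zero_or_pos (a + d) with e' | e'
  · obtain ⟨k, rfl⟩ : ∃ k, c = k + 2 := ⟨c - 2, by omega⟩
    rw [e', pow_zero, mul_one, pow_add]
    nlinarith [h8 k, mu_sq]
  · obtain ⟨k, hk⟩ : ∃ k, a + d = k + 1 := ⟨a + d - 1, by omega⟩
    rw [hk, pow_succ, ← mul_assoc]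
    exact mul_le_of_le_one_left h5.le (mul_le_one₀ (h8 c) (by positivity) (h7 k))

theorem sum_le (B : Finset ι) (h : ∀ i ∈ B, 1 ≤ s i) {m : ℕ} (hm : ∑ i ∈ B, s i = m + 1) :
    (∏ i ∈ B, gg (s i)) * ∑ i ∈ B, rr (s i) + 1 ≤ gg (m + 2) ∧
    (∏ i ∈ B, gg (s i)) * (1 + ∑ i ∈ B, rr (s i)) ≤ gg (m + 2) * rr (m + 2) := by
  obtain ⟨a, c, d, h1, h2, h3, h4⟩ := shape B h
  rw [h1, h2, hm]
  rw [hm] at h3 h4
  rcases m with _ | m
  · obtain ⟨rfl, rfl, rfl⟩ : a = 1 ∧ c = 0 ∧ d = 0 := by omega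
    simp only [gg, rr]
    norm_num [mu_mul]
  obtain ⟨h5, h6⟩ := num a c d
  have h7 := h5 (by omega)
  rw [gg_succ (by omega), rr, if_neg (by omega)]
  have h8 : (0 : ℝ) < √3 ^ (m + 1 + 1) := by positivity
  have h9 : 1 ≤ mu ^ (a + 2 * c + 3 * d) * √3 ^ (m + 1 + 1) := by
    obtain ⟨k, hk⟩ := Nat.exists_eq_add_of_le h3
    rw [hk, pow_add √3, ← mul_assoc, ← mul_pow, mu_mul, one_pow, one_mul]
    exact one_le_pow₀ (by linarith [s3_ge])
  exact ⟨by nlinarith [mul_le_mul_of_nonneg_right h7 h8.le], by nlinarith [mul_le_mul_of_nonneg_right h6 h8.le]⟩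

theorem gg_sq (m : ℕ) : (gg (m + 3) - 1) * gg (m + 1) ≤ gg (m + 2) * gg (m + 2) := by
  have h1 := s3_ge
  have h2 := s3_le
  rcases m with _ | _ | m
  · simp only [gg]; norm_num
  · simp only [gg]; norm_num
    rw [pow_succ, s3_sq]; linarith
  · rw [gg_succ (m := m + 1 + 1 + 2) (by omega), gg_succ (by omega), gg_succ (m := m + 1 + 1 + 1) (by omega)]
    have : (0 : ℝ) < √3 ^ (m + 1 + 1) := by positivity
    rw [sub_mul, ← pow_add, ← pow_add, show m + 1 + 1 + 2 + (m + 1 + 1) = m + 1 + 1 + 1 + (m + 1 + 1 + 1) by ring]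
    linarith

end Cfsg.Lib.Block2.KThree
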