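import Cfsg.Agent.Lib.Block2.Few
import Cfsg.Agent.Lib.Small.Cyc

/-! Fusion of elements of a defect group; heights bounded through major subsections. -/

set_option autoImplicit false
set_option linter.dupNamespace false
set_option linter.unusedSectionVars false
set_option linter.style.haveILetI false

open Cfsg Cfsg.Lib.Block Cfsg.Lib.Block2 Cfsg.Lib.Char Cfsg.Lib.Amalg MonoidAlgebra Subgroup
open Cfsg.Lib.Small
open scoped ComplexConjugate

namespace Cfsg.Lib.Block2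

variable {G : Type*} [Group G] [Finite G] {p : ℕ} {M : Ideal AlgInt} [M.IsMaximal]
variable {H P Q : Subgroup G} {ε φ β : MonoidAlgebra (resField M) G} {u v w x g : G}
variable {B : Set (IrrCharacter G)}

variable (p P ε) in
/-- Fusion of elements of `P` in the block fusion system. -/
def FCj (u v : G) : Prop := ∃ g, BMor p ⊤ P ε (zpowers u) g ∧ g * u * g⁻¹ = v

theorem nF_eq (u : G) : nF p P ε u = {v | FCj p P ε u v}.ncard := rfl

theorem FCj.mem (h : FCj p P ε u v) : u ∈ P := let ⟨_, h, _⟩ := h; h.le (mem_zpowers u)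

theorem FCj.symm (h : FCj p P ε u v) : FCj p P ε v u := by
  obtain ⟨g, h, rfl⟩ := h
  exact ⟨g⁻¹, cj_zpowers g u ▸ h.inv, by group⟩

theorem FCj.mem' (h : FCj p P ε u v) : v ∈ P := h.symm.mem

theorem FCj.isConj (h : FCj p P ε u v) : IsConj u v := let ⟨g, _, e⟩ := h; isConj_iff.2 ⟨g, e⟩

theorem FCj.apply_eq {η : G → ℂ} (h : FCj p P ε u v) (hη : FSt p P ε η) : η v = η u := by
  obtain ⟨g, h, rfl⟩ := h
  exact hη u g h

variable [Fact p.Prime]

theorem BP.fCj_refl (hM : IsPModular p M) (h : BP p ⊤ P ε) (hu : u ∈ P) : FCj p P ε u u :=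
  ⟨1, h.bMor_one hM (zpowers_le.2 hu), by simp⟩

theorem BP.fCj_of_stab (hM : IsPModular p M) (h : BP p ⊤ P ε) (hu : u ∈ P) (hg : g ∈ stabP ⊤ P ε) :
    FCj p P ε u (g * u * g⁻¹) := ⟨g, h.bMor_of_stab hM (zpowers_le.2 hu) hg, rfl⟩

theorem BP.fCj_of_mem (hM : IsPModular p M) (h : BP p ⊤ P ε) (hu : u ∈ P) (hg : g ∈ P) :
    FCj p P ε u (g * u * g⁻¹) := ⟨g, h.bMor_of_mem hM (zpowers_le.2 hu) hg, rfl⟩

theorem FCj.trans (hM : IsPModular p M) (h : FCj p P ε u v) (h' : FCj p P ε v w) : FCj p P ε u w := by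
  obtain ⟨g, h, rfl⟩ := h
  obtain ⟨g', h', rfl⟩ := h'
  exact ⟨g' * g, h.mul hM (cj_zpowers g u ▸ h'), by group⟩

theorem FCj.nF_eq (hM : IsPModular p M) (h : FCj p P ε u v) : nF p P ε v = nF p P ε u :=
  congrArg Set.ncard (Set.ext fun _ => ⟨h.trans hM, h.symm.trans hM⟩)

theorem FCj.exists_sp (hM : IsPModular p M) (h : FCj p P ε u v) :
    ∃ g, g * u * g⁻¹ = v ∧ cjA g (sp p P ε u) = sp p P ε v := by
  obtain ⟨g, h, rfl⟩ := h
  have := h.sle hM (h.bp.sle_sp hM (h.le (mem_zpowers u)))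
  rw [cj_zpowers] at this
  exact ⟨g, rfl, (this.sp_eq hM).symm⟩

theorem FCj.con_eq [Fintype G] (hM : IsPModular p M) (h : FCj p P ε u v) {χ ψ : G → ℂ}
    (hχ : IsClassFunction G χ) (hψ : IsClassFunction G ψ) :
    con p v (sp p P ε v) χ ψ = con p u (sp p P ε u) χ ψ := by
  obtain ⟨g, rfl, e⟩ := h.exists_sp hM
  obtain ⟨_, h', -⟩ := h
  rw [← e, con_conj hχ hψ (h'.bp.sle_sp hM (h'.le (mem_zpowers u))).blk_cent]

theorem BMor.exists_of_cent (hM : IsPModular p M) (hm : MaxP p H β P ε) (h : BMor p H P ε Q g)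
    (hP : P ≤ 𝐂 Q) (hP' : P ≤ 𝐂 (cj g Q)) : ∃ y ∈ stabP H P ε, ∃ c ∈ H ⊓ 𝐂 Q, g = y * c := by
  obtain ⟨hg, φ, h1, h2⟩ := h
  have h3 := hm.cent_of_comm hM hP h1
  have h4 := (hm.cent_of_comm hM hP' h2).cjA g⁻¹
  rw [cj_inf_cent, cj_inv_cj, cjA_inv_cjA, cj_of_mem (H.inv_mem hg)] at h4
  obtain ⟨c, hc, e1, e2⟩ := h4.exists_conj hM h3
  rw [← cj_mul] at e1
  rw [← cjA_mul] at e2
  refine ⟨(c * g⁻¹)⁻¹, inv_mem (Block2.mem_stabP.2 ⟨H.mul_mem hc.1 (H.inv_mem hg),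
    cj_eq_self_iff.1 e1, e2⟩), c, hc, by group⟩

theorem FCj.exists_of_cent (hM : IsPModular p M) (hm : MaxP p ⊤ β P ε) (h : FCj p P ε u v)
    (hu : u ∈ 𝐂 P) (hv : v ∈ 𝐂 P) : ∃ y ∈ stabP ⊤ P ε, y * u * y⁻¹ = v := by
  obtain ⟨g, h, rfl⟩ := h
  obtain ⟨y, hy, c, hc, rfl⟩ := h.exists_of_cent hM hm (le_centralizer_iff.1 (zpowers_le.2 hu))
    (cj_zpowers g u ▸ le_centralizer_iff.1 (zpowers_le.2 hv))
  refine ⟨y, hy, ?_⟩
  rw [mul_assoc y c, ← mem_centralizer_iff.1 hc.2 u (mem_zpowers u)]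
  group

theorem MaxP.ncard_fCj_cent_le (hM : IsPModular p M) (hm : MaxP p ⊤ β P ε) (v : G) :
    {u | u ∈ 𝐂 P ∧ FCj p P ε u v}.ncard ≤ (P ⊔ 𝐂 P).relIndex (stabP ⊤ P ε) := by
  rcases Set.eq_empty_or_nonempty {u | u ∈ 𝐂 P ∧ FCj p P ε u v} with h | ⟨u, hu, h⟩
  · simp [h]
  have hc : P ⊔ 𝐂 P ≤ centralizer {u} := sup_le
    (fun x hx => mem_centralizer_singleton_iff.2 (mem_centralizer_iff.1 hu x hx))
    fun x hx => mem_centralizer_singleton_iff.2 (mem_centralizer_iff.1 hx u h.mem).symm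
  refine le_trans (Set.ncard_le_ncard (t := Set.range fun q : stabP ⊤ P ε ⧸
    (P ⊔ 𝐂 P).subgroupOf (stabP ⊤ P ε) => (q.out : G) * u * (q.out : G)⁻¹) fun w hw => ?_) ?_
  · obtain ⟨y, hy, rfl⟩ := (h.trans hM hw.2.symm).exists_of_cent hM hm hu hw.1
    obtain ⟨c, hc'⟩ := QuotientGroup.mk_out_eq_mul ((P ⊔ 𝐂 P).subgroupOf _) ⟨y, hy⟩
    refine ⟨QuotientGroup.mk ⟨y, hy⟩, ?_⟩
    simp only [hc', coe_mul]
    rw [mul_assoc y, show (c.1 : G) * u = _ from mem_centralizer_singleton_iff.1 (hc c.2)]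
    group
  · rw [← Set.image_univ]
    exact (Set.ncard_image_le (Set.toFinite _)).trans (Set.ncard_univ _).le

variable [Fintype G] {χ : IrrCharacter G}

theorem BPO.map_con (hM : IsPModular p M) (hB : IsPBlock M B) (h : BPO p ⊤ (eB M B) (zpowers u) φ)
    (σ : ℂ →+* ℂ) (χ : IrrCharacter G) : ∃ r : ℝ, 0 ≤ r ∧ σ (con p u φ χ.1 χ.1) = r := by
  classical
  haveI := Fintype.ofFinite (𝐂 (zpowers u))
  obtain ⟨h1, h2⟩ := h.exists_ctr hM hB
  have h3 := sum_ctr_mul hM (centralizer_zpowers_eq u)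
    (pow_of_mem_pgroup h.bp.isPGroup (mem_zpowers u)) h1 χ χ
  have hp : (p : ℂ) ^ blockDefect p (bset (𝐂 (zpowers u)) φ) ≠ 0 :=
    pow_ne_zero _ (by exact_mod_cast hM.1.ne_zero)
  rw [h2 χ χ, ← mul_assoc, eq_comm, ← eq_inv_mul_iff_mul_eq₀ (mul_ne_zero hp hp)] at h3
  refine ⟨((p : ℝ) ^ blockDefect p (bset (𝐂 (zpowers u)) φ) * p ^ blockDefect p
    (bset (𝐂 (zpowers u)) φ))⁻¹ * ∑ ψ with ψ ∈ B, ‖σ (ctr p (bset (𝐂 (zpowers u)) φ) u χ ψ)‖ ^ 2,
    by positivity, ?_⟩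
  rw [h3, map_mul, map_sum, Finset.sum_congr rfl fun ψ _ => by
    rw [← conj_ctr χ ψ, map_mul, map_conj_of_mem_cyc σ (ctr_mem_cyc hM (centralizer_zpowers_eq u) h1 χ ψ),
      Complex.mul_conj']]
  simp

theorem MaxP.sum_con_div [DecidablePred (· ∈ P)] (hM : IsPModular p M) (hB : IsPBlock M B)
    (hm : MaxP p ⊤ (eB M B) P ε) (hχ : χ ∈ B) :
    ∑ u with u ∈ P, con p u (sp p P ε u) χ.1 χ.1 / nF p P ε u = 1 := by
  have h := hm.classInner_sst hM hB (fSt_const 1) hχ χ.2.isClassFunction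
  rw [hm.sst_const hM hB hχ (c := 1) fun _ _ => rfl, one_smul, χ.2.classInner_self] at h
  simpa using h.symm

theorem MaxP.ctr_major (hM : IsPModular p M) (hB : IsPBlock M B) (hm : MaxP p ⊤ (eB M B) P ε)
    (h : SLE p ⊤ (zpowers u) φ P ε) (hu : u ∈ 𝐂 P) (hχ : χ ∈ B) {ψ : IrrCharacter G} (hψ : ψ ∈ B) :
    IsIntegral ℤ (Nat.card P * con p u φ χ.1 ψ.1 / p ^ blockHeight p B ψ.1) ∧
      (MemLocalIdeal M (Nat.card P * con p u φ χ.1 ψ.1 / p ^ blockHeight p B ψ.1) ↔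
        blockHeight p B χ.1 ≠ 0) := by
  haveI := Fintype.ofFinite (𝐂 (zpowers u))
  obtain ⟨h3, h4⟩ := (hm.bpo.of_sle hM h).exists_ctr hM hB
  have h5 := (hm.cent_of_comm hM (le_centralizer_iff.1 (zpowers_le.2 hu)) h).defG
  rw [top_inf_eq] at h5
  have h6 := h5.card_eq_pow hM h.bp.blk_top
  have := Small.ctr_major hM (centralizer_zpowers_eq u) (pow_of_mem_pgroup h.bp.isPGroup
    (mem_zpowers u)) h3 (Nat.pow_right_injective hM.1.two_le (h6.symm.trans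
      (card_defectGroup hM hB ((isDefectGroup_iff_defG_top hM hB).2 hm.defG)))) hχ hψ
  rwa [h4, ← Nat.cast_pow, ← h6] at this

theorem MaxP.con_self_ne_zero_of_major (hM : IsPModular p M) (hB : IsPBlock M B)
    (hm : MaxP p ⊤ (eB M B) P ε) (h : SLE p ⊤ (zpowers u) φ P ε) (hu : u ∈ 𝐂 P) (hχ : χ ∈ B) :
    con p u φ χ.1 χ.1 ≠ 0 := fun h1 => by
  haveI := Fintype.ofFinite (centralizer ({u} : Set G))
  obtain ⟨χ₀, h₀, h0⟩ := exists_height_zero p hB.nonempty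
  have hx := pow_of_mem_pgroup h.bp.isPGroup (mem_zpowers u)
  refine hm.con_ne_zero_of_major hM hB h hu hχ h₀ h0 ?_
  rw [con_eq hM χ.2.isClassFunction rfl hx] at h1 ⊢
  rw [classInner_self_eq_zero.1 h1, classInner_zero_left]

theorem MaxP.card_center_mul_le (hM : IsPModular p M) (hB : IsPBlock M B)
    (hm : MaxP p ⊤ (eB M B) P ε) (hχ : χ ∈ B) : Nat.card (P ⊓ 𝐂 P : Subgroup G) *
      p ^ blockHeight p B χ.1 ≤ (P ⊔ 𝐂 P).relIndex (stabP ⊤ P ε) * Nat.card P := by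
  classical
  have hp : (p : ℂ) ^ blockHeight p B χ.1 ≠ 0 := pow_ne_zero _ (by exact_mod_cast hM.1.ne_zero)
  have hP : (Nat.card P : ℂ) ≠ 0 := by exact_mod_cast Nat.card_pos.ne'
  have := sum_le_of_totally_nonneg (Finset.univ.filter (· ∈ P ⊓ 𝐂 P)) (fun _ => p ^ blockHeight p B χ.1)
    (fun u => Nat.card P * con p u (sp p P ε u) χ.1 χ.1 / p ^ blockHeight p B χ.1)
    (N := ((P ⊔ 𝐂 P).relIndex (stabP ⊤ P ε) * Nat.card P : ℕ)) (fun u hu => ?_) (fun u hu => ?_)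
    (fun σ u hu => ?_) fun σ => ?_
  · rw [Finset.sum_const, smul_eq_mul, ← Fintype.card_subtype, ← Nat.card_eq_fintype_card] at this
    exact_mod_cast this
  · have hu' := (Finset.mem_filter.1 hu).2
    exact (hm.ctr_major hM hB (hm.bp.sle_sp hM hu'.1) hu'.2 hχ hχ).1
  · have hu' := (Finset.mem_filter.1 hu).2
    exact div_ne_zero (mul_ne_zero hP (hm.con_self_ne_zero_of_major hM hB (hm.bp.sle_sp hM hu'.1)
      hu'.2 hχ)) hp
  · obtain ⟨r, hr, e⟩ := (hm.bpo_sp hM (Finset.mem_filter.1 hu).2.1).map_con hM hB σ.toRingHom χ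
    exact ⟨Nat.card P * r / p ^ blockHeight p B χ.1, by positivity, by
      simp only [map_div₀, map_mul, map_natCast, map_pow]; rw [← RingEquiv.coe_toRingHom]; simp [← e]⟩
  · choose! r hr e using fun u (hu : u ∈ P) => (hm.bpo_sp hM hu).map_con hM hB σ.toRingHom χ
    have h1 : ∑ u with u ∈ P, r u / nF p P ε u = 1 := by
      have := congrArg σ.toRingHom (hm.sum_con_div hM hB hχ)
      rw [map_sum, Finset.sum_congr rfl fun u hu => by
        rw [map_div₀, e u (by simpa using hu), map_natCast], map_one] at this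
      exact_mod_cast this
    have h2 : ∀ u ∈ Finset.univ.filter (· ∈ P ⊓ 𝐂 P), r u =
        ∑ v with v ∈ P, if FCj p P ε u v then r v / nF p P ε v else 0 := fun u hu => by
      have hu' := (Finset.mem_filter.1 hu).2.1
      rw [← Finset.sum_filter, Finset.sum_congr rfl (g := fun _ => r u / nF p P ε u) fun v hv => by
        have hv' := (Finset.mem_filter.1 hv).2
        rw [hv'.nF_eq hM, Complex.ofReal_injective ((e v hv'.mem').symm.trans ((congrArg _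
          (hv'.con_eq hM χ.2.isClassFunction χ.2.isClassFunction)).trans (e u hu')))],
        Finset.sum_const, nsmul_eq_mul, ← Set.ncard_coe_finset, show ((Finset.filter _ _ : Finset G) :
          Set G) = {v | FCj p P ε u v} from Set.ext fun v => by
            simpa using fun h : FCj p P ε u v => h.mem', ← nF_eq, mul_div_cancel₀]
      exact_mod_cast (hm.bp.nF_pos hM hu').ne'
    rw [map_sum, Finset.sum_congr rfl (g := fun u => ((Nat.card P * r u : ℝ) : ℂ)) fun u hu => by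
      rw [Nat.cast_pow, mul_div_cancel₀ _ hp, map_mul, map_natCast, Complex.ofReal_mul,
        ← e u (Finset.mem_filter.1 hu).2.1]; simp, ← Complex.ofReal_sum, Complex.ofReal_re,
      ← Finset.mul_sum, Finset.sum_congr rfl h2, Finset.sum_comm, Nat.cast_mul, mul_comm]
    refine mul_le_mul_of_nonneg_right ?_ (Nat.cast_nonneg _)
    rw [← mul_one (Nat.cast _), ← h1, Finset.mul_sum]
    refine Finset.sum_le_sum fun v hv => ?_
    rw [← Finset.sum_filter, Finset.sum_const, nsmul_eq_mul]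
    refine mul_le_mul_of_nonneg_right (Nat.cast_le.2 (le_trans ?_ (hm.ncard_fCj_cent_le hM v)))
      (div_nonneg (hr v (by simpa using hv)) (Nat.cast_nonneg _))
    rw [← Set.ncard_coe_finset]
    exact Set.ncard_le_ncard fun u hu => by simp at hu; exact ⟨hu.1.2, hu.2⟩

end Cfsg.Lib.Block2
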