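import Cfsg.Agent.Lib.Block2.Lift
import Cfsg.Agent.Lib.Block2.StarK

/-! Characters of idempotents of the group algebra; ranks and their reductions. -/

set_option autoImplicit false
set_option linter.dupNamespace false
set_option linter.unusedSectionVars false
set_option linter.style.haveILetI false

open Cfsg Cfsg.Lib.Block Cfsg.Lib.Block2 Cfsg.Lib.Char Cfsg.Lib.Amalg MonoidAlgebra Subgroup
open Module
open scoped ComplexConjugate

namespace Cfsg.Lib.Block2

theorem trace_eq_finrank_range {F V : Type*} [Field F] [AddCommGroup V] [Module F V]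
    [FiniteDimensional F V] {f : V →ₗ[F] V} (h : ∀ v, f (f v) = f v) :
    LinearMap.trace F V f = finrank F (LinearMap.range f) :=
  LinearMap.IsProj.trace ⟨fun v => ⟨v, rfl⟩, by rintro _ ⟨v, rfl⟩; exact h v⟩

theorem finrank_range_add {F V : Type*} [Field F] [AddCommGroup V] [Module F V]
    [FiniteDimensional F V] {f : V →ₗ[F] V} (h : ∀ v, f (f v) = f v) :
    finrank F (LinearMap.range f) + finrank F (LinearMap.range (LinearMap.id - f)) =
      finrank F V := by
  rw [← f.finrank_range_add_finrank_ker]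
  rw [show LinearMap.range (LinearMap.id - f) = LinearMap.ker f from Submodule.ext fun v =>
    ⟨by rintro ⟨w, rfl⟩; simp [h w], fun hv => ⟨v, by simpa using hv⟩⟩]

variable {M : Ideal AlgInt} [M.IsMaximal]

theorem linearIndependent_of_pairing {ι V : Type*} [Finite ι] [DecidableEq ι] [AddCommGroup V]
    [Module ℂ V] {v : ι → V} (φ : ι → V →ₗ[ℂ] ℂ) (hv : ∀ i j, MemLocalRing M (φ j (v i)))
    (h : ∀ i j, red M (φ j (v i)) = if i = j then 1 else 0) : LinearIndependent ℂ v := by
  refine LinearIndependent.of_comp (LinearMap.pi φ) (linearIndependent_of_red (M := M) hv ?_)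
  convert Pi.linearIndependent_single_one ι (resField M) using 1
  ext i j
  exact (h i j).trans (by simp [Pi.single_apply, eq_comm])

variable {G : Type*} [Group G] [Finite G] {p : ℕ}

theorem linearIndependent_of_redA {ι : Type*} [Finite ι] {v : ι → MonoidAlgebra ℂ G}
    (hv : ∀ i, IsInt M (v i)) (h : LinearIndependent (resField M) fun i => redA M (v i)) :
    LinearIndependent ℂ v := by
  let c : ∀ (S : Type) [Field S], MonoidAlgebra S G →ₗ[S] (G → S) := fun S _ =>
    { toFun := fun a g => a.coeff g, map_add' := fun _ _ => rfl, map_smul' := fun _ _ => rfl }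
  refine LinearIndependent.of_comp (c ℂ) (linearIndependent_of_red (M := M) hv ?_)
  exact h.map' (c (resField M)) (LinearMap.ker_eq_bot.2 fun a b e => ga_ext (congrFun e))

theorem finrank_le_of_redA {V : Submodule ℂ (MonoidAlgebra ℂ G)}
    {W : Submodule (resField M) (MonoidAlgebra (resField M) G)}
    (h : ∀ w ∈ W, ∃ v ∈ V, IsInt M v ∧ redA M v = w) : finrank (resField M) W ≤ finrank ℂ V := by
  let b := Module.finBasis (resField M) W
  choose v hv hi e using fun i => h (b i) (b i).2
  have h1 : LinearIndependent ℂ v := linearIndependent_of_redA hi (by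
    simp only [e]; exact b.linearIndependent.map' W.subtype W.ker_subtype)
  have h2 : LinearIndependent ℂ (fun i => (⟨v i, hv i⟩ : V)) :=
    LinearIndependent.of_comp V.subtype h1
  exact (Fintype.card_fin _).symm.trans_le h2.fintype_card_le_finrank

theorem finrank_range_redA {P : MonoidAlgebra ℂ G →ₗ[ℂ] MonoidAlgebra ℂ G}
    {Q : MonoidAlgebra (resField M) G →ₗ[resField M] MonoidAlgebra (resField M) G}
    (hP : ∀ a, P (P a) = P a) (h : ∀ a, IsInt M a → IsInt M (P a) ∧ redA M (P a) = Q (redA M a)) :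
    finrank (resField M) (LinearMap.range Q) = finrank ℂ (LinearMap.range P) := by
  have hQ : ∀ a, Q (Q a) = Q a := fun a => by
    have h1 := h _ (isInt_secA a)
    rw [← redA_secA a, ← h1.2, ← (h _ h1.1).2, hP]
  have h1 : finrank _ (LinearMap.range Q) ≤ finrank ℂ (LinearMap.range P) :=
    finrank_le_of_redA (by
      rintro _ ⟨a, rfl⟩
      exact ⟨_, ⟨secA M a, rfl⟩, (h _ (isInt_secA a)).1, by rw [(h _ (isInt_secA a)).2, redA_secA]⟩)
  have h2 : finrank _ (LinearMap.range (LinearMap.id - Q)) ≤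
      finrank ℂ (LinearMap.range (LinearMap.id - P)) :=
    finrank_le_of_redA (by
      rintro _ ⟨a, rfl⟩
      have := h _ (isInt_secA a)
      exact ⟨_, ⟨secA M a, rfl⟩, (isInt_secA a).sub this.1, by
        simp [redA_sub (isInt_secA a) this.1, this.2, redA_secA]⟩)
  have h3 := finrank_range_add hP
  have h4 := finrank_range_add hQ
  have := Fintype.ofFinite G
  rw [finrank_eq_card_basis (MonoidAlgebra.basis G _)] at h3 h4
  omega

section pchar
variable [Fintype G]

/-- The character of the left ideal generated by an idempotent. -/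
noncomputable def pchar : MonoidAlgebra ℂ G →ₗ[ℂ] (G → ℂ) where
  toFun a g := ∑ x, a.coeff (x * g⁻¹ * x⁻¹)
  map_add' a b := by ext; simp [Finset.sum_add_distrib]
  map_smul' c a := by ext; simp [Finset.mul_sum]

theorem pchar_apply (a : MonoidAlgebra ℂ G) (g : G) :
    pchar a g = ∑ x, a.coeff (x * g⁻¹ * x⁻¹) := rfl

theorem isClassFunction_pchar (a : MonoidAlgebra ℂ G) : IsClassFunction G (pchar a) := fun g y =>
  Fintype.sum_equiv (Equiv.mulRight y) _ _ fun x => by simp [mul_assoc]

theorem sum_mul_pchar {θ : G → ℂ} (hθ : IsClassFunction G θ) (a : MonoidAlgebra ℂ G) :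
    ∑ g, θ g⁻¹ * pchar a g = Nat.card G * charExt θ a := by
  simp only [pchar_apply, Finset.mul_sum, charExt_apply]
  rw [Finset.sum_comm, Finset.sum_congr rfl fun x _ => (Fintype.sum_equiv ((Equiv.inv G).trans
    (MulAut.conj x).toEquiv) _ (fun g => a.coeff g * θ g) fun g => by
      simp [hθ.conj_eq, mul_comm]), ← Finset.mul_sum]
  simp

theorem classInner_pchar {χ : G → ℂ} (hχ : IsGeneralizedCharacter G χ) (a : MonoidAlgebra ℂ G) :
    classInner (pchar a) χ = charExt χ a := by
  rw [classInner_def, Finset.sum_congr rfl fun g _ => by rw [← hχ.apply_inv, mul_comm],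
    sum_mul_pchar hχ.isClassFunction, inv_mul_cancel_left₀ (card_ne_zero G)]

theorem pchar_eq_sum (a : MonoidAlgebra ℂ G) :
    pchar a = ∑ χ : IrrCharacter G, charExt χ.1 a • χ.1 := by
  rw [(isClassFunction_pchar a).eq_sum]
  exact Finset.sum_congr rfl fun χ _ => by
    rw [classInner_pchar χ.2.isCharacter.isGeneralizedCharacter]

theorem charExt_classFun {θ : G → ℂ} (hθ : IsClassFunction G θ) (a : MonoidAlgebra ℂ G) :
    charExt θ a = ∑ χ : IrrCharacter G, classInner θ χ.1 * charExt χ.1 a := by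
  conv_lhs => rw [hθ.eq_sum, charExt_sum]
  simp only [charExt_smul]

theorem trace_mul_mul (x y : MonoidAlgebra ℂ G) :
    LinearMap.trace ℂ _ (LinearMap.mulLeftRight ℂ (x, y)) =
      ∑ χ : IrrCharacter G, charExt χ.1 y * charExt χ.1 x := by
  classical
  have : ∑ χ : IrrCharacter G, charExt χ.1 y * charExt χ.1 x = charExt (pchar y) x := by
    rw [pchar_eq_sum, charExt_sum]; simp only [charExt_smul]
  rw [this, LinearMap.trace_eq_matrix_trace ℂ (MonoidAlgebra.basis G ℂ), Matrix.trace, charExt_apply]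
  simp only [pchar_apply, Finset.mul_sum]
  rw [Finset.sum_comm, ← Equiv.sum_comp (Equiv.inv G)]
  refine Finset.sum_congr rfl fun g _ => ?_
  rw [Matrix.diag, LinearMap.toMatrix_apply]
  change (x * single g⁻¹ 1 * y).coeff g⁻¹ = _
  rw [mul_assoc, coeff_mul_sum]
  simp [mul_assoc]

theorem pchar_eq_zero [Fact p.Prime] (hM : IsPModular p M) {e : MonoidAlgebra ℂ G} (hi : IsInt M e)
    (he : e * e = e) {g : G} (hg : p ∣ orderOf g) : pchar e g = 0 := by
  have := btr_eq_zero (C := ⊤) (X := Finset.univ) (g₁ := 1) (g₂ := g⁻¹) (u₁ := 1) hM hi he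
    (supp_top _) (by simp) ⟨1, by simp, Commute.refl _, ⟨0, by simp⟩, by simpa using hM.1.one_lt.ne'⟩
    (isPPart_pp g⁻¹) (by simp) (cjA_one _) fun i _ j _ h _ => by
      have h1 : pp p g⁻¹ = 1 := by simpa using h
      obtain ⟨y, e, -, -, hy⟩ := isPPart_pp (p := p) g⁻¹
      rw [h1, one_mul] at e
      exact (hy (by rwa [e, orderOf_inv])).elim
  simpa [btr_apply, pchar_apply] using this

theorem charExt_reg_idem [Fact p.Prime] (hM : IsPModular p M) {e : MonoidAlgebra ℂ G}
    (hi : IsInt M e) (he : e * e = e) {θ : G → ℂ} (hθ : IsClassFunction G θ) :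
    charExt ({g : G | ¬ p ∣ orderOf g}.indicator θ) e = charExt θ e := by
  refine mul_left_cancel₀ (card_ne_zero G) ?_
  rw [← sum_mul_pchar hθ, ← sum_mul_pchar
    ((isSectionClosed_regular hM.1).isClassFunction_indicator hM.1 hθ)]
  refine Finset.sum_congr rfl fun g _ => ?_
  by_cases hg : p ∣ orderOf g
  · rw [pchar_eq_zero hM hi he hg, mul_zero, mul_zero]
  · rw [Set.indicator_of_mem (by simpa using hg)]

end pchar

theorem finrank_range_mulLeftRight {x y : MonoidAlgebra ℂ G} (hx : x * x = x) (hy : y * y = y) :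
    (finrank ℂ (LinearMap.range (LinearMap.mulLeftRight ℂ (x, y))) : ℂ) =
      ∑ χ : IrrCharacter G, charExt χ.1 y * charExt χ.1 x := by
  have := Fintype.ofFinite G
  rw [← trace_mul_mul, trace_eq_finrank_range fun v => by
    simp only [LinearMap.mulLeftRight_apply]; rw [← mul_assoc, ← mul_assoc, hx, mul_assoc, hy]]

theorem finrank_range_mulLeftRight_red {x y : MonoidAlgebra ℂ G} (hx : x * x = x) (hy : y * y = y)
    (ix : IsInt M x) (iy : IsInt M y) :
    (finrank (resField M) (LinearMap.range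
      (LinearMap.mulLeftRight (resField M) (redA M x, redA M y))) : ℂ) =
      ∑ χ : IrrCharacter G, charExt χ.1 y * charExt χ.1 x := by
  rw [← finrank_range_mulLeftRight hx hy,
    finrank_range_redA (P := LinearMap.mulLeftRight ℂ (x, y)) (fun v => by
    simp only [LinearMap.mulLeftRight_apply]; rw [← mul_assoc, ← mul_assoc, hx, mul_assoc, hy])
    fun a ha => ⟨(ix.mul ha).mul iy, by
      simp only [LinearMap.mulLeftRight_apply]; rw [redA_mul (ix.mul ha) iy, redA_mul ix ha]⟩]

theorem Cfsg.IsCharacter.exists_charExt_idem {χ : G → ℂ} (hχ : IsCharacter G χ)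
    {e : MonoidAlgebra ℂ G} (he : e * e = e) : ∃ n : ℕ, charExt χ e = n := by
  obtain ⟨_, ρ, rfl⟩ := hχ
  exact ⟨_, (trace_asAlgebraHom ρ e).symm.trans (trace_eq_finrank_range fun v => by
    rw [← Module.End.mul_apply, ← map_mul, he])⟩

theorem eq_idem_of_charExt {e : MonoidAlgebra ℂ G} (he : e * e = e) {U : Set (IrrCharacter G)}
    (h1 : ∀ χ ∈ U, charExt χ.1 e = χ.1 1) (h0 : ∀ χ ∉ U, charExt χ.1 e = 0) : e = idem U := by
  classical
  have H : ∀ (V : Set (IrrCharacter G)) {f : MonoidAlgebra ℂ G}, f * f = f →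
      (∀ χ ∈ V, charExt χ.1 f = 0) → idem V * f = 0 := fun V f hf h =>
    idem_eq_zero_of_charExt (by
      rw [mul_assoc, ← mul_assoc f, ← (isCen_idem V).comm, mul_assoc, hf, ← mul_assoc,
        idem_mul_self]) fun χ => by
      rw [charExt_idem_mul]; split_ifs with hχ; exacts [h χ hχ, rfl]
  have a := H Uᶜ he h0
  have b := H U (f := 1 - e) (IsIdempotentElem.one_sub he) fun χ hχ => by
    rw [map_sub, charExt_one, h1 χ hχ, sub_self]
  rw [idem_compl, sub_mul, one_mul, sub_eq_zero] at a
  rw [mul_sub, mul_one, sub_eq_zero] at b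
  exact a.trans b.symm

theorem red_charExt {θ : G → ℂ} (hθ : ∀ g, MemLocalRing M (θ g)) {a : MonoidAlgebra ℂ G}
    (ha : IsInt M a) : MemLocalRing M (charExt θ a) ∧
      red M (charExt θ a) = charExt (fun g => red M (θ g)) (redA M a) := by
  have := Fintype.ofFinite G
  rw [charExt_apply, charExt_apply, red_sum fun g _ => (ha g).mul (hθ g)]
  exact ⟨memLocalRing_sum fun g _ => (ha g).mul (hθ g),
    Finset.sum_congr rfl fun g _ => red_mul (ha g) (hθ g)⟩

theorem finrank_cen_le (B : Set (IrrCharacter G)) (hB : IsBlockUnion M B)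
    {W : Submodule (resField M) (MonoidAlgebra (resField M) G)}
    (h : ∀ w ∈ W, IsCen w ∧ eB M B * w = w) : finrank (resField M) W ≤ Nat.card B := by
  classical
  have := Fintype.ofFinite B
  refine (finrank_le_of_redA (V := Submodule.span ℂ (Set.range fun χ : B => idem {χ.1}))
    fun w hw => ⟨idem B * secA M w, ?_, hB.isInt_idem.mul (isInt_secA w), ?_⟩).trans ?_
  · rw [((isCen_idem B).mul (h w hw).1.secA).eq_sum_idem]
    refine Submodule.sum_mem _ fun χ _ => ?_
    by_cases hχ : χ ∈ B
    · exact Submodule.smul_mem _ _ (Submodule.subset_span ⟨⟨χ, hχ⟩, rfl⟩)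
    · rw [χ.2.omega_mul (isCen_idem B), omega_idem_of_notMem hχ, zero_mul, zero_smul]
      exact zero_mem _
  · rw [redA_mul hB.isInt_idem (isInt_secA w), redA_secA]; exact (h w hw).2
  · exact (finrank_range_le_card _).trans (Nat.card_eq_fintype_card).ge

end Cfsg.Lib.Block2
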