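import Cfsg.Agent.Lib.Block2.Nil
import Cfsg.Agent.Lib.Block2.PMod
import Cfsg.Agent.Lib.Block2.Proj

/-! Blocks of minimal dimension: the block is a transitive permutation bimodule. -/

set_option autoImplicit false
set_option linter.dupNamespace false
set_option linter.unusedSectionVars false
set_option linter.style.haveILetI false

open Cfsg Cfsg.Lib.Block Cfsg.Lib.Block2 Cfsg.Lib.Char Cfsg.Lib.Amalg MonoidAlgebra Subgroup
open Module

namespace Cfsg.Lib.Block2

variable {k G : Type*} [Field k] [Group G] [Finite G] {p : ℕ} [Fact p.Prime] [CharP k p]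
variable {S D Q : Subgroup G} {a e : MonoidAlgebra k G}

/-- Two-sided action on the group. -/
def sideAct {R : Type*} [Group R] (l r : R →* G) : R →* Equiv.Perm G where
  toFun w := Equiv.mulLeft (l w) * Equiv.mulRight (r w)⁻¹
  map_one' := by ext; simp
  map_mul' a b := by ext; simp [mul_assoc]

theorem sideAct_apply {R : Type*} [Group R] (l r : R →* G) (w : R) (x : G) :
    sideAct l r w x = l w * x * (r w)⁻¹ := by simp [sideAct, mul_assoc]

theorem exists_bi_point {R : Type*} [Group R] (hR : IsPGroup p R) (l r : R →* G) (he : IsCen e)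
    (ha : ∀ w x, a.coeff (l w * x * (r w)⁻¹) = a.coeff x) {z : G} (hz : ∀ w, l w * z = z * r w)
    (h : (a * e).coeff z ≠ 0) :
    ∃ x, a.coeff x ≠ 0 ∧ (∀ w, l w * x = x * r w) ∧ e.coeff (x⁻¹ * z) ≠ 0 := by
  haveI := Fintype.ofFinite G
  rw [coeff_mul_sum] at h
  obtain ⟨x, -, h1, h2⟩ := exists_fixed_of_sum_ne_zero hR (sideAct l r) _ (by simp) _
    (fun w x _ => by
      rw [sideAct_apply, ha, ← he (r w) (x⁻¹ * z)]
      congr 2
      have : l w = z * r w * z⁻¹ := by rw [← hz, mul_inv_cancel_right]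
      rw [this]
      group) h
  exact ⟨x, left_ne_zero_of_mul h2, fun w => by rw [← mul_inv_eq_iff_eq_mul, ← sideAct_apply, h1],
    right_ne_zero_of_mul h2⟩

theorem coeff_bi (s t x : G) (a : MonoidAlgebra k G) :
    (single s (1 : k) * a * single t 1).coeff x = a.coeff (s⁻¹ * x * t⁻¹) := by
  simp [coeff_mul_single_apply, coeff_single_mul_apply, mul_assoc]

theorem exists_bi_fixed (hS : IsPGroup p S) {W : Submodule k (MonoidAlgebra k G)} (hW : W ≠ ⊥)
    (h : ∀ s ∈ S, ∀ t ∈ S, ∀ a ∈ W, single s 1 * a * single t 1 ∈ W) :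
    ∃ a ∈ W, a ≠ 0 ∧ ∀ s ∈ S, ∀ t ∈ S, ∀ x, a.coeff (s * x * t) = a.coeff x := by
  haveI := Submodule.nontrivial_iff_ne_bot.2 hW
  let ρ : Representation k (S × S) (MonoidAlgebra k G) :=
    { toFun := fun w => LinearMap.mulLeftRight k (single w.1 1, single (w.2 : G)⁻¹ 1)
      map_one' := LinearMap.ext fun a => by simp [← one_def]
      map_mul' := fun v w => LinearMap.ext fun a => by
        simp [mul_assoc, ← mul_assoc (single (v.1 : G) (1 : k)), single_mul_single] }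
  obtain ⟨n, hn⟩ := IsPGroup.iff_card.1 hS
  obtain ⟨v, h0, h1⟩ := exists_fixed_ne_zero (p := p) (IsPGroup.of_card (n := n + n) (by
    rw [Nat.card_prod, hn, pow_add])) (ρ.subrepresentation W
    fun w a ha => h _ w.1.2 _ (inv_mem w.2.2) a ha)
  refine ⟨v, v.2, by simpa using h0, fun s hs t ht x => ?_⟩
  have := congrArg (fun a : W => a.1.coeff x) (h1 (⟨s, hs⟩⁻¹, ⟨t, ht⟩))
  simpa [ρ, Representation.subrepresentation, coeff_bi, mul_assoc] using this

/-- The elements of `S` conjugated into `S` by `x`. -/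
abbrev biStab (S : Subgroup G) (x : G) : Subgroup G := S ⊓ S.comap (MulAut.conj x).toMonoidHom

/-- The double coset `S y S`. -/
def dcs (S : Subgroup G) (y : G) : Set G := {x | ∃ s ∈ S, ∃ t ∈ S, s * y * t = x}

theorem mul_mem_dcs_iff {s t x y : G} (hs : s ∈ S) (ht : t ∈ S) :
    s * x * t ∈ dcs S y ↔ x ∈ dcs S y :=
  ⟨fun ⟨s', hs', t', ht', e⟩ => ⟨s⁻¹ * s', mul_mem (inv_mem hs) hs', t' * t⁻¹, mul_mem ht' (inv_mem ht),
    by rw [show s⁻¹ * s' * y * (t' * t⁻¹) = s⁻¹ * (s' * y * t') * t⁻¹ by group, e]; group⟩,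
  fun ⟨s', hs', t', ht', e⟩ => ⟨s * s', mul_mem hs hs', t' * t, mul_mem ht' ht, by rw [← e]; group⟩⟩

theorem card_sq_le (S : Subgroup G) (y : G) :
    Nat.card S ^ 2 ≤ Nat.card (dcs S y) * Nat.card (biStab S y) := by
  letI := MulAction.compHom G (sideAct (S.subtype.comp (MonoidHom.fst S S))
    (S.subtype.comp (MonoidHom.snd S S)))
  have h : ∀ (w : S × S) (x : G), w • x = w.1 * x * (w.2 : G)⁻¹ := fun w x => sideAct_apply _ _ w x
  rw [sq, ← Nat.card_prod, ← Nat.card_congr (MulAction.orbitProdStabilizerEquivGroup (S × S) y),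
    Nat.card_prod]
  refine Nat.mul_le_mul (Nat.card_mono (Set.toFinite _) ?_) (Nat.card_le_card_of_injective
    (fun w => ⟨w.1.2, w.1.2.2, ?_⟩) fun v w e => ?_)
  · rintro _ ⟨w, rfl⟩
    exact ⟨_, w.1.2, _, inv_mem w.2.2, (h w y).symm⟩
  · have := (h _ _).symm.trans w.2
    rw [mul_inv_eq_iff_eq_mul, ← eq_mul_inv_iff_mul_eq] at this
    exact mem_comap.2 (by simp [← this])
  · have h1 : (v.1.2 : G) = w.1.2 := congrArg (fun x : biStab S y => (x : G)) e
    have h2 := ((h _ _).symm.trans v.2).trans ((h _ _).symm.trans w.2).symm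
    rw [h1, mul_left_inj, mul_left_inj] at h2
    exact Subtype.ext (Prod.ext (Subtype.ext h2) (Subtype.ext h1))

theorem card_biStab_le (hS : IsPGroup p S) (he : IsCen e) {n : ℕ}
    (hmax : ∀ U : Subgroup G, IsPGroup p U → brauer U e ≠ 0 → Nat.card U ≤ n)
    (ha : ∀ s ∈ S, ∀ t ∈ S, ∀ x, a.coeff (s * x * t) = a.coeff x) {z : G}
    (h : (a * e).coeff z ≠ 0) : Nat.card (biStab S z) ≤ n := by
  have hp : IsPGroup p (biStab S z) := hS.to_inf_left
  obtain ⟨x, -, h1, h2⟩ := exists_bi_point hp ((MulAut.conj z).toMonoidHom.comp (biStab S z).subtype)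
    (biStab S z).subtype he (fun w x => ha _ w.2.2 _ (inv_mem w.2.1) x) (fun w => by simp) h
  refine hmax _ hp (brauer_ne_zero_iff.2 ⟨_, fun t ht => mem_centralizer_singleton_iff.2 ?_, h2⟩)
  have : z * t * z⁻¹ * x = x * t := by simpa using h1 ⟨t, ht⟩
  rw [show t * (x⁻¹ * z) = x⁻¹ * (x * t) * x⁻¹ * z by group, ← this]
  group

theorem exists_dcs (hS : IsPGroup p S) (he : IsCen e) (hee : e * e = e) (h0 : e ≠ 0) {n : ℕ}
    (hmax : ∀ U : Subgroup G, IsPGroup p U → brauer U e ≠ 0 → Nat.card U ≤ n)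
    (hdim : finrank k (LinearMap.range (LinearMap.mulRight k e)) * n ≤ Nat.card S ^ 2) :
    ∃ y, (∀ x ∈ dcs S y, Nat.card (biStab S x) ≤ n) ∧
      (∀ a, trunc (dcs S y) a = a → a * e = 0 → a = 0) ∧ ∀ b, ∃ a, trunc (dcs S y) a = a ∧ a * e = b * e := by
  classical
  haveI := Fintype.ofFinite G
  have hc : ∀ s t : G, ∀ a : MonoidAlgebra k G,
      single s 1 * (a * e) * single t 1 = single s 1 * a * single t 1 * e := fun s t a => by
    rw [mul_assoc, mul_assoc, he.comm, ← mul_assoc, ← mul_assoc]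
  obtain ⟨_, ⟨v, rfl⟩, h1, h2⟩ := exists_bi_fixed hS (W := LinearMap.range (LinearMap.mulRight k e))
    (fun h => h0 (by simpa using (Submodule.eq_bot_iff _).1 h _ ⟨1, rfl⟩))
    (by rintro s - t - _ ⟨a, rfl⟩; exact ⟨_, (hc s t a).symm⟩)
  rw [LinearMap.mulRight_apply] at h1 h2
  have h3 : v * e * e = v * e := by rw [mul_assoc, hee]
  generalize v * e = v at *
  have hy : ∀ y, y ∈ dcs S y := fun y => ⟨1, one_mem _, 1, one_mem _, by simp⟩
  have hyy : ∀ x y, x ∈ dcs S y → dcs S x = dcs S y := by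
    rintro _ y ⟨s, hs, t, ht, rfl⟩
    ext z
    exact ⟨by rintro ⟨s', hs', t', ht', rfl⟩; exact (mul_mem_dcs_iff hs' ht').2 ⟨s, hs, t, ht, rfl⟩,
      by rintro ⟨s', hs', t', ht', rfl⟩; exact ⟨s' * s⁻¹, mul_mem hs' (inv_mem hs), t⁻¹ * t',
        mul_mem (inv_mem ht) ht', by group⟩⟩
  have h4 : ∑ X ∈ Finset.univ.image (dcs S), trunc X v = v := ga_ext fun x => by
    rw [coeff_sum', Finset.sum_eq_single_of_mem (dcs S x) (by simp), coeff_trunc_of_mem _ (hy x)]
    intro X hX hne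
    obtain ⟨y, -, rfl⟩ := Finset.mem_image.1 hX
    exact coeff_trunc_of_notMem _ fun h => hne (hyy _ _ h).symm
  obtain ⟨X, hX, h5⟩ := Finset.exists_ne_zero_of_sum_ne_zero (s := Finset.univ.image (dcs S))
    (f := fun X => trunc X v * e) (by rwa [← Finset.sum_mul, h4, h3])
  obtain ⟨y, -, rfl⟩ := Finset.mem_image.1 hX
  have h6 : ∀ a : MonoidAlgebra k G, (∀ s ∈ S, ∀ t ∈ S, ∀ x, a.coeff (s * x * t) = a.coeff x) →
      ∀ x ∈ dcs S y, a.coeff x = a.coeff y := by
    rintro a ha _ ⟨s, hs, t, ht, rfl⟩; exact ha s hs t ht y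
  have h7 : v.coeff y ≠ 0 := fun h => h5 (by
    rw [trunc_eq_zero_iff.2 fun x hx => (h6 v h2 x hx).trans h, zero_mul])
  have h8 : ∀ x ∈ dcs S y, Nat.card (biStab S x) ≤ n := fun x hx =>
    card_biStab_le hS he hmax h2 (by rwa [h3, h6 v h2 x hx])
  have h9 : ∀ a, trunc (dcs S y) a = a → a * e = 0 → a = 0 := fun a ha ha' => by
    by_contra hne
    obtain ⟨b, ⟨hb, hb'⟩, hb0, hb1⟩ := exists_bi_fixed hS
      (W := LinearMap.eqLocus (trunc (dcs S y)) LinearMap.id ⊓ LinearMap.ker (LinearMap.mulRight k e))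
      (fun h => hne ((Submodule.eq_bot_iff _).1 h a ⟨ha, ha'⟩)) fun s hs t ht a ⟨ha, ha'⟩ =>
      ⟨trunc_eq_self fun x hx => by
        rw [coeff_bi, ← (show trunc _ a = a from ha), coeff_trunc_of_notMem _
          fun h => hx ((mul_mem_dcs_iff (inv_mem hs) (inv_mem ht)).1 h)],
      show _ * e = 0 by rw [← hc, show a * e = 0 from ha', mul_zero, zero_mul]⟩
    have e1 : v.coeff y • b = b.coeff y • trunc (dcs S y) v := ga_ext fun x => by
      rw [← (show trunc _ b = b from hb)]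
      by_cases hx : x ∈ dcs S y
      · simp [coeff_trunc_of_mem _ hx, coeff_trunc_of_mem _ (hy y), h6 v h2 x hx, h6 b hb1 x hx,
          mul_comm]
      · simp [coeff_trunc_of_notMem _ hx]
    have e2 := congrArg (· * e) e1
    simp only [smul_mul_assoc, show b * e = 0 from hb', smul_zero] at e2
    rw [(smul_eq_zero.1 e2.symm).resolve_right h5, zero_smul] at e1
    exact hb0 ((smul_eq_zero.1 e1).resolve_left h7)
  refine ⟨y, h8, h9, fun b => ?_⟩
  let ι : (dcs S y → k) →ₗ[k] MonoidAlgebra k G :=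
    { toFun := fun f => ofFun fun g => if h : g ∈ dcs S y then f ⟨g, h⟩ else 0
      map_add' := fun f f' => ga_ext fun g => by by_cases h : g ∈ dcs S y <;> simp [h]
      map_smul' := fun c f => ga_ext fun g => by by_cases h : g ∈ dcs S y <;> simp [h] }
  have hι : ∀ f, trunc (dcs S y) (ι f) = ι f := fun f => trunc_eq_self fun x hx => by simp [ι, hx]
  have hinj : Function.Injective (LinearMap.mulRight k e ∘ₗ ι) :=
    (injective_iff_map_eq_zero _).2 fun f hf => funext fun x => by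
      simpa [ι, x.2] using congrArg (·.coeff x) (h9 _ (hι f) hf)
  have hn : 0 < n := Nat.card_pos.trans_le (h8 y (hy y))
  have := Submodule.eq_of_le_of_finrank_le (LinearMap.range_comp_le_range ι (LinearMap.mulRight k e)) (by
    rw [LinearMap.finrank_range_of_inj hinj, finrank_fintype_fun_eq_card, ← Nat.card_eq_fintype_card]
    exact Nat.le_of_mul_le_mul_right (hdim.trans ((card_sq_le S y).trans
      (Nat.mul_le_mul_left _ (h8 y (hy y))))) hn)
  obtain ⟨f, hf⟩ : b * e ∈ LinearMap.range (LinearMap.mulRight k e ∘ₗ ι) := this ▸ ⟨b, rfl⟩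
  exact ⟨_, hι f, hf⟩

theorem exists_conj_eq_of_dim (hS : IsPGroup p S) (he : IsCen e) (hee : e * e = e) (hD : D ≤ S)
    (h0 : brauer D e ≠ 0)
    (hmax : ∀ U : Subgroup G, IsPGroup p U → brauer U e ≠ 0 → Nat.card U ≤ Nat.card D)
    (hdim : finrank k (LinearMap.range (LinearMap.mulRight k e)) * Nat.card D ≤ Nat.card S ^ 2)
    (hQ : Q ≤ S) (hQ0 : brauer Q e ≠ 0) {g : G} (hg : g ∈ 𝐍 Q) :
    ∃ s ∈ S, ∀ u ∈ Q, g * u * g⁻¹ = s * u * s⁻¹ := by
  obtain ⟨y, h1, h2, h3⟩ := exists_dcs hS he hee (fun h => h0 (by simp [h])) hmax hdim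
  have key : ∀ Q ≤ S, brauer Q e ≠ 0 → ∀ g ∈ 𝐍 Q, ∃ x ∈ dcs S y, ∀ u ∈ Q, g * u * g⁻¹ * x = x * u :=
    fun Q hQ hQ0 g hg => by
    obtain ⟨a, ha, ha'⟩ := h3 (single g 1)
    obtain ⟨w, hw, hw'⟩ := brauer_ne_zero_iff.1 hQ0
    have h4 : ∀ u ∈ Q, g * u * g⁻¹ ∈ S := fun u hu => hQ ((mem_normalizer_iff.1 hg u).1 hu)
    have h5 : ∀ u ∈ Q, single (g * u * g⁻¹)⁻¹ 1 * a * single u 1 = a := fun u hu => by
      refine sub_eq_zero.1 (h2 _ (trunc_eq_self fun x hx => ?_) ?_)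
      · rw [coeff_sub, Finsupp.sub_apply, coeff_bi, ← ha, coeff_trunc_of_notMem _ hx,
          coeff_trunc_of_notMem _ fun h => hx ((mul_mem_dcs_iff (inv_mem (inv_mem (h4 u hu)))
            (inv_mem (hQ hu))).1 h), sub_zero]
      · rw [sub_mul, mul_assoc, ← he.comm, ← mul_assoc, mul_assoc _ a, ha', mul_assoc,
          mul_assoc _ e, he.comm, ← mul_assoc, ← mul_assoc]
        simp [single_mul_single, mul_assoc]
    obtain ⟨x, h6, h7, -⟩ := exists_bi_point (hS.to_le hQ) ((MulAut.conj g).toMonoidHom.comp Q.subtype)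
      Q.subtype he (a := a) (fun u x => by
        conv_rhs => rw [← h5 u u.2, coeff_bi]
        simp) (z := g * w) (fun u => by
          simp [mul_assoc, mem_centralizer_singleton_iff.1 (hw u.2)])
      (by rwa [ha', coeff_single_mul_apply, one_mul, inv_mul_cancel_left])
    exact ⟨x, by_contra fun h => h6 (by rw [← ha, coeff_trunc_of_notMem _ h]),
      fun u hu => by simpa using h7 ⟨u, hu⟩⟩
  obtain ⟨c, hc, hc'⟩ := key D hD h0 1 (one_mem _)
  obtain ⟨x, ⟨s, hs, t, ht, rfl⟩, hx⟩ := key Q hQ hQ0 g hg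
  obtain ⟨s', hs', t', ht', rfl⟩ := hc
  have h4 : ∀ u ∈ D, s' * y * t' * u * (s' * y * t')⁻¹ = u := fun u hu => by
    rw [mul_inv_eq_iff_eq_mul]; simpa using (hc' u hu).symm
  have h5 : D = biStab S (s' * y * t') := eq_of_le_of_card_ge
    (fun u hu => ⟨hD hu, mem_comap.2 (by
      rw [MulEquiv.coe_toMonoidHom, MulAut.conj_apply, h4 u hu]; exact hD hu)⟩)
    (h1 _ ⟨s', hs', t', ht', rfl⟩)
  refine ⟨s * s'⁻¹ * (t'⁻¹ * t), mul_mem (mul_mem hs (inv_mem hs')) (mul_mem (inv_mem ht') ht),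
    fun u hu => ?_⟩
  have h6 : s' * y * t' * (t'⁻¹ * t * u * (t'⁻¹ * t)⁻¹) * (s' * y * t')⁻¹ =
      s' * s⁻¹ * (g * u * g⁻¹) * (s' * s⁻¹)⁻¹ := by
    rw [eq_mul_inv_of_mul_eq (hx u hu)]; group
  have h7 : t'⁻¹ * t * u * (t'⁻¹ * t)⁻¹ ∈ S :=
    mul_mem (mul_mem (mul_mem (inv_mem ht') ht) (hQ hu)) (inv_mem (mul_mem (inv_mem ht') ht))
  rw [h4 _ (h5 ▸ ⟨h7, mem_comap.2 (by
    rw [MulEquiv.coe_toMonoidHom, MulAut.conj_apply, h6]
    exact mul_mem (mul_mem (mul_mem hs' (inv_mem hs)) (hQ ((mem_normalizer_iff.1 hg u).1 hu)))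
      (inv_mem (mul_mem hs' (inv_mem hs))))⟩)] at h6
  rw [show s * s'⁻¹ * (t'⁻¹ * t) * u * (s * s'⁻¹ * (t'⁻¹ * t))⁻¹ =
    s * s'⁻¹ * (t'⁻¹ * t * u * (t'⁻¹ * t)⁻¹) * (s * s'⁻¹)⁻¹ by group, h6]
  group

theorem nilB_of_dim {M : Ideal AlgInt} [M.IsMaximal] (hM : IsPModular p M) {B : Set (IrrCharacter G)}
    (hB : IsPBlock M B) (hD : IsDefectGroup p M B D)
    (h : (∑ᶠ χ ∈ B, charDegree χ.1 ^ 2) * Nat.card D ≤ (p ^ (Nat.card G).factorization p) ^ 2) :
    NilB p ⊤ (eB M B) := by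
  classical
  haveI := charP_resField hM
  have hd := hD.defG_top hM hB
  have hb := blk_top_eB hB
  obtain ⟨ε, hm⟩ := hd.exists_maxP hM hb
  obtain ⟨S, hS⟩ := hd.isPGroup.exists_le_sylow
  refine hm.nilB_of_forall hM fun Q φ hQ x hx hr => ?_
  obtain ⟨s, hs, e⟩ := exists_conj_eq_of_dim S.isPGroup' (isFixed_top_iff.1 hb.cen.fixed) hb.idem hS
    hd.ne_zero (fun U hU h => hd.card_le le_top hU h) (by
      have h1 := finrank_range_mulLeftRight_red (M := M) (one_mul 1) (idem_mul_self B) isInt_one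
        hB.isInt_idem
      rw [redA_one, Finset.sum_congr rfl (g := fun χ => if χ ∈ B then (charDegree χ.1 : ℂ) ^ 2 else 0)
        fun χ _ => by
          rw [← mul_one (idem B), charExt_idem_mul, charExt_one, irr_cast_deg]
          split_ifs <;> simp [sq], ← Finset.sum_filter] at h1
      rw [S.card_eq_multiplicity, show LinearMap.mulRight _ (eB M B) =
        LinearMap.mulLeftRight _ (1, redA M (idem B)) from LinearMap.ext fun a => by simp [eB]]
      refine le_of_eq_of_le (congrArg (· * _) ?_) h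
      rw [finsum_mem_irr]
      exact_mod_cast h1) (hQ.le.trans hS) (hm.bpo.of_sle hM hQ).brauer_ne_zero hx.1.2
  obtain ⟨n, hn⟩ := S.isPGroup' ⟨s, hs⟩
  have h1 : ∀ n : ℕ, ∀ u ∈ Q, x ^ n * u * (x ^ n)⁻¹ = s ^ n * u * (s ^ n)⁻¹ := fun n => by
    induction n with
    | zero => simp
    | succ n ih =>
      intro u hu
      have := ih _ ((mem_normalizer_iff.1 hx.1.2 u).1 hu)
      rw [pow_succ, pow_succ, show x ^ n * x * u * (x ^ n * x)⁻¹ = x ^ n * (x * u * x⁻¹) * (x ^ n)⁻¹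
        by group, this, e u hu]
      group
  refine mem_of_pow_mem_of_regular hr (k := n) (mem_centralizer_iff.2 fun u hu => ?_)
  have := h1 (p ^ n) u hu
  rw [show s ^ p ^ n = 1 from congrArg Subtype.val hn, mul_inv_eq_iff_eq_mul] at this
  simpa using this.symm

end Cfsg.Lib.Block2
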