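import Cfsg.Agent.Lib.Block2.RealO
import Cfsg.Agent.Lib.Amalg.Bridge
import Cfsg.Agent.Lib.Core.PSolvable

/-! The Navarro–Wolf theorem on `p'`-degrees that are `q'`-degrees. -/

set_option autoImplicit false
set_option linter.unusedSectionVars false

namespace Cfsg.Lib.Block2.NW

open Cfsg Cfsg.Lib Cfsg.Lib.Char Cfsg.Lib.Clifford Cfsg.Lib.Coprime Cfsg.Lib.Block2.RP Finset Subgroup
open scoped ComplexConjugate Classical commutatorElement

universe u

variable {Γ : Type*} [Group Γ] [Finite Γ] {G K N T P Q W : Subgroup Γ} {χ θ : Γ → ℂ} {p q : ℕ}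

theorem exists_over_nd [hp : Fact p.Prime] (hT : T ≤ G) (hi : ¬ p ∣ T.relIndex G) (hθ : CharOn T θ)
    (hd : ¬ p ∣ charDegree θ) : ∃ χ ∈ Irr G, dot T χ θ ≠ 0 ∧ ¬ p ∣ charDegree χ := by
  obtain ⟨χ, hχ, -, h1, h2⟩ := exists_inv_under (P := ⊥) IsPGroup.of_bot
    (fun g hg x hx => by rw [mem_bot.1 hg]; simpa using hx) (hθ.ind hT)
    (fun g hg x _ => by rw [mem_bot.1 hg]; simp)
    (by rw [hθ.deg_ind hT]; exact fun h => (hp.out.dvd_mul.1 h).elim hi hd)
  have h3 := ((hθ.ind hT).mult_ne_zero (irrOn_of_mem hχ).charOn).1 fun e => h1 (e ▸ dvd_zero p)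
  rw [dot_ind_left hT _ (irrOn_of_mem hχ).classOn] at h3
  exact ⟨χ, hχ, mt dot_eq_zero_comm.1 h3, h2⟩

/-- Every irreducible character of `p'`-degree has `q'`-degree. -/
def PQ (p q : ℕ) (G : Type*) [Group G] : Prop :=
  ∀ χ, IrrOn (⊤ : Subgroup G) χ → ¬ p ∣ charDegree χ → ¬ q ∣ charDegree χ

theorem PQ.index [hp : Fact p.Prime] (h : PQ p q Γ) (hP : Amalg.Syl p P ⊤) [N.Normal]
    (hθ : IrrOn (N ⊔ P) θ) (hθ' : IrrOn N θ) (hd : ¬ p ∣ charDegree θ) :
    N ⊔ P ≤ inertia ⊤ N θ ∧ ¬ q ∣ (inertia ⊤ N θ).index := by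
  obtain ⟨χ, hχ, h1, h2⟩ := exists_over_nd le_top (hP.not_dvd_relIndex_of_le le_sup_right)
    hθ.charOn hd
  have hχ' := irrOn_of_mem hχ
  refine ⟨le_inertia_of_invOn (nrm_of_normal _ _) le_top (hθ.classOn.mono le_rfl le_sup_left),
    fun h3 => h χ hχ' h2 ?_⟩
  rw [clifford_deg le_top (nrm_of_normal _ _) hχ' hθ' ((hχ'.charOn.mono le_top).dot_ne_zero_trans
    le_sup_left hθ hθ'.charOn h1 (by rw [hθ'.dot_self]; simp)),
    relIndex_top_right]
  exact (h3.mul_right _).mul_left _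

theorem cent_le [hp : Fact p.Prime] [Fact q.Prime] (hP : IsPGroup p P) (hQ : IsPGroup q Q)
    (hPQ : Nrm P Q) (hPN : Nrm P N) (hQN : Nrm Q N) (h1 : ¬ p ∣ Nat.card N) (h2 : ¬ q ∣ Nat.card N)
    (h : ∀ θ ∈ Irr N, InvOn P N θ → InvOn Q N θ) :
    N ⊓ centralizer (P : Set Γ) ≤ centralizer (Q : Set Γ) := by
  have hP' := isSolvable_of_isPGroup hP
  have := isSolvable_of_isPGroup hQ
  have hs := Core.isSolvable_sup_of_le_normalizer hPQ.le_normalizer
  have c1 := coprime_card_of_isPGroup hP ((Nat.Prime.coprime_iff_not_dvd hp.out).2 h1).symm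
  have c2 := coprime_card_of_isPGroup hQ ((Nat.Prime.coprime_iff_not_dvd Fact.out).2 h2).symm
  have c3 : (Nat.card N).Coprime (Nat.card (P ⊔ Q : Subgroup Γ)) := by
    rw [← relIndex_bot_left (P ⊔ Q), ← relIndex_mul_relIndex ⊥ Q _ bot_le le_sup_right,
      relIndex_bot_left, sup_comm]
    exact c2.mul_right (c1.coprime_dvd_right (relIndex_sup_dvd hPQ))
  have n3 := nrm_sup' hPN hQN
  have e : IrrInv (P ⊔ Q) N = IrrInv P N := by
    ext θ
    simp only [mem_IrrInv]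
    exact and_congr_right fun hθ => ⟨fun h => h.mono le_sup_left le_rfl,
      fun h' => invOn_sup hPN hQN h' (h θ hθ h')⟩
  have e1 := card_IrrInv_of_solvable hs n3 c3
  rw [e, card_IrrInv_of_solvable hP' hPN c1, card_Irr_eq_card_conjClasses,
    card_Irr_eq_card_conjClasses] at e1
  have hle : N ⊓ centralizer ((P ⊔ Q : Subgroup Γ) : Set Γ) ≤ N ⊓ centralizer (P : Set Γ) :=
    inf_le_inf_left _ (centralizer_le (SetLike.coe_subset_coe.2 le_sup_left))
  have hb : Function.Bijective (ConjClasses.map (inclusion hle)) := by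
    refine (Nat.bijective_iff_injective_and_card _).2 ⟨fun a b hab => ?_, e1.symm⟩
    obtain ⟨a, rfl⟩ := ConjClasses.exists_rep a
    obtain ⟨b, rfl⟩ := ConjClasses.exists_rep b
    obtain ⟨k, hk⟩ := isConj_iff.1 (ConjClasses.mk_eq_mk_iff_isConj.1 hab)
    have hk' : (k : Γ) * a * (k : Γ)⁻¹ = b := congrArg Subtype.val hk
    obtain ⟨c, hc, e⟩ := exists_centralizer_conj n3.le_normalizer c3.symm (Or.inl hs) a.2.2 k.2.1
      (hk' ▸ b.2.2)
    exact ConjClasses.mk_eq_mk_iff_isConj.2 (isConj_iff.2 ⟨⟨c, hc⟩, Subtype.ext (e.trans hk')⟩)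
  refine (subgroupOf_eq_top.1 (Hall.eq_top_of_forall_conj_mem fun x => ?_)).trans
    (inf_le_right.trans (centralizer_le (SetLike.coe_subset_coe.2 le_sup_right)) :
      N ⊓ centralizer ((P ⊔ Q : Subgroup Γ) : Set Γ) ≤ _)
  obtain ⟨a, ha⟩ := hb.2 (ConjClasses.mk x)
  obtain ⟨a, rfl⟩ := ConjClasses.exists_rep a
  obtain ⟨k, hk⟩ := isConj_iff.1 (ConjClasses.mk_eq_mk_iff_isConj.1 ha).symm
  exact ⟨k, by rw [hk]; exact a.2⟩

theorem exists_lin [hp : Fact p.Prime] [hq : Fact q.Prime] (hpq : p ≠ q) (hP : IsPGroup p P)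
    [N.Normal] [IsMulCommutative N] (hNP : N ≤ P) (hQ : Amalg.Syl q Q (N ⊔ Q))
    (hW : Nrm P (N ⊔ Q)) (h : ⁅N, Q⁆ ≠ ⊥) : ∃ μ, LinOn P μ ∧ ¬ InvOn Q N μ := by
  have c := IsPGroup.coprime_card_of_ne q p hpq.symm Q N hQ.isPGroup (hP.to_le hNP)
  have hA : ⁅N, Q⁆ ≤ N := commutator_le_left _ _
  have nR : Nrm (P ⊓ normalizer (Q : Set Γ)) ⁅N, Q⁆ := nrm_of_le_normalizer
    (Core.le_normalizer_commutator le_normalizer_of_normal inf_le_right)
  have e1 : ⁅N, Q⁆ ⊔ (P ⊓ normalizer (Q : Set Γ)) = P := by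
    refine le_antisymm (sup_le (hA.trans hNP) inf_le_left) fun x hx => ?_
    obtain ⟨w, hw, a, ha, rfl⟩ := hQ.frattini_mem (hW.le_normalizer hx)
    obtain ⟨n, hn, y, hy, rfl⟩ := (mem_sup_iff_of_le_normalizer le_normalizer_of_normal).1 hw
    obtain ⟨u, hu, z, hz, rfl⟩ := exists_commutator_mul_centralizer le_normalizer_of_normal c
      (Or.inr (isSolvable_of_isMulCommutative N)) hn
    rw [mul_assoc, mul_assoc] at hx ⊢
    exact mul_mem (mem_sup_left hu) (mem_sup_right ⟨(mul_mem_cancel_left (hNP (hA hu))).1 hx,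
      mul_mem (centralizer_le_normalizer _ hz.2) (mul_mem (le_normalizer hy) ha)⟩)
  have e2 : ⁅N, Q⁆ ⊓ (P ⊓ normalizer (Q : Set Γ)) = ⊥ := by
    rw [eq_bot_iff, ← centralizer_inf_commutator_eq_bot le_normalizer_of_normal c]
    refine fun x hx => ⟨⟨hA hx.1, fun y hy => ?_⟩, hx.1⟩
    have : y * x⁻¹ * y⁻¹ * x ∈ N ⊓ Q := ⟨mul_mem (‹N.Normal›.conj_mem _ (inv_mem (hA hx.1)) y)
      (hA hx.1), by
        rw [mul_assoc, mul_assoc, ← mul_assoc x⁻¹]
        exact mul_mem hy (conj_mem' inf_le_right hx.2 (inv_mem hy))⟩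
    rw [inf_eq_bot_of_coprime_card c, mem_bot] at this
    calc y * x = x * (y * x⁻¹ * y⁻¹ * x)⁻¹ * y := by group
      _ = x * y := by rw [this]; simp
  have nA : Nrm P ⁅N, Q⁆ := e1 ▸ nrm_sup' (nrm_self _) nR
  obtain ⟨x, hx, hx'⟩ := SetLike.exists_of_lt (Core.commutator_lt_of_isPGroup (hP.to_le (hA.trans hNP))
    hP nA.le_normalizer h)
  have hle : ⁅⁅N, Q⁆, P⁆ ≤ ⁅N, Q⁆ := commutator_le_of_le_normalizer nA.le_normalizer
  obtain ⟨β, hβ, h1⟩ := exists_IrrKer_ne hle (K := ⁅N, Q⁆) (fun g hg y hy => by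
    rwa [mul_comm_of_mem (hA hg) (hA (hle hy)), mul_inv_cancel_right]) hx'
  have hl := linOn_of_mem_IrrKer (commutator_mono le_rfl (hA.trans hNP)) hβ
  obtain ⟨μ, hμ, h2⟩ := exists_ext_compl nR e2 hl fun g hg y hy => by
    have h3 : (y * g * y⁻¹ * g⁻¹) ∈ ⁅⁅N, Q⁆, P⁆ := commutator_mem_commutator hy hg.1
    have h4 := hl.map_mul (hle h3) (nR g hg y hy)
    rw [(mem_IrrKer.1 hβ).2 _ h3, hl.2, one_mul] at h4
    rw [← h4]
    congr 1
    group
  rw [e1] at hμ
  refine ⟨μ, hμ, fun hi => h1 ?_⟩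
  have h5 : ⁅N, Q⁆ ≤ kerOn N μ := by
    rw [commutator_comm]
    exact commutator_le.2 fun g hg y hy =>
      (hμ.mono hNP).commutator_mem (nrm_of_normal Q N) hi hg hy
  have h6 := ((hμ.mono hNP).charOn.mem_kerOn.1 (h5 hx)).2
  rw [← h2 x hx 1 (one_mem _), mul_one, h6, hμ.2, hl.2]

theorem nw [hp : Fact p.Prime] [hq : Fact q.Prime] (hpq : p ≠ q) (n : ℕ) :
    ∀ (G : Type u) [Group G] [Finite G], Nat.card G = n → IsPSolvable p G → IsPSolvable q G →
      PQ p q G → ∀ P : Subgroup G, Amalg.Syl p P ⊤ → ∃ Q, Amalg.Syl q Q ⊤ ∧ Nrm P Q ∧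
        ∀ T, P ≤ T → ¬ q ∣ T.index → Q ≤ T := by
  induction n using Nat.strong_induction_on with | _ n ih => ?_
  rintro G _ _ rfl hps hqs h P hP
  rcases subsingleton_or_nontrivial G with _ | _
  · obtain ⟨Q, hQ⟩ := Amalg.exists_syl q (⊤ : Subgroup G)
    exact ⟨Q, hQ, fun g _ x hx => by convert hx using 1,
      fun T _ _ => (Subsingleton.elim _ _).le⟩
  obtain ⟨N, hN, hN0, hmin⟩ := Hall.exists_minNormal (G := G)
  let f := QuotientGroup.mk' N
  have hf : Function.Surjective f := QuotientGroup.mk'_surjective N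
  have hk0 : f.ker = N := QuotientGroup.ker_mk' N
  obtain ⟨Q₀, hQ₀, a1, a2⟩ := ih _ (Hall.card_quotient_lt hN0) (G ⧸ N) rfl
    (Core.isPSolvable_quotient hp.out hps N) (Core.isPSolvable_quotient hq.out hqs N)
    (fun χ hχ => h (χ ∘ f) (IrrOn.comp (by rwa [map_top_of_surjective _ hf]))) _ (hP.map_top hf)
  obtain ⟨W, hW⟩ : ∃ W, W = Q₀.comap f := ⟨_, rfl⟩
  have hNW : N ≤ W := hW ▸ hk0.ge.trans (ker_le_comap f Q₀)
  have nW : Nrm P W := fun g hg x hx => by
    rw [hW] at hx ⊢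
    simpa using a1 _ (mem_map_of_mem f hg) _ hx
  have iW : ¬ q ∣ W.relIndex ⊤ := by
    rw [hW, relIndex_top_right, index_comap_of_surjective _ hf]; exact hQ₀.not_dvd_index
  have tW : ∀ T, P ≤ T → ¬ q ∣ T.index → W ≤ T ⊔ N := fun T h1 h2 => by
    refine hW ▸ (comap_mono (a2 _ (map_mono h1) fun h3 => h2 (h3.trans (index_map_dvd _ hf)))).trans ?_
    rw [comap_map_eq, hk0]
  obtain ⟨k, hk⟩ := hQ₀.isPGroup.exists_card_eq
  have rW : N.relIndex W = q ^ k := by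
    rw [← Hall.card_map_mk', hW, map_comap_eq_self_of_surjective hf, hk]
  rcases Core.isPGroup_or_coprime_of_minimal_normal hq.out N
    (Core.isPSolvable_subgroup hq.out hqs N) hmin with h1 | h1
  · have hWq : IsPGroup q W := hW ▸ hQ₀.isPGroup.comap_of_ker_isPGroup f
      (by rwa [QuotientGroup.ker_mk'])
    refine ⟨W, Amalg.syl_of_not_dvd le_top hWq iW, nW, fun T h2 h3 => (tW T h2 h3).trans
      (sup_le le_rfl ?_)⟩
    obtain ⟨S, hS⟩ := Amalg.exists_syl q T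
    exact ((hS.of_le_of_not_dvd le_top (by rwa [relIndex_top_right])).le_of_normal h1 le_top
      le_normalizer_of_normal).trans hS.le
  rcases Core.isPGroup_or_coprime_of_minimal_normal hp.out N
    (Core.isPSolvable_subgroup hp.out hps N) hmin with h2 | h2
  · have := isSolvable_of_isPGroup h2
    have := Hall.isMulCommutative_of_minNormal hmin
    have hNP := hP.le_of_normal h2 le_top le_normalizer_of_normal
    obtain ⟨Q, hQ⟩ := Amalg.exists_syl q W
    have e := hQ.sup_eq_of_relIndex_pow hNW rW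
    have tQ : ∀ T, P ≤ T → ¬ q ∣ T.index → Q ≤ T := fun T h2 h3 =>
      hQ.le.trans ((tW T h2 h3).trans (sup_le le_rfl (hNP.trans h2)))
    refine ⟨Q, hQ.of_le_of_not_dvd le_top iW, ?_, tQ⟩
    have h3 : ⁅N, Q⁆ = ⊥ := by
      by_contra h3
      obtain ⟨μ, hμ, h4⟩ := exists_lin hpq hP.isPGroup hNP (e.symm ▸ hQ) (e.symm ▸ nW) h3
      obtain ⟨b1, b2⟩ := h.index hP (N := N) (θ := μ) (by rw [sup_eq_right.2 hNP]; exact hμ.irrOn)
        (hμ.mono hNP).irrOn (by rw [hμ.deg]; exact hp.out.not_dvd_one)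
      exact h4 ((invOn_inertia (nrm_of_normal _ _)).mono (tQ _ (le_sup_right.trans b1) b2) le_rfl)
    have h4 : W ≤ normalizer (Q : Set G) := e ▸ sup_le ((commutator_eq_bot_iff_le_centralizer.1
      h3).trans (centralizer_le_normalizer _)) le_normalizer
    refine nrm_of_le_normalizer fun g hg => ?_
    obtain ⟨w, hw, a, ha, rfl⟩ := hQ.frattini_mem (nW.le_normalizer hg)
    exact mul_mem (h4 hw) ha
  have d1 := (Nat.Prime.coprime_iff_not_dvd hq.out).1 h1.symm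
  have d2 := (Nat.Prime.coprime_iff_not_dvd hp.out).1 h2.symm
  have hs := isSolvable_of_isPGroup hP.isPGroup
  have cW : (Nat.card P).Coprime (Nat.card W) := by
    refine (coprime_card_of_isPGroup hP.isPGroup ?_).symm
    rw [← relIndex_bot_left, ← relIndex_mul_relIndex ⊥ N _ bot_le hNW, relIndex_bot_left, rW]
    exact h2.mul_left (((Nat.coprime_primes hq.out hp.out).2 hpq.symm).pow_left k)
  obtain ⟨Q, hQ', nQ⟩ := exists_invariant_sylowIn nW.le_normalizer cW (Or.inl hs) q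
  have hQ := Amalg.syl_of_sylowIn hQ'
  have e := hQ.sup_eq_of_relIndex_pow hNW rW
  have h3 := cent_le hP.isPGroup hQ.isPGroup (nrm_of_le_normalizer nQ) (nrm_of_normal P N)
    (nrm_of_normal Q N) d2 d1 fun θ hθ hi => by
      have hθ' := irrOn_of_mem hθ
      obtain ⟨η, hη, -, b0⟩ := exists_canon le_sup_left (nrm_of_normal (N ⊔ P) N)
        (cop hP.isPGroup (nrm_of_normal P N) d2) hθ' (invOn_sup (nrm_self N) (nrm_of_normal P N)
          hθ'.classOn hi)
      obtain ⟨b1, b2⟩ := h.index hP (irrOn_of_mem hη) (hθ'.congr fun x hx => (b0 x hx).symm)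
        (fun h => d2 (h.trans (hθ'.congr fun x hx => (b0 x hx).symm).deg_dvd_card))
      rw [inertia_congr b0] at b1 b2
      exact (invOn_inertia (nrm_of_normal _ _)).mono (hQ.le.trans ((tW _ (le_sup_right.trans b1)
        b2).trans (sup_le le_rfl (le_sup_left.trans b1)))) le_rfl
  refine ⟨Q, hQ.of_le_of_not_dvd le_top iW, nrm_of_le_normalizer nQ, fun T h4 h5 => ?_⟩
  have nT : Nrm P (W ⊓ T) := fun g hg x hx =>
    mem_inf.2 ⟨nW g hg x hx.1, mul_mem (mul_mem (h4 hg) hx.2) (inv_mem (h4 hg))⟩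
  obtain ⟨Q₁, hQ₁, nQ₁⟩ := exists_invariant_sylowIn nT.le_normalizer
    (coprime_card_of_le cW le_rfl inf_le_left) (Or.inl hs) q
  have h6 : ¬ q ∣ (W ⊓ T).relIndex W := fun h6 => by
    have b1 := relIndex_mul_relIndex (N ⊓ T) N W inf_le_left hNW
    have b2 := relIndex_mul_relIndex (N ⊓ T) (W ⊓ T) W (inf_le_inf_right T hNW) inf_le_left
    have b3 : (N ⊓ T).relIndex (W ⊓ T) = N.relIndex W := by
      rw [show N ⊓ T = N ⊓ (W ⊓ T) by rw [← inf_assoc, inf_eq_left.2 hNW], inf_relIndex_right,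
        ← relIndex_sup_right]
      congr 1
      refine le_antisymm (sup_le inf_le_left hNW) fun w hw => ?_
      obtain ⟨t, ht, x, hx, rfl⟩ := mem_sup_of_normal_right.1 (tW T h4 h5 hw)
      exact mul_mem (mem_sup_left ⟨(mul_mem_cancel_right (hNW hx)).1 hw, ht⟩) (mem_sup_right hx)
    rw [b3, ← b1, mul_comm] at b2
    exact d1 ((mul_right_cancel₀ (Clifford.relIndex_ne_zero _ _) b2 ▸ h6).trans (relIndex_dvd_card _ _))
  obtain ⟨c, hc, e1⟩ := exists_centralizer_conj_sylowIn nW.le_normalizer cW (Or.inl hs) hQ'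
    ((Amalg.syl_of_sylowIn hQ₁).of_le_of_not_dvd inf_le_left h6).sylowIn nQ nQ₁
  rw [← e, sup_inf_centralizer le_normalizer_of_normal nQ le_normalizer_of_normal
    (coprime_card_of_le cW le_rfl (inf_le_left.trans hNW)) (Or.inl hs)] at hc
  have h7 : c ∈ normalizer (Q : Set G) := sup_le (h3.trans (centralizer_le_normalizer _))
    (inf_le_left.trans le_normalizer) hc
  rw [← Amalg.cj_eq_self_iff.2 h7]
  exact e1.le.trans ((Amalg.syl_of_sylowIn hQ₁).le.trans inf_le_right)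

theorem not_dvd_of_pq {G : Type u} [Group G] [Finite G] [hp : Fact p.Prime] [hq : Fact q.Prime]
    (hpq : p ≠ q) (hps : IsPSolvable p G) (hqs : IsPSolvable q G) (h : PQ p q G)
    (h0 : pPrimeCore p G = ⊥) : ¬ q ∣ Nat.card G := by
  obtain ⟨P, hP⟩ := Amalg.exists_syl p (⊤ : Subgroup G)
  obtain ⟨Q, hQ, h1, -⟩ := nw hpq _ G rfl hps hqs h P hP
  have hO := Core.isPGroup_pCore p G
  have c := IsPGroup.coprime_card_of_ne q p hpq.symm Q _ hQ.isPGroup hO
  have h2 := hP.le_of_normal hO le_top le_normalizer_of_normal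
  have h3 : Q ≤ pCore p G := (commutator_eq_bot_iff_le_centralizer.1 (eq_bot_iff.2
    ((le_inf (commutator_le_right _ _) (commutator_le_of_le_normalizer
      (h2.trans h1.le_normalizer))).trans (inf_eq_bot_of_coprime_card c).le))).trans
    (Core.centralizer_pCore_le_of_isPSolvable hp.out hps h0)
  rw [← card_top]
  exact hQ.eq_bot_iff.1 ((inf_eq_right.2 h3).symm.trans (inf_eq_bot_of_coprime_card c))

theorem not_dvd_index {G : Type u} [Group G] [Finite G] [hp : Fact p.Prime] [hq : Fact q.Prime]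
    (hpq : p ≠ q) (hps : IsPSolvable p G) (hqs : IsPSolvable q G)
    (h : ∀ χ, IrrOn (⊤ : Subgroup G) χ → Triv (pPrimeCore p G) χ → ¬ p ∣ charDegree χ →
      ¬ q ∣ charDegree χ) : ¬ q ∣ (pPrimeCore p G).index :=
  not_dvd_of_pq hpq (Core.isPSolvable_quotient hp.out hps _) (Core.isPSolvable_quotient hq.out hqs _)
    (fun χ hχ => h (χ ∘ QuotientGroup.mk' _) (IrrOn.comp (by
      rwa [map_top_of_surjective _ (QuotientGroup.mk'_surjective _)])) fun x hx =>
        congrArg χ ((QuotientGroup.eq_one_iff x).2 hx)) Core.pPrimeCore_quotient_pPrimeCore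

theorem not_dvd_of_comm [hp : Fact p.Prime] [hq : Fact q.Prime] (hpq : p ≠ q) (hps : IsPSolvable p Γ)
    (hP : Amalg.Syl p P ⊤) (hQ : Amalg.Syl q Q ⊤) (h : ∀ x ∈ P, ∀ y ∈ Q, x * y = y * x)
    (hχ : IrrOn ⊤ χ) (ht : Triv (pPrimeCore p Γ) χ) : ¬ q ∣ charDegree χ := by
  have hf := QuotientGroup.mk'_surjective (pPrimeCore p Γ)
  have hO := Core.isPGroup_pCore p (Γ ⧸ pPrimeCore p Γ)
  have h1 := (hP.map_top hf).le_of_normal hO le_top le_normalizer_of_normal
  have h2 := (hQ.map_top hf).eq_bot_iff.1 ((inf_eq_right.2 (le_trans ?_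
    (Core.centralizer_pCore_le_of_isPSolvable hp.out (Core.isPSolvable_quotient hp.out hps _)
      Core.pPrimeCore_quotient_pPrimeCore))).symm.trans (inf_eq_bot_of_coprime_card
        (IsPGroup.coprime_card_of_ne q p hpq.symm _ _ (hQ.map_top hf).isPGroup hO)))
  · obtain ⟨φ, hφ, e⟩ := hχ.exists_comp (QuotientGroup.mk' _)
      (ht.mono (inf_le_right.trans (QuotientGroup.ker_mk' _).le))
    rw [map_top_of_surjective _ hf] at hφ
    rw [show charDegree χ = charDegree φ by unfold charDegree; rw [e 1 (one_mem _), map_one]]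
    exact fun h3 => h2 (h3.trans (irrOn_of_mem hφ).deg_dvd_card)
  · rintro _ ⟨y, hy, rfl⟩ z hz
    obtain ⟨x, hx, rfl⟩ := h1 hz
    rw [← map_mul, ← map_mul, h x hx y hy]

end Cfsg.Lib.Block2.NW
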