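import Cfsg.Agent.Lib.Block2.EqDeg
import Cfsg.Agent.Lib.Block2.Fong
import Cfsg.Agent.Lib.Coprime.Basic
import Cfsg.Agent.Lib.Core.Frattini

/-! Blocks with a normal defect group: fusion and nilpotency. -/

set_option autoImplicit false
set_option linter.dupNamespace false
set_option linter.unusedSectionVars false
set_option linter.style.haveILetI false

open Cfsg Cfsg.Lib.Block Cfsg.Lib.Block2 Cfsg.Lib.Char Cfsg.Lib.Amalg MonoidAlgebra Subgroup
open Cfsg.Lib.Small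
open scoped ComplexConjugate

namespace Cfsg.Lib.Block2

variable {G : Type*} [Group G] [Finite G] {p : ℕ} [Fact p.Prime] {M : Ideal AlgInt} [M.IsMaximal]
variable {H P Q D : Subgroup G} {ε ε' φ β : MonoidAlgebra (resField M) G} {x y g : G}
variable {B : Set (IrrCharacter G)}

theorem mem_cent_of_conj_eq (hr : ¬ p ∣ orderOf x) (hx : x ∈ 𝐍 Q)
    (e : ∀ u ∈ Q, x * u * x⁻¹ = y * u * y⁻¹) {n : ℕ} (hy : y ^ p ^ n ∈ 𝐂 Q) : x ∈ 𝐂 Q := by
  have h1 : ∀ n : ℕ, ∀ u ∈ Q, x ^ n * u * (x ^ n)⁻¹ = y ^ n * u * (y ^ n)⁻¹ := fun n => by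
    induction n with
    | zero => simp
    | succ n ih =>
      intro u hu
      have := ih _ ((mem_normalizer_iff.1 hx u).1 hu)
      rw [pow_succ, pow_succ, show x ^ n * x * u * (x ^ n * x)⁻¹ = x ^ n * (x * u * x⁻¹) * (x ^ n)⁻¹
        by group, this, e u hu]
      group
  refine mem_of_pow_mem_of_regular hr (k := n) (mem_centralizer_iff.2 fun u hu => ?_)
  have := h1 (p ^ n) u hu
  rw [← mem_centralizer_iff.1 hy u hu, mul_inv_cancel_right, mul_inv_eq_iff_eq_mul] at this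
  exact this.symm

theorem not_dvd_orderOf_pow (y : G) : ¬ p ∣ orderOf (y ^ p ^ (orderOf y).factorization p) := by
  rw [orderOf_pow_of_dvd (pow_ne_zero _ (Fact.out : p.Prime).ne_zero) (Nat.ordProj_dvd _ _)]
  exact Nat.not_dvd_ordCompl Fact.out (orderOf_pos y).ne'

theorem SLE.exists_cjA_eq (hM : IsPModular p M) (hn : H ≤ 𝐍 D) (h : SLE p H Q φ D ε)
    (h' : SLE p H Q φ D ε') : ∃ c ∈ H ⊓ 𝐂 Q, Block2.cjA c ε = ε' := by
  have h1 := cenIn_orbSum (H ⊓ 𝐂 Q) (H ⊓ 𝐂 D) ε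
  have h2 := h1.supp.mono (inf_le_left : H ⊓ 𝐂 D ≤ H)
  have h3 := isFixed_orbSum (H := H ⊓ 𝐂 Q) (inf_le_left.trans fun x hx => le_norm_inf_cent
    (show x ∈ H ⊓ 𝐍 D from ⟨hx, hn hx⟩)) ε
  have h4 : IsFixed D (orbSum (H ⊓ 𝐂 Q) (H ⊓ 𝐂 D) ε) := (h1.supp.mono inf_le_right).isFixed_centralizer
  have h5 : brauer D (orbSum (H ⊓ 𝐂 Q) (H ⊓ 𝐂 D) ε) = orbSum (H ⊓ 𝐂 Q) (H ⊓ 𝐂 D) ε :=
    (h1.supp.mono inf_le_right).trunc_eq
  have := (h'.brauer_mul_iff hM h2 (orbSum_mul_self _ _ _) h3 h4).1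
    ((h.brauer_mul_iff hM h2 (orbSum_mul_self _ _ _) h3 h4).2 (by rw [h5, h.bp'.blk.orbSum_mul]))
  rwa [h5, h'.bp'.blk.orbSum_mul_eq_iff] at this

theorem BMor.exists_of_normal (hM : IsPModular p M) (hn : H ≤ 𝐍 D) (h : BMor p H D ε Q g) :
    ∃ y ∈ stabP H D ε, ∃ c ∈ H ⊓ 𝐂 Q, g = y * c := by
  obtain ⟨hg, φ, h1, h2⟩ := h
  have h3 := h2.cjA_of_mem (inv_mem hg)
  rw [← cj_mul, ← cjA_mul, inv_mul_cancel, cj_one, cjA_one, cj_of_mem_normalizer (hn (inv_mem hg))] at h3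
  obtain ⟨c, hc, e⟩ := h3.exists_cjA_eq hM hn h1
  rw [← cjA_mul] at e
  have : c * g⁻¹ ∈ H := mul_mem hc.1 (inv_mem hg)
  exact ⟨(c * g⁻¹)⁻¹, inv_mem (Block2.mem_stabP.2 ⟨this, hn this, e⟩), c, hc, by group⟩

theorem MaxP.nilB_of_normal (hM : IsPModular p M) (hm : MaxP p H β D ε) (hn : H ≤ 𝐍 D)
    (h : ∀ x ∈ stabP H D ε, ¬ p ∣ orderOf x → x ∈ 𝐂 D) : NilB p H β := by
  refine hm.nilB_of_forall hM fun Q φ hQ x hx hr => ?_
  obtain ⟨y, hy, c, hc, e⟩ := (hQ.bMor_of_stab hx).exists_of_normal hM hn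
  refine mem_cent_of_conj_eq hr hx.1.2 (y := y) (fun u hu => ?_)
    (centralizer_le hQ.le (h _ (pow_mem hy _) (not_dvd_orderOf_pow y)))
  rw [e, mul_assoc y, ← mem_centralizer_iff.1 hc.2 u hu]
  group

section quot
variable {K : Type*} [Group K] [Finite K] {f : G →* K} {δ : MonoidAlgebra (resField M) K}

theorem mem_cent_of_regular_of_map (hD : IsPGroup p D) (hk : f.ker ≤ ⁅D, D⁆) (hr : ¬ p ∣ orderOf x)
    (hx : x ∈ 𝐍 D) (h : f x ∈ 𝐂 (D.map f)) : x ∈ 𝐂 D := by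
  refine zpowers_le.1 (Coprime.le_centralizer_of_commutator_le_frattini (zpowers_le.2 hx) ?_
    (le_trans ?_ (hk.trans (Core.commutator_le_frattiniOf hD))))
  · obtain ⟨n, hn⟩ := IsPGroup.iff_card.1 (hD.to_subgroup (frattini D))
    rw [hn, Nat.card_zpowers]
    exact (((Fact.out : p.Prime).coprime_iff_not_dvd.2 hr).symm.pow_right n)
  · refine commutator_le.2 fun u hu y hy => ?_
    have : f y ∈ 𝐂 (D.map f) := (zpowers_le (H := (𝐂 (D.map f)).comap f)).2 h hy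
    rw [MonoidHom.mem_ker, map_commutatorElement, commutatorElement_eq_one_iff_mul_comm]
    exact this _ ⟨u, hu, rfl⟩

theorem Blk.cjA_eq_of_push (hM : IsPModular p M) {L : Subgroup K} (hk : IsPGroup p f.ker)
    (h : Blk H ε) (h' : Blk L δ) (hH : H ≤ 𝐂 f.ker) (hle : H.map f ≤ L)
    (hl : ∀ k ∈ L, ¬ p ∣ orderOf k → ∃ y ∈ H, ¬ p ∣ orderOf y ∧ f y = k) (h0 : push f ε * δ ≠ 0)
    (hx : x ∈ 𝐍 H) (hx' : f x ∈ 𝐍 L) (e : Block2.cjA x ε = ε) : Block2.cjA (f x) δ = δ := by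
  classical
  haveI := Fintype.ofFinite G
  let z : MonoidAlgebra (resField M) G :=
    ofFun fun y => if y ∈ H ∧ ¬ p ∣ orderOf y then δ.coeff (f y) else 0
  have hz : CenIn H z := ⟨fun y hy => by simp [z, hy], fun c hc y => by
    simp [z, h'.cen.fixed _ (hle ⟨c, hc, rfl⟩), H.mul_mem_cancel_right (inv_mem hc),
      H.mul_mem_cancel_left hc, show orderOf (c * y * c⁻¹) = _ from (MulAut.conj c).orderOf_eq y]⟩
  have hp : push f z = δ := ga_ext fun k => by
    rw [coeff_push]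
    by_cases hk0 : δ.coeff k = 0
    · exact (Finset.sum_eq_zero fun y _ => by split_ifs with h <;> simp [z, *]).trans hk0.symm
    obtain ⟨y, hy, hr, rfl⟩ := hl k (by_contra fun h => hk0 (h'.cen.supp k h))
      (h'.cen.not_dvd_orderOf hM h'.idem hk0)
    rw [Finset.sum_eq_single y (fun y' _ hne => ?_) (by simp)]
    · simp [z, hy, hr]
    · split_ifs with h1
      · simpa [z] using fun _ h2 => (hne (eq_of_regular_of_map_eq hk hr h2 (hH hy) h1)).elim
      · rfl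
  have hc : push f ε * δ = δ * push f ε :=
    (h'.cen.comm (h.cen.push.supp.mono hle)).symm
  have hw : ∀ c : resField M, IsNilpotent (c • (push f ε * δ)) → c = 0 := fun c ⟨n, hn⟩ => by
    by_contra hc0
    have : IsIdempotentElem (push f ε * δ) :=
      IsIdempotentElem.mul_of_commute hc (by rw [IsIdempotentElem, ← map_mul, h.idem]) h'.idem
    rw [smul_pow, smul_eq_zero] at hn
    exact h0 (this.eq_zero_of_isNilpotent ⟨n, hn.resolve_left (pow_ne_zero _ hc0)⟩)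
  have h1 := (h.lamE_eq_iff hz _).1 rfl
  have key : ∀ {a : MonoidAlgebra (resField M) G}, IsNilpotent (a * ε) → Supp H a →
      IsNilpotent (push f a * push f ε * δ) := fun {a} ha hs => by
    rw [← map_mul]
    exact Commute.isNilpotent_mul_right (h'.cen.comm ((hs.mul h.cen.supp).push.mono hle)).symm
      (ha.map _)
  have h2 := key h1 (hz.supp.sub (supp_one.smul _))
  have h3 := key (a := Block2.cjA x (z - lamE H ε z • 1)) (by
    have := h1.map (Block2.cjA x); rwa [map_mul, e] at this) (by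
    have := (hz.supp.sub (supp_one.smul (lamE H ε z))).cjA x
    rwa [cj_of_mem_normalizer hx] at this)
  rw [← cjA_push] at h3
  simp only [map_sub, map_smul, map_one, hp, sub_mul, smul_mul_assoc, one_mul] at h2 h3
  rw [← hc, mul_assoc, h'.idem, ← one_smul (resField M) (push f ε * δ), smul_smul, ← sub_smul] at h2
  have h4 := (h'.cjA (f x))
  rw [cj_of_mem_normalizer hx'] at h4
  by_contra hne
  rw [mul_assoc, hc, ← mul_assoc, h4.mul_eq_zero h' hne, zero_mul, zero_sub, ← neg_smul, ← hc] at h3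
  have := hw _ h2
  rw [neg_eq_zero.1 (hw _ h3)] at this
  simp at this

theorem nilB_of_dom [D.Normal] (hM : IsPModular p M) (hf : Function.Surjective f)
    (hk : f.ker ≤ ⁅D, D⁆) (hB : IsPBlock M B) (hD : IsDefectGroup p M B D) {b : Set (IrrCharacter K)}
    (hb : IsPBlock M b) (h : b ⊆ infl f hf ⁻¹' B) (hD' : IsDefectGroup p M b (D.map f))
    (hn : NilB p ⊤ (eB M b)) : NilB p ⊤ (eB M B) := by
  classical
  have hd := hD.defG_top hM hB
  have hkD : f.ker ≤ D := hk.trans (commutator_le_left D D)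
  have hkp : IsPGroup p f.ker := hd.isPGroup.to_le hkD
  haveI : (D.map f).Normal := Normal.map inferInstance f hf
  obtain ⟨δ, hm'⟩ := (hD'.defG_top hM hb).exists_maxP hM (blk_top_eB hb)
  have hs : Supp (𝐂 D) (eB M B) := supp_eB_of_normal hM hB.isBlockUnion hd.isPGroup fun _ h _ => h
  have hs' : Supp (𝐂 (D.map f)) (eB M b) :=
    supp_eB_of_normal hM hb.isBlockUnion (hd.isPGroup.map f) fun _ h _ => h
  have hc : CenIn (𝐂 D) (eB M B) := ⟨hs, (isCen_eB B).isFixed _⟩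
  have h1 : push f (eB M B) * δ ≠ 0 := by
    have e := hm'.bpo.eq
    rw [hs'.brauer_eq] at e
    rw [← e, ← mul_assoc, push_eB_mul hf hb.isBlockUnion hB.isBlockUnion h, e]
    exact hm'.bp.blk.ne_zero
  rw [hc.eq_sum_blks (blk_top_eB hB).idem, map_sum, Finset.sum_mul] at h1
  obtain ⟨ε, hε, h2⟩ := Finset.exists_ne_zero_of_sum_ne_zero h1
  obtain ⟨hε, h3⟩ := Finset.mem_filter.1 hε
  rw [mem_blks] at hε
  have hm : MaxP p ⊤ (eB M B) D ε :=
    ⟨⟨blk_top_eB hB, ⟨le_top, hd.isPGroup, by rwa [top_inf_eq]⟩, by rwa [hs.brauer_eq]⟩, hd⟩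
  have hN : ∀ x, x ∈ 𝐍 D := fun x => normalizer_eq_top D ▸ mem_top x
  have hN' : ∀ x, x ∈ 𝐍 (D.map f) := fun x => normalizer_eq_top (D.map f) ▸ mem_top x
  refine hm.nilB_of_normal hM (fun x _ => hN x) fun x hx hr =>
    mem_cent_of_regular_of_map hd.isPGroup hk hr (hN x) (hn.cent _ _ hm'.bpo _
      (Block2.mem_stabP.2 ⟨mem_top _, hN' _, ?_⟩) (not_dvd_orderOf_map hr))
  refine hε.cjA_eq_of_push hM hkp hm'.bp.blk_top (centralizer_le hkD) ?_ (fun k hk' hr' => ?_) h2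
    (norm_le_norm_cent (hN x)) (norm_le_norm_cent (hN' _)) (Block2.mem_stabP.1 hx).2.2
  · rintro _ ⟨c, hc, rfl⟩ _ ⟨u, hu, rfl⟩
    rw [← map_mul, ← map_mul, mem_centralizer_iff.1 hc u hu]
  · obtain ⟨y, rfl, hy⟩ := exists_regular_lift Fact.out hf hr'
    exact ⟨y, mem_cent_of_regular_of_map hd.isPGroup hk hy (hN y) hk', hy, rfl⟩

end quot

theorem nilB_of_deg_normal [D.Normal] (hM : IsPModular p M) (hB : IsPBlock M B)
    (hD : IsDefectGroup p M B D) {d : ℕ}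
    (hd : ∀ χ ∈ B, blockHeight p B χ.1 = 0 → charDegree χ.1 = d) : NilB p ⊤ (eB M B) := by
  have hp := (hD.defG_top hM hB).isPGroup
  let f := QuotientGroup.mk' (⁅D, D⁆ : Subgroup G)
  have hf : Function.Surjective f := QuotientGroup.mk'_surjective _
  have hk : f.ker = ⁅D, D⁆ := QuotientGroup.ker_mk' _
  have hkD : f.ker ≤ D := hk.le.trans (commutator_le_left D D)
  obtain ⟨b, hb, h, hD'⟩ := exists_dom_isDefectGroup_map hf hM (hp.to_le hkD) hB hD
  haveI : (D.map f).Normal := Normal.map inferInstance f hf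
  haveI := Fintype.ofFinite (G ⧸ (⁅D, D⁆ : Subgroup G))
  have hab : ∀ a ∈ D.map f, ∀ c ∈ D.map f, a * c = c * a := by
    rintro _ ⟨a, ha, rfl⟩ _ ⟨c, hc, rfl⟩
    rw [← commutatorElement_eq_one_iff_mul_comm, ← map_commutatorElement, ← MonoidHom.mem_ker, hk]
    exact commutator_mem_commutator ha hc
  obtain ⟨δ, hm'⟩ := (hD'.defG_top hM hb).exists_maxP hM (blk_top_eB hb)
  refine nilB_of_dom hM hf hk.le hB hD hb h hD' (nilB_of_deg hM hb hm' (le_cent_self_of_comm hab)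
    (d := d) fun χ hχ => ?_)
  rw [← charDegree_infl hf]
  refine hd _ (h hχ) ((blockHeight_eq_zero_iff_eq (B := B) (χ := infl f hf χ) (h hχ)).2 ?_)
  rw [charDegree_infl, (blockHeight_eq_zero_iff_eq hχ).1 ((reynolds hM _ rfl hb hD').1 hab χ hχ),
    hD'.minVal_eq hM hb, hD.minVal_eq hM hB, index_map_eq _ hf hkD]

end Cfsg.Lib.Block2
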