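import Cfsg.Agent.Lib.Block2.RealO
import Cfsg.Agent.Lib.Coprime.Action
import Cfsg.Agent.Lib.Core.Nilpotent

/-! The Okuyama-Wajima argument: extendibility of Glauberman correspondents. -/

set_option autoImplicit false
set_option linter.unusedSectionVars false
set_option linter.style.haveILetI false

namespace Cfsg.Lib.Block2.OW

open Cfsg Cfsg.Lib Cfsg.Lib.Char Cfsg.Lib.Clifford Cfsg.Lib.Coprime Cfsg.Lib.Block2.RP Finset Subgroup
open scoped ComplexConjugate Classical commutatorElement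

universe u

variable {Γ : Type*} [Group Γ] [Finite Γ] {G K L N M H T S R V D C A B W U : Subgroup Γ}
  {χ ψ φ θ η ξ α β γ lam μ ν : Γ → ℂ} {p : ℕ}

/-- `θ` extends from `N` to `W`. -/
def Ex (W N : Subgroup Γ) (θ : Γ → ℂ) : Prop := ∃ χ, CharOn W χ ∧ ∀ n ∈ N, χ n = θ n

theorem Ex.mono (h : Ex W N θ) (hU : U ≤ W) : Ex U N θ :=
  let ⟨χ, h1, h2⟩ := h; ⟨χ, h1.mono hU, h2⟩

theorem Ex.congr (h : Ex W N θ) (e : ∀ n ∈ N, θ n = φ n) : Ex W N φ :=
  let ⟨χ, h1, h2⟩ := h; ⟨χ, h1, fun n hn => (h2 n hn).trans (e n hn)⟩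

theorem ex_congr (e : ∀ n ∈ N, θ n = φ n) : Ex W N θ ↔ Ex W N φ :=
  ⟨fun h => h.congr e, fun h => h.congr fun n hn => (e n hn).symm⟩

theorem not_dvd_sup [hp : Fact p.Prime] (hN : Nrm H K) (hK : ¬ p ∣ Nat.card K)
    (hH : ¬ p ∣ Nat.card H) : ¬ p ∣ Nat.card (K ⊔ H : Subgroup Γ) := fun h => by
  rw [← Clifford.card_mul_relIndex (le_sup_left : K ≤ K ⊔ H), hp.out.dvd_mul] at h
  exact h.elim hK fun h => hH (h.trans (relIndex_sup_dvd hN))

theorem sup_inf_eq (hN : Nrm D K) (hD : D ≤ C) : (K ⊔ D) ⊓ C = K ⊓ C ⊔ D := by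
  rw [sup_comm, sup_comm _ D]
  exact Amalg.sup_inf_of_le_normalizer hD hN.le_normalizer

theorem relIndex_sup' (hN : Nrm D K) : K.relIndex (K ⊔ D) = K.relIndex D := by
  have h1 := card_mul_card_of_prod (K := K ⊔ D) (H := K) (M := D) le_sup_left le_sup_right
    fun g hg => exists_mul_of_mem_sup_nrm' hN (by rwa [sup_comm])
  rw [← Clifford.card_mul_relIndex (le_sup_left : K ≤ K ⊔ D),
    ← Clifford.card_mul_relIndex (inf_le_right : K ⊓ D ≤ D), inf_relIndex_right] at h1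
  have h2 : 0 < Nat.card K * Nat.card (K ⊓ D : Subgroup Γ) := Nat.mul_pos Nat.card_pos Nat.card_pos
  exact (Nat.eq_of_mul_eq_mul_left h2 (by linear_combination h1)).symm

/-- An invariant constituent of multiplicity one extends over a cyclic quotient. -/
theorem ex_of_mult {v : Γ} (hK : Nrm V K) (hD : Nrm V D) (hV : zpowers v ⊔ D = V) (hθ : IrrOn K θ)
    (hi : InvOn V K θ) (hη : IrrOn (K ⊔ D) η) (hi' : InvOn V (K ⊔ D) η) (h : mult K η θ = 1) :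
    Ex (K ⊔ V) K θ := by
  have hDV : D ≤ V := hV ▸ le_sup_right
  have h1 : Nrm (K ⊔ D) K := nrm_sup' (nrm_self K) (hK.mono hDV)
  have h2 : Nrm V (K ⊔ D) := hK.sup hD
  have h3 : Nrm K (K ⊔ D) := (nrm_self _).mono le_sup_left
  obtain ⟨χ, hχ, e⟩ := exists_ext_of_zpowers (g := v) (K := K ⊔ V)
    (by rw [← hV, sup_left_comm]) (nrm_sup' h3 h2) hη
    (invOn_sup h3 h2 (hη.classOn.mono le_sup_left le_rfl) hi')
  refine ⟨χ, (irrOn_of_mem hχ).charOn, fun n hn => ?_⟩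
  rw [e n (mem_sup_left hn), clifford_invOn le_sup_left h1 hη hθ (invOn_sup (nrm_self K)
    (hK.mono hDV) hθ.classOn (hi.mono hDV le_rfl)) (((hη.charOn.mono le_sup_left).mult_ne_zero
      hθ.charOn).1 (by omega)) hn, h, Nat.cast_one, one_mul]

theorem Ex.exists_irr (h : Ex (K ⊔ V) K θ) (hK : Nrm V K) (hD : Nrm V D) (hDV : D ≤ V)
    (hθ : IrrOn K θ) : ∃ η ∈ IrrOver (K ⊔ D) K θ, InvOn V (K ⊔ D) η ∧ mult K η θ = 1 := by
  obtain ⟨χ, h1, h2⟩ := h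
  have hle : K ⊔ D ≤ K ⊔ V := sup_le_sup_left hDV K
  have h3 : dot K (cut (K ⊔ D) χ) θ = 1 :=
    (dot_congr_left (fun x hx => (cut_of_mem χ (mem_sup_left hx)).trans (h2 x hx)) θ).trans
      hθ.dot_self
  exact ⟨_, mem_IrrOver.2 ⟨((h1.mono hle).irrOn_of_res le_sup_left (hθ.congr fun x hx =>
    (h2 x hx).symm)).cut_mem, by rw [h3]; exact one_ne_zero⟩,
    (h1.classOn.mono le_sup_right hle).cut' (hK.sup hD) _, mult_of_eq (by rw [h3, Nat.cast_one])⟩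

theorem base [hp : Fact p.Prime] (hR : IsPGroup p R) (hK : ¬ p ∣ Nat.card K) (hV : ¬ p ∣ Nat.card V)
    (nRK : Nrm R K) (nVK : Nrm V K) (nVR : Nrm V R) {v : Γ} (e : zpowers v ⊔ D = V)
    (hD : D ≤ centralizer (R : Set Γ)) (h1 : ⁅V, V⁆ ≤ K) (h2 : ⁅V, V⁆ ≤ D) (hθ : θ ∈ Irr K)
    (iR : InvOn R K θ) (iV : InvOn V K θ) (hφ : φ ∈ Irr (K ⊓ centralizer (R : Set Γ)))
    (h : ¬ p ∣ mult (K ⊓ centralizer (R : Set Γ)) θ φ) :
    Ex (K ⊔ V) K θ ↔ Ex (K ⊓ centralizer (R : Set Γ) ⊔ V) (K ⊓ centralizer (R : Set Γ)) φ := by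
  have hDV : D ≤ V := e ▸ le_sup_right
  have nVD : Nrm V D := nrm_of_commutator_le hDV h2
  have nDK := nVK.mono hDV
  have hc : ∀ r ∈ R, ∀ d ∈ D, r * d * r⁻¹ = d := fun r hr d hd => by
    rw [hD hd r hr, mul_inv_cancel_right]
  have nRG : Nrm R (K ⊔ D) := nRK.sup fun r hr d hd => (hc r hr d hd).symm ▸ hd
  have hG := not_dvd_sup nDK hK fun h => hV (h.trans (card_dvd_of_le hDV))
  have nG : Nrm (K ⊔ D) K := nrm_sup' (nrm_self K) nDK
  have g0 := glaub_pgroup hR nRK hK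
  have g1 := glaub_pgroup hR nRG hG
  have ov := fun χ (hχ : IrrOn (K ⊔ D) χ) hi ξ hξ h1 => glaub_over_iff (χ := χ) (ξ := ξ) hR nRG nRK
    le_sup_left nG hG hχ hi hθ iR hξ h1 hφ h
  have nV1 := nrm_inf_centralizer nVK nVR
  have hDD : ⁅D, D⁆ ≤ K ⊓ centralizer (R : Set Γ) :=
    (commutator_mono hDV hDV).trans (le_inf h1 (h2.trans hD))
  have hidx : K.relIndex (K ⊔ D) = (K ⊓ centralizer (R : Set Γ)).relIndex
      (K ⊓ centralizer (R : Set Γ) ⊔ D) := by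
    rw [relIndex_sup' nDK, relIndex_sup' (nV1.mono hDV), ← inf_relIndex_right K,
      ← inf_relIndex_right (K ⊓ centralizer (R : Set Γ)), inf_assoc, inf_eq_right.2 hD]
  rw [sup_inf_eq nDK hD] at g1 ov
  have hle : K ⊓ centralizer (R : Set Γ) ≤ K := inf_le_left
  generalize K ⊓ centralizer (R : Set Γ) = K₁ at *
  have hθ' := irrOn_of_mem hθ
  have hφ' := irrOn_of_mem hφ
  have iφ := g0.invOn_right hle nV1 hθ' iR iV hφ h
  have ab : ⁅K ⊔ D, K ⊔ D⁆ ≤ K := (commutator_sup_le_of_nrm nDK).trans (sup_le le_rfl (hDD.trans hle))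
  have ab1 : ⁅K₁ ⊔ D, K₁ ⊔ D⁆ ≤ K₁ :=
    (commutator_sup_le_of_nrm (nV1.mono hDV)).trans (sup_le le_rfl hDD)
  have iG : InvOn (K ⊔ D) K θ := invOn_sup (nrm_self K) nDK hθ'.classOn (iV.mono hDV le_rfl)
  have all : ∀ η ∈ Irr (K ⊔ D), dot K η θ ≠ 0 → InvOn R (K ⊔ D) η := fun η hη h3 => by
    obtain ⟨k, hk⟩ := hR.exists_card_eq
    obtain ⟨η₀, h4, h5, h6⟩ := exists_invOn_over_of_abelian nRG nRK le_sup_left nG ab
      (hk ▸ ((Nat.Prime.coprime_iff_not_dvd hp.out).2 fun h => hG (h.trans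
        (Dvd.intro_left _ (Clifford.card_mul_relIndex le_sup_left)))).symm.pow_right k) hθ' iR iG
    obtain ⟨β, hβ, h7⟩ := exists_lin_of_abelian le_sup_left nG ab hθ' iG (irrOn_of_mem h4)
      (irrOn_of_mem hη) h5 h3
    obtain ⟨h8, h9⟩ := mem_IrrKer.1 hβ
    intro r hr x hx
    rw [h7 x hx, h7 _ (nRG r hr x hx), h6 r hr x hx]
    obtain ⟨k, hk, d, hd, rfl⟩ := exists_mul_of_mem_sup_nrm' nDK (by rwa [sup_comm])
    rw [show r * (k * d) * r⁻¹ = r * k * r⁻¹ * (r * d * r⁻¹) by group, hc r hr d hd,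
      h9.mul_left (irrOn_of_mem h8).charOn le_sup_left hk (mem_sup_right hd),
      h9.mul_left (irrOn_of_mem h8).charOn le_sup_left (nRK r hr k hk) (mem_sup_right hd)]
  have hcard : (IrrOver (K ⊔ D) K θ).card = (IrrOver (K₁ ⊔ D) K₁ φ).card := by
    unfold IrrOver
    convert g1.card_filter _ _ all fun χ hχ hi β hβ h => ov χ (irrOn_of_mem hχ) hi β hβ h
  obtain ⟨a, -, a1, a2, -⟩ := exists_ind_eq_of_abelian le_sup_left nG ab hθ' iG
  obtain ⟨b, -, b1, b2, -⟩ := exists_ind_eq_of_abelian le_sup_left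
    (nrm_sup' (nrm_self K₁) (nV1.mono hDV)) ab1 hφ'
    (invOn_sup (nrm_self K₁) (nV1.mono hDV) hφ'.classOn (iφ.mono hDV le_rfl))
  have hab : a = b := by
    rw [hcard, hidx, ← b2] at a2
    exact (Nat.pow_left_inj two_ne_zero).1 (Nat.eq_of_mul_eq_mul_right
      (card_pos.2 (hφ'.IrrOver_nonempty le_sup_left)) a2)
  have hle' : K₁ ⊔ D ≤ K ⊔ D := sup_le_sup_right hle D
  refine ⟨fun hx => ?_, fun hx => ?_⟩
  · obtain ⟨η, hη, h3, h4⟩ := hx.exists_irr nVK nVD hDV hθ'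
    obtain ⟨h5, h6⟩ := mem_IrrOver.1 hη
    obtain ⟨ξ, hξ, h7⟩ := g1.exists (irrOn_of_mem h5) (all η h5 h6)
    exact ex_of_mult nV1 nVD e hφ' iφ (irrOn_of_mem hξ) (g1.invOn_right hle' (nV1.sup nVD)
      (irrOn_of_mem h5) (all η h5 h6) h3 hξ h7) (by
        rw [b1 ξ (mem_IrrOver.2 ⟨hξ, (ov η (irrOn_of_mem h5) (all η h5 h6) ξ hξ h7).1 h6⟩), ← hab,
          ← a1 η hη, h4])
  · obtain ⟨ξ, hξ, h3, h4⟩ := hx.exists_irr nV1 nVD hDV hφ'
    obtain ⟨h5, h6⟩ := mem_IrrOver.1 hξ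
    obtain ⟨η, hη, h7, h8⟩ := g1.surj ξ h5
    exact ex_of_mult nVK nVD e hθ' iV (irrOn_of_mem hη) (g1.invOn_left (nV1.sup nVD) (nVK.sup nVD)
      nVR hη h7 h5 h3 h8) (by
        rw [a1 η (mem_IrrOver.2 ⟨hη, (ov η (irrOn_of_mem hη) h7 ξ h5 h8).2 h6⟩), hab,
          ← b1 ξ hξ, h4])

theorem nrm_comm (h : Nrm U A) (h' : Nrm U B) : Nrm U ⁅A, B⁆ :=
  nrm_of_le_normalizer (Amalg.le_normalizer_of_cj_le fun a ha => by
    rw [Amalg.cj_commutator, Amalg.cj_of_mem_normalizer (h.le_normalizer ha),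
      Amalg.cj_of_mem_normalizer (h'.le_normalizer ha)])

theorem nrm_cent (h : Nrm U A) : Nrm U (centralizer (A : Set Γ)) := by
  simpa using nrm_inf_centralizer (nrm_of_normal U ⊤) h

/-- The Okuyama-Wajima theorem. -/
theorem ow [hp : Fact p.Prime] (hS : IsPGroup p S) (hV : ¬ p ∣ Nat.card V) (nVS : Nrm V S)
    (hVC : ⁅V, V⁆ ≤ C) (hφ : φ ∈ Irr C) (K : Subgroup Γ) : ¬ p ∣ Nat.card K → Nrm S K → Nrm V K →
    K ⊓ centralizer (S : Set Γ) = C → ∀ θ ∈ Irr K, InvOn S K θ → InvOn V K θ →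
    ¬ p ∣ mult C θ φ → (Ex (K ⊔ V) K θ ↔ Ex (C ⊔ V) C φ) := by
  induction K using WellFoundedLT.induction with | _ K ih => ?_
  intro hK nSK nVK hC θ hθ iS iV h
  by_cases h0 : S ≤ centralizer (K : Set Γ)
  · obtain rfl : K = C := by rw [← hC, inf_eq_left.2 (le_centralizer_iff.1 h0)]
    rw [mult_irr hθ hφ] at h
    rw [of_not_not fun e : ¬ θ = φ => h (by simp [e])]
  obtain ⟨W, ⟨hWS, nSW, nVW, hW⟩, hmin⟩ := exists_minimal_of_wellFoundedLT
    (fun W : Subgroup Γ => W ≤ S ∧ Nrm S W ∧ Nrm V W ∧ ¬ W ≤ centralizer (K : Set Γ))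
    ⟨S, le_rfl, nrm_self S, nVS, h0⟩
  have hWp := hS.to_le hWS
  have hlt := Core.commutator_lt_of_isPGroup hWp hS nSW.le_normalizer
    (by rintro rfl; exact hW bot_le)
  have h1 : ⁅W, S⁆ ≤ W ⊓ centralizer (K : Set Γ) := le_inf hlt.le <| of_not_not fun h =>
    hlt.not_ge (hmin ⟨hlt.le.trans hWS, nrm_comm nSW (nrm_self S), nrm_comm nVW nVS, h⟩ hlt.le)
  have hCS : C ≤ centralizer (S : Set Γ) := hC ▸ inf_le_right
  have hVW : ⁅V, V⁆ ≤ centralizer (W : Set Γ) := (hVC.trans hCS).trans (centralizer_le hWS)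
  obtain ⟨v, hv, B, e, h2⟩ := exists_cocyclic_of_irreducible_section (A := V) (B := V) (K := W)
    (M := W ⊓ centralizer (K : Set Γ)) inf_le_left ((commutator_mono le_rfl hWS).trans h1)
    nVW.le_normalizer (nVW.inf (nrm_cent nVK)).le_normalizer (fun X h2 h3 h4 => by
      by_cases h5 : X ≤ centralizer (K : Set Γ)
      · exact Or.inl (le_antisymm (le_inf h3 h5) h2)
      refine Or.inr (le_antisymm h3 (hmin ⟨h3.trans hWS, fun s hs x hx => ?_,
        nrm_of_le_normalizer h4, h5⟩ h3))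
      have := mul_mem hx (h2 (h1 (commutator_mem_commutator (h3 (inv_mem hx)) hs)))
      rw [commutatorElement_def] at this
      convert this using 1
      group) le_rfl (by
      rw [commutator_eq_bot_iff_le_centralizer.2 (le_centralizer_iff.1 hVW)]; exact bot_le)
  have hBV : B ≤ V := e ▸ le_sup_right
  have hDV : B ⊔ ⁅V, V⁆ ≤ V := sup_le hBV (Clifford.commutator_le_self V)
  have nVD : Nrm V (B ⊔ ⁅V, V⁆) := nrm_of_commutator_le hDV le_sup_right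
  obtain ⟨k, hk⟩ := hWp.exists_card_eq
  have h3 := commutator_sup_centralizer (A := B) (K := W) (nVW.mono hBV).le_normalizer
    (hk ▸ ((Nat.Prime.coprime_iff_not_dvd hp.out).2 fun h =>
      hV (h.trans (card_dvd_of_le hBV))).symm.pow_right k) (Or.inr (by have := hWp.isNilpotent; infer_instance))
  have h4 : W ⊓ centralizer (B : Set Γ) ≤ W ⊓ centralizer ((B ⊔ ⁅V, V⁆ : Subgroup Γ) : Set Γ) := by
    rw [centralizer_sup']
    exact le_inf inf_le_left (le_inf inf_le_right (inf_le_left.trans (le_centralizer_iff.1 hVW)))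
  have nVR := nrm_inf_centralizer nVW nVD
  have hDR : B ⊔ ⁅V, V⁆ ≤ centralizer ((W ⊓ centralizer ((B ⊔ ⁅V, V⁆ : Subgroup Γ) : Set Γ) :
    Subgroup Γ) : Set Γ) := le_centralizer_iff.1 inf_le_right
  have hRW : W ⊓ centralizer ((B ⊔ ⁅V, V⁆ : Subgroup Γ) : Set Γ) ≤ W := inf_le_left
  generalize W ⊓ centralizer ((B ⊔ ⁅V, V⁆ : Subgroup Γ) : Set Γ) = R at *
  have h5 : K ⊓ centralizer (R : Set Γ) = K ⊓ centralizer (W : Set Γ) := by
    refine le_antisymm (le_inf inf_le_left (le_centralizer_iff.1 ?_))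
      (inf_le_inf_left K (centralizer_le hRW))
    rw [← h3]
    exact sup_le ((h2.trans inf_le_right).trans (centralizer_le inf_le_left))
      (h4.trans (le_centralizer_iff.1 inf_le_right))
  have hRS := hRW.trans hWS
  have g := glaub_pgroup (hS.to_le hRS) (nSK.mono hRS) hK
  have iR := iS.mono hRS le_rfl
  obtain ⟨ψ, hψ, h6⟩ := g.exists (irrOn_of_mem hθ) iR
  rw [base (hS.to_le hRS) hK hV (nSK.mono hRS) nVK nVR (v := v) (D := B ⊔ ⁅V, V⁆)
    (by rw [← sup_assoc, e, sup_eq_left.2 (Clifford.commutator_le_self V)]) hDR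
    (hVC.trans (hC ▸ inf_le_left)) le_sup_right hθ iR iV hψ h6]
  rw [h5] at g hψ h6 ⊢
  have n1 := nrm_inf_centralizer nSK nSW
  have n2 := nrm_inf_centralizer nVK nVW
  have h7 : K ⊓ centralizer (W : Set Γ) ⊓ centralizer (S : Set Γ) = C := by
    rw [inf_assoc, inf_eq_right.2 (centralizer_le hWS), hC]
  exact ih _ (lt_of_le_of_ne inf_le_left fun e => hW (le_centralizer_iff.1 (inf_eq_left.1 e)))
    (fun h => hK (h.trans (card_dvd_of_le inf_le_left))) n1 n2 h7 ψ hψ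
    (g.invOn_right inf_le_left n1 (irrOn_of_mem hθ) iR iS hψ h6)
    (g.invOn_right inf_le_left n2 (irrOn_of_mem hθ) iR iV hψ h6)
    (by rwa [← g.dvd_iff inf_le_left (irrOn_of_mem hθ) iR hψ h6 (h7 ▸ inf_le_left)
      (irrOn_of_mem hφ).charOn])

end Cfsg.Lib.Block2.OW
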