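import Cfsg.Agent.Lib.Block2.OW
import Cfsg.Agent.Lib.Clifford.Count
import Cfsg.Agent.Lib.Clifford.TI

/-! Gallagher's count of the characters over an invariant character. -/

set_option autoImplicit false
set_option linter.unusedSectionVars false
set_option linter.style.haveILetI false

namespace Cfsg.Lib.Block2.OW

open Cfsg Cfsg.Lib Cfsg.Lib.Char Cfsg.Lib.Clifford Cfsg.Lib.Coprime Cfsg.Lib.Block2.RP Finset Subgroup
open scoped ComplexConjugate Classical commutatorElement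

universe u

variable {Γ : Type*} [Group Γ] [Finite Γ] {G K L N M H T S R V D C A B W U : Subgroup Γ}
  {χ ψ φ θ η ξ α β γ lam μ ν : Γ → ℂ} {p : ℕ}

theorem ex_iff [hp : Fact p.Prime] (hS : Amalg.Syl p S W) (hK : Nrm W K) (hA : Nrm W (K ⊔ S))
    (hKV : K ≤ V) (hVW : V ≤ W) (hW : ∀ w ∈ W, ∃ v ∈ V, ∃ s ∈ S, w = v * s) (hα : CharOn (K ⊔ S) α)
    (hα' : IrrOn K α) (hi : InvOn W (K ⊔ S) α) : Ex W (K ⊔ S) α ↔ Ex V K α := by
  refine ⟨fun ⟨χ, h1, h2⟩ => ⟨χ, h1.mono hVW, fun n hn => h2 n (mem_sup_left hn)⟩, fun h => ?_⟩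
  have hAW : K ⊔ S ≤ W := sup_le (hKV.trans hVW) hS.le
  obtain ⟨k, hk⟩ := hS.isPGroup.exists_card_eq
  have h1 : V.relIndex W ∣ p ^ k := by
    have h1 := card_mul_card_of_prod hVW hS.le hW
    rw [← Clifford.card_mul_relIndex hVW, hk] at h1
    exact ⟨_, Nat.eq_of_mul_eq_mul_left (Nat.card_pos (α := V)) (by rw [h1]; ring)⟩
  have h2 := hS.not_dvd_relIndex_of_le (le_sup_right : S ≤ K ⊔ S)
  obtain ⟨χ, hχ, e⟩ := exists_ext_of_sylow (hKV.trans hVW) hK hα' (hi.mono le_rfl le_sup_left)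
    fun q hq _ => by
      by_cases h3 : q = p
      · exact ⟨_, le_sup_left, hAW, h3 ▸ h2, α, hα, fun _ _ => rfl⟩
      · exact ⟨V, hKV, hVW, fun h4 => h3 ((Nat.prime_dvd_prime_iff_eq hq hp.out).1
          (hq.dvd_of_dvd_pow (h4.trans h1))), h⟩
  have hχ' := (irrOn_of_mem hχ).charOn
  have h3 := hα'.congr fun x hx => (e x hx).symm
  obtain ⟨β, hβ, b1, b2⟩ := exists_lin_of_ext le_sup_left (hK.mono hAW) (hχ'.mono hAW) h3 hα
    fun n hn => (e n hn).symm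
  have hinv : InvOn W (K ⊔ S) β := fun w hw => mul_ext_inj (β := cj w β) le_sup_left (hK.mono hAW)
    (hχ'.mono hAW) h3 (hβ.irrOn.cj hA hw) hβ.irrOn
    (fun n hn => by rw [cj_at_one, cj_apply, b1 _ (hK w hw n hn), hβ.2])
    (fun n hn => by rw [b1 n hn, hβ.2]) fun x hx => by
      rw [← b2 x hx, ← hi w hw x hx, b2 _ (hA w hw x hx), hχ'.classOn w hw x (hAW hx), cj_apply]
  obtain ⟨μ, hμ, m1, -⟩ := hβ.exists_ext_of_coprime hAW hA hinv (Nat.Coprime.coprime_dvd_right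
    (ordOn_dvd_iff.2 fun x hx => hβ.pow_relIndex (hK.mono hAW) b1 hx)
    (cop hS.isPGroup (hK.mono hS.le) h2).symm)
  exact ⟨μ * χ, hμ.charOn.mul hχ', fun n hn => by rw [Pi.mul_apply, m1 n hn, b2 n hn]⟩

section Cov
variable {Δ : Type*} [Group Δ] [Finite Δ] {π : Δ →* Γ} {τ ν : Δ → ℂ}

theorem cover_card (c : Cover K N θ π τ ν) (hNH : N ≤ H) (hH : H ≤ K) (Q : ℕ → Prop) :
    ((IrrOver (H.comap π) (N.comap π) ν).filter fun β => Q (charDegree β * charDegree θ)).card =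
      ((IrrOver H N θ).filter fun χ => Q (charDegree χ)).card := by
  have key : ∀ β ∈ IrrOver (H.comap π) (N.comap π) ν, ∃ χ ∈ IrrOver H N θ,
      ∀ x ∈ H.comap π, χ (π x) = β x * τ x := fun β hβ =>
    c.exists_of_over' hNH hH (irrOn_of_mem (mem_IrrOver.1 hβ).1) (mem_IrrOver.1 hβ).2
  choose! f h1 h2 using key
  have hd : ∀ β ∈ IrrOver (H.comap π) (N.comap π) ν,
      charDegree (f β) = charDegree β * charDegree θ := fun β hβ => charDegree_of_eq (by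
    rw [← π.map_one, h2 β hβ 1 (one_mem _), (irrOn_of_mem (mem_IrrOver.1 hβ).1).one_eq, c.apply_one,
      c.irr.one_eq, Nat.cast_mul])
  refine card_nbij f (fun β hβ => ?_) (fun β hβ γ hγ e => ?_) fun χ hχ => ?_
  · obtain ⟨a, b⟩ := mem_filter.1 (mem_coe.1 hβ)
    exact mem_coe.2 (mem_filter.2 ⟨h1 β a, by rwa [hd β a]⟩)
  · have a := (mem_filter.1 (mem_coe.1 hβ)).1
    have b := (mem_filter.1 (mem_coe.1 hγ)).1
    obtain ⟨a1, a2⟩ := mem_IrrOver.1 a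
    obtain ⟨b1, b2⟩ := mem_IrrOver.1 b
    exact eq_of_mem_Irr a1 b1 (gallagher_inj (comap_mono hNH) (c.nrm_comap _) (c.char.mono le_top)
      c.lin.irrOn (c.invOn _) c.irr_mul (irrOn_of_mem a1) (irrOn_of_mem b1) a2 b2
      fun x hx => by rw [← h2 β a x hx, ← h2 γ b x hx, e])
  · obtain ⟨a, b⟩ := mem_filter.1 (mem_coe.1 hχ)
    obtain ⟨a1, a2⟩ := mem_IrrOver.1 a
    obtain ⟨β, hβ, e, -⟩ := c.exists_of_over hNH hH (irrOn_of_mem a1) a2
    have e' : f β = χ := eq_of_mem_Irr (mem_IrrOver.1 (h1 β hβ)).1 a1 fun g hg => by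
      obtain ⟨x, rfl⟩ := c.exists_eq (hH hg)
      rw [h2 β hβ x hg, e x hg]
    exact ⟨β, mem_coe.2 (mem_filter.2 ⟨hβ, by rwa [← hd β hβ, e']⟩), e'⟩

theorem comp_card (f : Δ →* Γ) (hf : Function.Surjective f) (hNH : N ≤ H) (hθ : IrrOn N θ)
    (Q : ℕ → Prop) :
    ((IrrOver H N θ).filter fun χ => Q (charDegree χ)).card =
      ((IrrOver (H.comap f) (N.comap f) (θ ∘ f)).filter fun β => Q (charDegree β)).card := by
  have e1 := map_comap_eq_self_of_surjective hf H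
  have e2 := map_comap_eq_self_of_surjective hf N
  have hd : ∀ χ : Γ → ℂ, charDegree (cut (H.comap f) (χ ∘ f)) = charDegree χ := fun χ => by
    unfold charDegree
    rw [cut_of_mem _ (one_mem _), Function.comp_apply, f.map_one]
  have hdot : ∀ χ : Γ → ℂ, dot (N.comap f) (cut (H.comap f) (χ ∘ f)) (θ ∘ f) = dot N χ θ := fun χ => by
    rw [dot_congr_left fun x hx => cut_of_mem _ (comap_mono hNH hx), dot_comp, e2]
  refine card_nbij (fun χ => cut (H.comap f) (χ ∘ f)) (fun χ hχ => ?_) (fun χ hχ ψ hψ e => ?_)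
    fun β hβ => ?_
  · obtain ⟨a, b⟩ := mem_filter.1 (mem_coe.1 hχ)
    obtain ⟨a1, a2⟩ := mem_IrrOver.1 a
    exact mem_coe.2 (mem_filter.2 ⟨mem_IrrOver.2 ⟨(IrrOn.comp (by
      rw [e1]; exact irrOn_of_mem a1)).cut_mem, by rwa [hdot]⟩, by rwa [hd]⟩)
  · refine eq_of_mem_Irr (mem_IrrOver.1 (mem_filter.1 (mem_coe.1 hχ)).1).1
      (mem_IrrOver.1 (mem_filter.1 (mem_coe.1 hψ)).1).1 fun g hg => ?_
    obtain ⟨x, rfl⟩ := hf g
    have := congrFun e x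
    beta_reduce at this
    rwa [cut_of_mem _ (show x ∈ H.comap f from hg), cut_of_mem _ (show x ∈ H.comap f from hg)] at this
  · obtain ⟨a, b⟩ := mem_filter.1 (mem_coe.1 hβ)
    obtain ⟨a1, a2⟩ := mem_IrrOver.1 a
    have hk : f.ker ≤ N.comap f := ker_le_comap f N
    obtain ⟨χ, hχ, e⟩ := (irrOn_of_mem a1).exists_comp f (((triv_iff_of_dot (comap_mono hNH) hk
      (nrm_of_normal _ _) (irrOn_of_mem a1) (IrrOn.comp (by rwa [e2])) a2).2
      fun x hx => by simp [f.mem_ker.1 hx]).mono inf_le_right)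
    have e' : cut (H.comap f) (χ ∘ f) = β := (cut_congr fun x hx => (e x hx).symm).trans
      (cut_of_mem_Irr a1)
    rw [e1] at hχ
    exact ⟨χ, mem_coe.2 (mem_filter.2 ⟨mem_IrrOver.2 ⟨hχ, by rwa [← hdot, e']⟩,
      by rwa [← hd, e']⟩), e'⟩

end Cov

/-- The elements commuting with `x` modulo `D`. -/
def Yc (D : Subgroup Γ) [hD : D.Normal] (x : Γ) : Subgroup Γ where
  carrier := {y | y * x * y⁻¹ * x⁻¹ ∈ D}
  one_mem' := by simp
  mul_mem' := fun {a b} ha hb => by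
    have := mul_mem (hD.conj_mem _ hb a) ha
    simp only [Set.mem_ofPred_eq]
    convert this using 1; group
  inv_mem' := fun {a} ha => by
    have := hD.conj_mem _ (inv_mem ha) a⁻¹
    simp only [Set.mem_ofPred_eq]
    convert this using 1; group

theorem mem_Yc [D.Normal] {x y : Γ} : y ∈ Yc D x ↔ y * x * y⁻¹ * x⁻¹ ∈ D := Iff.rfl

theorem Yc_symm [D.Normal] {x y : Γ} (h : y ∈ Yc D x) : x ∈ Yc D y := by
  have := inv_mem (mem_Yc.1 h)
  rw [mem_Yc]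
  convert this using 1; group

theorem lin_ext_iff [N.Normal] (hν : LinOn N ν) (hi : InvOn ⊤ N ν) {x y : Γ}
    (h : y * x * y⁻¹ * x⁻¹ ∈ N) : ν (y * x * y⁻¹ * x⁻¹) = 1 ↔
      ∃ μ, LinOn (N ⊔ (zpowers x ⊔ zpowers y)) μ ∧ ∀ z ∈ N, μ z = ν z := by
  refine ⟨fun e => hν.exists_ext_of_commutator le_sup_left fun z hz _ => ?_, fun ⟨μ, hμ, e⟩ => ?_⟩
  · have := (nrm_kerOn (nrm_of_normal ⊤ N) hi).normal
    have h1 : ∀ g, N ≤ Yc (kerOn N ν) g := fun g n hn =>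
      Yc_symm (hν.commutator_mem (nrm_of_normal ⊤ N) hi (mem_top g) hn)
    have h2 : y ∈ Yc (kerOn N ν) x := hν.mem_kerOn.2 ⟨h, e⟩
    have h3 : ∀ g, g ∈ Yc (kerOn N ν) g := fun g => by simp [mem_Yc]
    have h4 : ∀ g, x ∈ Yc (kerOn N ν) g → y ∈ Yc (kerOn N ν) g →
        N ⊔ (zpowers x ⊔ zpowers y) ≤ Yc (kerOn N ν) g := fun g a b =>
      sup_le (h1 g) (sup_le (zpowers_le.2 a) (zpowers_le.2 b))
    exact (hν.mem_kerOn.1 (commutator_le.2 (fun a ha b hb => h4 b (Yc_symm (h4 x (h3 x) h2 hb))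
      (Yc_symm (h4 y (Yc_symm h2) (h3 y) hb)) ha) hz)).2
  · rw [← e _ h]
    exact hμ.map_commutator (mem_sup_right (mem_sup_right (mem_zpowers y)))
      (mem_sup_right (mem_sup_left (mem_zpowers x)))

theorem sum_comm_lin [N.Normal] (hν : LinOn N ν) (hi : InvOn ⊤ N ν) (x : Γ) :
    ∑ y ∈ elems ⊤, cut N ν (y * x * y⁻¹ * x⁻¹) = ∑ y ∈ elems ⊤,
      if y * x * y⁻¹ * x⁻¹ ∈ N ∧ ∀ z, z * x * z⁻¹ * x⁻¹ ∈ N → ν (z * x * z⁻¹ * x⁻¹) = 1
      then 1 else 0 := by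
  by_cases h : ∀ z, z * x * z⁻¹ * x⁻¹ ∈ N → ν (z * x * z⁻¹ * x⁻¹) = 1
  · refine sum_congr rfl fun y _ => ?_
    by_cases h1 : y * x * y⁻¹ * x⁻¹ ∈ N
    · rw [cut_of_mem _ h1, h y h1, if_pos ⟨h1, h⟩]
    · rw [cut_of_notMem _ h1, if_neg fun h => h1 h.1]
  simp only [h, and_false, if_false, sum_const_zero]
  have hl : LinOn (Yc N x) fun y => ν (y * x * y⁻¹ * x⁻¹) := linOn_of_map_mul (by simpa using hν.2)
    fun a ha b hb => by
      rw [show a * b * x * (a * b)⁻¹ * x⁻¹ = a * (b * x * b⁻¹ * x⁻¹) * a⁻¹ * (a * x * a⁻¹ * x⁻¹) by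
        group, hν.map_mul (nrm_of_normal ⊤ N a (mem_top _) _ hb) ha, hi a (mem_top _) _ hb, mul_comm]
  have h2 := hl.irrOn.dot_eq_zero (irrOn_one _) h
  simp only [dot, Pi.one_apply, map_one, mul_one, mul_eq_zero, inv_eq_zero, Clifford.card_ne_zero,
    false_or] at h2
  rw [← h2, ← sum_elems_cut (le_top : Yc N x ≤ ⊤)]
  refine sum_congr rfl fun y _ => ?_
  by_cases h1 : y ∈ Yc N x
  · rw [cut_of_mem _ h1, cut_of_mem _ (mem_Yc.1 h1)]
  · rw [cut_of_notMem _ h1, cut_of_notMem _ (mt mem_Yc.2 h1)]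

theorem count_lin [N.Normal] (hν : LinOn N ν) (hi : InvOn ⊤ N ν) :
    ∑ x ∈ elems ⊤, ∑ y ∈ elems ⊤, cut N ν (y * x * y⁻¹ * x⁻¹) =
      (IrrOver ⊤ N ν).card * (Nat.card Γ * Nat.card N) := by
  have := Fintype.ofFinite Γ
  have hN := nrm_of_normal ⊤ N
  have h1 := (ind_of_invOn le_top hN hi).symm.trans (hν.charOn.ind_eq_sum_over le_top)
  have h2 : (Nat.card N : ℂ) * N.relIndex ⊤ = Nat.card Γ := by
    rw [← Nat.cast_mul, Clifford.card_mul_relIndex le_top, card_top]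
  apply mul_left_cancel₀ (Nat.cast_ne_zero.2 (Clifford.relIndex_ne_zero N ⊤) : (_ : ℂ) ≠ 0)
  simp only [elems_top, mul_sum]
  have h3 : ∀ g, (N.relIndex ⊤ : ℂ) * cut N ν g = ∑ χ ∈ IrrOver ⊤ N ν, mult N χ ν * χ g := fun g => by
    simpa using congrFun h1 g
  simp only [h3]
  rw [sum_congr rfl fun x _ => sum_comm, sum_comm, sum_congr rfl (g := fun _ => (Nat.card Γ : ℂ) ^ 2),
    sum_const, nsmul_eq_mul, ← h2]
  · ring
  intro χ hχ
  obtain ⟨a1, a2⟩ := mem_IrrOver.1 hχ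
  have h4 := sum_commutator_mul (mem_Irr_top.1 a1) 1
  have h5 := clifford_invOn le_top hN (irrOn_of_mem a1) hν.irrOn hi a2 (one_mem _)
  have h6 := (irrOn_of_mem a1).one_ne_zero
  rw [hν.2, mul_one] at h5
  simp only [mul_one] at h4
  simp only [← mul_sum]
  rw [h4, ← h5]
  field_simp

/-- `g` is `θ`-good. -/
def Good (K N : Subgroup Γ) (θ : Γ → ℂ) (g : Γ) : Prop :=
  ∀ h ∈ K, h * g * h⁻¹ * g⁻¹ ∈ N → Ex (N ⊔ (zpowers g ⊔ zpowers h)) N θ

theorem count_good {Γ : Type u} [Group Γ] [Finite Γ] {K N : Subgroup Γ} {θ : Γ → ℂ} (hNK : N ≤ K)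
    (hN : Nrm K N) (hθ : IrrOn N θ) (hi : InvOn K N θ) :
    ((IrrOver K N θ).card : ℂ) * (Nat.card K * Nat.card N) = ∑ g ∈ elems K, ∑ h ∈ elems K,
      if h * g * h⁻¹ * g⁻¹ ∈ N ∧ Good K N θ g then 1 else 0 := by
  obtain ⟨Δ, _, _, π, τ, ν, c⟩ := exists_cover hNK hN hθ hi
  have := (c.nrm_comap ⊤).normal
  have h1 := count_lin c.lin c.inv
  have h2 := cover_card c hNK le_rfl fun _ => True
  simp only [filter_true, c.comap_self] at h2
  have e0 : (⊤ : Subgroup Δ).map π = K := by rw [← MonoidHom.range_eq_map, c.range]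
  have e1 : ∀ x y : Δ, y * x * y⁻¹ * x⁻¹ ∈ N.comap π ↔ π y * π x * (π y)⁻¹ * (π x)⁻¹ ∈ N :=
    fun x y => by simp
  have e2 : ∀ x : Δ, (∀ z, z * x * z⁻¹ * x⁻¹ ∈ N.comap π → ν (z * x * z⁻¹ * x⁻¹) = 1) ↔
      Good K N θ (π x) := fun x => by
    have e3 : ∀ z, z * x * z⁻¹ * x⁻¹ ∈ N.comap π → (ν (z * x * z⁻¹ * x⁻¹) = 1 ↔
        Ex (N ⊔ (zpowers (π x) ⊔ zpowers (π z))) N θ) := fun z hz => by
      have e4 : (N ⊔ (zpowers (π x) ⊔ zpowers (π z))).comap π =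
          N.comap π ⊔ (zpowers x ⊔ zpowers z) := by
        rw [← MonoidHom.map_zpowers, ← MonoidHom.map_zpowers, ← Subgroup.map_sup]
        conv_lhs => rw [← c.map_comap hNK, ← Subgroup.map_sup]
        rw [comap_map_eq, sup_eq_left.2 ((c.ker_le N).trans le_sup_left)]
      rw [lin_ext_iff c.lin c.inv hz, ← e4]
      exact (c.ext_iff le_sup_left (sup_le hNK (sup_le (zpowers_le.2 (c.mem x))
        (zpowers_le.2 (c.mem z))))).symm
    refine ⟨fun h g hg h' => ?_, fun h z hz => (e3 z hz).2 (h _ (c.mem z) ((e1 x z).1 hz))⟩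
    obtain ⟨z, rfl⟩ := c.exists_eq hg
    exact (e3 z ((e1 x z).2 h')).1 (h z ((e1 x z).2 h'))
  simp only [sum_comm_lin c.lin c.inv, e2] at h1
  simp only [e1] at h1
  have h3 := fun x => sum_elems_comp π ⊤ fun h =>
    if h * π x * h⁻¹ * (π x)⁻¹ ∈ N ∧ Good K N θ (π x) then (1 : ℂ) else 0
  simp only [h3] at h1
  rw [← mul_sum, sum_elems_comp π ⊤ fun g => ∑ h ∈ elems ((⊤ : Subgroup Δ).map π),
    if h * g * h⁻¹ * g⁻¹ ∈ N ∧ Good K N θ g then (1 : ℂ) else 0, e0, h2, ← card_top (G := Δ),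
    card_eq_card_inf_ker_mul π ⊤, card_eq_card_inf_ker_mul π (N.comap π), e0, c.map_comap hNK,
    top_inf_eq, inf_eq_right.2 (c.ker_le N)] at h1
  have h4 := Clifford.card_ne_zero π.ker
  apply mul_left_cancel₀ (mul_ne_zero h4 h4)
  rw [mul_assoc, mul_assoc, h1]
  push_cast
  ring

theorem card_over_eq {Γ : Type u} [Group Γ] [Finite Γ] {T A N B : Subgroup Γ} {α β : Γ → ℂ}
    (hAT : A ≤ T) (hA : Nrm T A) (hNT : N ≤ T) (hT : ∀ t ∈ T, ∃ a ∈ A, ∃ n ∈ N, t = a * n)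
    (hB : A ⊓ N = B) (hα : IrrOn A α) (iα : InvOn T A α) (hβ : IrrOn B β) (iβ : InvOn N B β)
    (h : ∀ U, B ≤ U → U ≤ N → ⁅U, U⁆ ≤ B → (Ex (A ⊔ U) A α ↔ Ex U B β)) :
    (IrrOver T A α).card = (IrrOver N B β).card := by
  have hBN : B ≤ N := hB ▸ inf_le_right
  have hBA : B ≤ A := hB ▸ inf_le_left
  have nB : Nrm N B := hB ▸ (hA.mono hNT).inf (nrm_self N)
  have h1 := count_good hAT hA hα iα
  have h2 := count_good hBN nB hβ iβ
  have c1 : ∀ a ∈ A, ∀ n ∈ N, ∀ a' ∈ A, ∀ n' ∈ N,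
      (a' * n' * (a * n) * (a' * n')⁻¹ * (a * n)⁻¹ ∈ A ↔ n' * n * n'⁻¹ * n⁻¹ ∈ B) :=
    fun a ha n hn a' ha' n' hn' => by
      have hc : n' * n * n'⁻¹ * n⁻¹ ∈ N := mul_mem (mul_mem (mul_mem hn' hn) (inv_mem hn')) (inv_mem hn)
      rw [show a' * n' * (a * n) * (a' * n')⁻¹ * (a * n)⁻¹ = a' * (n' * a * n'⁻¹) *
        (n' * n * n'⁻¹ * n⁻¹) * (n * a'⁻¹ * n⁻¹ * a⁻¹) by group,
        mul_mem_cancel_right (mul_mem (hA n (hNT hn) _ (inv_mem ha')) (inv_mem ha)),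
        mul_mem_cancel_left (mul_mem ha' (hA n' (hNT hn') _ ha)), ← hB]
      exact ⟨fun h => ⟨h, hc⟩, fun h => h.1⟩
  have c2 : ∀ a ∈ A, ∀ n ∈ N, ∀ a' ∈ A, ∀ n' ∈ N, n' * n * n'⁻¹ * n⁻¹ ∈ B →
      (Ex (A ⊔ (zpowers (a * n) ⊔ zpowers (a' * n'))) A α ↔
        Ex (B ⊔ (zpowers n ⊔ zpowers n')) B β) := fun a ha n hn a' ha' n' hn' hc => by
    have e : ∀ a ∈ A, ∀ n, A ⊔ zpowers (a * n) = A ⊔ zpowers n := fun a ha n => le_antisymm
      (sup_le le_sup_left (zpowers_le.2 (mul_mem (mem_sup_left ha) (mem_sup_right (mem_zpowers n)))))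
      (sup_le le_sup_left (zpowers_le.2 ((mul_mem_cancel_left (mem_sup_left ha)).1
        (mem_sup_right (mem_zpowers _)))))
    have hU : B ⊔ (zpowers n ⊔ zpowers n') ≤ N :=
      sup_le hBN (sup_le (zpowers_le.2 hn) (zpowers_le.2 hn'))
    rw [sup_sup_distrib_left, e a ha, e a' ha', ← sup_sup_distrib_left, ← h _ le_sup_left hU,
      ← sup_assoc A B, sup_eq_left.2 hBA]
    refine (commutator_sup_le_of_nrm (nB.mono (le_sup_right.trans hU))).trans (sup_le le_rfl ?_)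
    have hU' := le_sup_right.trans hU
    let Y : Γ → Subgroup Γ := fun x => N ⊓
      { carrier := {y | y ∈ N → x ∈ N → y * x * y⁻¹ * x⁻¹ ∈ B} ∩ N
        one_mem' := ⟨fun _ _ => by simp, one_mem N⟩
        mul_mem' := fun {a b} ha hb => ⟨fun _ hx => by
          have := mul_mem (nB a ha.2 _ (hb.1 hb.2 hx)) (ha.1 ha.2 hx)
          convert this using 1; group, mul_mem ha.2 hb.2⟩
        inv_mem' := fun {a} ha => ⟨fun _ hx => by
          have := nB _ (inv_mem ha.2) _ (inv_mem (ha.1 ha.2 hx))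
          convert this using 1; group, inv_mem ha.2⟩ }
    have hY : ∀ x ∈ N, ∀ y ∈ N, y ∈ Y x ↔ y * x * y⁻¹ * x⁻¹ ∈ B := fun x hx y hy =>
      ⟨fun h => h.2.1 hy hx, fun h => ⟨hy, fun _ _ => h, hy⟩⟩
    have sy : ∀ x y : Γ, y * x * y⁻¹ * x⁻¹ ∈ B → x * y * x⁻¹ * y⁻¹ ∈ B := fun x y h => by
      convert inv_mem h using 1; group
    have h4 : ∀ g ∈ N, n * g * n⁻¹ * g⁻¹ ∈ B → n' * g * n'⁻¹ * g⁻¹ ∈ B →
        ∀ y ∈ zpowers n ⊔ zpowers n', y * g * y⁻¹ * g⁻¹ ∈ B := fun g hg a b y hy =>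
      (hY g hg y (hU' hy)).1 (sup_le (zpowers_le.2 ((hY g hg n hn).2 a))
        (zpowers_le.2 ((hY g hg n' hn').2 b)) hy)
    exact commutator_le.2 fun a ha b hb => h4 b (hU' hb) (sy _ _ (h4 n hn (by simp) hc b hb))
      (sy _ _ (h4 n' hn' (sy _ _ hc) (by simp) b hb)) a ha
  have c3 : ∀ a ∈ A, ∀ n ∈ N, (Good T A α (a * n) ↔ Good N B β n) := fun a ha n hn => by
    refine ⟨fun h n' hn' hc => ?_, fun h t ht hc => ?_⟩
    · exact (c2 a ha n hn 1 (one_mem _) n' hn' hc).1 (h _ (by simpa using hNT hn')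
        ((c1 a ha n hn 1 (one_mem _) n' hn').2 hc))
    · obtain ⟨a', ha', n', hn', rfl⟩ := hT t ht
      have := (c1 a ha n hn a' ha' n' hn').1 hc
      exact (c2 a ha n hn a' ha' n' hn' this).2 (h n' hn' this)
  have s1 := sum_elems_prod hAT hNT hT
  have h3 := card_mul_card_of_prod hAT hNT hT
  rw [hB] at s1 h3
  have h4 : (Nat.card B : ℂ) * ((Nat.card B : ℂ) * (((IrrOver T A α).card : ℂ) *
      (Nat.card T * Nat.card A))) = Nat.card A * (Nat.card A * (((IrrOver N B β).card : ℂ) *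
      (Nat.card N * Nat.card B))) := by
    rw [h1, h2, ← s1, mul_sum, ← card_elems A, ← nsmul_eq_mul, ← sum_const]
    refine sum_congr rfl fun a ha => ?_
    rw [mul_sum, mul_sum]
    refine sum_congr rfl fun n hn => ?_
    rw [← s1, ← nsmul_eq_mul, ← sum_const]
    refine sum_congr rfl fun a' ha' => sum_congr rfl fun n' hn' => ?_
    rw [mem_elems] at ha hn ha' hn'
    simp only [c1 a ha n hn a' ha' n' hn', c3 a ha n hn]
  have h5 : (Nat.card A : ℂ) * Nat.card N = Nat.card B * Nat.card T := by exact_mod_cast h3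
  have h6 := Clifford.card_ne_zero A
  have h7 := Clifford.card_ne_zero B
  have h8 := Clifford.card_ne_zero T
  have : ((IrrOver T A α).card : ℂ) = (IrrOver N B β).card := by
    apply mul_left_cancel₀ (mul_ne_zero (mul_ne_zero h7 h7) (mul_ne_zero h8 h6))
    linear_combination h4 + Nat.card A * Nat.card B * ((IrrOver N B β).card : ℂ) * h5
  exact_mod_cast this

end Cfsg.Lib.Block2.OW
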