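import Cfsg.Agent.Lib.Block2.OW2
import Cfsg.Agent.Lib.Coprime.Isaacs
import Cfsg.Agent.Lib.Core.PSolvable

/-! The relative McKay equality for `p`-solvable groups. -/

set_option autoImplicit false
set_option linter.unusedSectionVars false
set_option linter.style.haveILetI false

namespace Cfsg.Lib.Block2.OW

open Cfsg Cfsg.Lib Cfsg.Lib.Char Cfsg.Lib.Clifford Cfsg.Lib.Coprime Cfsg.Lib.Block2.RP Finset Subgroup
open scoped ComplexConjugate Classical commutatorElement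

universe u

variable {Γ : Type*} [Group Γ] [Finite Γ] {G K L N M H T S R V D C A B W U P : Subgroup Γ}
  {χ ψ φ θ η ξ α α' β β' γ lam μ ν ρ ω : Γ → ℂ} {p : ℕ}

/-- The number of irreducible characters of `p'`-degree over `ν`. -/
noncomputable def cnt (p : ℕ) (G L : Subgroup Γ) (ν : Γ → ℂ) : ℕ :=
  ((IrrOver G L ν).filter fun χ => ¬ p ∣ charDegree χ).card

theorem cnt_congr (e : ∀ x ∈ L, ν x = μ x) : cnt p G L ν = cnt p G L μ := by
  unfold cnt; rw [IrrOver_congr e]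

theorem cnt_zero (hLG : L ≤ G) (hL : Nrm G L) (hν : IrrOn L ν) (h : p ∣ charDegree ν) :
    cnt p G L ν = 0 :=
  card_eq_zero.2 (filter_eq_empty_iff.2 fun χ hχ h' => h' (h.trans (deg_dvd_of_dot hLG hL
    (irrOn_of_mem (mem_IrrOver.1 hχ).1) hν (mem_IrrOver.1 hχ).2)))

theorem cnt_all [hp : Fact p.Prime] (hLG : L ≤ G) (hL : Nrm G L) (hν : IrrOn L ν)
    (h : ¬ p ∣ charDegree ν) (h' : ¬ p ∣ L.relIndex G) : cnt p G L ν = (IrrOver G L ν).card :=
  congrArg card (filter_true_of_mem fun χ hχ h1 => (hp.out.dvd_mul.1 (h1.trans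
    (deg_dvd_relIndex_mul hLG hL (irrOn_of_mem (mem_IrrOver.1 hχ).1) hν
      (mem_IrrOver.1 hχ).2))).elim h' h)

theorem cnt_inertia [hp : Fact p.Prime] (hS : Amalg.Syl p S G) (hLG : L ≤ G) (hL : Nrm G L)
    (hν : IrrOn L ν) (hi : InvOn S L ν) : cnt p G L ν = cnt p (inertia G L ν) L ν := by
  have h1 := hS.not_dvd_relIndex_of_le (le_inertia_of_invOn hL hS.le hi)
  unfold cnt
  rw [IrrOver_eq_image hLG hL hν, filter_image, card_image_of_injOn
    ((ind_inertia_injOn hLG hL hν).mono (coe_subset.2 (filter_subset _ _)))]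
  refine congrArg card (filter_congr fun ψ hψ => ?_)
  rw [(irrOn_of_mem (mem_IrrOver.1 hψ).1).charOn.deg_ind inertia_le, hp.out.dvd_mul]
  simp [h1]

theorem cnt_sum [hp : Fact p.Prime] (hS : Amalg.Syl p S G) (hKG : K ≤ G) (hK : Nrm G K) (hLK : L ≤ K)
    (hL : Nrm G L) (hν : IrrOn L ν) (hi : InvOn G L ν) (h1 : G ⊓ normalizer (S : Set Γ) ≤ M)
    (h2 : M ≤ G) (h3 : Nrm M (K ⊔ S)) :
    (cnt p G L ν : ℚ) = ∑ μ ∈ (IrrInv S K).filter fun μ => dot L μ ν ≠ 0,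
      (cnt p G K μ : ℚ) / (inertia M K μ).relIndex M := by
  have hSK := hK.mono hS.le
  unfold cnt
  simp only [card_eq_sum_ones, Nat.cast_sum, sum_div]
  rw [sum_comm' (t' := (IrrOver G L ν).filter fun χ => ¬ p ∣ charDegree χ)
    (s' := fun χ => (IrrInv S K).filter fun μ => dot K χ μ ≠ 0)]
  · refine sum_congr rfl fun χ hχ => ?_
    obtain ⟨a1, a2⟩ := mem_filter.1 hχ
    have hχ' := irrOn_of_mem (mem_IrrOver.1 a1).1
    obtain ⟨μ, hμ, b1, b2, -⟩ := exists_inv_under hS.isPGroup hSK (hχ'.charOn.mono hKG)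
      (hχ'.classOn.mono hS.le hKG) a2
    have b3 : dot K χ μ ≠ 0 := ((hχ'.charOn.mono hKG).mult_ne_zero (irrOn_of_mem hμ).charOn).1
      fun e => b2 (e ▸ dvd_zero p)
    have e : (IrrInv S K).filter (fun μ => dot K χ μ ≠ 0) = orb M K μ := by
      ext φ
      rw [mem_filter, mem_orb, cut_of_mem_Irr hμ, mem_IrrInv]
      constructor
      · rintro ⟨⟨c1, c2⟩, c3⟩
        obtain ⟨g, hg, rfl⟩ := eq_cj_of_dot hKG hK hχ' hμ c1 b3 c3
        obtain ⟨n, hn, e⟩ := adjust hS hK hμ b1 hg c2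
        exact ⟨n, h1 hn, e⟩
      · rintro ⟨g, hg, rfl⟩
        exact ⟨⟨cj_mem_Irr hK hμ (h2 hg), (invOn_cj h3 (hK.mono h2) (invOn_sup (nrm_self K) hSK
          (irrOn_of_mem hμ).classOn b1) hg).mono le_sup_right le_rfl⟩,
          by rwa [dot_cj_right hKG hK hχ'.classOn (h2 hg)]⟩
    rw [e, sum_congr rfl (g := fun _ => (1 : ℚ) / (orb M K μ).card) fun φ hφ => by
      rw [← card_orb, orb_eq_of_mem (hK.mono h2) hφ, Nat.cast_one], sum_const, nsmul_eq_mul,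
      mul_one_div_cancel (Nat.cast_ne_zero.2 (card_pos.2 ⟨_, cut_mem_orb⟩).ne'), Nat.cast_one]
  · intro μ χ
    simp only [mem_filter, mem_IrrOver, mem_IrrInv]
    constructor
    · rintro ⟨⟨⟨a1, a2⟩, a3⟩, ⟨a4, a5⟩, a6⟩
      exact ⟨⟨⟨a1, a2⟩, a5⟩, ⟨a4, ((irrOn_of_mem a4).charOn.mono hKG).dot_ne_zero_trans hLK
        (irrOn_of_mem a1) hν.charOn a5 a3⟩, a6⟩
    · rintro ⟨⟨⟨a1, a2⟩, a3⟩, ⟨a4, a5⟩, a6⟩
      exact ⟨⟨⟨a1, a2⟩, dot_ne_zero_of_eq_mul hLK ((irrOn_of_mem a4).charOn.mono hKG)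
        (fun n hn => clifford_invOn (hLK.trans hKG) hL (irrOn_of_mem a4) hν hi a5 hn) hν
        (irrOn_of_mem a1) a3⟩, ⟨a4, a3⟩, a6⟩

theorem cop_bot [hp : Fact p.Prime] (hS : IsPGroup p S) {m : ℕ} (hm : ¬ p ∣ m) :
    ((⊥ : Subgroup Γ).relIndex S).Coprime m := by
  simpa using cop hS (nrm_of_normal S ⊥) hm

theorem ex_det [hp : Fact p.Prime] (hS : IsPGroup p S) (hK : ¬ p ∣ Nat.card K) (hN : Nrm S K)
    (hθ : IrrOn K θ) (hi : InvOn S K θ) (hρ : LinOn S ρ) {m : ℕ} (hm : ¬ p ∣ m) :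
    ∃ α ∈ Irr (K ⊔ S), (∀ k ∈ K, α k = θ k) ∧ ∀ s ∈ S, detOn (K ⊔ S) α s ^ m = ρ s := by
  obtain ⟨σ, hσ, -, e⟩ := exists_lin_root hρ (linOn_one S) (nrm_of_normal S ⊥) bot_le (cop_bot hS hm)
    fun x hx => by rw [mem_bot.1 hx, hρ.2]; simp
  have h0 : K ⊓ S = ⊥ := Amalg.isPGroup_eq_bot_of_not_dvd (hS.to_le inf_le_right) inf_le_left hK
  obtain ⟨μ, hμ, m1, m2⟩ := exists_glue hN (linOn_detOn K θ) (hθ.charOn.invOn_detOn hN hi) hσ
    fun x hx hx' => by
      rw [mem_bot.1 (h0.le (mem_inf.2 ⟨hx, hx'⟩ : x ∈ K ⊓ S)), hσ.2, (linOn_detOn K θ).2]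
  have hT : Nrm (K ⊔ S) K := nrm_sup' (nrm_self K) hN
  have hc := cop hS hN (n := charDegree θ) fun h => hK (h.trans hθ.deg_dvd_card)
  obtain ⟨γ, hγ, e4⟩ := exists_ext_of_det le_sup_left hT hθ
    (invOn_sup (nrm_self K) hN hθ.classOn hi) hc hμ m1
  have hdeg : charDegree γ = charDegree θ := by unfold charDegree; rw [e4 1 (one_mem _)]
  obtain ⟨lam, hl, e5, e6⟩ := exists_ext_det_eq le_sup_left hT (irrOn_of_mem hγ).charOn
    (hdeg ▸ hc) hμ fun x hx => by rw [m1 x hx, detOn_congr e4]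
  exact ⟨lam * γ, mul_comm γ lam ▸ mul_lin_mem_Irr hγ hl, fun x hx => by
    rw [Pi.mul_apply, e5 x hx, e4 x hx, one_mul], fun s hs => by
    rw [e6 s (mem_sup_right hs), m2 s hs, e s hs]⟩

theorem res_cop [hp : Fact p.Prime] (hS : IsPGroup p S) (hN : Nrm S K) (hα : IrrOn (K ⊔ S) α)
    (hd : ¬ p ∣ charDegree α) : IrrOn K α :=
  hα.res_of_coprime le_sup_left (nrm_sup' (nrm_self K) hN) (cop hS hN hd).symm

theorem uniq_det [hp : Fact p.Prime] (hS : IsPGroup p S) (hN : Nrm S K) (hα : α ∈ Irr (K ⊔ S))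
    (hα' : α' ∈ Irr (K ⊔ S)) (hd : ¬ p ∣ charDegree α) (e : ∀ k ∈ K, α' k = α k) {m : ℕ}
    (hm : ¬ p ∣ m) (e' : ∀ s ∈ S, detOn (K ⊔ S) α' s ^ m = detOn (K ⊔ S) α s ^ m) : α' = α := by
  have a := (irrOn_of_mem hα).charOn
  have a' := (irrOn_of_mem hα').charOn
  have e2 := lin_eq_of_pow ((linOn_detOn _ α').mono le_sup_right) ((linOn_detOn _ α).mono le_sup_right)
    (nrm_of_normal S ⊥) (fun x hx => by
      rw [mem_bot.1 hx, (linOn_detOn _ α).2, (linOn_detOn _ α').2]) bot_le (cop_bot hS hm) e'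
  refine eq_of_mem_Irr hα' hα (ext_unique_of_det le_sup_left (nrm_sup' (nrm_self K) hN) a
    (res_cop hS hN (irrOn_of_mem hα) hd) (cop hS hN hd) a' e fun x hx => ?_)
  obtain ⟨t, ht, u, hu, rfl⟩ := exists_mul_of_mem_sup_nrm' hN (by rwa [sup_comm])
  rw [(linOn_detOn _ α).map_mul (mem_sup_left ht) (mem_sup_right hu),
    (linOn_detOn _ α').map_mul (mem_sup_left ht) (mem_sup_right hu), e2 u hu,
    ← a.detOn_mono le_sup_left ht, ← a'.detOn_mono le_sup_left ht, detOn_congr e]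

/-- The Glauberman correspondence, extended by determinants. -/
def RR (p : ℕ) (K C S : Subgroup Γ) (α β : Γ → ℂ) : Prop :=
  ¬ p ∣ mult C α β ∧ ∀ s ∈ S, detOn (K ⊔ S) α s ^ charDegree β = detOn (C ⊔ S) β s ^ charDegree α

theorem mem_of_coprime (hN : Nrm B C) {x : Γ} (hx : x ∈ B) (h : (C.relIndex B).Coprime (orderOf x)) :
    x ∈ C := by
  have := hN.normal_subgroupOf
  have h1 : x ^ C.relIndex B ∈ C := (C.subgroupOf B).pow_index_mem ⟨x, hx⟩
  exact zpowers_le.2 h1 (mem_zpowers_pow_iff.2 h)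

section RRs
variable [hp : Fact p.Prime] (hS : IsPGroup p S) (hK : ¬ p ∣ Nat.card K) (hN : Nrm S K)
  (hC : K ⊓ centralizer (S : Set Γ) = C)
include hS hK hN hC

theorem rr_basic : Glaub p K S C ∧ C ≤ K ∧ ¬ p ∣ Nat.card C ∧ Nrm S C ∧
    ∀ φ : Γ → ℂ, InvOn S C φ := by
  have h : ∀ s ∈ S, ∀ c ∈ C, s * c * s⁻¹ = c := fun s hs c hc => by
    rw [(hC.ge hc).2 s hs, mul_inv_cancel_right]
  exact ⟨hC ▸ glaub_pgroup hS hN hK, hC ▸ inf_le_left,
    fun h => hK (h.trans (card_dvd_of_le (hC ▸ inf_le_left))),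
    fun s hs c hc => (h s hs c hc).symm ▸ hc, fun φ s hs c hc => by rw [h s hs c hc]⟩

theorem rr_right (hα : α ∈ Irr (K ⊔ S)) (hd : ¬ p ∣ charDegree α) :
    ∃ β ∈ Irr (C ⊔ S), ¬ p ∣ charDegree β ∧ RR p K C S α β := by
  obtain ⟨g, h1, h2, h3, h4⟩ := rr_basic hS hK hN hC
  have hα' := irrOn_of_mem hα
  obtain ⟨φ, hφ, h5⟩ := g.exists (res_cop hS hN hα' hd) (hα'.classOn.mono le_sup_right le_sup_left)
  obtain ⟨β, hβ, b1, b2⟩ := ex_det hS h2 h3 (irrOn_of_mem hφ) (h4 φ)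
    (((linOn_detOn (K ⊔ S) α).mono le_sup_right).pow (charDegree φ)) hd
  have e : charDegree β = charDegree φ := by unfold charDegree; rw [b1 1 (one_mem _)]
  exact ⟨β, hβ, fun h => h2 ((e ▸ h).trans (irrOn_of_mem hφ).deg_dvd_card),
    by rwa [mult_congr_right _ b1], fun s hs => by rw [b2 s hs, e]; rfl⟩

theorem rr_left (hβ : β ∈ Irr (C ⊔ S)) (hd : ¬ p ∣ charDegree β) :
    ∃ α ∈ Irr (K ⊔ S), ¬ p ∣ charDegree α ∧ RR p K C S α β := by
  obtain ⟨g, h1, h2, h3, h4⟩ := rr_basic hS hK hN hC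
  obtain ⟨θ, hθ, h5, h6⟩ := g.surj _ (res_cop hS h3 (irrOn_of_mem hβ) hd).cut_mem
  obtain ⟨α, hα, b1, b2⟩ := ex_det hS hK hN (irrOn_of_mem hθ) h5
    (((linOn_detOn (C ⊔ S) β).mono le_sup_right).pow (charDegree θ)) hd
  have e : charDegree α = charDegree θ := by unfold charDegree; rw [b1 1 (one_mem _)]
  exact ⟨α, hα, fun h => hK ((e ▸ h).trans (irrOn_of_mem hθ).deg_dvd_card),
    by rwa [mult_congr_left fun x hx => b1 x (h1 hx),
      mult_congr_right _ fun x hx => (cut_of_mem β hx).symm], fun s hs => by rw [b2 s hs, e]; rfl⟩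

theorem rr_uniq_right (hα : α ∈ Irr (K ⊔ S)) (hd : ¬ p ∣ charDegree α) (hβ : β ∈ Irr (C ⊔ S))
    (d1 : ¬ p ∣ charDegree β) (hβ' : β' ∈ Irr (C ⊔ S)) (d2 : ¬ p ∣ charDegree β')
    (h : RR p K C S α β) (h' : RR p K C S α β') : β' = β := by
  obtain ⟨g, h1, h2, h3, h4⟩ := rr_basic hS hK hN hC
  have hα' := irrOn_of_mem hα
  have e := g.unique (res_cop hS hN hα' hd) (hα'.classOn.mono le_sup_right le_sup_left)
    (res_cop hS h3 (irrOn_of_mem hβ') d2).cut_mem (res_cop hS h3 (irrOn_of_mem hβ) d1).cut_mem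
    (by rw [mult_congr_right _ fun x hx => cut_of_mem β' hx]; exact h'.1)
    (by rw [mult_congr_right _ fun x hx => cut_of_mem β hx]; exact h.1)
  have e1 : ∀ x ∈ C, β' x = β x := fun x hx => by rw [← cut_of_mem β' hx, e, cut_of_mem β hx]
  have e2 : charDegree β' = charDegree β := by unfold charDegree; rw [e1 1 (one_mem _)]
  exact uniq_det hS h3 hβ hβ' d1 e1 hd fun s hs => by rw [← h.2 s hs, ← h'.2 s hs, e2]

theorem rr_uniq_left (hα : α ∈ Irr (K ⊔ S)) (d1 : ¬ p ∣ charDegree α) (hα' : α' ∈ Irr (K ⊔ S))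
    (d2 : ¬ p ∣ charDegree α') (hβ : β ∈ Irr (C ⊔ S)) (hd : ¬ p ∣ charDegree β)
    (h : RR p K C S α β) (h' : RR p K C S α' β) : α' = α := by
  obtain ⟨g, h1, h2, h3, h4⟩ := rr_basic hS hK hN hC
  have a := irrOn_of_mem hα
  have a' := irrOn_of_mem hα'
  have hT : Nrm (K ⊔ S) K := nrm_sup' (nrm_self K) hN
  have e := g.inj _ (res_cop hS hN a' d2).cut_mem _ (res_cop hS hN a d1).cut_mem
    ((a'.classOn.mono le_sup_right le_sup_left).cut' hN K)
    ((a.classOn.mono le_sup_right le_sup_left).cut' hN K) _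
    (res_cop hS h3 (irrOn_of_mem hβ) hd).cut_mem
    (by rw [mult_congr_right _ fun x hx => cut_of_mem β hx,
      mult_congr_left fun x hx => cut_of_mem α' (h1 hx)]; exact h'.1)
    (by rw [mult_congr_right _ fun x hx => cut_of_mem β hx,
      mult_congr_left fun x hx => cut_of_mem α (h1 hx)]; exact h.1)
  have e1 : ∀ x ∈ K, α' x = α x := fun x hx => by rw [← cut_of_mem α' hx, e, cut_of_mem α hx]
  have e2 : charDegree α' = charDegree α := by unfold charDegree; rw [e1 1 (one_mem _)]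
  exact uniq_det hS hN hα hα' d1 e1 hd fun s hs => by rw [h.2 s hs, h'.2 s hs, e2]

theorem rr_cj (hα : CharOn (K ⊔ S) α) (hβ : CharOn (C ⊔ S) β) (h : RR p K C S α β) (nK : Nrm M K)
    (nS : Nrm M S) {n : Γ} (hn : n ∈ M) : RR p K C S (cj n α) (cj n β) := by
  have nC : Nrm M C := hC ▸ nrm_inf_centralizer nK nS
  refine ⟨by rw [mult_cj nC hn]; exact h.1, fun s hs => ?_⟩
  rw [hα.detOn_cj (nK.sup nS) hn (mem_sup_right hs), hβ.detOn_cj (nC.sup nS) hn (mem_sup_right hs),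
    deg_cj, deg_cj, h.2 _ (nS n hn s hs)]

theorem rr_central (hL : ∀ z ∈ L, ∃ c ∈ L ⊓ C, ∃ s ∈ L ⊓ S, z = c * s) (hα : CharOn (K ⊔ S) α)
    (d1 : ¬ p ∣ charDegree α) (hβ : IrrOn (C ⊔ S) β) (d2 : ¬ p ∣ charDegree β) (h : RR p K C S α β)
    (hν : LinOn L ν) (hω : LinOn L ω) (e1 : ∀ z ∈ L, α z = charDegree α * ν z)
    (e2 : ∀ z ∈ L, β z = charDegree β * ω z) : ∀ z ∈ L, ω z = ν z := fun z hz => by
  obtain ⟨g, h1, h2, h3, h4⟩ := rr_basic hS hK hN hC
  obtain ⟨c, hc, s, hs, rfl⟩ := hL z hz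
  have r := res_cop hS h3 hβ d2
  have a1 := dot_ne_zero_of_eq_mul (inf_le_right : L ⊓ C ≤ C) (hα.mono (h1.trans le_sup_left))
    (fun n hn => e1 n hn.1) (hν.mono inf_le_left).irrOn r
    (((hα.mono (h1.trans le_sup_left)).mult_ne_zero r.charOn).1 fun e => h.1 (e ▸ dvd_zero p))
  rw [dot_congr_left (H := L ⊓ C) (φ' := (charDegree β : ℂ) • ω) fun n hn => e2 n hn.1,
    dot_smul_left] at a1
  have a2 := (hω.mono inf_le_left).irrOn.eq_of_dot_ne_zero (hν.mono inf_le_left).irrOn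
    (right_ne_zero_of_mul a1) c hc
  have a3 := lin_eq_of_pow (hω.mono (inf_le_left : L ⊓ S ≤ L)) (hν.mono inf_le_left)
    (nrm_of_normal _ ⊥) (fun x hx => by rw [mem_bot.1 hx, hω.2, hν.2]) bot_le
    (cop_bot (hS.to_le inf_le_right) (m := charDegree α * charDegree β)
      fun h => (hp.out.dvd_mul.1 h).elim d1 d2) (fun x hx => by
      have := h.2 x hx.2
      rw [hα.detOn_of_eq_smul (inf_le_right.trans le_sup_right) (hν.mono inf_le_left)
        (fun y hy => e1 y hy.1) hx, hβ.charOn.detOn_of_eq_smul (inf_le_right.trans le_sup_right)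
        (hω.mono inf_le_left) (fun y hy => e2 y hy.1) hx, ← pow_mul, ← pow_mul, mul_comm] at this
      rw [mul_comm (charDegree α), ← this, mul_comm]) s hs
  rw [hω.map_mul hc.1 hs.1, hν.map_mul hc.1 hs.1, a2, a3]

end RRs

theorem over_central (hL : L ≤ center Γ) (hLA : L ≤ A) (hα : IrrOn A α) (hν : LinOn L ν)
    (h : dot L α ν ≠ 0) : ∀ z ∈ L, α z = charDegree α * ν z := fun z hz => by
  have h1 : ∀ g, ∀ z ∈ L, g * z * g⁻¹ = z := fun g z hz => by
    rw [mem_center_iff.1 (hL hz), mul_inv_cancel_right]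
  have nL : Nrm A L := fun g _ z hz => (h1 g z hz).symm ▸ hz
  have iL : InvOn A L ν := fun g _ z hz => by rw [h1 g z hz]
  rw [clifford_invOn hLA nL hα hν.irrOn iL h hz, clifford_invOn_deg hLA nL hα hν.irrOn iL h, hν.deg,
    mul_one]

theorem rr_card {Γ : Type u} [Group Γ] [Finite Γ] {K C S N : Subgroup Γ} {α β : Γ → ℂ}
    [hp : Fact p.Prime] [K.Normal] (hS : Amalg.Syl p S ⊤) (hK : ¬ p ∣ Nat.card K)
    (hA : (K ⊔ S).Normal) (hC : K ⊓ centralizer (S : Set Γ) = C) (hN : normalizer (S : Set Γ) = N)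
    (hB : (K ⊔ S) ⊓ N = C ⊔ S) (hα : α ∈ Irr (K ⊔ S)) (d1 : ¬ p ∣ charDegree α)
    (hβ : β ∈ Irr (C ⊔ S)) (d2 : ¬ p ∣ charDegree β) (h : RR p K C S α β) :
    inertia N (K ⊔ S) α = inertia N (C ⊔ S) β ∧ cnt p ⊤ (K ⊔ S) α = cnt p N (C ⊔ S) β := by
  have hSp := hS.isPGroup
  have nSK := nrm_of_normal S K
  obtain ⟨g, h1, h2, h3, h4⟩ := rr_basic hSp hK nSK hC
  have a := irrOn_of_mem hα
  have b := irrOn_of_mem hβ
  have nS : Nrm N S := nrm_of_le_normalizer hN.ge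
  have nC : Nrm N C := hC ▸ nrm_inf_centralizer (nrm_of_normal N K) nS
  have nB := nC.sup nS
  have nA := nrm_of_normal ⊤ (K ⊔ S)
  have hBN : C ⊔ S ≤ N := hB ▸ inf_le_right
  have e1 : inertia N (K ⊔ S) α = inertia N (C ⊔ S) β := by
    ext n
    rw [mem_inertia', mem_inertia', cut_of_mem_Irr hα, cut_of_mem_Irr hβ]
    refine and_congr_right fun hn => ?_
    have := rr_cj hSp hK nSK hC a.charOn b.charOn h (nrm_of_normal N K) nS hn
    refine ⟨fun e => ?_, fun e => ?_⟩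
    · rw [e] at this
      exact rr_uniq_right hSp hK nSK hC hα d1 hβ d2 (cj_mem_Irr nB hβ hn) (by rwa [deg_cj]) h this
    · rw [e] at this
      exact rr_uniq_left hSp hK nSK hC hα d1 (cj_mem_Irr nA hα (mem_top n)) (by rwa [deg_cj]) hβ d2
        h this
  refine ⟨e1, ?_⟩
  have hSN := hS.of_le (le_sup_right.trans hBN) le_top
  rw [cnt_all le_top nA a d1 (hS.not_dvd_relIndex_of_le le_sup_right),
    cnt_all hBN nB b d2 (hSN.not_dvd_relIndex_of_le le_sup_right), card_IrrOver_inertia le_top nA a,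
    card_IrrOver_inertia hBN nB b]
  have hAT := le_inertia le_top nA a.classOn
  have e2 : inertia N (C ⊔ S) β = inertia ⊤ (K ⊔ S) α ⊓ N := by rw [← e1, inertia_of_le le_top]
  have iα := invOn_inertia (θ := α) nA
  refine card_over_eq hAT (nrm_of_normal _ _) (e2 ▸ inf_le_left) (fun t ht => ?_) ?_ a iα b
    (invOn_inertia nB) fun U u1 u2 u3 => ?_
  · obtain ⟨x, hx, n, hn, rfl⟩ := (hS.of_le le_sup_right le_top).frattini_mem
      (nA.le_normalizer (mem_top t))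
    exact ⟨x, hx, n, e2.ge ⟨(mul_mem_cancel_left (hAT hx)).1 ht, hN.le hn⟩, rfl⟩
  · rw [e2, ← inf_assoc, inf_eq_left.2 hAT, hB]
  have hUN : U ≤ N := u2.trans inertia_le
  have hUT : U ≤ inertia ⊤ (K ⊔ S) α := u2.trans (e2 ▸ inf_le_left)
  have hSU : S ≤ U := le_sup_right.trans u1
  have sU := hS.of_le hSU le_top
  obtain ⟨k, hk⟩ := hSp.exists_card_eq
  obtain ⟨V, v1, v2⟩ := exists_compl_of_coprime hSU (nS.mono hUN)
    (hk ▸ ((Nat.Prime.coprime_iff_not_dvd hp.out).2 sU.not_dvd_relIndex).pow_left k)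
  have hVU : V ≤ U := v1 ▸ le_sup_right
  have hV : ¬ p ∣ Nat.card V := v2 ▸ sU.not_dvd_relIndex
  have dec : ∀ u ∈ U, ∃ v ∈ V, ∃ s ∈ S, u = v * s := fun u hu =>
    exists_mul_of_mem_sup_nrm (nS.mono (hVU.trans hUN)) (by rwa [sup_comm, v1])
  have ra := res_cop hSp nSK a d1
  have rb := res_cop hSp h3 b d2
  rw [ex_iff (V := K ⊔ V) (hS.of_le (hSU.trans le_sup_right) le_top) (nrm_of_normal _ _)
    (nrm_of_normal _ _) le_sup_left (sup_le_sup le_sup_left hVU) (fun w hw => ?_) a.charOn ra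
    (iα.mono (sup_le hAT hUT) le_rfl), ex_iff (V := C ⊔ V) sU (nC.mono hUN) (nB.mono hUN) le_sup_left
    (sup_le (le_sup_left.trans u1) hVU) (fun w hw => ?_) b.charOn rb
    ((invOn_inertia nB).mono u2 le_rfl), ex_congr fun x hx => (cut_of_mem α hx).symm,
    ex_congr (N := C) fun x hx => (cut_of_mem β hx).symm]
  · refine ow hSp hV (nS.mono (hVU.trans hUN)) (fun x hx => ?_) rb.cut_mem K hK nSK
      (nrm_of_normal _ _) hC _ ra.cut_mem ((a.classOn.mono le_sup_right le_sup_left).cut' nSK K)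
      ((iα.mono (hVU.trans hUT) le_sup_left).cut' (nrm_of_normal _ _) K) ?_
    · exact mem_of_coprime (nrm_sup' (nrm_self C) h3) (u3 (commutator_mono hVU hVU hx))
        (cop hSp h3 fun h => hV (h.trans (Subgroup.orderOf_dvd_natCard _ (Clifford.commutator_le_self V hx))))
    · rw [mult_congr_right _ fun x hx => cut_of_mem β hx,
        mult_congr_left fun x hx => cut_of_mem α (h1 hx)]
      exact h.1
  · obtain ⟨v, hv, s, hs, e⟩ := dec w hw
    exact ⟨v, mem_sup_right hv, s, hs, e⟩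
  · rw [sup_assoc, sup_eq_right.2 hSU, sup_comm] at hw
    obtain ⟨x, hx, u, hu, rfl⟩ := exists_mul_of_mem_sup_nrm' (nrm_of_normal U K) hw
    obtain ⟨v, hv, s, hs, rfl⟩ := dec u hu
    exact ⟨x * v, mul_mem (mem_sup_left hx) (mem_sup_right hv), s, hs, (mul_assoc _ _ _).symm⟩

theorem core0 {Γ : Type u} [Group Γ] [Finite Γ] {K S L : Subgroup Γ} {ν : Γ → ℂ}
    [hp : Fact p.Prime] [K.Normal] (hS : Amalg.Syl p S ⊤) (hK : ¬ p ∣ Nat.card K)
    (hA : (K ⊔ S).Normal) (hL : L ≤ center Γ) (hd : ∀ z ∈ L, ∃ c ∈ L ⊓ K, ∃ s ∈ L ⊓ S, z = c * s)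
    (hν : LinOn L ν) : cnt p ⊤ L ν = cnt p (normalizer (S : Set Γ)) L ν := by
  obtain ⟨C, hC⟩ : ∃ C, K ⊓ centralizer (S : Set Γ) = C := ⟨_, rfl⟩
  obtain ⟨N, hN⟩ : ∃ N, normalizer (S : Set Γ) = N := ⟨_, rfl⟩
  have hSp := hS.isPGroup
  have nSK := nrm_of_normal S K
  have nS : Nrm N S := nrm_of_le_normalizer hN.ge
  have nC : Nrm N C := hC ▸ nrm_inf_centralizer (nrm_of_normal N K) nS
  have hSN : S ≤ N := hN ▸ le_normalizer
  have hCN : C ≤ N := hC.ge.trans (inf_le_right.trans (hN ▸ centralizer_le_normalizer _))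
  have h0 : K ⊓ S = ⊥ := Amalg.isPGroup_eq_bot_of_not_dvd (hSp.to_le inf_le_right) inf_le_left hK
  have hB : (K ⊔ S) ⊓ N = C ⊔ S := by
    refine le_antisymm (fun x hx => ?_) (le_inf (sup_le_sup_right (hC ▸ inf_le_left) S)
      (sup_le hCN hSN))
    obtain ⟨k, hk, s, hs, rfl⟩ := exists_mul_of_mem_sup_nrm' nSK (by rw [sup_comm]; exact hx.1)
    refine mul_mem (mem_sup_left (hC.le ⟨hk, fun u hu => ?_⟩)) (mem_sup_right hs)
    have h1 : u * k * u⁻¹ * k⁻¹ ∈ K ⊓ S := mem_inf.2 ⟨mul_mem (nSK u hu k hk) (inv_mem hk), by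
      rw [mul_assoc, mul_assoc, ← mul_assoc k]
      exact mul_mem hu (nS k ((mul_mem_cancel_right (hSN hs)).1 hx.2) _ (inv_mem hu))⟩
    rwa [h0, mem_bot, mul_inv_eq_one, mul_inv_eq_iff_eq_mul] at h1
  have hd' : ∀ z ∈ L, ∃ c ∈ L ⊓ C, ∃ s ∈ L ⊓ S, z = c * s := fun z hz => by
    obtain ⟨c, hc, h⟩ := hd z hz
    exact ⟨c, ⟨hc.1, hC.le ⟨hc.2, fun u _ => mem_center_iff.1 (hL hc.1) u⟩⟩, h⟩
  have hLB : L ≤ C ⊔ S := fun z hz => by
    obtain ⟨c, hc, s, hs, rfl⟩ := hd' z hz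
    exact mul_mem (mem_sup_left hc.2) (mem_sup_right hs.2)
  have hBA : C ⊔ S ≤ K ⊔ S := hB ▸ inf_le_left
  have h1 : ∀ g, ∀ z ∈ L, g * z * g⁻¹ = z := fun g z hz => by
    rw [mem_center_iff.1 (hL hz), mul_inv_cancel_right]
  have nL : ∀ X, Nrm X L := fun _ g _ z hz => (h1 g z hz).symm ▸ hz
  have iL : ∀ X, InvOn X L ν := fun _ g _ z hz => by rw [h1 g z hz]
  have e1 := cnt_sum (K := K ⊔ S) (M := N) hS le_top (nrm_of_normal _ _) (hLB.trans hBA) (nL _)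
    hν.irrOn (iL _) (inf_le_right.trans hN.le) le_top ((nrm_of_normal _ _).sup nS)
  have e2 := cnt_sum (K := C ⊔ S) (M := N) (hS.of_le hSN le_top) (sup_le hCN hSN) (nC.sup nS) hLB
    (nL _) hν.irrOn (iL _) inf_le_left le_rfl ((nC.sup nS).sup nS)
  rw [hN]
  refine Nat.cast_injective (R := ℚ) (e1.trans (Eq.trans ?_ e2.symm))
  rw [← sum_filter_of_ne (p := fun α => ¬ p ∣ charDegree α) fun α hα h h' => h (by
      rw [cnt_zero le_top (nrm_of_normal _ _) (irrOn_of_mem (mem_IrrInv.1 (mem_filter.1 hα).1).1) h']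
      simp),
    ← sum_filter_of_ne (s := filter _ (IrrInv S (C ⊔ S))) (p := fun α => ¬ p ∣ charDegree α)
      fun α hα h h' => h (by
      rw [cnt_zero (sup_le hCN hSN) (nC.sup nS)
        (irrOn_of_mem (mem_IrrInv.1 (mem_filter.1 hα).1).1) h']
      simp)]
  choose! f f1 f2 f3 using fun α hα hd => rr_right (α := α) hSp hK nSK hC hα hd
  have m : ∀ X α, α ∈ filter (fun α => ¬ p ∣ charDegree α) (filter (fun μ => dot L μ ν ≠ 0)
      (IrrInv S (X ⊔ S))) ↔ α ∈ Irr (X ⊔ S) ∧ dot L α ν ≠ 0 ∧ ¬ p ∣ charDegree α := fun X α => by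
    simp only [mem_filter, mem_IrrInv, and_assoc]
    exact and_congr_right fun h => and_iff_right ((irrOn_of_mem h).classOn.mono le_sup_right le_rfl)
  have ov : ∀ α ∈ Irr (K ⊔ S), ¬ p ∣ charDegree α → ∀ β ∈ Irr (C ⊔ S), ¬ p ∣ charDegree β →
      RR p K C S α β → (dot L α ν ≠ 0 ↔ dot L β ν ≠ 0) := fun α hα d1 β hβ d2 h => by
    have hc : ∀ a ∈ L, ∀ b ∈ L, a * b = b * a := fun a _ b hb => mem_center_iff.1 (hL hb) a
    have a := irrOn_of_mem hα
    have b := irrOn_of_mem hβ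
    obtain ⟨ρ, hρ, r1⟩ := a.exists_under (hLB.trans hBA)
    obtain ⟨ω, hω, w1⟩ := b.exists_under hLB
    have lρ := (irrOn_of_mem hρ).linOn_of_comm hc
    have lω := (irrOn_of_mem hω).linOn_of_comm hc
    have ea := over_central hL (hLB.trans hBA) a lρ r1
    have eb := over_central hL hLB b lω w1
    have e := rr_central hSp hK nSK hC hd' a.charOn d1 b d2 h lρ lω ea eb
    rw [dot_congr_left (φ' := (charDegree α : ℂ) • ρ) ea,
      dot_congr_left (φ' := (charDegree β : ℂ) • ω) eb, dot_smul_left, dot_smul_left,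
      dot_congr_left e, mul_ne_zero_iff, mul_ne_zero_iff, ← a.one_eq, ← b.one_eq]
    simp [a.one_ne_zero, b.one_ne_zero]
  refine sum_nbij f (fun α hα => ?_) (fun α hα α' hα' e => ?_) (fun β hβ => ?_) fun α hα => ?_
  · obtain ⟨a1, a2, a3⟩ := (m K α).1 hα
    exact (m C _).2 ⟨f1 α a1 a3, (ov α a1 a3 _ (f1 α a1 a3) (f2 α a1 a3) (f3 α a1 a3)).1 a2,
      f2 α a1 a3⟩
  · obtain ⟨a1, -, a3⟩ := (m K α).1 (mem_coe.1 hα)
    obtain ⟨b1, -, b3⟩ := (m K α').1 (mem_coe.1 hα')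
    exact rr_uniq_left hSp hK nSK hC b1 b3 a1 a3 (f1 α a1 a3) (f2 α a1 a3)
      (by rw [e]; exact f3 α' b1 b3) (f3 α a1 a3)
  · obtain ⟨b1, b2, b3⟩ := (m C β).1 (mem_coe.1 hβ)
    obtain ⟨α, a1, a3, h⟩ := rr_left hSp hK nSK hC b1 b3
    exact ⟨α, mem_coe.2 ((m K α).2 ⟨a1, (ov α a1 a3 β b1 b3 h).2 b2, a3⟩),
      rr_uniq_right hSp hK nSK hC a1 a3 b1 b3 (f1 α a1 a3) (f2 α a1 a3) h (f3 α a1 a3)⟩
  · obtain ⟨a1, -, a3⟩ := (m K α).1 hα
    obtain ⟨c1, c2⟩ := rr_card hS hK hA hC hN hB a1 a3 (f1 α a1 a3) (f2 α a1 a3) (f3 α a1 a3)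
    rw [c1, c2]

theorem core1 {Γ : Type u} [Group Γ] [Finite Γ] {K P L : Subgroup Γ} {ν : Γ → ℂ}
    [hp : Fact p.Prime] [K.Normal] (hLK : L ≤ K) (hLP : L ≤ P) {a : ℕ} (h1 : L.relIndex P = p ^ a)
    (h2 : ¬ p ∣ P.index) (h3 : ¬ p ∣ L.relIndex K) (hA : (K ⊔ P).Normal) (hL : L ≤ center Γ)
    (hν : LinOn L ν) : cnt p ⊤ L ν = cnt p (normalizer (P : Set Γ)) L ν := by
  obtain ⟨S, hS'⟩ := Amalg.exists_syl p P
  have hS := hS'.of_le_of_not_dvd le_top (by rwa [relIndex_top_right])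
  have e1 := hS'.sup_eq_of_relIndex_pow hLP h1
  have c1 : ∀ g, ∀ z ∈ L, g * z * g⁻¹ = z := fun g z hz => by
    rw [mem_center_iff.1 (hL hz), mul_inv_cancel_right]
  have nL : ∀ X, Nrm X L := fun _ g _ z hz => (c1 g z hz).symm ▸ hz
  have n1 : Nrm L S := fun z hz s hs => by
    rwa [← mem_center_iff.1 (hL hz), mul_inv_cancel_right]
  have e2 : normalizer (P : Set Γ) = normalizer (S : Set Γ) := by
    refine le_antisymm (fun g hg => ?_) (e1 ▸ ((nL _).sup (nrm_of_le_normalizer le_rfl)).le_normalizer)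
    obtain ⟨n, hn, x, hx, rfl⟩ := hS'.frattini_mem hg
    exact mul_mem ((e1 ▸ nrm_sup' n1 (nrm_self S) : Nrm P S).le_normalizer hn) hx
  have hQ := hS.inf_normal_top K
  have hQL : S ⊓ K ≤ L := fun x hx => by
    obtain ⟨k, hk⟩ := Amalg.isPGroup_iff_mem.1 hS.isPGroup x hx.1
    exact mem_of_coprime (nL K) hx.2 (Nat.Coprime.coprime_dvd_right (orderOf_dvd_of_pow_eq_one hk)
      (((Nat.Prime.coprime_iff_not_dvd hp.out).2 h3).symm.pow_right k))
  obtain ⟨k, hk⟩ := hQ.isPGroup.exists_card_eq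
  have nQ : ∀ X, Nrm X (S ⊓ K) := fun _ g _ z hz => (c1 g z (hQL hz)).symm ▸ hz
  obtain ⟨V, v1, v2⟩ := exists_compl_of_coprime hQ.le (nQ K)
    (hk ▸ ((Nat.Prime.coprime_iff_not_dvd hp.out).2 hQ.not_dvd_relIndex).pow_left k)
  have hV : ¬ p ∣ Nat.card V := v2 ▸ hQ.not_dvd_relIndex
  have hVK : V ≤ K := v1 ▸ le_sup_right
  have n2 : Nrm (S ⊓ K) V := fun z hz s hs => by
    rwa [← mem_center_iff.1 (hL (hQL hz)), mul_inv_cancel_right]
  have : V.Normal := ⟨fun x hx g => mem_of_coprime (B := K) (v1 ▸ nrm_sup' n2 (nrm_self V))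
    (nrm_of_normal ⊤ K g (mem_top _) x (hVK hx)) (by
      rw [← v1, sup_comm, ← MulAut.conj_apply, MulEquiv.orderOf_eq]
      exact cop hQ.isPGroup n2 fun h => hV (h.trans (Subgroup.orderOf_dvd_natCard _ hx)))⟩
  rw [e2]
  refine core0 (K := V) hS hV ?_ hL (fun z hz => ?_) hν
  · convert hA using 1
    rw [← e1, ← sup_assoc, sup_eq_left.2 hLK]
    refine le_antisymm (sup_le_sup_right hVK S) (sup_le (v1.ge.trans ?_) le_sup_right)
    exact sup_le (inf_le_left.trans le_sup_right) le_sup_left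
  · obtain ⟨c, hc, s, hs, rfl⟩ := exists_mul_of_mem_sup_nrm' n2 (v1.ge (hLK hz))
    exact ⟨c, ⟨(mul_mem_cancel_right (hQL hs)).1 hz, hc⟩, s, ⟨hQL hs, hs.1⟩, rfl⟩

theorem cnt_comp {Δ : Type*} [Group Δ] [Finite Δ] (f : Δ →* Γ) (hf : Function.Surjective f)
    (hNH : N ≤ H) (hθ : IrrOn N θ) : cnt p H N θ = cnt p (H.comap f) (N.comap f) (θ ∘ f) := by
  unfold cnt
  convert comp_card f hf hNH hθ fun n => ¬ p ∣ n

theorem core2 {Γ : Type u} [Group Γ] [Finite Γ] {K P L : Subgroup Γ} {ν : Γ → ℂ}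
    [hp : Fact p.Prime] [hK : K.Normal] [L.Normal] (hLK : L ≤ K) (hLP : L ≤ P) {a : ℕ}
    (h1 : L.relIndex P = p ^ a) (h2 : ¬ p ∣ P.index) (h3 : ¬ p ∣ L.relIndex K)
    (hA : (K ⊔ P).Normal) (hν : LinOn L ν) (hi : InvOn ⊤ L ν) :
    cnt p ⊤ L ν = cnt p (normalizer (P : Set Γ)) L ν := by
  have nL := nrm_of_normal ⊤ L
  have := (nrm_kerOn nL hi).normal
  let f := QuotientGroup.mk' (kerOn L ν)
  have hf : Function.Surjective f := QuotientGroup.mk'_surjective _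
  have hk : f.ker = kerOn L ν := QuotientGroup.ker_mk' _
  have cm : ∀ X, L ≤ X → (X.map f).comap f = X := fun X hX =>
    comap_map_eq_self (hk.le.trans (kerOn_le.trans hX))
  obtain ⟨φ, hφ, e⟩ := hν.irrOn.exists_comp f (triv_kerOn.mono (inf_le_right.trans hk.le))
  have hφ' := (irrOn_of_mem hφ).linOn (by rw [← f.map_one, ← e 1 (one_mem _), hν.2])
  have := hK.map f hf
  have h := core1 (K := K.map f) (P := P.map f) (ν := φ) (map_mono hLK) (map_mono hLP) (a := a)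
    (by rw [← relIndex_comap, cm L le_rfl, h1])
    (by rwa [← index_comap_of_surjective _ hf, cm P hLP])
    (by rwa [← relIndex_comap, cm L le_rfl]) (by rw [← Subgroup.map_sup]; exact hA.map f hf) (by
      rintro _ ⟨z, hz, rfl⟩
      refine mem_center_iff.2 fun g => ?_
      obtain ⟨g, rfl⟩ := hf g
      have : f (g * z * g⁻¹ * z⁻¹) = 1 := f.mem_ker.1 (hk.ge (hν.commutator_mem nL hi (mem_top g) hz))
      rwa [map_mul, map_mul, map_mul, map_inv, map_inv, mul_inv_eq_one,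
        mul_inv_eq_iff_eq_mul] at this) hφ'
  rw [cnt_comp f hf le_top hφ'.irrOn, cnt_comp f hf ((map_mono hLP).trans le_normalizer) hφ'.irrOn,
    comap_normalizer_eq_of_surjective _ hf, cm L le_rfl, cm P hLP, comap_top] at h
  rw [cnt_congr (μ := φ ∘ f) e, cnt_congr (μ := φ ∘ f) e]
  exact h

theorem core {Γ : Type u} [Group Γ] [Finite Γ] {G K P L : Subgroup Γ} {ν : Γ → ℂ}
    [hp : Fact p.Prime] (hKG : K ≤ G) (hPG : P ≤ G) (hK : Nrm G K) (hL : Nrm G L) (hLK : L ≤ K)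
    (hLP : L ≤ P) {a : ℕ} (h1 : L.relIndex P = p ^ a) (h2 : ¬ p ∣ P.relIndex G)
    (h3 : ¬ p ∣ L.relIndex K) (hA : Nrm G (K ⊔ P)) (hν : IrrOn L ν) (hi : InvOn G L ν) :
    cnt p G L ν = cnt p (G ⊓ normalizer (P : Set Γ)) L ν := by
  have hLG := hLK.trans hKG
  have hLN : L ≤ G ⊓ normalizer (P : Set Γ) := le_inf hLG (hLP.trans le_normalizer)
  by_cases hd : p ∣ charDegree ν
  · rw [cnt_zero hLG hL hν hd, cnt_zero hLN (hL.mono inf_le_left) hν hd]
  obtain ⟨Δ, _, _, π, τ, μ, c⟩ := exists_cover hLG hL hν hi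
  have key : ∀ H, L ≤ H → H ≤ G → cnt p H L ν = cnt p (H.comap π) (L.comap π) μ := fun H a b => by
    unfold cnt
    convert (cover_card c a b fun n => ¬ p ∣ n).symm using 2
    · ext; simp only [mem_filter]
    · ext; simp [hp.out.dvd_mul, hd]
  have nor : ∀ X, Nrm G X → (X.comap π).Normal := fun X hX => ⟨fun x hx g => by
    simpa using hX _ (c.mem g) _ hx⟩
  have := nor K hK
  have := nor L hL
  have e : (G ⊓ normalizer (P : Set Γ)).comap π = normalizer ((P.comap π : Subgroup Δ) : Set Δ) := by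
    ext x
    refine ⟨fun h => Amalg.mem_normalizer_of_cj_le (Amalg.cj_le_iff'.2 fun y hy => ?_),
      fun h => ⟨c.mem x, Amalg.mem_normalizer_of_cj_le (Amalg.cj_le_iff'.2 fun g hg => ?_)⟩⟩
    · simpa using nrm_of_le_normalizer le_rfl _ h.2 _ hy
    · obtain ⟨y, rfl⟩ := c.exists_eq (hPG hg)
      simpa using nrm_of_le_normalizer le_rfl _ h y hg
  rw [key G hLG le_rfl, key _ hLN inf_le_left, e, c.comap_self]
  exact core2 (K := K.comap π) (comap_mono hLK) (comap_mono hLP) (a := a)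
    (by rw [c.relIndex_comap L hPG, h1])
    (by rwa [← relIndex_top_right, ← c.comap_self, c.relIndex_comap P le_rfl])
    (by rwa [c.relIndex_comap L hKG])
    (by rw [comap_sup_eq_of_le_range _ (c.range ▸ hKG) (c.range ▸ hPG)]; exact nor _ hA) c.lin c.inv

theorem exists_step [hp : Fact p.Prime] (h : IsPSolvable p Γ) (hL : Nrm G L) (hlt : L < G) :
    ∃ K, L < K ∧ K ≤ G ∧ Nrm G K ∧ ((∃ a, L.relIndex K = p ^ a) ∨ ¬ p ∣ L.relIndex K) := by
  have := hL.normal_subgroupOf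
  have h1 := Core.isPSolvable_quotient hp.out (Core.isPSolvable_subgroup hp.out h G) (L.subgroupOf G)
  have : Nontrivial (G ⧸ L.subgroupOf G) := QuotientGroup.nontrivial_iff.2 fun e =>
    hlt.not_ge (subgroupOf_eq_top.1 e)
  obtain ⟨M, hM, hM0, hmin⟩ := Hall.exists_minNormal (G := G ⧸ L.subgroupOf G)
  have h2 := Core.isPGroup_or_coprime_of_minimal_normal hp.out M
    (Core.isPSolvable_subgroup hp.out h1 M) hmin
  let f := QuotientGroup.mk' (L.subgroupOf G)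
  have hle : L ≤ (M.comap f).map G.subtype := fun x hx => ⟨⟨x, hlt.le hx⟩, by
    show f _ ∈ M
    rw [show f ⟨x, hlt.le hx⟩ = 1 from (QuotientGroup.eq_one_iff _).2 hx]
    exact one_mem _, rfl⟩
  have h3 : L.relIndex ((M.comap f).map G.subtype) = Nat.card M := by
    rw [← relIndex_comap]
    show (L.subgroupOf G).relIndex (M.comap f) = _
    rw [← Hall.card_map_mk' (M.comap f) (L.subgroupOf G),
      map_comap_eq_self_of_surjective (QuotientGroup.mk'_surjective _)]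
  refine ⟨_, lt_of_le_of_ne hle fun e => hM0 ?_, map_subtype_le _, nrm_of_le_normalizer
    (Amalg.le_normalizer_map_of_normal _), ?_⟩
  · rw [← e, relIndex_self] at h3
    exact card_eq_one.1 h3.symm
  · rw [h3]
    exact h2.imp (fun h => h.exists_card_eq) fun h => (Nat.Prime.coprime_iff_not_dvd hp.out).1 h.symm

theorem relIndex_lt_left (hLK : L < K) (hKG : K ≤ G) : K.relIndex G < L.relIndex G := by
  rw [← relIndex_mul_relIndex L K G hLK.le hKG]
  exact lt_mul_of_one_lt_left (Nat.pos_of_ne_zero (Clifford.relIndex_ne_zero _ _))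
    (Nat.one_lt_iff_ne_zero_and_ne_one.2 ⟨Clifford.relIndex_ne_zero _ _,
      fun e => hLK.not_ge (relIndex_eq_one.1 e)⟩)

theorem relIndex_lt_right (hLK : L ≤ K) (hKG : K < G) : L.relIndex K < L.relIndex G := by
  rw [← relIndex_mul_relIndex L K G hLK hKG.le]
  exact lt_mul_of_one_lt_right (Nat.pos_of_ne_zero (Clifford.relIndex_ne_zero _ _))
    (Nat.one_lt_iff_ne_zero_and_ne_one.2 ⟨Clifford.relIndex_ne_zero _ _,
      fun e => hKG.not_ge (relIndex_eq_one.1 e)⟩)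

/-- The relative McKay equality for `p`-solvable groups. -/
theorem mckay {Γ : Type u} [Group Γ] [Finite Γ] [hp : Fact p.Prime] (h : IsPSolvable p Γ)
    (S : Subgroup Γ) (n : ℕ) : ∀ (G L : Subgroup Γ) (ν : Γ → ℂ), L.relIndex G = n → L ≤ G → Nrm G L →
    Amalg.Syl p S G → IrrOn L ν → InvOn S L ν →
    cnt p G L ν = cnt p (G ⊓ normalizer ((L ⊔ S : Subgroup Γ) : Set Γ)) L ν := by
  induction n using Nat.strong_induction_on with | _ n ih => ?_
  rintro G L ν rfl hLG hL hS hν hi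
  have hP : ∀ X, X ≤ G → X ⊔ S ≤ G ⊓ normalizer ((X ⊔ S : Subgroup Γ) : Set Γ) := fun X hX =>
    le_inf (sup_le hX hS.le) le_normalizer
  have hSN := fun X hX => hS.of_le (le_sup_right.trans (hP X hX)) inf_le_left
  rcases (inertia_le : inertia G L ν ≤ G).lt_or_eq with hT | hT
  · rw [cnt_inertia hS hLG hL hν hi, cnt_inertia (hSN L hLG) (le_sup_left.trans (hP L hLG))
      (hL.mono inf_le_left) hν hi, inertia_inf]
    exact ih _ (relIndex_lt_right (le_inertia hLG hL hν.classOn) hT) _ L ν rfl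
      (le_inertia hLG hL hν.classOn) (hL.mono hT.le)
      (hS.of_le (le_inertia_of_invOn hL hS.le hi) hT.le) hν hi
  have hi' := (inertia_eq_iff hL).1 hT
  rcases hLG.lt_or_eq with hlt | rfl
  swap
  · rw [sup_eq_left.2 hS.le, inf_eq_left.2 le_normalizer]
  obtain ⟨K, hLK, hKG, hK, h1⟩ := exists_step h hL hlt
  have nS : Nrm (G ⊓ normalizer (S : Set Γ)) S := nrm_of_le_normalizer inf_le_right
  have h2 : G ⊓ normalizer (S : Set Γ) ≤ G ⊓ normalizer ((K ⊔ S : Subgroup Γ) : Set Γ) :=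
    le_inf inf_le_left ((hK.mono inf_le_left).sup nS).le_normalizer
  have h3 : Nrm (G ⊓ normalizer ((K ⊔ S : Subgroup Γ) : Set Γ)) (K ⊔ S) :=
    nrm_of_le_normalizer inf_le_right
  have e : cnt p G L ν = cnt p (G ⊓ normalizer ((K ⊔ S : Subgroup Γ) : Set Γ)) L ν := by
    refine Nat.cast_injective (R := ℚ) ?_
    rw [cnt_sum hS hKG hK hLK.le hL hν hi' h2 inf_le_left h3, cnt_sum (hSN K hKG)
      (le_sup_left.trans (hP K hKG)) (hK.mono inf_le_left) hLK.le (hL.mono inf_le_left) hν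
      (hi'.mono inf_le_left le_rfl) inf_le_left le_rfl h3]
    refine sum_congr rfl fun μ hμ => ?_
    obtain ⟨a1, a2⟩ := mem_IrrInv.1 (mem_filter.1 hμ).1
    rw [ih _ (relIndex_lt_left hLK hKG) G K μ rfl hKG hK hS (irrOn_of_mem a1) a2]
  rcases h1 with ⟨a, h1⟩ | h1
  · have h4 := (hS.inf_normal hKG hK.le_normalizer).sup_eq_of_relIndex_pow hLK.le h1
    rwa [show K ⊔ S = L ⊔ S from le_antisymm (sup_le (h4.ge.trans (sup_le_sup_left inf_le_left L))
      le_sup_right) (sup_le_sup_right hLK.le S)] at e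
  rcases (inf_le_left : G ⊓ normalizer ((K ⊔ S : Subgroup Γ) : Set Γ) ≤ G).lt_or_eq with hM | hM
  · have hLM := hLK.le.trans (le_sup_left.trans (hP K hKG))
    rw [e, ih _ (relIndex_lt_right hLM hM) _ L ν rfl hLM (hL.mono hM.le) (hSN K hKG) hν hi]
    congr 1
    refine le_antisymm (inf_le_inf_right _ hM.le) (le_inf (le_inf inf_le_left ?_) inf_le_right)
    have := (hK.mono (inf_le_left : G ⊓ normalizer ((L ⊔ S : Subgroup Γ) : Set Γ) ≤ G)).sup
      (nrm_of_le_normalizer inf_le_right)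
    rw [← sup_assoc, sup_eq_left.2 hLK.le] at this
    exact this.le_normalizer
  · obtain ⟨k, hk⟩ := hS.isPGroup.exists_card_eq
    obtain ⟨a, -, ha⟩ := (Nat.dvd_prime_pow hp.out).1 ((relIndex_sup_dvd (hL.mono hS.le)).trans
      (dvd_of_eq hk))
    refine core hKG (sup_le hLG hS.le) hK hL hLK.le le_sup_left ha
      (hS.not_dvd_relIndex_of_le le_sup_right) h1 ?_ hν hi'
    rw [← sup_assoc, sup_eq_left.2 hLK.le]
    exact hM ▸ h3

end Cfsg.Lib.Block2.OW
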