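import Cfsg.Agent.Lib.Block2.Few
import Cfsg.Agent.Lib.Block2.Canon
import Cfsg.Agent.Lib.Small.Lat

/-! Generalized characters vanishing on the `p`-singular elements are integral combinations of
characters of idempotents. -/

set_option autoImplicit false
set_option linter.dupNamespace false
set_option linter.unusedSectionVars false
set_option linter.style.haveILetI false

open Cfsg Cfsg.Lib.Block Cfsg.Lib.Block2 Cfsg.Lib.Char Cfsg.Lib.Amalg MonoidAlgebra Subgroup
open Cfsg.Lib.Small Module
open scoped ComplexConjugate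

namespace Cfsg.Lib.Block2

variable {G : Type*} [Group G] [Fintype G] {p : ℕ} {M : Ideal AlgInt} [M.IsMaximal]
variable {θ η : G → ℂ}

theorem Cfsg.IsCharacter.charExt_corner {χ : G → ℂ} (hχ : IsCharacter G χ) {i : MonoidAlgebra ℂ G}
    (hi : i * i = i) (h1 : charExt χ i = 1) (a b : MonoidAlgebra ℂ G) :
    charExt χ (i * a * i * b) = charExt χ (i * a) * charExt χ (i * b) := by
  obtain ⟨n, ρ, rfl⟩ := hχ
  simp only [← trace_asAlgebraHom, map_mul] at *
  have hE : ρ.asAlgebraHom i * ρ.asAlgebraHom i = ρ.asAlgebraHom i := by rw [← map_mul, hi]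
  generalize ρ.asAlgebraHom i = E at *
  generalize ρ.asAlgebraHom a = A
  rw [trace_eq_finrank_range fun v => by rw [← Module.End.mul_apply, hE]] at h1
  obtain ⟨⟨_, v, rfl⟩, -, hv⟩ := finrank_eq_one_iff'.1 (show finrank ℂ (LinearMap.range E) = 1 by
    exact_mod_cast h1)
  obtain ⟨c, hc⟩ := hv ⟨_, A (E v), rfl⟩
  have h2 : E * A * E = c • E := LinearMap.ext fun w => by
    obtain ⟨t, ht⟩ := hv ⟨_, w, rfl⟩
    have h3 : t • E v = E w := congrArg Subtype.val ht
    have h4 : c • E v = E (A (E v)) := congrArg Subtype.val hc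
    simp only [Module.End.mul_apply, LinearMap.smul_apply, ← h3, map_smul, ← h4, smul_comm t]
  have h3 : LinearMap.trace ℂ _ (E * A) = c := by
    rw [← hE, mul_assoc, LinearMap.trace_mul_comm, h2, map_smul,
      trace_eq_finrank_range fun v => by rw [← Module.End.mul_apply, hE], h1, smul_eq_mul, mul_one]
  rw [h2, h3, smul_mul_assoc, map_smul, smul_eq_mul]

variable (M G) in
/-- Integral combinations of characters of integral idempotents. -/
noncomputable def PSp : Submodule ℤ (G → ℂ) :=
  Submodule.span ℤ {θ | ∃ e, IsInt M e ∧ e * e = e ∧ pchar e = θ}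

theorem pchar_incl {H : Subgroup G} [Fintype H] (e : MonoidAlgebra ℂ H) :
    pchar (incl H e) = indFun H (pchar e) :=
  (isClassFunction_pchar _).ext_classInner (isClassFunction_indFun _) fun χ hχ => by
    rw [classInner_pchar hχ.isCharacter.isGeneralizedCharacter, charExt_incl,
      classInner_indFun_left _ hχ.isCharacter.isClassFunction,
      classInner_pchar (hχ.isCharacter.isGeneralizedCharacter.restrict H)]

theorem indFun_mem_PSp {H : Subgroup G} [Fintype H] {θ : H → ℂ} (h : θ ∈ PSp H M) :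
    indFun H θ ∈ PSp G M := by
  induction h using Submodule.span_induction with
  | mem _ h =>
    obtain ⟨e, hi, he, rfl⟩ := h
    exact Submodule.subset_span ⟨_, hi.incl, by rw [← map_mul, he], pchar_incl e⟩
  | zero => rw [indFun_zero]; exact zero_mem _
  | add _ _ _ _ h h' => rw [indFun_add]; exact add_mem h h'
  | smul n _ _ h => rw [indFun_zsmul]; exact Submodule.smul_mem _ _ h

theorem exists_pchar_eq (h : θ ∈ PSp G M) : ∃ a, IsInt M a ∧ pchar a = θ := by
  induction h using Submodule.span_induction with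
  | mem _ h => obtain ⟨e, hi, -, he⟩ := h; exact ⟨e, hi, he⟩
  | zero => exact ⟨0, isInt_zero, map_zero _⟩
  | add _ _ _ _ h h' =>
    obtain ⟨a, ha, rfl⟩ := h
    obtain ⟨b, hb, rfl⟩ := h'
    exact ⟨a + b, ha.add hb, map_add _ _ _⟩
  | smul n _ _ h =>
    obtain ⟨a, ha, rfl⟩ := h
    exact ⟨(n : ℂ) • a, ha.smul (memLocalRing_intCast n), by rw [map_smul, Int.cast_smul_eq_zsmul]⟩

theorem Wed.exists_int_of_PSp (W : Wed M G) (h : θ ∈ PSp G M) :
    ∃ n : Fin W.n → ℤ, ∀ χ : IrrCharacter G, classInner θ χ.1 = ∑ s, (n s : ℂ) * W.dec χ s := by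
  induction h using Submodule.span_induction with
  | mem _ h =>
    obtain ⟨e, hi, he, rfl⟩ := h
    obtain ⟨m, -, hm⟩ := W.exists_decomp hi he
    exact ⟨fun s => m s, fun χ => by
      simp [classInner_pchar χ.2.isCharacter.isGeneralizedCharacter,
        hm _ χ.2.isCharacter.isClassFunction, W.charExt_i]⟩
  | zero => exact ⟨0, by simp [classInner_zero_left]⟩
  | add _ _ _ _ h h' =>
    obtain ⟨a, ha⟩ := h
    obtain ⟨b, hb⟩ := h'
    exact ⟨a + b, fun χ => by simp [classInner_add_left, ha, hb, add_mul, Finset.sum_add_distrib]⟩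
  | smul n _ _ h =>
    obtain ⟨a, ha⟩ := h
    exact ⟨n • a, fun χ => by
      simp [← Int.cast_smul_eq_zsmul ℂ, classInner_smul_left, ha, Finset.mul_sum, mul_assoc]⟩

variable [Fact p.Prime]

theorem exists_idem_of_singleton (hM : IsPModular p M) {χ : IrrCharacter G} (h : IsPBlock M {χ}) :
    ∃ e, IsInt M e ∧ e * e = e ∧ pchar e = χ.1 := by
  classical
  obtain ⟨W⟩ := nonempty_wed M G
  obtain ⟨s, hs⟩ := W.T_eq_singleton hM h (blockRank_singleton χ).le
  have h1 := W.dec_eq_one_of_comm h.isBlockUnion hs ((W.symLoc s).comm_of_le_four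
    ((W.finrank_center_le h.isBlockUnion hs).trans (by simp))) χ rfl
  refine ⟨_, W.isInt_i s, W.i_mul_i s, ?_⟩
  rw [pchar_eq_sum, Finset.sum_eq_single χ (fun ψ _ hψ => ?_) (by simp), W.charExt_i, h1, Nat.cast_one,
    one_smul]
  rw [W.charExt_i, not_not.1 (mt (W.dec_ne_zero_iff h.isBlockUnion hs).1 hψ), Nat.cast_zero, zero_smul]

theorem mem_PSp_of_not_dvd (hM : IsPModular p M) (hG : ¬ p ∣ Nat.card G)
    (hθ : IsGeneralizedCharacter G θ) : θ ∈ PSp G M := by
  obtain ⟨a, -, rfl⟩ := hθ.exists_int_coeffs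
  refine Submodule.sum_mem _ fun χ _ => ?_
  rw [Int.cast_smul_eq_zsmul]
  exact Submodule.smul_mem _ _ (Submodule.subset_span
    (exists_idem_of_singleton hM (isPBlock_singleton_of_not_dvd hM hG χ)))

theorem mem_PSp_of_isNilpotent [Group.IsNilpotent G] (hM : IsPModular p M)
    (hθ : IsGeneralizedCharacter G θ) (h0 : ∀ g, p ∣ orderOf g → θ g = 0) : θ ∈ PSp G M := by
  obtain ⟨N, hN, hNp, k, hk⟩ := exists_normal_complement_of_hasNormalPComplement
    (Transfer.hasNormalPComplement_of_isNilpotent (p := p) (G := G))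
  haveI := Fintype.ofFinite N
  obtain ⟨P⟩ : Nonempty (Sylow p G) := inferInstance
  haveI : P.1.Normal := P.normal_of_normalizerCondition Group.normalizerCondition_of_isNilpotent
  have hp : p.Prime := Fact.out
  have hc : N.IsComplement' P := by
    have h1 : Nat.card P = p ^ k := by
      rw [P.card_eq_multiplicity, ← N.card_mul_index, hk, Nat.factorization_mul Nat.card_pos.ne'
        (pow_ne_zero _ hp.ne_zero), hp.factorization_pow, Finsupp.add_apply,
        Nat.factorization_eq_zero_of_not_dvd hNp]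
      simp
    refine isComplement'_of_coprime (by rw [h1, ← hk, N.card_mul_index]) ?_
    rw [h1]
    exact ((hp.coprime_iff_not_dvd.2 hNp).symm.pow_right k)
  have h1 : indFun N ((N.index : ℂ)⁻¹ • fun n : N => θ n) = θ := by
    rw [indFun_smul, indFun_restrict hθ.isClassFunction, indFun_one_of_normal]
    funext g
    have : (N.index : ℂ) ≠ 0 := by exact_mod_cast N.index_ne_zero_of_finite
    by_cases hg : g ∈ N
    · simp [hg, this]
    · simp [hg, h0 g (by_contra fun h => hg (mem_of_index_eq_pow hk h))]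
  rw [← h1]
  refine indFun_mem_PSp (mem_PSp_of_not_dvd hM hNp (((hθ.restrict N).isClassFunction.smul
    _).isGeneralizedCharacter_of_classInner fun β hβ => ?_))
  have h2 := hβ.isCharacter.comp (hc.QuotientMulEquiv.toMonoidHom.comp (QuotientGroup.mk' _))
  have h3 := classInner_indFun_left ((N.index : ℂ)⁻¹ • fun n : N => θ n) h2.isClassFunction
  rw [h1] at h3
  obtain ⟨n, hn⟩ := hθ.classInner_int h2.isGeneralizedCharacter
  refine ⟨n, hn ▸ h3 ▸ congrArg _ (funext fun x => congrArg β ?_)⟩
  exact (hc.QuotientMulEquiv.apply_symm_apply x).symm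

theorem mem_PSp (hM : IsPModular p M) (hθ : IsGeneralizedCharacter G θ)
    (h0 : ∀ g, p ∣ orderOf g → θ g = 0) : θ ∈ PSp G M := by
  have H : ∀ f ∈ Submodule.span ℤ (⋃ q ∈ {q : ℕ | q.Prime}, elemSet G q), f * θ ∈ PSp G M := by
    intro f hf
    induction hf using Submodule.span_induction with
    | mem _ h =>
      simp only [Set.mem_iUnion] at h
      obtain ⟨q, hq, E, φ, hE, hφ, rfl⟩ := h
      haveI := hE.isNilpotent hq
      haveI := Fintype.ofFinite E
      rw [← indFun_mul_restrict _ hθ.isClassFunction]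
      exact indFun_mem_PSp (mem_PSp_of_isNilpotent hM (hφ.isGeneralizedCharacter.mul (hθ.restrict E))
        fun g hg => by simp [h0 g (by simpa using hg)])
    | zero => rw [zero_mul]; exact zero_mem _
    | add _ _ _ _ h h' => rw [add_mul]; exact add_mem h h'
    | smul n _ _ h => rw [smul_mul_assoc]; exact Submodule.smul_mem _ _ h
  simpa using H 1 one_mem_span_elemSet

end Cfsg.Lib.Block2
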