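import Cfsg.Agent.Lib.Block2.PiKer
import Cfsg.Agent.Lib.Block2.FRChar
import Cfsg.Agent.Lib.Core.UpperP
import Cfsg.Agent.Lib.Coprime.PGroup

/-! Blocks of `p`-constrained groups over an invariant character of `O_{p'}(G)`. -/

set_option autoImplicit false
set_option linter.dupNamespace false
set_option linter.unusedSectionVars false
set_option linter.style.haveILetI false

open Cfsg Cfsg.Lib.Block Cfsg.Lib.Block2 Cfsg.Lib.Char Cfsg.Lib.Amalg MonoidAlgebra Subgroup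
open scoped ComplexConjugate

namespace Cfsg.Lib.Block2

variable {G : Type*} [Group G] [Finite G] {p : ℕ} [Fact p.Prime] {M : Ideal AlgInt} [M.IsMaximal]
variable {H K N Q R D : Subgroup G} {ε η ζ z : MonoidAlgebra (resField M) G}

section uniq

theorem Blk.lamE_trunc_of_regular (hM : IsPModular p M) (hη : Blk H η) (hle : N ≤ H)
    (hH : H ≤ 𝐍 N) (hQ : IsPGroup p Q) (hQH : Q ≤ H) (h0 : brauer Q η ≠ 0)
    (hr : ∀ x ∈ H ⊓ 𝐂 Q, ¬ p ∣ orderOf x → x ∈ N) (hz : CenIn H z) (hzz : z * z = z) :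
    lamE H η z = lamE H η (trunc N z) := by
  refine hz.fixed.linearMap_eq (f := lamE H η) (f' := lamE H η ∘ₗ trunc N) fun g hg => ?_
  have hgH := hz.supp.mem hg
  have key : ∀ y ∈ clsSet H g, y ∈ N ↔ g ∈ N := by
    rintro _ ⟨x, hx, rfl⟩
    exact ((mem_normalizer_iff.1 (hH hx)) g).symm
  rw [LinearMap.comp_apply]
  by_cases hN : g ∈ N
  · rw [Supp.trunc_eq]
    intro y hy
    rw [clsA, coeff_setSum_of_notMem]
    exact fun h => hy ((key y h).2 hN)
  · have : trunc (N : Set G) (clsA (resField M) H g) = 0 := by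
      ext y
      by_cases hy : y ∈ N
      · rw [coeff_trunc_of_mem _ hy, clsA, coeff_setSum_of_notMem]
        · rfl
        · exact fun h => hN ((key y h).1 hy)
      · rw [coeff_trunc_of_notMem _ hy]; rfl
    rw [this, map_zero]
    by_contra h
    obtain ⟨D, hD, hQD⟩ := hη.exists_defG_ge hM hQH hQ h0
    obtain ⟨x, hx, hc⟩ := hD.exists_le_centralizer hM hη hgH h
    refine hN ((key (x⁻¹ * g * x⁻¹⁻¹) ⟨x⁻¹, H.inv_mem hx, rfl⟩).1 (hr _ ⟨H.mul_mem (H.mul_mem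
      (H.inv_mem hx) hgH) (H.inv_mem (H.inv_mem hx)), fun q hq => ?_⟩ ?_))
    · have := (hc (conj_mem_cj x (hQD hq))).2 g rfl
      calc q * (x⁻¹ * g * x⁻¹⁻¹) = x⁻¹ * (x * q * x⁻¹ * g) * x := by group
        _ = _ := by rw [← this]; group
    · rw [not_dvd_orderOf_conj_iff]
      exact hz.not_dvd_orderOf hM hzz hg

theorem Blk.eq_of_cover (hM : IsPModular p M) (hη : Blk H η) (hζ : Blk H ζ) (h : Blk N ε)
    (hle : N ≤ H) (hH : H ≤ 𝐍 N) (h1 : η * ε ≠ 0) (h2 : ζ * ε ≠ 0) (hQ : IsPGroup p Q)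
    (hQN : Q ≤ N) (h0 : brauer Q ε ≠ 0) (hr : ∀ x ∈ H ⊓ 𝐂 Q, ¬ p ∣ orderOf x → x ∈ N) :
    η = ζ := by
  have hc : CenIn H (trunc N η) := ⟨(supp_trunc _ _).mono hle, hη.fixed.trunc_subgroup hH⟩
  refine hζ.eq_of_lamE_ne_zero hη ?_
  rw [hζ.lamE_trunc_of_regular hM hle hH hQ (hQN.trans hle)
    (hζ.brauer_ne_zero_of_cover hM h hle hH h2 hQ hQN h0) hr hη.cen hη.idem,
    hζ.lamE_eq_of_mul_ne_zero h hle h2 hc (supp_trunc _ _),
    ← hη.lamE_eq_of_mul_ne_zero h hle h1 hc (supp_trunc _ _),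
    ← hη.lamE_trunc_of_regular hM hle hH hQ (hQN.trans hle)
    (hη.brauer_ne_zero_of_cover hM h hle hH h1 hQ hQN h0) hr hη.cen hη.idem, hη.lamE_self]
  exact one_ne_zero

theorem Blk.of_fixed_of_regular (hM : IsPModular p M) (h : Blk N ε) (hle : N ≤ H) (hH : H ≤ 𝐍 N)
    (hf : IsFixed H ε) (hQ : IsPGroup p Q) (hQN : Q ≤ N) (h0 : brauer Q ε ≠ 0)
    (hr : ∀ x ∈ H ⊓ 𝐂 Q, ¬ p ∣ orderOf x → x ∈ N) : Blk H ε := by
  obtain ⟨η, hη, h1⟩ := h.exists_cover H
  have hc : CenIn H ε := ⟨h.supp.mono hle, hf⟩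
  suffices e : ε = η from e ▸ hη
  refine hc.idem_ext h.idem hη.cen hη.idem fun ζ hζ => ⟨fun e => ?_, fun e => ?_⟩
  · rw [hη.eq_of_cover hM hζ h hle hH h1 (by rw [← hc.comm hζ.supp, e]; exact hζ.ne_zero) hQ hQN
      h0 hr, hζ.idem]
  · rw [← hη.eq_of_mul_ne_zero hζ (e.symm ▸ hζ.ne_zero), hc.comm hη.supp]
    exact hη.mul_eq_of_fixed h hle hf h1

end uniq

section grp

theorem syl_sup_of_not_dvd (hK : ¬ p ∣ Nat.card K) (hR : IsPGroup p R) (h : R ≤ 𝐍 K) :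
    Syl p R (K ⊔ R) := by
  obtain ⟨T, hT, hle⟩ := exists_syl_ge hR (le_sup_right : R ≤ K ⊔ R)
  suffices e : T = R from e ▸ hT
  have h1 : T ⊓ K = ⊥ := isPGroup_eq_bot_of_not_dvd (hT.isPGroup.to_le inf_le_left) inf_le_right hK
  refine le_antisymm (fun t ht => ?_) hle
  obtain ⟨k, hk, r, hr, rfl⟩ := (Coprime.mem_sup_iff_of_le_normalizer h).1 (hT.le ht)
  have : k ∈ T ⊓ K := ⟨by simpa using T.mul_mem ht (T.inv_mem (hle hr)), hk⟩
  rw [h1, mem_bot] at this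
  rwa [this, one_mul]

theorem sup_inf_norm_eq (hK : ¬ p ∣ Nat.card K) (hR : IsPGroup p R) (h : R ≤ 𝐍 K) :
    (K ⊔ R) ⊓ 𝐍 R = R ⊔ (K ⊔ R) ⊓ 𝐂 R := by
  refine le_antisymm (fun g hg => ?_) (sup_le (le_inf le_sup_right le_normalizer)
    inf_cent_le_inf_norm)
  obtain ⟨k, hk, r, hr, rfl⟩ := (Coprime.mem_sup_iff_of_le_normalizer h).1 hg.1
  have h1 : k ∈ K ⊓ 𝐍 R := ⟨hk, by
    simpa using (𝐍 R).mul_mem hg.2 ((𝐍 R).inv_mem (le_normalizer hr))⟩
  have h2 : K ⊓ 𝐍 R ≤ 𝐂 R := le_cent_of_not_dvd hR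
    (fun h => hK (h.trans (card_dvd_of_le inf_le_left))) inf_le_right
    (le_trans (le_inf h (le_normalizer.trans le_normalizer)) norm_inf_norm_le_norm_inf)
  exact mul_mem (mem_sup_right ⟨mem_sup_left hk, h2 h1⟩) (mem_sup_left hr)

theorem mem_pPrimeCore_of_regular (hc : IsPConstrained p G) (hR : IsPGroup p R) {x : G}
    (hx : x ∈ 𝐂 R) (hr : ¬ p ∣ orderOf x)
    (h : pPrimePCore p G ⊓ 𝐂 R ≤ pPrimeCore p G ⊔ centralizer {x}) : x ∈ pPrimeCore p G := by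
  have hp : p.Prime := Fact.out
  have := Core.pPrimePCore_normal p G
  let f := QuotientGroup.mk' (pPrimeCore p G)
  have hcop : (Nat.card (zpowers x)).Coprime p := by
    rw [Nat.card_zpowers]; exact ((Nat.Prime.coprime_iff_not_dvd hp).2 hr).symm
  refine Core.le_pPrimeCore_of_le_pPrimePCore hcop (zpowers_le.2 ?_) (mem_zpowers x)
  rw [Core.mem_pPrimePCore_iff]
  refine Core.isPConstrained_iff.1 hc (Coprime.thompson_PxQ (hR.map f) (Core.coprime_map hcop f)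
    (Core.isPGroup_pCore p _) ?_ le_normalizer_of_normal le_normalizer_of_normal ?_
    (mem_map_of_mem f (mem_zpowers x)))
  · rw [← le_centralizer_iff, MonoidHom.map_zpowers, zpowers_le]
    exact map_centralizer_le_centralizer_image _ f (mem_map_of_mem f hx)
  · rw [← Core.map_mk'_pPrimePCore, ← Coprime.map_inf_centralizer f le_normalizer_of_normal
      (Core.coprime_card_of_isPGroup hp hR (Core.coprime_of_le (Core.coprime_card_pPrimeCore p G)
        (inf_le_right.trans (QuotientGroup.ker_mk' _).le)))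
      (Or.inl (Coprime.isSolvable_of_isPGroup hR))]
    refine (map_mono h).trans ?_
    rw [Subgroup.map_sup, (Subgroup.map_eq_bot_iff _).2 (QuotientGroup.ker_mk' _).ge, bot_sup_eq,
      MonoidHom.map_zpowers, centralizer_zpowers_eq]
    simpa using map_centralizer_le_centralizer_image ({x} : Set G) f

theorem isPConstrained_of_syl (hQ : Syl p Q (pPrimePCore p G)) (h : 𝐂 Q ≤ pPrimePCore p G) :
    IsPConstrained p G := fun P => by
  obtain ⟨g, hg, e⟩ := hQ.exists_conj (syl_of_sylow P)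
  rw [← e, ← cj_centralizer]
  exact (cj_mono g h).trans (cj_of_mem hg).le

end grp

theorem Blk.defG_sup_of_not_dvd (hM : IsPModular p M) (h : Blk K ε) (hK : ¬ p ∣ Nat.card K)
    (hR : IsPGroup p R) (hn : R ≤ 𝐍 K) (hf : IsFixed R ε) : Blk (K ⊔ R) ε ∧ DefG p (K ⊔ R) ε R := by
  have hq := (pquo_of_isPGroup hR K).sup hn
  have hf' := h.fixed.sup hf
  have hn' : K ⊔ R ≤ 𝐍 K := sup_le le_normalizer hn
  have hb := h.of_pquo hM le_sup_left hq hf'
  obtain ⟨D, hD⟩ := hb.exists_defG hM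
  have e := hD.sup_eq_of_pquo hM h hf' le_sup_left hn' hq
  obtain ⟨g, hg, e'⟩ := (e ▸ syl_sup_of_not_dvd hK hD.isPGroup (hD.le.trans hn')).exists_conj
    (syl_sup_of_not_dvd hK hR hn)
  exact ⟨hb, e' ▸ hD.conj_of_mem hf' hg⟩

/-- the Glauberman correspondence, in terms of block idempotents -/
theorem Blk.blk_brauer_of_not_dvd (hM : IsPModular p M) (h : Blk K ε) (hK : ¬ p ∣ Nat.card K)
    (hR : IsPGroup p R) (hn : R ≤ 𝐍 K) (hf : IsFixed R ε) : Blk ((K ⊔ R) ⊓ 𝐂 R) (brauer R ε) := by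
  obtain ⟨hb, hD⟩ := h.defG_sup_of_not_dvd hM hK hR hn hf
  have := hD.blk_brauer hM hb
  rw [sup_inf_norm_eq hK hR hn] at this
  exact (bp_of_blk_sup hM hR le_sup_right this).blk

theorem Blk.blk_brauer_of_constrained (hM : IsPModular p M) (hc : IsPConstrained p G)
    (h : Blk (pPrimeCore p G) ε) (hf : IsFixed ⊤ ε) (hR : IsPGroup p R) :
    Blk (𝐂 R) (brauer R ε) := by
  have hp : p.Prime := Fact.out
  have := Core.pPrimePCore_normal p G
  have h0 := h.blk_brauer_of_not_dvd hM (Core.not_dvd_card_pPrimeCore hp) hR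
    le_normalizer_of_normal (hf.mono le_top)
  have hf' : IsFixed (𝐂 R) (brauer R ε) := (hf.mono le_top).cenIn_brauer.fixed
  have nrm : ∀ (X : Subgroup G) [X.Normal], 𝐂 R ≤ 𝐍 ((X ⊔ R) ⊓ 𝐂 R : Subgroup G) := fun X _ =>
    le_trans (le_inf (le_trans (le_inf le_normalizer_of_normal (centralizer_le_normalizer _))
      norm_inf_norm_le_norm_sup) le_normalizer) norm_inf_norm_le_norm_inf
  have hle : (pPrimeCore p G ⊔ R) ⊓ 𝐂 R ≤ (pPrimePCore p G ⊔ R) ⊓ 𝐂 R :=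
    inf_le_inf_right _ (sup_le_sup_right Core.pPrimeCore_le_pPrimePCore _)
  have hq : PQuo p ((pPrimeCore p G ⊔ R) ⊓ 𝐂 R) ((pPrimePCore p G ⊔ R) ⊓ 𝐂 R) := by
    refine PQuo.inf (fun x hx => ?_) _
    obtain ⟨k, hk⟩ := (pquo_of_isPGroup hR _).sup le_normalizer_of_normal x hx
    obtain ⟨l, hl⟩ := Core.exists_pow_mem_pPrimeCore_of_mem_pPrimePCore hk
    exact ⟨k + l, by rw [pow_add, pow_mul]; exact mem_sup_left hl⟩
  have h1 := h0.of_pquo hM hle hq (hf'.mono inf_le_right)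
  obtain ⟨D, hD⟩ := h1.exists_defG hM
  have e := hD.sup_eq_of_pquo hM h0 (hf'.mono inf_le_right) hle (inf_le_right.trans (nrm _)) hq
  refine h1.of_fixed_of_regular hM inf_le_right (nrm _) hf' hD.isPGroup hD.le hD.ne_zero
    fun x hx hr => hle ⟨mem_sup_left (mem_pPrimeCore_of_regular hc hR hx.1 hr ?_), hx.1⟩
  refine (inf_le_inf_right _ le_sup_left).trans (e.ge.trans (sup_le (inf_le_left.trans
    (sup_le_sup_left ?_ _)) (le_sup_of_le_right ?_)))
  · exact fun y hy => mem_centralizer_singleton_iff.2 (hx.1 y hy)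
  · exact fun y hy => mem_centralizer_singleton_iff.2 (hx.2 y hy)

theorem Blk.top_of_constrained (hM : IsPModular p M) (hc : IsPConstrained p G)
    (h : Blk (pPrimeCore p G) ε) (hf : IsFixed ⊤ ε) : Blk ⊤ ε := by
  have := h.blk_brauer_of_constrained hM hc hf (R := ⊥) IsPGroup.of_bot
  rwa [brauer_bot, coe_bot, centralizer_eq_top_iff_subset.2 (by simp)] at this

theorem Blk.defG_of_constrained (hM : IsPModular p M) (hc : IsPConstrained p G)
    (h : Blk (pPrimeCore p G) ε) (hf : IsFixed ⊤ ε) (hR : Syl p R ⊤) : DefG p ⊤ ε R := by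
  obtain ⟨D, hD⟩ := (h.top_of_constrained hM hc hf).exists_defG hM
  exact hD.of_card_le hf le_top hR.isPGroup
    (h.blk_brauer_of_constrained hM hc hf hR.isPGroup).ne_zero (hR.card_le hD.isPGroup le_top)

omit [Fact p.Prime] in
theorem mem_iff_over_of_eq [N.Normal] {B : Set (IrrCharacter G)} {b : Set (IrrCharacter N)}
    (hB : IsPBlock M B) (hb : IsPBlock M b) (e : eB M B = EB M b) (χ : IrrCharacter G) :
    χ ∈ B ↔ ∃ θ ∈ b, Over N.subtype χ.1 θ.1 := by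
  have h0 : eB M B * EB M b ≠ 0 := by
    rw [← e, (blk_top_eB hB).idem]; exact (blk_top_eB hB).ne_zero
  refine ⟨exists_over_of_cover hB hb h0, fun ⟨θ, hθ, ho⟩ => ?_⟩
  obtain ⟨ψ, hψ, ho'⟩ := exists_over_of_covered hB hb h0 hθ
  exact ho'.mem_of_supp hB.isBlockUnion (e ▸ (cenIn_EB b).supp) ho hψ

omit [Fact p.Prime] in
theorem isFixed_EB_singleton [hN : N.Normal] {θ : IrrCharacter N} (hθ : IsPBlock M {θ})
    (h : ∀ (g : G) (n : N), θ.1 ⟨g * n * g⁻¹, hN.conj_mem n n.2 g⟩ = θ.1 n) :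
    IsFixed ⊤ (EB M {θ}) := isFixed_iff_cjA.2 fun g _ => cjA_EB_of_fix hθ rfl (h g)

theorem block_over_invariant (hM : IsPModular p M) (hc : IsPConstrained p G)
    (hK : K = pPrimeCore p G) [hN : K.Normal] {θ : IrrCharacter K}
    (h : ∀ (g : G) (n : K), θ.1 ⟨g * n * g⁻¹, hN.conj_mem n n.2 g⟩ = θ.1 n)
    {B : Set (IrrCharacter G)} (hB : ∀ χ, χ ∈ B ↔ Over K.subtype χ.1 θ.1) :
    IsPBlock M B ∧ eB M B = EB M {θ} ∧ (∀ R, Syl p R ⊤ → DefG p ⊤ (eB M B) R) ∧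
      ∀ R : Subgroup G, IsPGroup p R → Blk (𝐂 R) (brauer R (eB M B)) := by
  subst hK
  have hθ := isPBlock_singleton_of_not_dvd hM (Core.not_dvd_card_pPrimeCore Fact.out) θ
  have hf := isFixed_EB_singleton hθ h
  obtain ⟨B', hB', e⟩ := ((blk_EB hθ).top_of_constrained hM hc hf).exists_eq_top
  have : B = B' := Set.ext fun χ => by
    rw [hB, mem_iff_over_of_eq hB' hθ e.symm]; simp
  subst this
  exact ⟨hB', e.symm, fun R hR => e ▸ (blk_EB hθ).defG_of_constrained hM hc hf hR,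
    fun R hR => e ▸ (blk_EB hθ).blk_brauer_of_constrained hM hc hf hR⟩

end Cfsg.Lib.Block2
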