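import Cfsg.Agent.Lib.Block2.StarP
import Cfsg.Agent.Lib.Block.Principal
import Cfsg.Agent.Lib.Core.PiCore

/-! Normal `p'`-subgroups in the kernel of a block, along inclusions of Brauer pairs. -/

set_option autoImplicit false
set_option linter.dupNamespace false
set_option linter.unusedSectionVars false
set_option linter.style.haveILetI false

open Cfsg Cfsg.Lib.Block Cfsg.Lib.Block2 Cfsg.Lib.Char Cfsg.Lib.Amalg MonoidAlgebra Subgroup
open scoped ComplexConjugate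

namespace Cfsg.Lib.Block2

variable {G : Type*} [Group G] [Finite G] {p : ℕ} {M : Ideal AlgInt} [M.IsMaximal]
variable {H K L Q R P : Subgroup G} {φ ψ ε η : MonoidAlgebra (resField M) G}

theorem avgN_mul_eq {A : MonoidAlgebra ℂ G} (h : ∀ x ∈ K, single x (1 : ℂ) * A = A) :
    avgN K * A = A := by
  classical
  letI := Fintype.ofFinite G
  have e : avgN K = ∑ g, (avgN K).coeff g • single g (1 : ℂ) := eq_sum_single _
  rw [e, Finset.sum_mul]
  have : ∀ g, ((avgN K).coeff g • single g (1 : ℂ)) * A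
      = (if g ∈ K then (Nat.card K : ℂ)⁻¹ else 0) • A := by
    intro g
    by_cases hg : g ∈ K
    · rw [smul_mul_assoc, h g hg, coeff_avgN_of_mem hg, if_pos hg]
    · rw [coeff_avgN_of_notMem hg, if_neg hg, zero_smul, zero_smul, zero_mul]
  simp_rw [this]
  rw [← Finset.sum_smul, ← Finset.sum_filter, Finset.sum_const, nsmul_eq_mul]
  have hc : ((Finset.univ.filter (· ∈ K)).card : ℂ) = Nat.card K := by
    rw [Nat.card_eq_fintype_card, Fintype.card_subtype]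
  rw [hc, mul_inv_cancel₀ (Nat.cast_ne_zero.2 Nat.card_pos.ne'), one_smul]

theorem avgN_mul_avgN (h : L ≤ K) : avgN L * avgN K = avgN K :=
  avgN_mul_eq fun _ hx => single_mul_avgN (h hx)

theorem supp_avgN : Supp K (avgN K) := fun _ hg => coeff_avgN_of_notMem hg

theorem isFixed_avgN (h : H ≤ 𝐍 K) : IsFixed H (avgN K) := by
  refine (isFixed_setSum fun x hx g => ?_).smul _
  exact (mem_normalizer_iff.1 (h hx) g).symm

theorem IB_le_charKer (hle : K ≤ H) (h : H ≤ 𝐍 K) :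
    IB {χ : IrrCharacter H | K.subgroupOf H ≤ charKer (χ : H → ℂ)} = avgN K := by
  haveI : (K.subgroupOf H).Normal := (normal_subgroupOf_iff_le_normalizer hle).2 h
  rw [IB, idem_le_charKer]
  apply ga_ext
  intro g
  by_cases hg : g ∈ H
  · rw [coeff_incl_of_mem _ hg]
    by_cases hK : g ∈ K
    · rw [coeff_avgN_of_mem hK, coeff_avgN_of_mem (by exact hK),
        Nat.card_congr (subgroupOfEquivOfLe hle).toEquiv]
    · rw [coeff_avgN_of_notMem hK, coeff_avgN_of_notMem (by exact hK)]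
  · rw [coeff_incl_of_notMem _ hg, coeff_avgN_of_notMem fun hK => hg (hle hK)]

variable (M) in
/-- The principal idempotent of a `p'`-subgroup. -/
noncomputable def eK (K : Subgroup G) : MonoidAlgebra (resField M) G := redA M (avgN K)

theorem coeff_eK_of_mem {g : G} (hg : g ∈ K) :
    (eK M K).coeff g = red M (Nat.card K : ℂ)⁻¹ := by
  rw [eK, coeff_redA, coeff_avgN_of_mem hg]

theorem supp_eK : Supp K (eK M K) := fun g hg => by
  rw [eK, coeff_redA, coeff_avgN_of_notMem hg, red_zero]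

theorem isFixed_eK (h : H ≤ 𝐍 K) : IsFixed H (eK M K) := (isFixed_avgN h).redA

theorem cenIn_eK (hle : K ≤ H) (h : H ≤ 𝐍 K) : CenIn H (eK M K) :=
  ⟨supp_eK.mono hle, isFixed_eK h⟩

theorem eK_mul_eK (hM : IsPModular p M) (hK : ¬ p ∣ Nat.card K) (h : L ≤ K) :
    eK M L * eK M K = eK M K := by
  rw [eK, eK, ← redA_mul (isInt_avgN hM fun h' => hK (h'.trans (card_dvd_of_le h)))
    (isInt_avgN hM hK), avgN_mul_avgN h]

theorem eK_mul_of_le (hM : IsPModular p M) (hK : ¬ p ∣ Nat.card K) (h : L ≤ K)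
    (e : eK M K * φ = φ) : eK M L * φ = φ := by
  rw [← e, ← mul_assoc, eK_mul_eK hM hK h]

theorem single_mul_eK (hM : IsPModular p M) (hK : ¬ p ∣ Nat.card K) {x : G} (hx : x ∈ K) :
    single x 1 * eK M K = eK M K := by
  have := congrArg (redA M) (single_mul_avgN hx)
  rwa [redA_mul (isInt_single _ memLocalRing_one) (isInt_avgN hM hK), redA_single, red_one] at this

theorem cjA_eK (x : G) (K : Subgroup G) : cjA x (eK M K) = eK M (cj x K) := by
  apply ga_ext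
  intro g
  rw [coeff_cjA]
  by_cases hg : g ∈ cj x K
  · rw [coeff_eK_of_mem hg, coeff_eK_of_mem (mem_cj.1 hg), card_cj]
  · rw [supp_eK g hg, supp_eK _ fun h => hg (mem_cj.2 h)]

theorem EB_le_charKer (hle : K ≤ H) (h : H ≤ 𝐍 K) :
    EB M {χ : IrrCharacter H | K.subgroupOf H ≤ charKer (χ : H → ℂ)} = eK M K := by
  rw [← redA_IB, IB_le_charKer hle h, eK]

theorem eK_mul_EB_iff (hM : IsPModular p M) (hK : ¬ p ∣ Nat.card K) (hle : K ≤ H) (h : H ≤ 𝐍 K)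
    {b : Set (IrrCharacter H)} (hb : IsBlockUnion M b) :
    eK M K * EB M b = EB M b ↔ ∀ χ ∈ b, K.subgroupOf H ≤ charKer (χ : H → ℂ) := by
  haveI : (K.subgroupOf H).Normal := (normal_subgroupOf_iff_le_normalizer hle).2 h
  have hU := isBlockUnion_le_charKer hM (K.subgroupOf H)
    (by rwa [Nat.card_congr (subgroupOfEquivOfLe hle).toEquiv])
  rw [← EB_le_charKer hle h, EB_mul_EB hU hb]
  constructor
  · intro e χ hχ
    rw [← EB_inj (hU.inter hb) hb e] at hχ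
    exact hχ.1
  · intro e
    congr 1
    exact Set.inter_eq_right.2 e

theorem lft_mul_single_of_eK (hM : IsPModular p M) (hK : ¬ p ∣ Nat.card K) (hle : K ≤ H)
    (h : H ≤ 𝐍 K) (hφ : Blk H φ) (e : eK M K * φ = φ) {x : G} (hx : x ∈ K) :
    lft H φ * single x 1 = lft H φ := by
  rw [← hφ.EB_bset, eK_mul_EB_iff hM hK hle h isBlockUnion_bset] at e
  have e1 : avgN K * lft H φ = lft H φ := by
    rw [← IB_le_charKer hle h, lft, IB_mul_IB]
    congr 1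
    exact Set.inter_eq_right.2 e
  rw [cenIn_lft.comm (supp_single (hle hx) 1), ← e1, ← mul_assoc, single_mul_avgN hx]

variable [Fact p.Prime]

theorem brauer_eK (hM : IsPModular p M) (hK : ¬ p ∣ Nat.card K) (hR : IsPGroup p R)
    (h : R ≤ 𝐍 K) : brauer R (eK M K) = eK M (K ⊓ 𝐂 R) := by
  have hK' : ¬ p ∣ Nat.card (K ⊓ 𝐂 R : Subgroup G) := fun h' =>
    hK (h'.trans (card_dvd_of_le inf_le_left))
  have hid := brauer_idem hM hR (isFixed_eK (M := M) h) (eK_mul_eK hM hK le_rfl)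
  set c : resField M := red M (Nat.card K : ℂ)⁻¹ * red M (Nat.card (K ⊓ 𝐂 R : Subgroup G) : ℂ)
  have hne : ∀ n : ℕ, ¬ p ∣ n → red M (n : ℂ) * red M (n : ℂ)⁻¹ = 1 := fun n hn => by
    rw [← red_mul (memLocalRing_natCast n) (memLocalRing_inv_natCast hM hn),
      mul_inv_cancel₀ (Nat.cast_ne_zero.2 fun h0 => hn (by rw [h0]; exact dvd_zero p)), red_one]
  have e : brauer R (eK M K) = c • eK M (K ⊓ 𝐂 R) := by
    apply ga_ext
    intro g
    rw [coeff_smul']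
    by_cases hg : g ∈ 𝐂 R
    · rw [coeff_trunc_of_mem _ hg]
      by_cases hK : g ∈ K
      · rw [coeff_eK_of_mem hK, coeff_eK_of_mem (K := K ⊓ 𝐂 R) ⟨hK, hg⟩, mul_assoc, hne _ hK',
          mul_one]
      · rw [supp_eK g hK, supp_eK (K := K ⊓ 𝐂 R) g fun h => hK h.1, mul_zero]
    · rw [coeff_trunc_of_notMem _ hg, supp_eK (K := K ⊓ 𝐂 R) g fun h => hg h.2, mul_zero]
  have hc : c ≠ 0 := mul_ne_zero (right_ne_zero_of_mul_eq_one (hne _ hK))
    (left_ne_zero_of_mul_eq_one (hne _ hK'))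
  rw [e, smul_mul_smul_comm, eK_mul_eK hM hK' le_rfl] at hid
  have h1 := congrArg (fun a => a.coeff 1) hid
  simp only [coeff_smul', coeff_eK_of_mem (one_mem _)] at h1
  have h2 : c = 1 := by
    have := mul_right_cancel₀ (right_ne_zero_of_mul_eq_one (hne _ hK')) h1
    exact mul_left_cancel₀ hc (this.trans (mul_one c).symm)
  rw [e, h2, one_smul]

theorem SLE.eK_mul_iff (hM : IsPModular p M) (h : SLE p H Q φ P ε) (hK : ¬ p ∣ Nat.card K)
    (hle : K ≤ H) (h1 : H ⊓ 𝐂 Q ≤ 𝐍 K) (h2 : P ≤ 𝐍 K) :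
    eK M (K ⊓ 𝐂 Q) * φ = φ ↔ eK M (K ⊓ 𝐂 P) * ε = ε := by
  rw [← brauer_eK hM hK h.bp.isPGroup (h.le.trans h2), ← brauer_eK hM hK h.bp'.isPGroup h2]
  exact h.brauer_mul_iff hM (supp_eK.mono hle) (eK_mul_eK hM hK le_rfl) (isFixed_eK h1)
    (isFixed_eK h2)

theorem BPO.eK_mul_iff (hM : IsPModular p M) (h : BPO p H η Q φ) (hK : ¬ p ∣ Nat.card K)
    (hle : K ≤ H) (h1 : H ≤ 𝐍 K) : eK M K * η = η ↔ eK M (K ⊓ 𝐂 Q) * φ = φ := by
  have := ((bpo_iff_sle_bot hM).1 h).eK_mul_iff hM hK hle (inf_le_left.trans h1)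
    (h.bp.le.trans h1)
  rwa [show K ⊓ 𝐂 (⊥ : Subgroup G) = K from inf_eq_left.2 fun x _ => by
    simp [mem_centralizer_iff]] at this

theorem le_cent_of_not_dvd (hP : IsPGroup p P) (hK : ¬ p ∣ Nat.card K) (h1 : K ≤ 𝐍 P)
    (h2 : P ≤ 𝐍 K) : K ≤ 𝐂 P := by
  intro x hx
  rw [mem_centralizer_iff]
  intro y hy
  have a1 : y * x * y⁻¹ * x⁻¹ ∈ K :=
    mul_mem ((mem_normalizer_iff.1 (h2 hy) x).1 hx) (inv_mem hx)
  have a2 : y * x * y⁻¹ * x⁻¹ ∈ P := by
    have := mul_mem hy ((mem_normalizer_iff.1 (h1 hx) y⁻¹).1 (inv_mem hy))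
    simpa only [mul_assoc] using this
  have a3 : K ⊓ P = ⊥ := isPGroup_eq_bot_of_not_dvd (hP.to_le inf_le_right) inf_le_left hK
  have a4 : y * x * y⁻¹ * x⁻¹ = 1 := by
    rw [← mem_bot, ← a3]; exact ⟨a1, a2⟩
  rw [mul_inv_eq_one, mul_inv_eq_iff_eq_mul] at a4
  exact a4

section pi
variable {σ : Set ℕ}

theorem not_dvd_card_piCoreOf (hσ : p ∉ σ) (H : Subgroup G) : ¬ p ∣ Nat.card (piCoreOf σ H) :=
  fun h => hσ (Core.isPi_piCoreOf H p Fact.out h)

theorem NSub.eK_piCoreOf_iff (hM : IsPModular p M) (hσ : p ∉ σ) (h : NSub p ⊤ Q φ R ψ) :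
    eK M (piCoreOf σ (𝐂 Q)) * φ = φ ↔ eK M (piCoreOf σ (𝐂 Q) ⊓ 𝐂 R) * ψ = ψ := by
  have := h.sle.eK_mul_iff hM (not_dvd_card_piCoreOf hσ (𝐂 Q)) le_top
    (inf_le_right.trans (Core.le_normalizer_piCoreOf _))
    (h.norm.trans (norm_le_norm_cent.trans (Core.normalizer_le_normalizer_piCoreOf _)))
  rwa [inf_eq_left.2 (show piCoreOf σ (𝐂 Q) ≤ 𝐂 Q from Core.piCoreOf_le _)] at this

/-- The kernel condition descends along inclusions of Brauer pairs. -/
theorem SLE.eK_down (hM : IsPModular p M) (hσ : p ∉ σ) (h : SLE p ⊤ Q φ P ε)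
    (e : eK M (piCoreOf σ (𝐂 P)) * ε = ε) : eK M (piCoreOf σ (𝐂 Q)) * φ = φ := by
  induction h with
  | refl _ => exact e
  | head h1 _ ih =>
    exact (h1.eK_piCoreOf_iff hM hσ).2 (eK_mul_of_le hM (not_dvd_card_piCoreOf hσ _)
      (Core.piCoreOf_inf_le (centralizer_le (SetLike.coe_mono h1.le))) (ih e))

/-- The kernel condition ascends when all `σ`-elements lie in the `σ`-core. -/
theorem SLE.eK_up (hM : IsPModular p M) (hσ : p ∉ σ) (h : SLE p ⊤ Q φ P ε)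
    (hc : ∀ x ∈ 𝐂 Q, Core.IsPiNumber σ (orderOf x) → x ∈ piCoreOf σ (𝐂 Q))
    (e : eK M (piCoreOf σ (𝐂 Q)) * φ = φ) : eK M (piCoreOf σ (𝐂 P)) * ε = ε := by
  induction h with
  | refl _ => exact e
  | @head Q φ R ψ P ε h1 _ ih =>
    have hle : 𝐂 R ≤ 𝐂 Q := centralizer_le (SetLike.coe_mono h1.le)
    have h2 : piCoreOf σ (𝐂 R) = piCoreOf σ (𝐂 Q) ⊓ 𝐂 R := by
      refine le_antisymm (fun x hx => ⟨hc x (hle (Core.piCoreOf_le _ hx))
        (Core.isPi_orderOf_of_mem (Core.isPi_piCoreOf _) hx), Core.piCoreOf_le _ hx⟩)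
        (Core.piCoreOf_inf_le hle)
    refine ih (fun x hx hx' => ?_) ?_
    · rw [h2]; exact ⟨hc x (hle hx) hx', hx⟩
    · rw [h2]; exact (h1.eK_piCoreOf_iff hM hσ).1 e

omit [Fact p.Prime] in
theorem eK_piCoreOf_cjA (x : G) (e : eK M (piCoreOf σ (𝐂 Q)) * φ = φ) :
    eK M (piCoreOf σ (𝐂 (cj x Q))) * cjA x φ = cjA x φ := by
  have := congrArg (cjA x) e
  rwa [map_mul, cjA_eK, show cj x (piCoreOf σ (𝐂 Q)) = piCoreOf σ (cj x (𝐂 Q)) from
    Core.map_conj_piCoreOf x _, cj_centralizer] at this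

theorem piCoreOf_norm_eq (hσ : p ∉ σ) (hP : IsPGroup p P) :
    piCoreOf σ (𝐍 P) = piCoreOf σ (𝐂 P) := by
  have h1 : 𝐂 P ≤ 𝐍 P := centralizer_le_normalizer _
  refine le_antisymm (le_trans (le_inf le_rfl ?_) (Core.piCoreOf_inf_le h1))
    (Core.piCoreOf_le_piCoreOf h1 norm_le_norm_cent)
  exact le_cent_of_not_dvd hP (not_dvd_card_piCoreOf hσ _) (Core.piCoreOf_le _)
    (le_normalizer.trans (Core.le_normalizer_piCoreOf _))

/-- The kernel condition for the Brauer correspondent, in terms of a maximal pair. -/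
theorem MaxP.eK_iff (hM : IsPModular p M) (hσ : p ∉ σ) (hm : MaxP p ⊤ η P ε) :
    eK M (piCoreOf σ (𝐍 P)) * brauer P η = brauer P η ↔ eK M (piCoreOf σ (𝐂 P)) * ε = ε := by
  have hi := (hm.defG.ind_brauer hM hm.blk').1
  rw [top_inf_eq] at hi
  have hb : BPO p (𝐍 P) (brauer P η) P ε :=
    ⟨hi.blk, hm.bp.of_le le_normalizer (inf_le_right.trans (centralizer_le_normalizer _)) le_top,
      by rw [brauer_brauer_of_le le_rfl]; exact hm.bpo.eq⟩
  rw [hb.eK_mul_iff hM (not_dvd_card_piCoreOf hσ _) (Core.piCoreOf_le _)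
    (Core.le_normalizer_piCoreOf _), piCoreOf_norm_eq hσ hm.bp.isPGroup,
    inf_eq_left.2 (show piCoreOf σ (𝐂 P) ≤ 𝐂 P from Core.piCoreOf_le _)]

theorem MaxP.eK_of_bpo (hM : IsPModular p M) (hσ : p ∉ σ) (hm : MaxP p ⊤ η P ε)
    (e : eK M (piCoreOf σ (𝐂 P)) * ε = ε) (h : BPO p ⊤ η Q φ) :
    eK M (piCoreOf σ (𝐂 Q)) * φ = φ := by
  obtain ⟨x, -, hx⟩ := hm.exists_conj_sle hM h
  have := eK_piCoreOf_cjA x⁻¹ (hx.eK_down hM hσ e)
  rwa [cj_inv_cj, cjA_inv_cjA] at this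

theorem MaxP.eK_of_bpo_up (hM : IsPModular p M) (hσ : p ∉ σ) (hm : MaxP p ⊤ η P ε)
    (h : BPO p ⊤ η Q φ) (hc : ∀ x ∈ 𝐂 Q, Core.IsPiNumber σ (orderOf x) → x ∈ piCoreOf σ (𝐂 Q))
    (e : eK M (piCoreOf σ (𝐂 Q)) * φ = φ) : eK M (piCoreOf σ (𝐂 P)) * ε = ε := by
  obtain ⟨P', ε', hm', hs⟩ := h.exists_maxP_ge hM
  obtain ⟨x, -, rfl, rfl⟩ := hm'.exists_conj hM hm
  exact eK_piCoreOf_cjA x (hs.eK_up hM hσ hc e)

theorem eK_piCoreOf_mul_EB_iff (hM : IsPModular p M) (hσ : p ∉ σ) {b : Set (IrrCharacter H)}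
    (hb : IsBlockUnion M b) :
    eK M (piCoreOf σ H) * EB M b = EB M b ↔ ∀ n : H, n ∈ piCore σ H → n ∈ blockKer b := by
  rw [eK_mul_EB_iff hM (not_dvd_card_piCoreOf hσ H) (Core.piCoreOf_le _)
    (Core.le_normalizer_piCoreOf _) hb, piCoreOf, map_subtype_subgroupOf]
  exact ⟨fun h n hn χ hχ => χ.2.mem_charKer.1 (h χ hχ hn),
    fun h χ hχ n hn => χ.2.mem_charKer.2 (h n hn χ hχ)⟩

theorem MaxP.blockKer_iff (hM : IsPModular p M) (hσ : p ∉ σ) {B : Set (IrrCharacter G)}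
    (hm : MaxP p ⊤ (eB M B) P ε) {b : Set (IrrCharacter (𝐍 P))}
    (hb : IsInducedBlock M (𝐍 P) b B) (hD : IsDefectGroup p M b (P.subgroupOf (𝐍 P))) :
    (∀ n : 𝐍 P, n ∈ piCore σ (𝐍 P) → n ∈ blockKer b) ↔ eK M (piCoreOf σ (𝐂 P)) * ε = ε := by
  have h1 := (isDefectGroup_subgroupOf_iff hM hb.1 le_normalizer).1 hD
  have h2 : brauer P (eB M B) = EB M b :=
    Ind.brauer_eq hM (H := ⊤) (by rw [top_inf_eq]; exact hb.ind) (by rw [top_inf_eq]; exact h1)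
  rw [← hm.eK_iff hM hσ, h2, eK_piCoreOf_mul_EB_iff hM hσ hb.1.isBlockUnion]

end pi

end Cfsg.Lib.Block2
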