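import Cfsg.Agent.Lib.SF.JT
import Cfsg.Agent.Lib.SF.GStr2
import Cfsg.Agent.Lib.SF.JR3
import Cfsg.Agent.Lib.Linear.OutPSL
import Cfsg.Agent.Lib.Layer.LBalance
import Cfsg.Agent.Lib.Mult.Hopf
import Cfsg.Agent.Lib.Hall.ClassSize
import Cfsg.Agent.S2086

/-! `S₃`-free groups generated by 2-elements. -/

set_option autoImplicit false

namespace Cfsg.Lib.Block2.R3

open Subgroup Cfsg.Lib.Core Cfsg.Lib.Amalg Cfsg.Lib.Linear Cfsg.Lib.Known Cfsg.Lib.Fus2 Cfsg.Lib.SF

universe u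

local notation "S₃" => Equiv.Perm (Fin 3)

section

variable {F : Type*} [Field F]

theorem cube_scalar (h3 : (3 : F) = 0) {g s : Matrix (Fin 2) (Fin 2) F} (hs : s.det = 1) (h : s ^ 3 = 1)
    (h1 : s ≠ 1) (hc : g * s = s * g) : g ^ 3 = Matrix.scalar _ (-(g 0 0 + g 1 1) ^ 3) := by
  have e := fun i j => congrFun (congrFun h i) j
  have e0 := e 0 0; have e3 := e 1 1
  have f := fun i j => congrFun (congrFun hc i) j
  have f0 := f 0 0; have f1 := f 0 1; have f2 := f 1 0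
  have h2 : ¬ (s 0 0 = 1 ∧ s 0 1 = 0 ∧ s 1 0 = 0 ∧ s 1 1 = 1) := fun e => h1 (by
    ext i j; fin_cases i <;> fin_cases j <;> simp [e])
  suffices h5 : (g 0 0 - g 1 1) ^ 2 + 4 * g 0 1 * g 1 0 = 0 by
    ext i j
    fin_cases i <;> fin_cases j <;> simp [pow_succ, Matrix.mul_apply, Fin.sum_univ_two]
    all_goals grind
  simp [pow_succ, Matrix.mul_apply, Fin.sum_univ_two, Matrix.det_fin_two] at e0 e3 f0 f1 f2 hs
  generalize s 0 0 = p, s 0 1 = q, s 1 0 = r, s 1 1 = t, g 0 0 = a, g 0 1 = b, g 1 0 = c, g 1 1 = d at *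
  have h4 : p + t + 1 = 0 := by
    refine (pow_eq_zero_iff three_ne_zero).1 ?_
    linear_combination e0 + e3 + (3 * (p + t)) * hs + (1 + 2 * (p + t) + (p + t) ^ 2) * h3
  by_contra h5
  have hq : q = 0 := by
    refine (pow_eq_zero_iff two_ne_zero).1 ((mul_eq_zero.1 ?_).resolve_left h5)
    grind
  have hr : r = 0 := by
    refine (pow_eq_zero_iff two_ne_zero).1 ((mul_eq_zero.1 ?_).resolve_left h5)
    grind
  have hp : p = 1 := by
    refine sub_eq_zero.1 ((pow_eq_zero_iff two_ne_zero).1 ?_)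
    grind
  exact h2 ⟨hp, hq, hr, by grind⟩

theorem eq_one_of_pows {X : Type*} [Group X] {a : X} {k : ℕ} (h2 : a ^ 2 ^ k = 1) (h3 : a ^ 3 = 1) : a = 1 :=
  orderOf_eq_one_iff.1 (Nat.eq_one_of_dvd_coprimes (Nat.Coprime.pow_left k (by decide))
    (orderOf_dvd_of_pow_eq_one h2) (orderOf_dvd_of_pow_eq_one h3))

theorem aut_eq_one [Finite F] {n k : ℕ} (hF : Nat.card F = 3 ^ (2 * n + 1)) {α : MulAut (PSL2 F)}
    (hα : α ^ 2 ^ k = 1) {x : PSL2 F} (h1 : x ≠ 1) (h3 : x ^ 3 = 1) (h : α x = x) : α = 1 := by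
  have := Fintype.ofFinite F
  have : _root_.CharP F 3 := charP_of_card_eq_prime_pow (Nat.card_eq_fintype_card.symm.trans hF)
  have h0 : (3 : F) = 0 := by exact_mod_cast CharP.cast_eq_zero F 3
  obtain ⟨Φ, -, h4⟩ := exists_autField_two (F := F)
  obtain ⟨g, rfl⟩ : α ∈ (pslConj (Fin 2) F).range := h4 ▸ orderOf_eq_one_iff.1 (Nat.eq_one_of_dvd_coprimes
    (Nat.Coprime.pow_left k (Nat.coprime_two_left.2 ⟨n, rfl⟩)) (orderOf_dvd_of_pow_eq_one (by
      rw [← map_pow, hα, map_one])) (CAut.card_ringAut' hF ▸ orderOf_dvd_natCard (Φ α)))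
  obtain ⟨s, rfl, hs⟩ : ∃ s : SL2 F, (s : PSL2 F) = x ∧ s ^ 3 = 1 := by
    obtain ⟨s, rfl⟩ := QuotientGroup.mk_surjective x
    rcases psl2_mk_eq_mk_iff.1 (show ((1 : SL2 F) : PSL2 F) = (s ^ 3 : SL2 F) from h3.symm) with e | e
    · exact ⟨s, rfl, e⟩
    · exact ⟨-s, psl2_mk_eq_mk_iff.2 (.inr (neg_neg s).symm), by rw [Odd.neg_pow (by decide), e, neg_neg]⟩
  have h5 : slConj _ F g s = s := by
    rcases psl2_mk_eq_mk_iff.1 ((pslConj_mk g s).symm.trans h) with e | e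
    · exact e.symm
    · have h5 := congrArg (· ^ 3) e
      simp only [Odd.neg_pow (show Odd 3 by decide), ← map_pow, hs, map_one] at h5
      rw [← neg_one_mul, ← h5, one_mul] at e
      exact e.symm
  have h6 := cube_scalar h0 (g := g.1) s.2 (congrArg Subtype.val hs) (fun e => h1 (by
    rw [show s = 1 from Subtype.ext e]; rfl)) ((Units.mul_inv_eq_iff_eq_mul g).1 (congrArg Subtype.val h5))
  refine eq_one_of_pows hα ?_
  rw [← map_pow]
  refine pslConj_eq_one_of_mem_center (mem_center_iff.2 fun y => Units.ext ?_)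
  rw [Units.val_mul, Units.val_mul, Units.val_pow_eq_pow_val, h6]
  exact (Matrix.scalar_commute _ (fun _ => Commute.all _ _) _).eq.symm

end

/-- prepending a factor to a finite product -/
def consMul (A : ℕ → Type*) [∀ n, Group (A n)] (m : ℕ) {k : ℕ} (f : Fin k → ℕ) :
    A m × (∀ i, A (f i)) ≃* ∀ i : Fin (k + 1), A ((Fin.cons m f : Fin (k + 1) → ℕ) i) :=
  { Fin.consEquiv fun i : Fin (k + 1) => A ((Fin.cons m f : Fin (k + 1) → ℕ) i) with
    map_mul' := fun _ _ => funext (Fin.cases rfl fun _ => rfl) }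

/-- generated by 2-elements -/
def Gen2 (G : Type*) [Group G] : Prop := closure {g : G | ∃ k : ℕ, orderOf g = 2 ^ k} = ⊤

theorem Gen2.eq_top {G : Type*} [Group G] (h : Gen2 G) {K : Subgroup G} (hK : ∀ g k, g ^ 2 ^ k = 1 → g ∈ K) :
    K = ⊤ :=
  eq_top_iff.2 (h.ge.trans ((closure_le K).2 fun g ⟨k, e⟩ => hK g k (e ▸ pow_orderOf_eq_one g)))

theorem Gen2.map {G H : Type*} [Group G] [Group H] (h : Gen2 G) {f : G →* H} (hf : Function.Surjective f) :
    Gen2 H := by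
  have := h.eq_top (K := (closure {g : H | ∃ k : ℕ, orderOf g = 2 ^ k}).comap f) fun g k e => by
    obtain ⟨j, -, hj⟩ := (Nat.dvd_prime_pow Nat.prime_two).1 (orderOf_dvd_of_pow_eq_one (x := f g) (n := 2 ^ k)
      (by rw [← map_pow, e, map_one]))
    exact subset_closure ⟨j, hj⟩
  exact eq_top_iff.2 fun y _ => by obtain ⟨x, rfl⟩ := hf y; exact this.ge (mem_top x)

variable {G : Type u} [Group G] [Finite G]

theorem not_three_of_suz {X : Type*} [Group X] (h : IsSuzuki X) : ¬ 3 ∣ Nat.card X := by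
  obtain ⟨-, m, -, e⟩ := h
  have : 2 ^ (2 * m + 1) % 3 = 2 := by rw [pow_succ, pow_mul, Nat.mul_mod, Nat.pow_mod]; simp
  rw [e]
  generalize 2 ^ (2 * m + 1) = q at this
  obtain ⟨c, rfl⟩ : ∃ c, q = 3 * c + 2 := ⟨q / 3, by omega⟩
  rw [Nat.prime_three.dvd_mul, Nat.prime_three.dvd_mul, show (3 * c + 2) ^ 2 = 3 * (3 * c ^ 2 + 4 * c + 1) + 1 by ring]
  omega

theorem comp_three (hO : pPrimeCore 3 G = ⊥) {K : Subgroup G} (hK : IsComponent K) : ¬ (Nat.card K).Coprime 3 :=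
  fun e => Layer.IsComponent.ne_bot hK (eq_bot_iff.2 (hO ▸ Core.le_pPrimeCore_of_isSubnormal hK.1 e))

theorem comp_psl (hO : pPrimeCore 3 G = ⊥) (h3 : ¬ Involves S₃ G) {K : Subgroup G} (hK : IsComponent K) :
    K ⊓ 𝐂 K = ⊥ ∧ ∃ n, 1 ≤ n ∧ Nonempty (K ≃* PSL2 (GaloisField 3 (2 * n + 1))) := by
  have h1 := hK.2.2
  have hc := Layer.IsQuasisimple.quotient_center_not_isMulCommutative hK.2
  have h4 : IsPGroup 3 (center K) := ((isPGroup_pCore 3 G).to_le ((Layer.map_subtype_center K).le.trans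
    (Layer.inf_centralizer_le_pCore hO hK.1))).of_equiv (equivMapOfInjective _ _ K.subtype_injective).symm
  rcases suz_of_not_S3 gsm jrs hc fun e => h3 (involves_of_subgroup (involves_of_quotient _ e)) with
    h | ⟨F, _, _, n, hF, ⟨e⟩⟩
  · exact (comp_three hO hK (Layer.coprime_card_of_isPerfect_of_index_center hK.2.1 ((Nat.Prime.coprime_iff_not_dvd
      Nat.prime_three).2 (not_three_of_suz (BS.isSuzuki_of_iso h))).symm)).elim
  have hn : 1 ≤ n := Nat.pos_of_ne_zero fun e0 => by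
    have := isSolvable_PSL2 (F := F) (by rw [Nat.card_eq_fintype_card, hF, e0]; rfl)
    exact Small.not_isSolvable_of_simple hc (isSolvable_of_equiv e)
  have h5 : center K = ⊥ := by
    have h6 : 27 ≤ 3 ^ (2 * n + 1) := Nat.pow_le_pow_right (n := 3) (i := 3) (by decide) (by omega)
    obtain ⟨π, hπ⟩ := Mult.surj_of_stem (Agent.S2086.result hF 2 le_rfl (fun _ => by omega) (by simp; omega))
      (Mult.equiv_comp_stem (σ := QuotientGroup.mk' (center K)) ⟨QuotientGroup.mk'_surjective _,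
        (QuotientGroup.ker_mk' _).le, le_top.trans (Layer.IsQuasisimple.commutator_eq_top hK.2).ge⟩ e)
    have h7 := card_dvd_of_surjective π hπ
    rw [MonoidHom.ker_comp_of_injective _ _ e.injective, QuotientGroup.ker_mk', Nat.card_congr Multiplicative.toAdd,
      Nat.card_zmod] at h7
    obtain ⟨j, hj⟩ := h4.exists_card_eq
    exact card_eq_one.1 (Nat.eq_one_of_dvd_coprimes (Nat.Coprime.pow_right j (by decide))
      (h7.trans (Nat.gcd_dvd_left _ _)) hj.dvd)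
  refine ⟨?_, n, hn, (nonempty_psl_equiv_of_card_eq (F := F) (by
    rw [Nat.card_eq_fintype_card, hF, GaloisField.card 3 _ (by omega)])).map
      (((QuotientGroup.quotientBot.symm.trans (QuotientGroup.quotientMulEquivOfEq h5.symm)).trans e).trans)⟩
  rw [← Layer.map_subtype_center, h5, Subgroup.map_bot]

theorem comp_sup (hO : pPrimeCore 3 G = ⊥) (h3 : ¬ Involves S₃ G) (hg : Gen2 G) {K : Subgroup G}
    (hK : IsComponent K) : 𝐂 K ⊔ K = ⊤ := by
  obtain ⟨-, n, -, ⟨e⟩⟩ := comp_psl hO h3 hK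
  obtain ⟨R, hR⟩ := exists_syl 3 (layer G)
  have := Layer.layer_normal (G := G)
  have hc := comp_three hO hK
  have hs := hR.inf_normal (Layer.IsComponent.le_layer hK) (Layer.IsComponent.layer_le_normalizer hK)
  obtain ⟨y, hy⟩ := exists_prime_orderOf_dvd_card' (G := ↥(R ⊓ K)) 3 (hs.card_eq_pow ▸ dvd_pow_self 3
    (Nat.prime_three.factorization_pos_of_dvd Nat.card_pos.ne' (by
      by_contra h; exact hc ((Nat.Prime.coprime_iff_not_dvd Nat.prime_three).2 h).symm)).ne')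
  refine hg.eq_top fun g k hk => ?_
  obtain ⟨x, h1, h2⟩ := Hall.exists_lift_isPGroup (f := (QuotientGroup.mk' (layer G)).comp (𝐍 R).subtype)
    (fun z => by
      obtain ⟨z, rfl⟩ := QuotientGroup.mk_surjective z
      obtain ⟨a, ha, b, hb, rfl⟩ := hR.frattini_mem (g := z) (normalizer_eq_top (layer G) ▸ mem_top z)
      exact ⟨⟨b, hb⟩, by simp [(QuotientGroup.eq_one_iff a).2 ha]⟩) Nat.prime_two
    (isPGroup_zpowers_of_pow (x := (g : G ⧸ layer G)) (k := k) (by rw [← QuotientGroup.mk_pow, hk]; rfl))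
  obtain ⟨j, hj⟩ := isPGroup_iff_mem.1 h2 x (mem_zpowers x)
  have h4 := cent_of_not_S3 h3 hR.isPGroup (x := x.1) (k := j) (congrArg Subtype.val hj) x.2
  have h5 := Layer.IsComponent.cent_syl_le_norm hK hc hR h4
  have h6 := aut_eq_one (k := j) (GaloisField.card 3 _ (by omega))
    (α := MulAut.congr e (K.normalizerMonoidHom ⟨x, h5⟩)) (by
      rw [← map_pow, ← map_pow, show (⟨x, h5⟩ : 𝐍 K) ^ 2 ^ j = 1 from Subtype.ext (congrArg Subtype.val hj :),
        map_one, map_one]) (x := e ⟨y, y.2.2⟩) (fun h => by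
      rw [show y = 1 from Subtype.ext (congrArg Subtype.val (e.map_eq_one_iff.1 h) :), orderOf_one] at hy
      omega) (by
      rw [← map_pow]
      exact e.map_eq_one_iff.2 (Subtype.ext (congrArg Subtype.val (hy ▸ pow_orderOf_eq_one y) :))) (by
      simpa using Subtype.ext (mul_inv_eq_iff_eq_mul.2 (h4 y y.2.1).symm))
  rw [← mul_inv_cancel_left x.1 g]
  refine mul_mem (mem_sup_left fun z hz => ?_) (Layer.IsComponent.layer_le_cent_sup hK (QuotientGroup.eq.1 h1))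
  exact (mul_inv_eq_iff_eq_mul.1 (congrArg Subtype.val (DFunLike.congr_fun
    ((MulAut.congr e).map_eq_one_iff.1 h6) ⟨z, hz⟩))).symm

theorem prod_psl (n : ℕ) : ∀ (G : Type u) [Group G] [Finite G], Nat.card G = n → pPrimeCore 3 G = ⊥ →
    ¬ Involves S₃ G → Gen2 G → ∃ (k : ℕ) (f : Fin k → ℕ), (∀ i, 1 ≤ f i) ∧
      Nonempty (G ≃* ((i : Fin k) → PSL2 (GaloisField 3 (2 * f i + 1)))) := by
  induction n using Nat.strong_induction_on with | _ n ih =>
  intro G _ _ hn hO h3 hg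
  by_cases h : ∃ K : Subgroup G, IsComponent K
  · obtain ⟨K, hK⟩ := h
    obtain ⟨h1, m, hm, ⟨e⟩⟩ := comp_psl hO h3 hK
    have h2 := comp_sup hO h3 hg hK
    have : K.Normal := normalizer_eq_top_iff.1 (eq_top_iff.2 (h2.ge.trans (sup_le (centralizer_le_normalizer _)
      le_normalizer)))
    obtain ⟨e', -⟩ := SCl.exists_equiv_prod le_rfl h1 ((sup_comm _ _).trans h2)
    obtain ⟨k, f, hf, ⟨e2⟩⟩ := ih _ (hn ▸ Core.card_lt_of_ne_top fun e => Layer.IsComponent.ne_bot hK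
      (by rw [← h1, e, inf_top_eq])) (𝐂 K) rfl (pPrimeCore_eq_bot_of_normal hO _)
      (fun e => h3 (involves_of_subgroup e))
      (hg.map (f := (MonoidHom.snd K (𝐂 K)).comp e'.symm.toMonoidHom) (Prod.snd_surjective.comp e'.symm.surjective))
    exact ⟨k + 1, Fin.cons m f, Fin.cases hm hf, ⟨(e'.symm.trans (e.prodCongr e2)).trans
      (consMul (fun n => PSL2 (GaloisField 3 (2 * n + 1))) m f)⟩⟩
  · have h1 : 𝐂 (pCore 3 G) = ⊤ := hg.eq_top fun g k e =>
      cent_of_not_S3 h3 (isPGroup_pCore 3 G) e (normalizer_eq_top (pCore 3 G) ▸ mem_top g)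
    have h2 := Layer.le_fit_of_no_component (C := (⊤ : Subgroup G)) .top (fun L hL _ => h ⟨L, hL⟩) (by
      rw [inf_top_eq, Layer.fit_eq_pCore hO, commutator_eq_bot_iff_le_centralizer, h1])
    rw [Layer.fit_eq_pCore hO] at h2
    have h4 : (⊥ : Subgroup G) = ⊤ := hg.eq_top fun g k e => by
      obtain ⟨j, hj⟩ := isPGroup_iff_mem.1 (isPGroup_pCore 3 G) g (h2 (mem_top g))
      exact orderOf_eq_one_iff.1 (Nat.eq_one_of_dvd_coprimes (Nat.Coprime.pow k j (by decide))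
        (orderOf_dvd_of_pow_eq_one e) (orderOf_dvd_of_pow_eq_one hj))
    have : Unique G := ⟨⟨1⟩, fun x => mem_bot.1 (h4.ge (mem_top x))⟩
    exact ⟨0, Fin.elim0, fun i => i.elim0, ⟨MulEquiv.ofUnique⟩⟩

theorem s4976 (hg : Gen2 G) : (∀ x : G, orderOf x = 3 → ¬ IsConj x x⁻¹) ↔ ∃ (k : ℕ) (f : Fin k → ℕ),
    (∀ i, 1 ≤ f i) ∧ Nonempty (G ⧸ pPrimeCore 3 G ≃* ((i : Fin k) → PSL2 (GaloisField 3 (2 * f i + 1)))) := by
  refine ⟨fun h => prod_psl _ _ rfl pPrimeCore_quotient_pPrimeCore (fun e => not_S3_of_forall (fun x g h1 h2 => ?_)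
    (involves_of_quotient _ e)) (hg.map (QuotientGroup.mk'_surjective _)), fun ⟨k, f, _, ⟨e⟩⟩ x hx hc => ?_⟩
  · obtain ⟨j, hj⟩ := isPGroup_iff_mem.1 h1 x (mem_zpowers x)
    obtain ⟨i, -, hi⟩ := (Nat.dvd_prime_pow Nat.prime_three).1 (orderOf_dvd_of_pow_eq_one hj)
    rcases i with _ | i
    · exact orderOf_eq_one_iff.1 hi
    refine (h (x ^ 3 ^ i) ?_ (isConj_iff.2 ⟨g, by rw [← conj_pow, h2, inv_pow]⟩)).elim
    rw [orderOf_pow' _ (by positivity), hi, Nat.gcd_eq_right (pow_dvd_pow 3 i.le_succ), pow_succ',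
      Nat.mul_div_cancel _ (by positivity)]
  · obtain ⟨t, h1, h2⟩ := Hall.exists_two_inverts hc
    obtain ⟨j, hj⟩ := isPGroup_iff_mem.1 h1 t (mem_zpowers t)
    refine not_dvd_card_pPrimeCore (G := G) Nat.prime_three (hx.symm.dvd.trans (Subgroup.orderOf_dvd_natCard _
      ((QuotientGroup.eq_one_iff x).1 ((e.map_eq_one_iff (x := x)).1 (funext fun i => ?_)))))
    let ψ := (Pi.evalMonoidHom _ i).comp (e.toMonoidHom.comp (QuotientGroup.mk' _))
    have := Fintype.ofFinite (GaloisField 3 (2 * f i + 1))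
    exact not_inv_three (psl2_not_S3 (Nat.card_eq_fintype_card.symm.trans (GaloisField.card 3 _ (by omega))))
      (x := ψ t) (y := ψ x) (k := j) (n := 1) (by rw [← map_pow, hj, map_one])
      (by rw [← map_pow, pow_one, orderOf_dvd_iff_pow_eq_one.1 hx.dvd, map_one])
      (by rw [← map_inv, ← map_mul, ← map_mul, h2, map_inv])

end Cfsg.Lib.Block2.R3
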