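import Cfsg.Agent.Lib.Block2.RealP

/-! A canonical correspondence of characters of `p'`-degree over a fixed-point-free abelian
section; real characters of odd degree in solvable groups. -/

set_option autoImplicit false
set_option linter.unusedSectionVars false
set_option linter.style.haveILetI false

namespace Cfsg.Lib.Block2.RP

open Cfsg Cfsg.Lib Cfsg.Lib.Char Cfsg.Lib.Clifford Cfsg.Lib.Coprime Finset Subgroup
open scoped ComplexConjugate Classical commutatorElement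

universe u

variable {Γ : Type*} [Group Γ] [Finite Γ] {G K L N M H T P A B W : Subgroup Γ}
  {χ ψ φ θ α α' β β' γ lam μ σ ρ : Γ → ℂ} {p : ℕ}

/-- Gluing of linear characters. -/
theorem exists_glue (hN : Nrm H N) (hl : LinOn N lam) (hi : InvOn H N lam) (hσ : LinOn H σ)
    (e : ∀ x ∈ N, x ∈ H → lam x = σ x) :
    ∃ μ, LinOn (N ⊔ H) μ ∧ (∀ n ∈ N, μ n = lam n) ∧ ∀ h ∈ H, μ h = σ h := by
  have ex : ∀ g ∈ N ⊔ H, ∃ n ∈ N, ∃ h ∈ H, g = n * h := fun g hg =>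
    exists_mul_of_mem_sup_nrm' hN (by rwa [sup_comm])
  let π : Γ → Γ := fun g => if hg : g ∈ N ⊔ H then (ex g hg).choose else 1
  have hπ : ∀ n ∈ N, ∀ h ∈ H, lam (π (n * h)) * σ ((π (n * h))⁻¹ * (n * h)) = lam n * σ h :=
    fun n hn h hh => by
      have hg : n * h ∈ N ⊔ H := mul_mem (mem_sup_left hn) (mem_sup_right hh)
      obtain ⟨h1, h', h2, e'⟩ := (ex _ hg).choose_spec
      simp only [π, dif_pos hg]
      generalize (ex _ hg).choose = m at h1 e'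
      have h3 : m⁻¹ * n = h' * h⁻¹ := by
        rw [inv_mul_eq_iff_eq_mul, ← mul_assoc, ← e', mul_inv_cancel_right]
      have h4 : m⁻¹ * n ∈ H := h3 ▸ mul_mem h2 (inv_mem hh)
      rw [← mul_assoc m⁻¹, hσ.map_mul h4 hh, ← e _ (mul_mem (inv_mem h1) hn) h4, ← mul_assoc,
        ← hl.map_mul h1 (mul_mem (inv_mem h1) hn), mul_inv_cancel_left]
  refine ⟨fun g => lam (π g) * σ ((π g)⁻¹ * g), linOn_of_map_mul ?_ fun a ha b hb => ?_,
    fun n hn => ?_, fun h hh => ?_⟩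
  · have := hπ 1 (one_mem _) 1 (one_mem _)
    rw [one_mul, hl.2, hσ.2, one_mul] at this
    exact this
  · obtain ⟨n, hn, h, hh, rfl⟩ := ex a ha
    obtain ⟨n', hn', h', hh', rfl⟩ := ex b hb
    have : n * h * (n' * h') = n * (h * n' * h⁻¹) * (h * h') := by group
    rw [this, hπ _ (mul_mem hn (hN h hh n' hn')) _ (mul_mem hh hh'), hπ n hn h hh, hπ n' hn' h' hh',
      hl.map_mul hn (hN h hh n' hn'), hi h hh n' hn', hσ.map_mul hh hh']
    ring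
  · have := hπ n hn 1 (one_mem _)
    rwa [mul_one, hσ.2, mul_one] at this
  · have := hπ 1 (one_mem _) h hh
    rwa [one_mul, hl.2, one_mul] at this

theorem lin_eq_of_pow (hμ : LinOn B μ) (hσ : LinOn B σ) (hL : Nrm B L) (e : ∀ x ∈ L, μ x = σ x)
    (hLB : L ≤ B) {m : ℕ} (hm : (L.relIndex B).Coprime m) (e' : ∀ x ∈ B, μ x ^ m = σ x ^ m) :
    ∀ x ∈ B, μ x = σ x := fun x hx => by
  have h1 := (hμ.mul hσ.star).pow_relIndex hL (fun y hy => by
    rw [Pi.mul_apply, Pi.star_apply, e y hy]; exact hσ.mul_conj (hLB hy)) hx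
  have h2 := hσ.mul_conj hx
  have h3 : (μ x * conj (σ x)) ^ m = 1 := by rw [mul_pow, e' x hx, ← mul_pow, h2, one_pow]
  have h4 := eq_one_of_pow_of_coprime hm h1 h3
  exact mul_right_cancel₀ (hσ.star.ne_zero hx) (h4.trans h2.symm)

theorem exists_lin_root (hρ : LinOn B ρ) (hσ : LinOn B σ) (hL : Nrm B L) (hLB : L ≤ B) {m : ℕ}
    (hm : (L.relIndex B).Coprime m) (e : ∀ x ∈ L, ρ x = σ x ^ m) :
    ∃ μ, LinOn B μ ∧ (∀ x ∈ L, μ x = σ x) ∧ ∀ x ∈ B, μ x ^ m = ρ x := by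
  have hν := hρ.mul (hσ.star.pow m)
  have h0 : ∀ x ∈ L, (ρ * star σ ^ m) x = 1 := fun x hx => by
    rw [Pi.mul_apply, Pi.pow_apply, e x hx, ← mul_pow]
    exact (congrArg (· ^ m) (hσ.mul_conj (hLB hx))).trans (one_pow m)
  obtain ⟨_, ⟨k, rfl⟩, hk⟩ := PF.exists_exp_coprime hm.symm
  refine ⟨σ * (ρ * star σ ^ m) ^ k, hσ.mul (hν.pow k), fun x hx => ?_, fun x hx => ?_⟩
  · rw [Pi.mul_apply, Pi.pow_apply, h0 x hx, one_pow, mul_one]
  · have := pow_eq_pow_of_modEq hk (hν.pow_relIndex hL h0 hx)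
    rw [Pi.mul_apply, Pi.pow_apply, mul_pow, ← pow_mul, mul_comm k, this, pow_one, Pi.mul_apply,
      Pi.pow_apply, mul_left_comm, ← mul_pow]
    exact (congrArg (fun z => ρ x * z ^ m) (hσ.mul_conj hx)).trans (by simp)

theorem det_of_invOn (hLW : L ≤ W) (hL : Nrm W L) (hγ : IrrOn W γ) (hβ : IrrOn L β)
    (hi : InvOn W L β) (h : dot L γ β ≠ 0) {x : Γ} (hx : x ∈ L) :
    detOn W γ x = detOn L β x ^ mult L γ β := by
  rw [← hγ.charOn.detOn_mono hLW hx, ← hβ.charOn.detOn_smul _ hx,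
    detOn_congr (ψ := (mult L γ β : ℂ) • β) fun y hy => clifford_invOn hLW hL hγ hβ hi h hy]

/-- The determinantal correspondence. -/
def DR (A B L : Subgroup Γ) (α β : Γ → ℂ) : Prop :=
  ∃ (W : Subgroup Γ) (γ : Γ → ℂ), (∀ g, g ∈ W ↔ g ∈ A ∧ ∀ l ∈ L, β (g * l * g⁻¹) = β l) ∧
    IrrOn W γ ∧ dot L γ β ≠ 0 ∧ dot W α γ ≠ 0 ∧ ∀ x ∈ B, detOn W γ x = detOn B β x ^ mult L γ β

theorem DR.star (h : DR A B L α β) (hβ : CharOn B β) (hLB : L ≤ B) (hBA : B ≤ A) :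
    DR A B L (star α) (star β) := by
  obtain ⟨W, γ, h1, h2, h3, h4, h5⟩ := h
  have hB : B ≤ W := fun b hb => (h1 b).2 ⟨hBA hb, fun l hl => hβ.classOn b hb l (hLB hl)⟩
  refine ⟨W, Star.star γ, fun g => (h1 g).trans (and_congr_right fun _ =>
    forall₂_congr fun l _ => star_inj.symm), h2.star, ?_, ?_, fun x hx => ?_⟩
  · rwa [dot_star, Ne, dot_eq_zero_comm]
  · rwa [dot_star, Ne, dot_eq_zero_comm]
  · rw [mult_star (h2.charOn.mono (hLB.trans hB)) (hβ.mono hLB)]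
    exact (detOn_map (starRingEnd ℂ) h2.charOn (hB hx)).trans (by
      rw [h5 x hx, map_pow, ← detOn_map (starRingEnd ℂ) hβ hx]; rfl)

theorem DR.cj (h : DR A B L α β) (hβ : CharOn B β) (hLB : L ≤ B) (hBA : B ≤ A) (hA : Nrm N A)
    (hB : Nrm N B) (hL : Nrm N L) {n : Γ} (hn : n ∈ N) : DR A B L (cj n α) (cj n β) := by
  obtain ⟨W, γ, h1, h2, h3, h4, h5⟩ := h
  have hBW : B ≤ W := fun b hb => (h1 b).2 ⟨hBA hb, fun l hl => hβ.classOn b hb l (hLB hl)⟩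
  let f := (MulAut.conj n).toMonoidHom
  have e : (W.comap f).map f = W := map_comap_eq_self_of_surjective (MulAut.conj n).surjective W
  refine ⟨W.comap f, γ ∘ f, fun g => (h1 (n * g * n⁻¹)).trans (and_congr (hA.mem_iff hn g)
    ⟨fun h l hl => ?_, fun h l hl => ?_⟩), IrrOn.comp (by rwa [e]), ?_, ?_, fun x hx => ?_⟩
  · have := h _ (hL n hn l hl)
    simp only [cj_apply]
    convert this using 2; group
  · have := h _ ((hL.mem_iff' hn l).2 hl)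
    simp only [cj_apply] at this
    convert this using 2 <;> group
  · exact (dot_cj hL hn γ β).trans_ne h3
  · exact (dot_comp f _ α γ).trans_ne (by rwa [e])
  · rw [h2.charOn.detOn_comp f (fun _ h => h) (show x ∈ W.comap f from hBW (hB n hn x hx)),
      hβ.detOn_cj hB hn hx]
    exact (h5 _ (hB n hn x hx)).trans (by rw [← mult_cj hL hn]; rfl)

/-- `P` is a Sylow `p`-subgroup of `KP` acting without fixed points on the abelian section `K/L`. -/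
structure St (p : ℕ) (P K L : Subgroup Γ) : Prop where
  le : L ≤ K
  nK : Nrm P K
  nL : Nrm P L
  ab : ⁅K, K⁆ ≤ L
  syl : Amalg.Syl p P (K ⊔ P)
  fix : K ⊓ normalizer (P : Set Γ) ≤ L

theorem nrm_sup' (h : Nrm A N) (h' : Nrm B N) : Nrm (A ⊔ B) N :=
  nrm_of_le_normalizer (sup_le h.le_normalizer h'.le_normalizer)

theorem cop [hp : Fact p.Prime] (hP : IsPGroup p P) (hN : Nrm P N) {n : ℕ} (hn : ¬ p ∣ n) :
    (N.relIndex (N ⊔ P)).Coprime n := by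
  obtain ⟨k, hk⟩ := hP.exists_card_eq
  exact Nat.Coprime.coprime_dvd_left (relIndex_sup_dvd hN)
    (hk ▸ ((Nat.Prime.coprime_iff_not_dvd hp.out).2 hn).pow_left k)

namespace St
variable [hp : Fact p.Prime] (s : St p P K L)
include s

theorem nA : Nrm (K ⊔ P) L := nrm_sup' (nrm_of_commutator_le s.le s.ab) s.nL

theorem nA' : Nrm (K ⊔ P) K := nrm_sup' (nrm_self K) s.nK

theorem BA : L ⊔ P ≤ K ⊔ P := sup_le_sup_right s.le P

theorem fixA : (K ⊔ P) ⊓ normalizer (P : Set Γ) ≤ L ⊔ P := fun x hx => by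
  obtain ⟨k, hk, u, hu, rfl⟩ := exists_mul_of_mem_sup_nrm' s.nK (by rw [sup_comm]; exact hx.1)
  exact mul_mem (mem_sup_left (s.fix ⟨hk, (mul_mem_cancel_right (le_normalizer hu)).1 hx.2⟩))
    (mem_sup_right hu)

theorem PK {x : Γ} (h : x ∈ P) (h' : x ∈ K) : x ∈ L := s.fix ⟨h', le_normalizer h⟩

theorem idx : ¬ p ∣ L.relIndex K :=
  (s.syl.inf_normal le_sup_left s.nA'.le_normalizer).not_dvd_relIndex_of_le
    fun _ h => s.PK h.1 h.2

theorem inertia_eq (hi : InvOn P L φ) : inertia (K ⊔ P) L φ = inertia K L φ ⊔ P := by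
  have h1 : P ≤ inertia (K ⊔ P) L φ := le_inertia_of_invOn s.nA le_sup_right hi
  rw [inertia_of_le (le_sup_left : K ≤ K ⊔ P)]
  refine le_antisymm (fun w hw => ?_) (sup_le inf_le_left h1)
  obtain ⟨k, hk, u, hu, rfl⟩ := exists_mul_of_mem_sup_nrm' s.nK (by rw [sup_comm]; exact hw.1)
  exact mul_mem (mem_sup_left (mem_inf.2 ⟨(mul_mem_cancel_right (h1 hu)).1 hw, hk⟩))
    (mem_sup_right hu)

theorem res (hβ : IrrOn (L ⊔ P) β) (hd : ¬ p ∣ charDegree β) : IrrOn L β :=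
  hβ.res_of_coprime le_sup_left (s.nA.mono s.BA) (cop s.syl.isPGroup s.nL hd).symm

theorem unpack (h : DR (K ⊔ P) (L ⊔ P) L α β) (hα : α ∈ Irr (K ⊔ P)) (hd : ¬ p ∣ charDegree α)
    (hβ : IrrOn (L ⊔ P) β) (hd' : ¬ p ∣ charDegree β) : ∃ γ, IrrOn (inertia (K ⊔ P) L β) γ ∧
      dot L γ β ≠ 0 ∧ ind (inertia (K ⊔ P) L β) (K ⊔ P) γ = α ∧ ¬ p ∣ charDegree γ ∧
      dot L α β ≠ 0 ∧ ∀ x ∈ L ⊔ P, detOn (inertia (K ⊔ P) L β) γ x =
        detOn (L ⊔ P) β x ^ mult L γ β := by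
  obtain ⟨W, γ, h1, h2, h3, h4, h5⟩ := h
  obtain rfl : W = inertia (K ⊔ P) L β := Subgroup.ext fun g => (h1 g).trans (mem_inertia s.nA).symm
  have hLA := s.le.trans (le_sup_left : K ≤ K ⊔ P)
  have h6 := s.res hβ hd'
  have h7 := clifford_corr_aux hLA s.nA h6 h2 h3 (irrOn_of_mem hα) h4
  have h8 : ind (inertia (K ⊔ P) L β) (K ⊔ P) γ = α := eq_of_mem_Irr (ind_mem_Irr inertia_le
    (irrOn_ind_inertia hLA s.nA h6 h2 h3)) hα h7.1
  refine ⟨γ, h2, h3, h8, fun h => hd ?_, ?_, h5⟩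
  · rw [← h8, h2.charOn.deg_ind inertia_le]; exact h.mul_left _
  · rwa [← h8, dot_ind_inertia hLA s.nA h6 h2 h3]

theorem ex_right (hα : α ∈ Irr (K ⊔ P)) (hd : ¬ p ∣ charDegree α) :
    ∃ β ∈ Irr (L ⊔ P), ¬ p ∣ charDegree β ∧ DR (K ⊔ P) (L ⊔ P) L α β := by
  have hLA := s.le.trans (le_sup_left : K ≤ K ⊔ P)
  have hα' := irrOn_of_mem hα
  obtain ⟨φ, hφ, hi, h1, h2⟩ := exists_inv_under s.syl.isPGroup s.nL (hα'.charOn.mono hLA)
    (hα'.classOn.mono le_sup_right hLA) hd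
  have hφ' := irrOn_of_mem hφ
  obtain ⟨γ, hγ, h3, h4, h5⟩ := exists_ind_inertia hLA s.nA hφ' hα'
    (((hα'.charOn.mono hLA).mult_ne_zero hφ'.charOn).1 fun e => h1 (e ▸ dvd_zero p))
  have hγ' := irrOn_of_mem hγ
  have hLW := le_inertia hLA s.nA hφ'.classOn
  have hBW : L ⊔ P ≤ inertia (K ⊔ P) L φ := sup_le hLW (le_inertia_of_invOn s.nA le_sup_right hi)
  have hiW := invOn_inertia (θ := φ) s.nA
  have hB := s.nA.mono s.BA
  have hiB := hiW.mono hBW le_rfl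
  have he : (L.relIndex (L ⊔ P)).Coprime (mult L γ φ) := cop s.syl.isPGroup s.nL
    (by unfold mult at h1 ⊢; rwa [h5])
  have hc := cop s.syl.isPGroup s.nL h2
  have hdet := fun x => det_of_invOn hLW (s.nA.mono inertia_le) hγ' hφ' hiW h3 (x := x)
  have hρ := (linOn_detOn (inertia (K ⊔ P) L φ) γ).mono hBW
  obtain ⟨σ, hσ, e1⟩ := (linOn_detOn L φ).exists_ext_of_pow le_sup_left hB
    (hφ'.charOn.invOn_detOn hB hiB) he hρ hdet
  obtain ⟨μ, hμ, e2, e3⟩ := exists_lin_root hρ hσ hB le_sup_left he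
    fun x hx => by rw [hdet x hx, e1 x hx]
  obtain ⟨β₀, hβ₀, e4⟩ := exists_ext_of_det le_sup_left hB hφ' hiB hc hσ e1
  have hdeg : charDegree β₀ = charDegree φ := by unfold charDegree; rw [e4 1 (one_mem _)]
  obtain ⟨lam, hl, e5, e6⟩ := exists_ext_det_eq le_sup_left hB (irrOn_of_mem hβ₀).charOn
    (hdeg ▸ hc) hμ fun x hx => by rw [e2 x hx, e1 x hx, detOn_congr e4]
  have e7 : ∀ x ∈ L, (lam * β₀) x = φ x := fun x hx => by
    rw [Pi.mul_apply, e5 x hx, e4 x hx, one_mul]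
  refine ⟨lam * β₀, mul_comm β₀ lam ▸ mul_lin_mem_Irr hβ₀ hl, ?_, _, γ,
    fun g => (mem_inertia s.nA).trans (and_congr_right fun hg => forall₂_congr fun l hl => by
      rw [e7 l hl, e7 _ (s.nA g hg l hl)]), hγ', by rwa [dot_congr_right _ e7], ?_, fun x hx => ?_⟩
  · unfold charDegree at h2 ⊢
    rwa [e7 1 (one_mem _)]
  · rw [← dot_ind_right inertia_le hα'.classOn, h4, dot_cut_right, hα'.dot_self]
    exact one_ne_zero
  · rw [e6 x hx, mult_congr_right _ e7, e3 x hx]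

theorem uniq_right (hα : α ∈ Irr (K ⊔ P)) (hd : ¬ p ∣ charDegree α) (hβ : β ∈ Irr (L ⊔ P))
    (h1 : ¬ p ∣ charDegree β) (hβ' : β' ∈ Irr (L ⊔ P)) (h2 : ¬ p ∣ charDegree β')
    (h : DR (K ⊔ P) (L ⊔ P) L α β) (h' : DR (K ⊔ P) (L ⊔ P) L α β') : β = β' := by
  have hLA := s.le.trans (le_sup_left : K ≤ K ⊔ P)
  have hB := s.nA.mono s.BA
  have b1 := irrOn_of_mem hβ
  have b2 := irrOn_of_mem hβ'
  obtain ⟨γ, a1, a2, a3, a4, a5, a6⟩ := s.unpack h hα hd b1 h1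
  obtain ⟨γ', c1, c2, c3, c4, c5, c6⟩ := s.unpack h' hα hd b2 h2
  have r1 := s.res b1 h1
  have r2 := s.res b2 h2
  have i1 : InvOn (L ⊔ P) L (cut L β) := (b1.classOn.mono le_rfl le_sup_left).cut' hB L
  have i2 : InvOn (L ⊔ P) L (cut L β') := (b2.classOn.mono le_rfl le_sup_left).cut' hB L
  obtain ⟨g, hg, e⟩ := eq_cj_of_dot hLA s.nA (irrOn_of_mem hα) r1.cut_mem r2.cut_mem
    (by rwa [dot_cut_right]) (by rwa [dot_cut_right])
  obtain ⟨n, hn, e'⟩ := adjust s.syl s.nA r1.cut_mem (i1.mono le_sup_right le_rfl) hg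
    (by rw [e]; exact i2.mono le_sup_right le_rfl)
  rw [cj_eq_of_invOn hB r1.cut_mem i1 (s.fixA hn), e] at e'
  have e1 : ∀ x ∈ L, β' x = β x := fun x hx => by
    rw [← cut_of_mem β hx, e', cut_of_mem β' hx]
  rw [inertia_congr e1] at c1 c3 c6
  rw [dot_congr_right _ e1] at c2
  rw [mult_congr_right _ e1] at c6
  have e2 := eq_of_ind_inertia_eq hLA s.nA r1 a1 c1 a2 c2 (a3.trans c3.symm)
  have hLW := le_inertia hLA s.nA r1.classOn
  rw [← detOn_congr e2, ← mult_congr_left fun x hx => e2 x (hLW hx)] at c6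
  have he : ¬ p ∣ mult L γ β := fun h => a4 <| by
    rw [clifford_invOn_deg hLW (s.nA.mono inertia_le) a1 r1 (invOn_inertia s.nA) a2]
    exact h.mul_right _
  refine (eq_of_mem_Irr hβ' hβ (ext_unique_of_det le_sup_left hB b1.charOn r1
    (cop s.syl.isPGroup s.nL h1) b2.charOn e1 (lin_eq_of_pow (linOn_detOn _ _) (linOn_detOn _ _) hB
    (fun x hx => ?_) le_sup_left (cop s.syl.isPGroup s.nL he) fun x hx => ?_))).symm
  · rw [← b1.charOn.detOn_mono le_sup_left hx, ← b2.charOn.detOn_mono le_sup_left hx,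
      detOn_congr e1]
  · rw [← c6 x hx, a6 x hx]

theorem ex_left (hβ : β ∈ Irr (L ⊔ P)) (hd : ¬ p ∣ charDegree β) :
    ∃ α ∈ Irr (K ⊔ P), ¬ p ∣ charDegree α ∧ DR (K ⊔ P) (L ⊔ P) L α β := by
  have hLA := s.le.trans (le_sup_left : K ≤ K ⊔ P)
  have b1 := irrOn_of_mem hβ
  have r1 := s.res b1 hd
  have hi : InvOn P L β := b1.classOn.mono le_sup_right le_sup_left
  have hKL := s.nA.mono (le_sup_left : K ≤ K ⊔ P)
  have hLT := le_inertia s.le hKL r1.classOn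
  have hPT := nrm_inertia s.nK s.nL hKL hi
  have hidx : ¬ p ∣ L.relIndex (inertia K L β) := fun h =>
    s.idx (h.trans (Dvd.intro _ (relIndex_mul_relIndex _ _ K hLT inertia_le)))
  obtain ⟨k, hk⟩ := s.syl.isPGroup.exists_card_eq
  obtain ⟨θ, hθ, t1, t2⟩ := exists_invOn_over_of_abelian hPT s.nL hLT (hKL.mono inertia_le)
    ((commutator_mono inertia_le inertia_le).trans s.ab)
    (hk ▸ ((Nat.Prime.coprime_iff_not_dvd hp.out).2 hidx).symm.pow_right k) r1 hi (invOn_inertia hKL)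
  have hθ' := irrOn_of_mem hθ
  have hdθ : ¬ p ∣ charDegree θ := fun h => by
    obtain ⟨e, he, e'⟩ := exists_deg_eq_mul hLT (hKL.mono inertia_le) hθ' r1 t1
    rw [e', hp.out.dvd_mul] at h
    exact h.elim (fun h => hidx (h.trans he)) hd
  have hW := s.inertia_eq hi
  have hirr := fun γ => irrOn_ind_inertia (ψ := γ) hLA s.nA r1
  have hmem := fun g => mem_inertia (θ := β) (g := g) s.nA
  have hWA : inertia (K ⊔ P) L β ≤ K ⊔ P := inertia_le
  have hTK : inertia K L β ≤ K := inertia_le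
  have hdet := fun x => det_of_invOn hLT (hKL.mono inertia_le) hθ' r1 (invOn_inertia hKL) t1 (x := x)
  rw [hW] at hirr hmem hWA
  generalize inertia K L β = T at *
  have hT : Nrm (T ⊔ P) T := nrm_sup' (nrm_self T) hPT
  have hiT : InvOn (T ⊔ P) T θ := invOn_sup (nrm_self T) hPT hθ'.classOn t2
  obtain ⟨μ, hμ, m1, m2⟩ := exists_glue hPT (linOn_detOn T θ) (hθ'.charOn.invOn_detOn hPT t2)
    (((linOn_detOn (L ⊔ P) β).mono le_sup_right).pow (mult L θ β)) fun x hx hx' => by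
      have h := s.PK hx' (hTK hx)
      rw [hdet x h, Pi.pow_apply, b1.charOn.detOn_mono le_sup_left h]
  have hc := cop s.syl.isPGroup hPT hdθ
  obtain ⟨γ₀, hγ₀, e4⟩ := exists_ext_of_det le_sup_left hT hθ' hiT hc hμ m1
  have hdeg : charDegree γ₀ = charDegree θ := by unfold charDegree; rw [e4 1 (one_mem _)]
  obtain ⟨lam, hl, e5, e6⟩ := exists_ext_det_eq le_sup_left hT (irrOn_of_mem hγ₀).charOn
    (hdeg ▸ hc) hμ fun x hx => by rw [m1 x hx, detOn_congr e4]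
  have e7 : ∀ x ∈ T, (lam * γ₀) x = θ x := fun x hx => by
    rw [Pi.mul_apply, e5 x hx, e4 x hx, one_mul]
  have hγ := (irrOn_of_mem hγ₀).lin_mul hl
  have hdg : charDegree (lam * γ₀) = charDegree θ := by unfold charDegree; rw [e7 1 (one_mem _)]
  generalize lam * γ₀ = γ at *
  have g1 : dot L γ β ≠ 0 := by rwa [dot_congr_left fun x hx => e7 x (hLT hx)]
  have hα := hirr γ hγ g1
  refine ⟨_, ind_mem_Irr hWA hα, ?_, _, γ, hmem, hγ, g1, ?_, fun x hx => ?_⟩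
  · rw [hγ.charOn.deg_ind hWA, hdg, hp.out.dvd_mul]
    exact fun h => h.elim (s.syl.not_dvd_relIndex_of_le le_sup_right) hdθ
  · rw [← dot_ind_right hWA hα.classOn, hα.dot_self]
    exact one_ne_zero
  · obtain ⟨l, hl, u, hu, rfl⟩ := exists_mul_of_mem_sup_nrm' s.nL (by rw [sup_comm]; exact hx)
    have h1 : l ∈ T ⊔ P := mem_sup_left (hLT hl)
    have h2 : u ∈ T ⊔ P := mem_sup_right hu
    rw [e6 _ (mul_mem h1 h2), hμ.map_mul h1 h2, m1 l (hLT hl), m2 u hu, hdet l hl, Pi.pow_apply,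
      (linOn_detOn _ β).map_mul (mem_sup_left hl) (mem_sup_right hu), mul_pow,
      b1.charOn.detOn_mono le_sup_left hl, mult_congr_left fun x hx => e7 x (hLT hx)]

theorem lin_triv (hLT : L ≤ T) (hTK : T ≤ K) (hPT : Nrm P T) (hρ : LinOn T ρ) (hi : InvOn P T ρ)
    (h : ∀ x ∈ L, ρ x = 1) : ∀ t ∈ T, ρ t = 1 := fun t ht => by
  have hLD : L ≤ kerOn T ρ := fun x hx => hρ.mem_kerOn.2 ⟨hLT hx, h x hx⟩
  have hD : Nrm P (kerOn T ρ) := nrm_kerOn hPT hi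
  have h1 : t ∈ normalizer ((kerOn T ρ ⊔ P : Subgroup Γ) : Set Γ) := by
    refine Amalg.mem_normalizer_of_cj_le ?_
    rw [Amalg.cj_sup]
    refine sup_le (Amalg.cj_le_iff'.2 fun x hx => mem_sup_left (hρ.classOn.nrm_kerOn t ht x hx))
      (Amalg.cj_le_iff'.2 fun u hu => ?_)
    rw [show t * u * t⁻¹ = (u * t * u⁻¹ * t⁻¹)⁻¹ * u by group]
    exact mul_mem (mem_sup_left (inv_mem (hρ.commutator_mem hPT hi hu ht))) (mem_sup_right hu)
  have hle : kerOn T ρ ⊔ P ≤ K ⊔ P := sup_le_sup_right (kerOn_le.trans hTK) P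
  obtain ⟨n, hn, a, ha, e⟩ := (s.syl.of_le le_sup_right hle).frattini_mem h1
  have h2 : a ∈ kerOn T ρ ⊔ P := sup_le_sup_right hLD P (s.fixA <| mem_inf.2 ⟨by
    rw [eq_comm, ← eq_inv_mul_iff_mul_eq] at e
    rw [e]; exact mul_mem (inv_mem (hle hn)) (mem_sup_left (hTK ht)), ha⟩)
  obtain ⟨d, hd, u, hu, e'⟩ := exists_mul_of_mem_sup_nrm' hD
    (by rw [sup_comm]; exact mul_mem hn h2 : n * a ∈ _)
  have h3 : u ∈ T := (mul_mem_cancel_left hd.1).1 (by rw [← e', ← e]; exact ht)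
  exact (hρ.mem_kerOn.1 (show t ∈ kerOn T ρ by
    rw [e, e']; exact mul_mem hd (hLD (s.PK hu (hTK h3))))).2

theorem inv_unique (hLT : L ≤ T) (hTK : T ≤ K) (hPT : Nrm P T) (hφ : IrrOn L φ) (hi : InvOn T L φ)
    (hθ : IrrOn T θ) (hψ : IrrOn T ψ) (h1 : dot L θ φ ≠ 0) (h2 : dot L ψ φ ≠ 0) (i1 : InvOn P T θ)
    (i2 : InvOn P T ψ) : ∀ x ∈ T, ψ x = θ x := fun x hx => by
  have hab := (commutator_mono hTK hTK).trans s.ab
  have hL := nrm_of_commutator_le hLT hab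
  obtain ⟨ν, hν, e⟩ := exists_lin_of_abelian hLT hL hab hφ hi hθ hψ h1 h2
  have hl := linOn_of_mem_IrrKer hab hν
  have h3 : ∀ x ∈ L, ν x = 1 := fun x hx => ((mem_IrrKer.1 hν).2 x hx).trans hl.2
  rw [e x hx]
  by_cases h0 : θ x = 0
  · rw [h0, mul_zero]
  have h4 : ∀ u ∈ P, ν (u * x * u⁻¹) = ν x := fun u hu => mul_right_cancel₀ h0 <| by
    rw [← e x hx, ← i2 u hu x hx, e _ (hPT u hu x hx), i1 u hu x hx]
  have h5 := s.lin_triv hLT hTK hPT (ρ := ∏ u ∈ elems P, cj u ν) (linOn_prod _ fun u hu =>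
    ⟨hl.charOn.cj hPT (mem_elems.1 hu), by rw [cj_at_one]; exact hl.2⟩) (fun v hv y hy => by
      simp only [Finset.prod_apply, cj_apply]
      have := sum_elems_mul_right (M := Additive ℂ) hv fun u => Additive.ofMul (ν (u * y * u⁻¹))
      refine Eq.trans (prod_congr rfl fun u _ => ?_) this
      exact congrArg ν (by group)) (fun y hy => by
      rw [Finset.prod_apply]
      exact prod_eq_one fun u hu => h3 _ (s.nL u (mem_elems.1 hu) y hy)) x hx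
  rw [Finset.prod_apply, prod_congr rfl fun u hu => (cj_apply u ν x).trans
    (h4 u (mem_elems.1 hu)), prod_const,
    card_elems] at h5
  obtain ⟨k, hk⟩ := s.syl.isPGroup.exists_card_eq
  have hidx : ¬ p ∣ L.relIndex T := fun h =>
    s.idx (h.trans (Dvd.intro _ (relIndex_mul_relIndex _ _ K hLT hTK)))
  rw [eq_one_of_pow_of_coprime (hk ▸ ((Nat.Prime.coprime_iff_not_dvd hp.out).2 hidx).pow_left k)
    h5 (hl.pow_relIndex hL h3 hx), one_mul]

theorem uniq_left (hα : α ∈ Irr (K ⊔ P)) (hd : ¬ p ∣ charDegree α) (hα' : α' ∈ Irr (K ⊔ P))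
    (hd' : ¬ p ∣ charDegree α') (hβ : β ∈ Irr (L ⊔ P)) (h1 : ¬ p ∣ charDegree β)
    (h : DR (K ⊔ P) (L ⊔ P) L α β) (h' : DR (K ⊔ P) (L ⊔ P) L α' β) : α = α' := by
  have b1 := irrOn_of_mem hβ
  have r1 := s.res b1 h1
  obtain ⟨γ, a1, a2, a3, a4, -, a6⟩ := s.unpack h hα hd b1 h1
  obtain ⟨γ', c1, c2, c3, c4, -, c6⟩ := s.unpack h' hα' hd' b1 h1
  have hi : InvOn P L β := b1.classOn.mono le_sup_right le_sup_left
  have hKL := s.nA.mono (le_sup_left : K ≤ K ⊔ P)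
  have hLT := le_inertia s.le hKL r1.classOn
  have hPT := nrm_inertia s.nK s.nL hKL hi
  have hTK : inertia K L β ≤ K := inertia_le
  have hiT := invOn_inertia (θ := β) hKL
  rw [s.inertia_eq hi] at a1 a3 a6 c1 c3 c6
  generalize inertia K L β = T at *
  have hT : Nrm (T ⊔ P) T := nrm_sup' (nrm_self T) hPT
  have hc := cop s.syl.isPGroup hPT a4
  have t1 := a1.res_of_coprime le_sup_left hT hc.symm
  have t2 := c1.res_of_coprime le_sup_left hT (cop s.syl.isPGroup hPT c4).symm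
  have e1 := s.inv_unique hLT hTK hPT r1 hiT t1 t2 a2 c2 (a1.classOn.mono le_sup_right le_sup_left)
    (c1.classOn.mono le_sup_right le_sup_left)
  rw [← a3, ← c3]
  refine (ind_congr _ (ext_unique_of_det le_sup_left hT a1.charOn t1 hc c1.charOn e1
    fun x hx => ?_)).symm
  obtain ⟨t, ht, u, hu, rfl⟩ := exists_mul_of_mem_sup_nrm' hPT (by rw [sup_comm]; exact hx)
  rw [(linOn_detOn _ γ).map_mul (mem_sup_left ht) (mem_sup_right hu),
    (linOn_detOn _ γ').map_mul (mem_sup_left ht) (mem_sup_right hu), a6 u (mem_sup_right hu),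
    c6 u (mem_sup_right hu), mult_congr_left fun x hx => e1 x (hLT hx),
    ← a1.charOn.detOn_mono le_sup_left ht, ← c1.charOn.detOn_mono le_sup_left ht, detOn_congr e1]

end St

/-- The real irreducible characters of odd degree. -/
noncomputable def XO (G : Subgroup Γ) : Finset (Γ → ℂ) :=
  (Irr G).filter fun χ => RealOn G χ ∧ ¬ 2 ∣ charDegree χ

/-- All irreducible characters of odd degree are real. -/
def AllR (G : Subgroup Γ) : Prop := ∀ χ ∈ Irr G, ¬ 2 ∣ charDegree χ → RealOn G χ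

theorem count_le (hAG : A ≤ G) (hA : Nrm G A) (oA : Odd (A.relIndex G)) (hBH : B ≤ H) (hB : Nrm H B)
    (oB : Odd (B.relIndex H)) (hNG : N ≤ G) (hH : ∀ h ∈ H, ∃ b ∈ B, ∃ n ∈ N, h = b * n)
    (R : (Γ → ℂ) → (Γ → ℂ) → Prop)
    (ex : ∀ α ∈ Irr A, ¬ 2 ∣ charDegree α → ∃ β ∈ Irr B, ¬ 2 ∣ charDegree β ∧ R α β)
    (re : ∀ α ∈ Irr A, ¬ 2 ∣ charDegree α → ∀ β ∈ Irr B, ¬ 2 ∣ charDegree β → R α β → RealOn A α →
      RealOn B β)
    (inj : ∀ α ∈ Irr A, ¬ 2 ∣ charDegree α → ∀ α' ∈ Irr A, ¬ 2 ∣ charDegree α' → ∀ β ∈ Irr B,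
      ¬ 2 ∣ charDegree β → ∀ n ∈ N, R α β → R α' (cj n β) → α' = cj n α) :
    (XO G).card ≤ (XO H).card := by
  have key : ∀ χ ∈ XO G, ∃ ξ ∈ XO H, ∃ α ∈ Irr A, ¬ 2 ∣ charDegree α ∧ ∃ β ∈ Irr B,
      ¬ 2 ∣ charDegree β ∧ R α β ∧ dot A χ α ≠ 0 ∧ dot B ξ β ≠ 0 := fun χ hχ => by
    obtain ⟨h1, h2, h3⟩ := mem_filter.1 hχ
    have h1' := irrOn_of_mem h1
    obtain ⟨α, hα, h4⟩ := h1'.exists_under hAG
    have h5 : ¬ 2 ∣ charDegree α := fun h =>
      h3 (h.trans (deg_dvd_of_dot hAG hA h1' (irrOn_of_mem hα) h4))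
    obtain ⟨β, hβ, h6, h7⟩ := ex α hα h5
    obtain ⟨ξ, hξ, h8, h9, -⟩ := exists_real_over_of_odd hBH hB oB (irrOn_of_mem hβ)
      (re α hα h5 β hβ h6 h7 (real_under_of_odd hAG hA oA h1' (irrOn_of_mem hα) h4 h2))
    have h10 : dot B ξ β ≠ 0 := by rw [h9]; exact one_ne_zero
    refine ⟨ξ, mem_filter.2 ⟨hξ, h8, fun h => ?_⟩, α, hα, h5, β, hβ, h6, h7, h4, h10⟩
    obtain ⟨e, he, e'⟩ := exists_deg_eq_mul hBH hB (irrOn_of_mem hξ) (irrOn_of_mem hβ) h10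
    rw [e', Nat.prime_two.dvd_mul] at h
    exact h.elim (fun h => Nat.not_even_iff_odd.2 oB (even_iff_two_dvd.2 (h.trans he))) h6
  choose! f hf hR using key
  refine card_le_card_of_injOn f hf fun χ hχ χ' hχ' e => ?_
  obtain ⟨α, hα, a1, β, hβ, a2, a3, a4, a5⟩ := hR χ hχ
  obtain ⟨α', hα', b1, β', hβ', b2, b3, b4, b5⟩ := hR χ' hχ'
  obtain ⟨h1, h2, -⟩ := mem_filter.1 hχ
  obtain ⟨h1', h2', -⟩ := mem_filter.1 hχ'
  rw [← e] at b5
  obtain ⟨h, hh, rfl⟩ := eq_cj_of_dot hBH hB (irrOn_of_mem (mem_filter.1 (hf χ hχ)).1) hβ hβ' a5 b5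
  obtain ⟨b, hb, n, hn, rfl⟩ := hH h hh
  rw [← cj_cj, cj_eq_of_invOn (nrm_self B) hβ (irrOn_of_mem hβ).classOn hb] at b3
  rw [inj α hα a1 α' hα' b1 β hβ a2 n hn a3 b3,
    dot_cj_right hAG hA (irrOn_of_mem h1').classOn (hNG hn)] at b4
  exact eq_of_mem_Irr h1 h1' (eq_of_real_of_odd hAG hA oA (irrOn_of_mem h1) (irrOn_of_mem h1')
    (irrOn_of_mem hα) a4 b4 h2 h2')

theorem AllR.le (h : AllR G) (hAG : A ≤ G) (hA : Nrm G A) (oA : Odd (A.relIndex G)) : G ≤ A :=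
  fun x hx => by
    by_contra hc
    obtain ⟨β, hβ, h1⟩ := exists_IrrKer_ne hAG hA hc
    obtain ⟨h2, h3⟩ := mem_IrrKer.1 hβ
    have h4 := irrOn_of_mem h2
    have h5 := h4.eq_one_of_real_of_triv hA oA h3 (h β h2 fun h => Nat.not_even_iff_odd.2 oA
      (even_iff_two_dvd.2 (h.trans (h4.deg_dvd_relIndex_of_lin hAG (linOn_one A)
        fun y hy => by rw [h3 y hy, Pi.one_apply, mul_one]))))
    exact h1 ((h5 x hx).trans (h5 1 (one_mem _)).symm)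

theorem step [Fact (Nat.Prime 2)] (hP : Amalg.Syl 2 P G) (hKG : K ≤ G) (hK : Nrm G K) (hL : Nrm G L)
    (hA : Nrm G (K ⊔ P)) (s : St 2 P K L) :
    (XO G).card = (XO (L ⊔ (G ⊓ normalizer (P : Set Γ)))).card ∧
      (AllR G ↔ AllR (L ⊔ (G ⊓ normalizer (P : Set Γ)))) := by
  have hNP : Nrm (G ⊓ normalizer (P : Set Γ)) P := nrm_of_le_normalizer inf_le_right
  have hPN : P ≤ G ⊓ normalizer (P : Set Γ) := le_inf hP.le le_normalizer
  have hG : ∀ g ∈ G, ∃ a ∈ K ⊔ P, ∃ n ∈ G ⊓ normalizer (P : Set Γ), g = a * n := fun g hg => by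
    obtain ⟨a, ha, n, hn, e⟩ := s.syl.frattini_mem (hA.le_normalizer hg)
    exact ⟨a, ha, n, ⟨(mul_mem_cancel_left (sup_le hKG hP.le ha)).1 (e ▸ hg), hn⟩, e⟩
  have hfix : (K ⊔ P) ⊓ (G ⊓ normalizer (P : Set Γ)) ≤ L ⊔ P :=
    (inf_le_inf_left _ inf_le_right).trans s.fixA
  have hNG : G ⊓ normalizer (P : Set Γ) ≤ G := inf_le_left
  generalize G ⊓ normalizer (P : Set Γ) = N at *
  have hAG : K ⊔ P ≤ G := sup_le hKG hP.le
  have hBH : L ⊔ P ≤ L ⊔ N := sup_le_sup_left hPN L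
  have hHG : L ⊔ N ≤ G := sup_le (s.le.trans hKG) hNG
  have nB : Nrm N (L ⊔ P) := (hL.mono hNG).sup hNP
  have hB : Nrm (L ⊔ N) (L ⊔ P) := nrm_sup' ((nrm_self _).mono le_sup_left) nB
  have odd : ∀ {n : ℕ}, ¬ 2 ∣ n → Odd n := fun h =>
    Nat.not_even_iff_odd.1 fun h' => h (even_iff_two_dvd.1 h')
  have oA : Odd ((K ⊔ P).relIndex G) := odd (hP.not_dvd_relIndex_of_le le_sup_right)
  have oB : Odd ((L ⊔ P).relIndex (L ⊔ N)) :=
    odd ((hP.of_le (hPN.trans le_sup_right) hHG).not_dvd_relIndex_of_le le_sup_right)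
  have hH : ∀ h ∈ L ⊔ N, ∃ b ∈ L ⊔ P, ∃ n ∈ N, h = b * n := fun h hh => by
    obtain ⟨l, hl, n, hn, e⟩ := exists_mul_of_mem_sup_nrm' (hL.mono hNG) (by rwa [sup_comm])
    exact ⟨l, mem_sup_left hl, n, hn, e⟩
  have re : ∀ α ∈ Irr (K ⊔ P), ¬ 2 ∣ charDegree α → ∀ β ∈ Irr (L ⊔ P), ¬ 2 ∣ charDegree β →
      DR (K ⊔ P) (L ⊔ P) L α β → (RealOn (K ⊔ P) α ↔ RealOn (L ⊔ P) β) :=
    fun α hα h1 β hβ h2 h => by
      have h3 := h.star (irrOn_of_mem hβ).charOn le_sup_left s.BA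
      rw [← star_eq_iff hα, ← star_eq_iff hβ]
      refine ⟨fun e => ?_, fun e => ?_⟩
      · rw [e] at h3
        exact s.uniq_right hα h1 (star_mem_Irr hβ) (by rwa [deg_star (irrOn_of_mem hβ).charOn]) hβ h2
          h3 h
      · rw [e] at h3
        exact s.uniq_left (star_mem_Irr hα) (by rwa [deg_star (irrOn_of_mem hα).charOn]) hα h1 hβ h2
          h3 h
  have cjR := fun α β (hβ : β ∈ Irr (L ⊔ P)) (h : DR (K ⊔ P) (L ⊔ P) L α β) n (hn : n ∈ N) =>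
    h.cj (irrOn_of_mem hβ).charOn le_sup_left s.BA (hA.mono hNG) nB (hL.mono hNG) hn
  refine ⟨le_antisymm (count_le hAG hA oA hBH hB oB hNG hH (DR (K ⊔ P) (L ⊔ P) L)
    (fun α hα h => s.ex_right hα h) (fun α hα h1 β hβ h2 h => (re α hα h1 β hβ h2 h).1)
    fun α hα h1 α' hα' h2 β hβ h3 n hn h h' => s.uniq_left hα' h2 (cj_mem_Irr (hA.mono hNG) hα hn)
      (by rwa [deg_cj]) (cj_mem_Irr nB hβ hn) (by rwa [deg_cj]) h' (cjR α β hβ h n hn))
    (count_le hBH hB oB hAG hA oA le_sup_right hG (fun β α => DR (K ⊔ P) (L ⊔ P) L α β)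
    (fun β hβ h => s.ex_left hβ h) (fun β hβ h2 α hα h1 h => (re α hα h1 β hβ h2 h).2)
    fun β hβ h1 β' hβ' h2 α hα h3 n hn h h' => s.uniq_right (cj_mem_Irr (hA.mono hNG) hα hn)
      (by rwa [deg_cj]) hβ' h2 (cj_mem_Irr nB hβ hn) (by rwa [deg_cj]) h' (cjR α β hβ h n hn)),
    fun h => ?_, fun h => ?_⟩
  · have e1 : G = K ⊔ P := le_antisymm (h.le hAG hA oA) hAG
    have e2 : L ⊔ N = L ⊔ P := le_antisymm (sup_le le_sup_left
      ((le_inf (hNG.trans e1.le) le_rfl).trans hfix)) hBH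
    rw [e2]
    rw [e1] at h
    intro β hβ h2
    obtain ⟨α, hα, h1, h3⟩ := s.ex_left hβ h2
    exact (re α hα h1 β hβ h2 h3).1 (h α hα h1)
  · have e2 : L ⊔ N = L ⊔ P := le_antisymm (h.le hBH hB oB) hBH
    have e1 : G = K ⊔ P := le_antisymm (fun g hg => by
      obtain ⟨a, ha, n, hn, rfl⟩ := hG g hg
      exact mul_mem ha (s.BA (e2.le (mem_sup_right hn)))) hAG
    rw [e2] at h
    rw [e1]
    intro α hα h1
    obtain ⟨β, hβ, h2, h3⟩ := s.ex_right hα h1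
    exact (re α hα h1 β hβ h2 h3).2 (h β hβ h2)

theorem exists_st [Fact p.Prime] [Group.IsSolvable Γ] (hP : Amalg.Syl p P G) (h : ¬ Nrm G P) :
    ∃ K L, K ≤ G ∧ Nrm G K ∧ Nrm G L ∧ Nrm G (K ⊔ P) ∧ St p P K L ∧
      L ⊔ (G ⊓ normalizer (P : Set Γ)) < G := by
  obtain ⟨K, ⟨hKG, hK, hA⟩, hmin⟩ := exists_minimal_of_wellFoundedLT
    (fun K : Subgroup Γ => K ≤ G ∧ Nrm G K ∧ Nrm G (K ⊔ P))
    ⟨G, le_rfl, nrm_self G, by rw [sup_eq_left.2 hP.le]; exact nrm_self G⟩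
  have hK0 : K ≠ ⊥ := by
    rintro rfl
    exact h (by simpa using hA)
  obtain ⟨L, ⟨hab, hLK, hL⟩, hmax⟩ := exists_maximal_of_wellFoundedGT
    (fun L : Subgroup Γ => ⁅K, K⁆ ≤ L ∧ L < K ∧ Nrm G L)
    ⟨⁅K, K⁆, le_rfl, Group.IsSolvable.commutator_lt_of_ne_bot hK0, nrm_commutator' hK⟩
  have hS := hP.of_le le_sup_right (sup_le hKG hP.le)
  have hG : ∀ g ∈ G, ∃ k ∈ K, ∃ n ∈ G ⊓ normalizer (P : Set Γ), g = k * n := fun g hg => by
    obtain ⟨a, ha, n, hn, e⟩ := hS.frattini_mem (hA.le_normalizer hg)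
    obtain ⟨k, hk, u, hu, rfl⟩ := exists_mul_of_mem_sup_nrm' (hK.mono hP.le) (by rwa [sup_comm])
    exact ⟨k, hk, u * n, ⟨(mul_mem_cancel_left (hKG hk)).1 (by rwa [← mul_assoc, ← e]),
      mul_mem (le_normalizer hu) hn⟩, e.trans (mul_assoc _ _ _)⟩
  have nor : ∀ D, Nrm K D → Nrm (G ⊓ normalizer (P : Set Γ)) D → Nrm G D := fun D h1 h2 =>
    (nrm_sup' h1 h2).mono fun g hg => by
      obtain ⟨k, hk, n, hn, rfl⟩ := hG g hg
      exact mul_mem (mem_sup_left hk) (mem_sup_right hn)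
  have hN : Nrm (G ⊓ normalizer (P : Set Γ)) (normalizer (P : Set Γ)) :=
    (nrm_self _).mono inf_le_right
  have hNP : Nrm (G ⊓ normalizer (P : Set Γ)) P := nrm_of_le_normalizer inf_le_right
  have hfix : K ⊓ normalizer (P : Set Γ) ≤ L := by
    have h1 : K ⊓ normalizer (P : Set Γ) ⊔ L ≤ K := sup_le inf_le_left hLK.le
    rcases h1.lt_or_eq with h2 | h2
    · exact le_sup_left.trans (hmax ⟨hab.trans le_sup_right, h2, nor _
        (nrm_of_commutator_le h1 (hab.trans le_sup_right))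
        (((hK.mono inf_le_left).inf hN).sup (hL.mono inf_le_left))⟩ le_sup_right)
    · refine absurd (hmin ⟨hLK.le.trans hKG, hL, nor _ ?_ ((hL.mono inf_le_left).sup hNP)⟩ hLK.le)
        hLK.not_ge
      rw [← h2]
      exact nrm_sup' (((hL.mono hKG).mono inf_le_left).sup (nrm_of_le_normalizer inf_le_right))
        ((nrm_self _).mono le_sup_left)
  refine ⟨K, L, hKG, hK, hL, hA, ⟨hLK.le, hK.mono hP.le, hL.mono hP.le, hab, hS, hfix⟩,
    lt_of_le_of_ne (sup_le (hLK.le.trans hKG) inf_le_left) fun e => hLK.not_ge fun k hk => ?_⟩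
  obtain ⟨l, hl, n, hn, rfl⟩ := exists_mul_of_mem_sup_nrm' (hL.mono inf_le_left)
    (by rw [sup_comm, e]; exact hKG hk : k ∈ G ⊓ normalizer (P : Set Γ) ⊔ L)
  exact mul_mem hl (hfix ⟨(mul_mem_cancel_left (hLK.le hl)).1 hk, hn.2⟩)

theorem reduce [Fact (Nat.Prime 2)] [Group.IsSolvable Γ] (G : Subgroup Γ) (hP : Amalg.Syl 2 P G) :
    (XO G).card = (XO (G ⊓ normalizer (P : Set Γ))).card ∧
      (AllR G ↔ AllR (G ⊓ normalizer (P : Set Γ))) := by
  induction G using WellFoundedLT.induction with | _ G ih => ?_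
  by_cases h : Nrm G P
  · rw [inf_eq_left.2 h.le_normalizer]
    exact ⟨rfl, Iff.rfl⟩
  obtain ⟨K, L, hKG, hK, hL, hA, s, hlt⟩ := exists_st hP h
  obtain ⟨h1, h2⟩ := step hP hKG hK hL hA s
  obtain ⟨h3, h4⟩ := ih _ hlt (hP.of_le ((le_inf hP.le le_normalizer).trans le_sup_right) hlt.le)
  have e : (L ⊔ G ⊓ normalizer (P : Set Γ)) ⊓ normalizer (P : Set Γ) = G ⊓ normalizer (P : Set Γ) :=
    le_antisymm (inf_le_inf_right _ hlt.le) (le_inf le_sup_right inf_le_right)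
  rw [e] at h3 h4
  exact ⟨h1.trans h3, h2.trans h4⟩

theorem allR_iff [Fact (Nat.Prime 2)] (hP : Amalg.Syl 2 P N) (hN : Nrm N P) :
    AllR N ↔ _root_.commutator P = frattini P ∧ N = P := by
  have e0 : ∀ x : P, x ∈ _root_.commutator P ↔ (x : Γ) ∈ ⁅P, P⁆ := fun x => by
    rw [← map_subtype_commutator]
    exact ⟨mem_map_of_mem _, fun ⟨y, hy, e⟩ => Subtype.ext e ▸ hy⟩
  refine ⟨fun h => ?_, fun ⟨h1, h2⟩ => ?_⟩
  · have e : N = P := le_antisymm (h.le hP.le hN (Nat.not_even_iff_odd.1 fun h' =>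
      hP.not_dvd_relIndex (even_iff_two_dvd.1 h'))) hP.le
    subst e
    refine ⟨le_antisymm (Core.commutator_le_frattini_of_isPGroup hP.isPGroup)
      ((Core.frattini_le_iff_of_isPGroup hP.isPGroup).2 ⟨le_rfl, fun x => (e0 _).2 ?_⟩), rfl⟩
    by_contra hc
    obtain ⟨β, hβ, h1⟩ := exists_IrrKer_ne (Clifford.commutator_le_self N) (nrm_commutator N) hc
    have hl := linOn_of_mem_IrrKer le_rfl hβ
    apply h1
    rw [hl.2, Subgroup.coe_pow, hl.map_pow x.2, sq, ← hl.mul_conj x.2,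
      h β (mem_IrrKer.1 hβ).1 (by rw [hl.deg]; decide) x x.2]
  · subst h2
    intro β hβ hd x hx
    have hβ' := irrOn_of_mem hβ
    obtain ⟨k, hk⟩ := hP.isPGroup.exists_card_eq
    have hl := hβ'.charOn.linOn_of_deg (Nat.Coprime.eq_one_of_dvd
      (((Nat.Prime.coprime_iff_not_dvd Nat.prime_two).2 hd).symm.pow_right k)
      (hβ'.deg_dvd_card.trans (dvd_of_eq hk)))
    have h3 := (e0 _).1 (h1 ▸ ((Core.frattini_le_iff_of_isPGroup hP.isPGroup).1 le_rfl).2 ⟨x, hx⟩)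
    have h4 := (hl.mem_kerOn.1 (hl.commutator_le h3)).2
    rw [Subgroup.coe_pow, hl.map_pow hx, sq, ← hl.mul_conj hx] at h4
    exact (mul_left_cancel₀ (hl.ne_zero hx) h4).symm

end Cfsg.Lib.Block2.RP
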