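import Cfsg.Agent.Lib.Coprime.Glaub4
import Cfsg.Agent.Lib.Coprime.Basic
import Cfsg.Agent.Lib.Clifford.Real
import Cfsg.Agent.Lib.Amalg.Syl
import Cfsg.Agent.Lib.Hall.MinNormal
import Cfsg.Agent.Lib.Core.Frattini
import Cfsg.Agent.S0160

/-! Groups whose real irreducible characters have degree prime to `p`. -/

set_option autoImplicit false
set_option linter.unusedSectionVars false
set_option linter.style.haveILetI false

namespace Cfsg.Lib.Block2.RP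

open Cfsg Cfsg.Lib Cfsg.Lib.Char Cfsg.Lib.Clifford Cfsg.Lib.Coprime Finset Subgroup
open scoped ComplexConjugate Classical commutatorElement

universe u

variable {Γ : Type*} [Group Γ] [Finite Γ] {G K N M H T P Q C W : Subgroup Γ}
  {χ ψ φ θ η ξ lam μ : Γ → ℂ} {p : ℕ}

theorem cj_star (x : Γ) (φ : Γ → ℂ) : cj x (star φ) = star (cj x φ) := rfl

theorem nrm_zpowers {x : Γ} (hx : ∀ k ∈ K, x * k * x⁻¹ ∈ K) : Nrm (zpowers x) K := by
  refine nrm_of_le_normalizer ((zpowers_le).2 ?_)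
  exact Amalg.mem_normalizer_of_cj_le (Amalg.cj_le_iff'.2 hx)

theorem deg_cj (x : Γ) (φ : Γ → ℂ) : charDegree (cj x φ) = charDegree φ := by
  unfold charDegree; rw [cj_at_one]

theorem deg_star (h : CharOn K φ) : charDegree (star φ) = charDegree φ :=
  charDegree_of_eq (by rw [Pi.star_apply, h.one_eq]; simp)

theorem mult_star (hφ : CharOn K φ) (hψ : CharOn K ψ) :
    mult K (star φ) (star ψ) = mult K φ ψ :=
  mult_of_eq (by rw [dot_star, ← hφ.dot_comm hψ, hφ.dot_eq_mult hψ])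

/-- Parity: a character of odd degree on which `x` acts as complex conjugation has such a
constituent. -/
theorem exists_twisted {x : Γ} (hx : ∀ k ∈ K, x * k * x⁻¹ ∈ K) (h2 : x * x ∈ K) (hφ : CharOn K φ)
    (ho : Odd (charDegree φ)) (e : ∀ k ∈ K, φ (x * k * x⁻¹) = conj (φ k)) :
    ∃ ψ ∈ Irr K, dot K φ ψ ≠ 0 ∧ cj x ψ = star ψ := by
  by_contra hc
  push Not at hc
  have hN := nrm_zpowers hx
  have hx' : x ∈ zpowers x := mem_zpowers x
  have key : ∀ ψ ∈ Irr K, mult K φ (star (cj x ψ)) = mult K φ ψ := fun ψ hψ => by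
    have h1 := (irrOn_of_mem hψ).charOn
    rw [← mult_cj hN hx' φ ψ, ← mult_star (hφ.cj hN hx') (h1.cj hN hx')]
    refine mult_congr_left (fun k hk => ?_) _
    rw [Pi.star_apply, cj_apply, e k hk]; simp
  have h0 : ∑ ψ ∈ Irr K, ((mult K φ ψ * charDegree ψ : ℕ) : ZMod 2) = 0 := by
    refine sum_involution (fun ψ _ => star (cj x ψ)) (fun ψ hψ => ?_) (fun ψ hψ h e' => ?_)
      (fun ψ hψ => star_mem_Irr (cj_mem_Irr hN hψ hx')) (fun ψ hψ => ?_)
    · rw [key ψ hψ, deg_star ((irrOn_of_mem hψ).charOn.cj hN hx'), deg_cj]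
      exact CharTwo.add_self_eq_zero _
    · refine hc ψ hψ ((hφ.mult_ne_zero (irrOn_of_mem hψ).charOn).1 fun h0 => h ?_) ?_
      · rw [h0]; simp
      · rw [← e', star_star, e']
    · rw [cj_star, star_star, cj_cj]
      have := cj_eq_of_invOn (nrm_self K) hψ (irrOn_of_mem hψ).classOn h2
      exact this
  rw [← Nat.cast_sum, ← hφ.deg_eq_sum, ZMod.natCast_eq_zero_iff_even] at h0
  exact (Nat.not_even_iff_odd.2 ho) h0

/-- An invariant linear character extends over a complement. -/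
theorem exists_ext_compl (hN : Nrm H N) (hd : N ⊓ H = ⊥) (hl : LinOn N lam) (hi : InvOn H N lam) :
    ∃ μ, LinOn (N ⊔ H) μ ∧ ∀ n ∈ N, ∀ h ∈ H, μ (n * h) = lam n := by
  have ex : ∀ g ∈ N ⊔ H, ∃ n ∈ N, ∃ h ∈ H, g = n * h := fun g hg =>
    exists_mul_of_mem_sup_nrm' hN (by rwa [sup_comm])
  let π : Γ → Γ := fun g => if hg : g ∈ N ⊔ H then (ex g hg).choose else 1
  have hπ : ∀ n ∈ N, ∀ h ∈ H, π (n * h) = n := fun n hn h hh => by
    have hg : n * h ∈ N ⊔ H := mul_mem (mem_sup_left hn) (mem_sup_right hh)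
    obtain ⟨h1, h', h2, e⟩ := (ex _ hg).choose_spec
    simp only [π, dif_pos hg]
    generalize (ex _ hg).choose = m at h1 e
    have h3 : m⁻¹ * n ∈ N ⊓ H := mem_inf.2 ⟨mul_mem (inv_mem h1) hn, by
      have : m⁻¹ * n = h' * h⁻¹ := by
        rw [inv_mul_eq_iff_eq_mul, ← mul_assoc, ← e, mul_inv_cancel_right]
      rw [this]; exact mul_mem h2 (inv_mem hh)⟩
    rw [hd, mem_bot, inv_mul_eq_one] at h3
    exact h3
  refine ⟨fun g => lam (π g), linOn_of_map_mul ?_ fun a ha b hb => ?_, fun n hn h hh => ?_⟩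
  · have := hπ 1 (one_mem _) 1 (one_mem _)
    rw [mul_one] at this
    simp only [this]; exact hl.2
  · obtain ⟨n, hn, h, hh, rfl⟩ := ex a ha
    obtain ⟨n', hn', h', hh', rfl⟩ := ex b hb
    have : n * h * (n' * h') = n * (h * n' * h⁻¹) * (h * h') := by group
    rw [this, hπ _ (mul_mem hn (hN h hh n' hn')) _ (mul_mem hh hh'), hπ n hn h hh, hπ n' hn' h' hh',
      hl.map_mul hn (hN h hh n' hn'), hi h hh n' hn']
  · simp only [hπ n hn h hh]

theorem inertia_nrm_of_conj [M.Normal] {x : Γ} (e : ∀ m ∈ M, lam (x * m * x⁻¹) = conj (lam m)) :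
    (∀ t ∈ inertia ⊤ M lam, x * t * x⁻¹ ∈ inertia ⊤ M lam) ∧ x * x ∈ inertia ⊤ M lam := by
  have hM := nrm_of_normal ⊤ M
  have e' : ∀ m ∈ M, lam (x⁻¹ * m * x) = conj (lam m) := fun m hm => by
    have h1 : x⁻¹ * m * x ∈ M := by simpa using hM x⁻¹ (mem_top _) m hm
    have := e _ h1
    rw [show x * (x⁻¹ * m * x) * x⁻¹ = m by group] at this
    rw [this]; simp
  refine ⟨fun t ht => (mem_inertia hM).2 ⟨mem_top _, fun m hm => ?_⟩,
    (mem_inertia hM).2 ⟨mem_top _, fun m hm => ?_⟩⟩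
  · have h1 : x⁻¹ * m * x ∈ M := by simpa using hM x⁻¹ (mem_top _) m hm
    rw [show x * t * x⁻¹ * m * (x * t * x⁻¹)⁻¹ = x * (t * (x⁻¹ * m * x) * t⁻¹) * x⁻¹ by group,
      e _ (hM t (mem_top _) _ h1), ((mem_inertia hM).1 ht).2 _ h1, e' m hm]
    simp
  · rw [show x * x * m * (x * x)⁻¹ = x * (x * m * x⁻¹) * x⁻¹ by group, e _ (hM x (mem_top _) m hm),
      e m hm]
    simp

/-- A real irreducible character over a linear character that is conjugate to its inverse. -/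
theorem exists_real_over [M.Normal] (hl : LinOn M lam) (hH : H ≤ inertia ⊤ M lam) (hd : M ⊓ H = ⊥)
    (ho : Odd ((M ⊔ H).relIndex (inertia ⊤ M lam))) {x : Γ} (hx : ∀ h ∈ H, x * h * x⁻¹ ∈ H)
    (e : ∀ m ∈ M, lam (x * m * x⁻¹) = conj (lam m)) :
    ∃ χ ∈ Irr (⊤ : Subgroup Γ), RealOn ⊤ χ ∧ dot M χ lam ≠ 0 := by
  have hM := nrm_of_normal ⊤ M
  have hMT : M ≤ inertia ⊤ M lam := le_inertia le_top hM hl.classOn
  obtain ⟨hT, h2⟩ := inertia_nrm_of_conj e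
  have hinv := invOn_inertia (θ := lam) hM
  have hirr := fun ψ => irrOn_ind_inertia (ψ := ψ) le_top hM hl.irrOn
  have hdot := fun ψ => dot_ind_inertia (ψ := ψ) le_top hM hl.irrOn
  generalize inertia ⊤ M lam = T at *
  obtain ⟨μ, hμ, eμ⟩ := exists_ext_compl (hM.mono le_top) hd hl (hinv.mono hH le_rfl)
  have hW : M ⊔ H ≤ T := sup_le hMT hH
  have ex : ∀ g ∈ M ⊔ H, ∃ n ∈ M, ∃ h ∈ H, g = n * h := fun g hg =>
    exists_mul_of_mem_sup_nrm' (hM.mono le_top) (by rwa [sup_comm])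
  have hxW : ∀ w ∈ M ⊔ H, x * w * x⁻¹ ∈ M ⊔ H := fun w hw => by
    obtain ⟨n, hn, h, hh, rfl⟩ := ex w hw
    rw [show x * (n * h) * x⁻¹ = (x * n * x⁻¹) * (x * h * x⁻¹) by group]
    exact mul_mem (mem_sup_left (hM x (mem_top _) n hn)) (mem_sup_right (hx h hh))
  have eM : ∀ m ∈ M, μ m = lam m := fun m hm => by simpa using eμ m hm 1 (one_mem _)
  have hφ := hμ.charOn.ind hW
  have hμi : InvOn T M μ := hinv.congr (hM.mono le_top) fun m hm => (eM m hm).symm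
  obtain ⟨ψ, hψ, h0, hs⟩ := exists_twisted hT h2 hφ (by
    rw [hμ.charOn.deg_ind hW, hμ.deg, mul_one]; exact ho) (fun k hk => by
    rw [← cj_apply x (ind (M ⊔ H) T μ) k, cj_ind (nrm_zpowers hxW) (nrm_zpowers hT) (mem_zpowers x),
      ind_congr T (ψ := star μ), ind_star]
    · rfl
    · intro w hw
      obtain ⟨n, hn, h, hh, rfl⟩ := ex w hw
      rw [cj_apply, show x * (n * h) * x⁻¹ = (x * n * x⁻¹) * (x * h * x⁻¹) by group,
        eμ _ (hM x (mem_top _) n hn) _ (hx h hh), e n hn, Pi.star_apply, eμ n hn h hh]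
      rfl)
  have hψ' := irrOn_of_mem hψ
  have h1 : dot M ψ lam ≠ 0 := by
    obtain ⟨θ, hθ, h3⟩ := hψ'.exists_under hMT
    have h4 := hφ.dot_ne_zero_trans hMT hψ' (irrOn_of_mem hθ).charOn h0 h3
    rw [dot_congr_left (φ' := ((M ⊔ H).relIndex T : ℂ) • lam) fun m hm => by
      rw [ind_apply_of_invOn le_sup_left hW (hM.mono le_top) hμi hm, eM m hm]; rfl,
      dot_smul_left] at h4
    have h5 := hl.irrOn.eq_of_dot_ne_zero (irrOn_of_mem hθ) (right_ne_zero_of_mul h4)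
    rwa [dot_congr_right _ h5]
  have hi := hirr ψ hψ' h1
  have hm := ind_mem_Irr le_top hi
  refine ⟨_, hm, (star_eq_iff hm).1 ?_, by rw [hdot ψ hψ' h1]; exact h1⟩
  rw [← ind_star, ← hs, ind_cj (mem_top x) ((nrm_zpowers hT).mem_iff (mem_zpowers x))]

theorem exists_real_over_odd [M.Normal] (hl : LinOn M lam) (ho : Odd (Nat.card M)) {x : Γ} {k : ℕ}
    (hx : x ^ 2 ^ k = 1) (e : ∀ m ∈ M, lam (x * m * x⁻¹) = conj (lam m)) :
    ∃ χ ∈ Irr (⊤ : Subgroup Γ), RealOn ⊤ χ ∧ dot M χ lam ≠ 0 := by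
  obtain ⟨hT, -⟩ := inertia_nrm_of_conj e
  have hMT : M ≤ inertia ⊤ M lam := le_inertia le_top (nrm_of_normal ⊤ M) hl.classOn
  obtain ⟨S, hS, hxS⟩ := Amalg.exists_syl_ge (Amalg.isPGroup_zpowers_of_pow hx)
    (nrm_zpowers hT).le_normalizer
  have hS' := hS.inf_normal le_normalizer le_rfl
  have hx' := hxS (mem_zpowers x)
  refine exists_real_over hl hS'.le ?_ ?_ (x := x) (fun h hh => mem_inf.2
    ⟨mul_mem (mul_mem hx' hh.1) (inv_mem hx'), hT h hh.2⟩) e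
  · exact Amalg.isPGroup_eq_bot_of_not_dvd (hS'.isPGroup.to_le inf_le_right) inf_le_left
      fun h => (Nat.not_even_iff_odd.2 ho) (even_iff_two_dvd.2 h)
  · exact Nat.not_even_iff_odd.1 fun h => hS'.not_dvd_relIndex_of_le le_sup_right
      (even_iff_two_dvd.1 h)

/-- A `2`-element acting non-trivially on `M/M'` has a power inverting a linear character. -/
theorem exists_inverted [M.Normal] {y : Γ} {k : ℕ} (hy : y ^ 2 ^ k = 1)
    (h : ∃ m ∈ M, y * m * y⁻¹ * m⁻¹ ∉ ⁅M, M⁆) : ∃ (j : ℕ) (lam : Γ → ℂ), LinOn M lam ∧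
      (¬ ∀ m ∈ M, lam m = 1) ∧ ∀ m ∈ M, lam (y ^ 2 ^ j * m * (y ^ 2 ^ j)⁻¹) = conj (lam m) := by
  have hM := nrm_of_normal ⊤ M
  obtain ⟨m, hm, h⟩ := h
  obtain ⟨ν, hν, h1⟩ := exists_IrrKer_ne (Clifford.commutator_le_self M) (nrm_commutator M) h
  have hl := linOn_of_mem_IrrKer le_rfl hν
  have h2 : ¬ ∀ m ∈ M, ν (y ^ 2 ^ 0 * m * (y ^ 2 ^ 0)⁻¹) = ν m := fun h2 => h1 <| by
    have := h2 m hm
    rw [pow_zero, pow_one] at this
    rw [hl.map_mul (hM y (mem_top _) m hm) (inv_mem hm), this, ← hl.map_mul hm (inv_mem hm),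
      mul_inv_cancel]
  have h3 : ∃ j, ∀ m ∈ M, ν (y ^ 2 ^ j * m * (y ^ 2 ^ j)⁻¹) = ν m := ⟨k, by simp [hy]⟩
  obtain ⟨j, hj⟩ := Nat.exists_eq_succ_of_ne_zero fun h0 => h2 (h0 ▸ Nat.find_spec h3)
  have h4 := Nat.find_spec h3
  have h5 := Nat.find_min h3 (m := j) (by omega)
  rw [hj, Nat.succ_eq_add_one, pow_succ, pow_mul, sq] at h4
  generalize hx : y ^ 2 ^ j = x at h4 h5
  have hc : LinOn M (cj x ν) := ⟨hl.charOn.cj hM (mem_top x), by rw [cj_at_one]; exact hl.2⟩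
  refine ⟨j, ν * star (cj x ν), hl.mul hc.star, fun h6 => h5 fun m hm => ?_, fun m hm => ?_⟩
  · have := h6 m hm
    have h7 := hc.mul_conj hm
    rw [Pi.mul_apply, Pi.star_apply] at this
    rw [← cj_apply x ν m]
    exact mul_right_cancel₀ (hc.star.ne_zero hm) (h7.trans this.symm)
  · rw [hx]
    simp only [Pi.mul_apply, Pi.star_apply, cj_apply, map_mul, RCLike.star_def, Complex.conj_conj]
    rw [show x * (x * m * x⁻¹) * x⁻¹ = x * x * m * (x * x)⁻¹ by group, h4 m hm, mul_comm]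

/-- A character of `p'`-degree invariant under the `p`-group `P` has a `P`-invariant constituent
of `p'`-degree and `p'`-multiplicity. -/
theorem exists_inv_under [Fact p.Prime] (hP : IsPGroup p P) (hN : Nrm P N) (hχ : CharOn N χ)
    (hi : InvOn P N χ) (hd : ¬ p ∣ charDegree χ) :
    ∃ φ ∈ Irr N, InvOn P N φ ∧ ¬ p ∣ mult N χ φ ∧ ¬ p ∣ charDegree φ := by
  by_contra hc
  push Not at hc
  apply hd
  rw [← ZMod.natCast_eq_zero_iff, hχ.deg_eq_sum, Nat.cast_sum, sum_irr_eq_sum_invOn hP hN]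
  · refine sum_eq_zero fun φ hφ => (ZMod.natCast_eq_zero_iff _ _).2 ?_
    obtain ⟨h1, h2⟩ := mem_IrrInv.1 hφ
    by_cases h : p ∣ mult N χ φ
    · exact h.mul_right _
    · exact (hc φ h1 h2 h).mul_left _
  · intro φ hφ u hu
    rw [deg_cj, ← mult_cj hN hu χ φ, mult_congr_left (χ' := cj u χ) fun x hx => (hi u hu x hx).symm]

/-- The real irreducible characters of `K` have degree prime to `p`. -/
def RD (p : ℕ) (K : Subgroup Γ) : Prop := ∀ χ, IrrOn K χ → RealOn K χ → ¬ p ∣ charDegree χ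

theorem RD.quot (h : RD p (⊤ : Subgroup Γ)) (N : Subgroup Γ) [N.Normal] :
    RD p (⊤ : Subgroup (Γ ⧸ N)) := fun χ hχ hr =>
  h (χ ∘ QuotientGroup.mk' N) (IrrOn.comp (by
    rwa [map_top_of_surjective _ (QuotientGroup.mk'_surjective N)])) fun _ _ => hr _ (mem_top _)

theorem RD.of_odd (h : RD p K) (hNK : N ≤ K) (hN : Nrm K N) (ho : Odd (N.relIndex K)) : RD p N :=
  fun θ hθ hr hd => by
    obtain ⟨χ, hχ, h1, h2, -⟩ := exists_real_over_of_odd hNK hN ho hθ hr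
    exact h χ (irrOn_of_mem hχ) h1 (hd.trans (deg_dvd_of_dot hNK hN (irrOn_of_mem hχ) hθ
      (by rw [h2]; exact one_ne_zero)))

theorem RD.top (h : RD p K) : RD p (⊤ : Subgroup K) := fun χ hχ hr => by
  have := h (extendByZero K χ) (irrOn_extendByZero.2 (irrOn_top.1 hχ)) fun x hx => by
    rw [Clifford.extendByZero_of_mem _ hx]; exact hr _ (mem_top _)
  rwa [← charDegree_res K, res_extendByZero] at this

theorem rd_of (h : ∀ χ : IrrCharacter Γ, (∀ g, ((χ : Γ → ℂ) g).im = 0) →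
    ¬ p ∣ charDegree (χ : Γ → ℂ)) : RD p (⊤ : Subgroup Γ) := fun χ hχ hr =>
  h ⟨χ, irrOn_top.1 hχ⟩ (realOn_top.1 hr)

theorem normal_aux [hp : Fact p.Prime] (n : ℕ) : ∀ (G : Type u) [Group G] [Finite G],
    Nat.card G = n → (∃ L : Subgroup G, L.Normal ∧ Group.IsSolvable L ∧ ¬ p ∣ L.index) →
    RD p (⊤ : Subgroup G) → (∀ N : Subgroup G, N.Normal → Odd N.index → ∃ k, N.index = p ^ k) →
    ∀ P : Subgroup G, Amalg.Syl p P ⊤ → P.Normal := by
  induction n using Nat.strong_induction_on with | _ n ih => ?_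
  rintro G _ _ rfl ⟨L, hL, hs, hLi⟩ hr h3 P hP
  have ind : ∀ M : Subgroup G, M.Normal → M ≠ ⊥ → (P ⊔ M).Normal := fun M hM h0 => by
    have hsu := QuotientGroup.mk'_surjective M
    have := ih _ (Hall.card_quotient_lt h0) (G ⧸ M) rfl ⟨L.map (QuotientGroup.mk' M),
      hL.map _ hsu, Hall.isSolvable_map _ L, fun h => hLi (h.trans (index_map_dvd L hsu))⟩
      (hr.quot M) (fun N hN ho => by
        rw [← index_comap_of_surjective N hsu] at ho ⊢
        exact h3 _ (hN.comap _) ho) _ (hP.map_top hsu)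
    have := this.comap (QuotientGroup.mk' M)
    rwa [comap_map_eq, QuotientGroup.ker_mk'] at this
  have fra : ∀ M : Subgroup G, (P ⊔ M).Normal → ∀ g, ∃ n ∈ P ⊔ M,
      ∃ a ∈ normalizer (P : Set G), g = n * a := fun M hM g =>
    (hP.of_le le_sup_left le_top).frattini_mem (le_normalizer_of_normal (mem_top g))
  by_cases h0 : L = ⊥
  · rw [h0, index_bot] at hLi
    rw [hP.eq_bot_iff.2 (by rwa [card_top])]
    infer_instance
  obtain ⟨N, q, hN, hN0, -, hmin, hc, hq, hNq, hNp⟩ := Hall.exists_minNormal_elementary_le L h0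
  have hc' : ∀ a ∈ N, ∀ b ∈ N, a * b = b * a := fun a ha b hb =>
    congrArg Subtype.val (hc.is_comm.comm ⟨a, ha⟩ ⟨b, hb⟩)
  have hM := nrm_of_normal ⊤ N
  have hPN := ind N hN hN0
  by_contra hcon
  have hH : ∀ M : Subgroup G, (P ⊔ M).Normal → ¬ M ≤ normalizer (P : Set G) := fun M hM h =>
    hcon <| normalizer_eq_top_iff.1 <| eq_top_iff.2 fun g _ => by
      obtain ⟨n, hn, a, ha, rfl⟩ := fra M hM g
      exact mul_mem (sup_le le_normalizer h hn) ha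
  have hq' : q ≠ p := by
    rintro rfl
    exact hH N hPN ((hP.le_of_normal hNp le_top le_normalizer_of_normal).trans le_normalizer)
  have hHP : Nrm (normalizer (P : Set G)) P := nrm_of_le_normalizer le_rfl
  have hPH : P ≤ normalizer (P : Set G) := le_normalizer
  have hcen : centralizer (P : Set G) ≤ normalizer (P : Set G) := centralizer_le_normalizer _
  have ex : ∀ g, ∃ n ∈ N, ∃ a ∈ normalizer (P : Set G), g = n * a := fun g => by
    obtain ⟨n, hn, a, ha, rfl⟩ := fra N hPN g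
    obtain ⟨m, hm, u, hu, rfl⟩ := exists_mul_of_mem_sup_nrm' (hM.mono le_top) hn
    exact ⟨m, hm, u * a, mul_mem (hPH hu) ha, mul_assoc _ _ _⟩
  have hNH := hH N hPN
  generalize normalizer (P : Set G) = H at *
  have nor : ∀ D : Subgroup G, Nrm H D → (∀ n ∈ N, ∀ d ∈ D, n * d = d * n) → D.Normal :=
    fun D h1 h2 => ⟨fun d hd g => by
      obtain ⟨n, hn, a, ha, rfl⟩ := ex g
      rw [show n * a * d * (n * a)⁻¹ = n * (a * d * a⁻¹) * n⁻¹ by group, h2 n hn _ (h1 a ha d hd),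
        mul_inv_cancel_right]
      exact h1 a ha d hd⟩
  have hd : N ⊓ H = ⊥ := (hmin _ (nor _ ((hM.mono le_top).inf (nrm_self H))
    fun n hn d hd => hc' n hn d hd.1) inf_le_left).resolve_right fun e => hNH (e ▸ inf_le_right)
  have hle : ⁅N, P⁆ ≤ N := commutator_le_left N P
  have hNP : ⁅N, P⁆ = N := (hmin _ (nor _ (nrm_of_le_normalizer
    (Amalg.le_normalizer_of_cj_le fun a ha => by
      rw [Amalg.cj_commutator, Amalg.cj_normal, Amalg.cj_of_mem_normalizer (hHP.le_normalizer ha)]))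
    fun n hn d hd => hc' n hn d (hle hd)) hle).resolve_left fun e =>
      hNH ((commutator_eq_bot_iff_le_centralizer.1 e).trans hcen)
  have key : ∀ lam, LinOn N lam → (¬ ∀ m ∈ N, lam m = 1) →
      ¬ ∃ χ ∈ Irr (⊤ : Subgroup G), RealOn ⊤ χ ∧ dot N χ lam ≠ 0 := by
    rintro lam hl h1 ⟨χ, hχ, h2, h4⟩
    have hχ' := irrOn_of_mem hχ
    obtain ⟨φ, hφ, hi, h5, -⟩ := exists_inv_under hP.isPGroup (hM.mono le_top)
      (hχ'.charOn.mono le_top) (hχ'.classOn.mono le_top le_top) (hr χ hχ' h2)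
    have hφ' := irrOn_of_mem hφ
    have hφl := hφ'.linOn_of_comm hc'
    have h6 : N ≤ kerOn N φ := by
      conv_lhs => rw [← hNP, commutator_comm]
      exact commutator_le.2 fun u hu n hn => hφl.commutator_mem (hM.mono le_top) hi hu hn
    have h7 := (triv_iff_of_dot le_top le_rfl hM hχ' hφ' (((hχ'.charOn.mono le_top).mult_ne_zero
      hφ'.charOn).1 fun e => h5 (e ▸ dvd_zero p))).2 (triv_kerOn.mono h6)
    have h8 := (triv_iff_of_dot le_top le_rfl hM hχ' hl.irrOn h4).1 h7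
    exact h1 fun m hm => (h8 m hm).trans hl.2
  rcases hq.eq_two_or_odd' with rfl | hq2
  · obtain ⟨x, hx, hx1⟩ := (N.bot_or_exists_ne_one).resolve_left hN0
    obtain ⟨β, hβ, h1⟩ := exists_IrrKer_ne (K := N) bot_le (nrm_of_normal N ⊥) (x := x) hx1
    have hl := (irrOn_of_mem (mem_IrrKer.1 hβ).1).linOn_of_comm hc'
    have hT : N ≤ inertia ⊤ N β := le_inertia le_top hM hl.classOn
    refine key β hl (fun h => h1 ((h x hx).trans hl.2.symm)) (exists_real_over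
      (H := H ⊓ inertia ⊤ N β) hl inf_le_right (by rw [← inf_assoc, hd, bot_inf_eq]) ?_ (x := 1)
      (by simp) fun m hm => ?_)
    · rw [relIndex_eq_one.2 fun t ht => ?_]
      · exact odd_one
      obtain ⟨n, hn, a, ha, rfl⟩ := ex t
      exact mul_mem (mem_sup_left hn) (mem_sup_right (mem_inf.2
        ⟨ha, (mul_mem_cancel_left (hT hn)).1 ht⟩))
    · rw [← hl.charOn.apply_inv hm, one_mul, inv_one, mul_one,
        inv_eq_of_mul_eq_one_right ((sq m).symm.trans (hNq m hm))]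
  have := Fact.mk hq
  have hNo : Odd (Nat.card N) := by
    obtain ⟨k, hk⟩ := hNp.exists_card_eq
    rw [hk]; exact hq2.pow
  rcases Nat.even_or_odd (Nat.card G) with he | ho
  · have h1 := card_mul_card_of_prod (K := ⊤) (H := N) (M := H) le_top le_top fun g _ => ex g
    rw [hd, card_bot, one_mul, card_top] at h1
    rw [← h1, Nat.even_mul] at he
    have := Fact.mk Nat.prime_two
    obtain ⟨⟨t, ht⟩, h2⟩ := exists_prime_orderOf_dvd_card' 2 (even_iff_two_dvd.1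
      (he.resolve_left (Nat.not_even_iff_odd.2 hNo)))
    rw [orderOf_mk] at h2
    have h4 : t ^ 2 ^ 1 = 1 := by rw [pow_one, ← h2, pow_orderOf_eq_one]
    by_cases h5 : ∃ m ∈ N, t * m * t⁻¹ * m⁻¹ ∉ ⁅N, N⁆
    · obtain ⟨j, lam, hl, h6, h7⟩ := exists_inverted h4 h5
      exact key lam hl h6 (exists_real_over_odd hl hNo (k := 1)
        (by rw [← pow_mul, mul_comm, pow_mul, h4, one_pow]) h7)
    push Not at h5
    have hD : (H ⊓ centralizer (N : Set G)).Normal := nor _ ((nrm_self H).inf (nrm_of_normal H _))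
      fun n hn d hd => hd.2 n hn
    refine hH _ (ind _ hD fun e => ?_) inf_le_left
    have : t ∈ H ⊓ centralizer (N : Set G) := ⟨ht, fun m hm => by
      have := h5 m hm
      rw [commutator_eq_bot_iff_le_centralizer.2 fun a ha b hb => hc' b hb a ha, mem_bot,
        mul_inv_eq_one, mul_inv_eq_iff_eq_mul] at this
      exact this.symm⟩
    rw [e, mem_bot] at this
    rw [this, orderOf_one] at h2
    omega
  · obtain ⟨k, hk⟩ := h3 ⊥ inferInstance (by rwa [index_bot])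
    rw [index_bot, ← card_top] at hk
    exact hcon (hP.eq_of_isPGroup (IsPGroup.of_card hk) ▸ inferInstance)

/-- The subgroup generated by the `q`-elements. -/
abbrev OO (q : ℕ) (G : Type*) [Group G] : Subgroup G := closure {g : G | ∃ k : ℕ, orderOf g = q ^ k}

theorem OO_normal (q : ℕ) (G : Type*) [Group G] : (OO q G).Normal :=
  Amalg.normal_of_cj_le fun g => by
    rw [Amalg.cj_closure]
    refine closure_mono ?_
    rintro _ ⟨x, ⟨k, hk⟩, rfl⟩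
    exact ⟨k, by rw [MulEquiv.orderOf_eq, hk]⟩

theorem le_OO {q : ℕ} [Fact q.Prime] (h : IsPGroup q P) : P ≤ OO q Γ := fun x hx =>
  subset_closure (by simpa using IsPGroup.iff_orderOf.1 h ⟨x, hx⟩)

theorem OO_index (q : ℕ) [Fact q.Prime] : ¬ q ∣ (OO q Γ).index := by
  obtain ⟨S, hS⟩ := Amalg.exists_syl q (⊤ : Subgroup Γ)
  exact fun h => hS.not_dvd_index (h.trans (index_dvd_of_le (le_OO hS.isPGroup)))

theorem OO_odd : Odd (OO 2 Γ).index :=
  Nat.not_even_iff_odd.1 fun h => @OO_index Γ _ _ 2 ⟨Nat.prime_two⟩ (even_iff_two_dvd.1 h)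

theorem mem_of_odd_index [N.Normal] (ho : Odd N.index) {x : Γ} {k : ℕ} (hx : orderOf x = 2 ^ k) :
    x ∈ N := by
  have h1 : x ∈ zpowers (x ^ N.index) := mem_zpowers_pow_iff.2 (by
    rw [hx]; exact (Nat.Coprime.pow_right k ho.coprime_two_right))
  exact (zpowers_le.2 (N.pow_index_mem x)) h1

theorem normal_sylow {G : Type u} [Group G] [Finite G] [hp : Fact p.Prime]
    (hs : Group.IsSolvable (OO p G)) (hr : RD p (⊤ : Subgroup G)) (U : Subgroup G) [U.Normal]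
    (hKU : OO 2 G ≤ U) (hUp : ∃ a : ℕ, (OO 2 G).relIndex U = p ^ a) (Q : Sylow p U) :
    (Q : Subgroup U).Normal := by
  have := OO_normal p G
  obtain ⟨a, ha⟩ := hUp
  refine normal_aux _ U rfl ⟨(OO p G).subgroupOf U, inferInstance, ?_, fun h =>
    OO_index p (h.trans (relIndex_dvd_index_of_normal _ U))⟩ (hr.of_odd le_top (nrm_of_normal ⊤ U)
    (by rw [relIndex_top_right]; exact OO_odd.of_dvd_nat (index_dvd_of_le hKU))).top
    (fun N hN ho => ?_) _ (Amalg.syl_top Q)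
  · exact Group.isSolvable_of_isSolvable_injective (f := MonoidHom.codRestrict (U.subtype.comp
        ((OO p G).subgroupOf U).subtype) (OO p G) fun x => x.2) fun x y h =>
      Subtype.ext (Subtype.ext (congrArg (fun z : OO p G => (z : G)) h))
  · have h1 : OO 2 G ≤ N.map U.subtype := (closure_le _).2 fun g hg =>
      ⟨⟨g, hKU (subset_closure hg)⟩, mem_of_odd_index ho (k := hg.choose)
        (by rw [orderOf_mk]; exact hg.choose_spec), rfl⟩
    have h2 : (OO 2 G).subgroupOf U ≤ N := fun x hx => by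
      obtain ⟨y, hy, e⟩ := h1 hx
      rwa [← Subtype.ext e]
    obtain ⟨k, -, hk⟩ := (Nat.dvd_prime_pow hp.out).1 ((index_dvd_of_le h2).trans (dvd_of_eq ha))
    exact ⟨k, hk⟩

theorem le_cent [hp : Fact p.Prime] (hp2 : p ≠ 2) (hr : RD p (⊤ : Subgroup Γ))
    (hP : IsPGroup p P) [M.Normal] (hMP : M ≤ ⁅P, P⁆) : OO 2 Γ ≤ centralizer (M : Set Γ) := by
  have hM := nrm_of_normal ⊤ M
  have hMP' := hMP.trans (Clifford.commutator_le_self P)
  have hMp := hP.to_le hMP'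
  obtain ⟨a, ha⟩ := hMp.exists_card_eq
  have hMo : Odd (Nat.card M) := by rw [ha]; exact (hp.out.odd_of_ne_two hp2).pow
  refine (closure_le _).2 fun y ⟨k, hk⟩ => ?_
  have hy : y ^ 2 ^ k = 1 := by rw [← hk, pow_orderOf_eq_one]
  by_cases h5 : ∃ m ∈ M, y * m * y⁻¹ * m⁻¹ ∉ ⁅M, M⁆
  · obtain ⟨j, lam, hl, h6, h7⟩ := exists_inverted hy h5
    obtain ⟨χ, hχ, h2, h4⟩ := exists_real_over_odd hl hMo (k := k)
      (by rw [← pow_mul, mul_comm, pow_mul, hy, one_pow]) h7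
    have hχ' := irrOn_of_mem hχ
    obtain ⟨φ, hφ, h8, h9⟩ := CharOn.exists_deg_le_of_pgroup (b := 0) hp.out hP
      (hχ'.charOn.mono le_top) (by simpa using hr χ hχ' h2)
    have hφ' := irrOn_of_mem hφ
    have hφl := hφ'.charOn.linOn_of_deg (by simpa using h9)
    have h10 : Triv M φ := (hφ'.linOn_iff.1 hφl).mono hMP
    have h11 : Triv M χ := (hχ'.triv_iff le_top hM).2 <| (hχ'.charOn.mono le_top).dot_ne_zero_trans
      hMP' hφ' (charOn_one M) h8 (by rw [h10.dot_one]; exact hφ'.one_ne_zero)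
    have h12 := (triv_iff_of_dot le_top le_rfl hM hχ' hl.irrOn h4).1 h11
    exact absurd (fun m hm => (h12 m hm).trans hl.2) h6
  push Not at h5
  refine le_centralizer_of_commutator_le_frattini (A := zpowers y) (K := M)
    le_normalizer_of_normal ?_ (le_trans ?_ (Core.commutator_le_frattiniOf hMp)) (mem_zpowers y)
  · rw [Nat.card_zpowers, hk]
    exact Nat.Coprime.pow_left k (hMo.of_dvd_nat (card_subgroup_dvd_card _)).coprime_two_left
  · have : (⁅M, M⁆ : Subgroup Γ).Normal := inferInstance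
    rw [commutator_comm, ← QuotientGroup.ker_mk' ⁅M, M⁆, ← Subgroup.map_eq_bot_iff, Subgroup.map_commutator,
      commutator_eq_bot_iff_le_centralizer, MonoidHom.map_zpowers, zpowers_le]
    rintro _ ⟨m, hm, rfl⟩
    have := (QuotientGroup.eq_one_iff _).2 (h5 m hm)
    simp only [QuotientGroup.mk_mul, QuotientGroup.mk_inv] at this
    rw [mul_inv_eq_one, mul_inv_eq_iff_eq_mul] at this
    exact this.symm

section Mt
variable {α β : Type*} {A : Set α} {B : Set β} {m : α → β → ℕ} {a : α} {b c : β}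

theorem mt_unique (h : Match p A B m) (ha : a ∈ A) (hb : b ∈ B) (hc : c ∈ B) (h1 : ¬ p ∣ m a b)
    (h2 : ¬ p ∣ m a c) : b = c := by
  obtain ⟨d, -, -, hd⟩ := h.ex a ha
  rw [of_not_not fun e => h1 (hd b hb e), of_not_not fun e => h2 (hd c hc e)]

theorem mt_sign (h : Match p A B m) (ha : a ∈ A) (hb : b ∈ B) (h1 : ¬ p ∣ m a b) :
    ((m a b : ZMod p) = 1 ∨ (m a b : ZMod p) = -1) ∧ ∀ c ∈ B, c ≠ b → p ∣ m a c := by
  obtain ⟨d, -, h2, hd⟩ := h.ex a ha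
  rw [of_not_not fun e => h1 (hd b hb e)]
  exact ⟨h2, hd⟩

end Mt

theorem cj_mem_IrrInv {U : Subgroup Γ} (hUP : Nrm U P) (hUK : Nrm U K) (h : θ ∈ IrrInv P K) {u : Γ}
    (hu : u ∈ U) : cj u θ ∈ IrrInv P K :=
  mem_IrrInv.2 ⟨cj_mem_Irr hUK (mem_IrrInv.1 h).1 hu, invOn_cj hUP hUK (mem_IrrInv.1 h).2 hu⟩

theorem star_mem_IrrInv (h : θ ∈ IrrInv P K) : star θ ∈ IrrInv P K :=
  mem_IrrInv.2 ⟨star_mem_Irr (mem_IrrInv.1 h).1, (mem_IrrInv.1 h).2.star⟩

/-- Two `P`-invariant conjugates are conjugate under `N(P)`. -/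
theorem adjust [Fact p.Prime] (hP : Amalg.Syl p P G) (hK : Nrm G K) (hθ : θ ∈ Irr K)
    (hi : InvOn P K θ) {g : Γ} (hg : g ∈ G) (hi' : InvOn P K (cj g θ)) :
    ∃ n ∈ G ⊓ normalizer (P : Set Γ), cj n θ = cj g θ := by
  have h1 : P ≤ inertia G K θ := le_inertia_of_invOn hK hP.le hi
  have h2 : P.map (MulAut.conj g).toMonoidHom ≤ inertia G K θ := Amalg.cj_le_iff'.2 fun u hu =>
    (mem_inertia hK).2 ⟨mul_mem (mul_mem hg (hP.le hu)) (inv_mem hg), fun k hk => by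
      have := hi' u hu _ (((hK.mem_iff' hg k)).2 hk)
      simp only [cj_apply] at this
      convert this using 2 <;> group⟩
  obtain ⟨t, ht, e⟩ := ((hP.conj_of_mem hg).of_le h2 inertia_le).exists_conj
    (hP.of_le h1 inertia_le)
  rw [← Amalg.cj_mul, Amalg.cj_eq_self_iff] at e
  refine ⟨t * g, ⟨mul_mem ht.1 hg, e⟩, ?_⟩
  rw [← cj_cj, cj_eq_of_invOn (hK.mono inertia_le) hθ (invOn_inertia hK) ht]

theorem card_orb_cast [Fact p.Prime] (hP : Amalg.Syl p P G) (hK : Nrm G K) (hθ : θ ∈ IrrInv P K) :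
    (((inertia G K θ).relIndex G : ℕ) : ZMod p) =
      ((inertia (G ⊓ normalizer (P : Set Γ)) K θ).relIndex (G ⊓ normalizer (P : Set Γ)) : ℕ) := by
  obtain ⟨h1, h2⟩ := mem_IrrInv.1 hθ
  have h3 := sum_irr_eq_sum_invOn hP.isPGroup (hK.mono hP.le)
    (fun φ => if φ ∈ orb G K θ then 1 else 0) fun φ hφ u hu => by
      congr 1
      simp only [mem_orb, cut_of_mem_Irr h1, eq_iff_iff]
      refine ⟨fun ⟨g, hg, e⟩ => ⟨g * u⁻¹, mul_mem hg (inv_mem (hP.le hu)), ?_⟩,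
        fun ⟨g, hg, e⟩ => ⟨g * u, mul_mem hg (hP.le hu), by rw [← cj_cj, e]⟩⟩
      rw [← cj_cj, e, cj_cj, mul_inv_cancel, cj_one]
  rw [← card_orb, ← card_orb]
  simp only [sum_boole] at h3
  convert h3 using 3
  · ext φ
    exact ⟨fun h => mem_filter.2 ⟨orb_subset hK (irrOn_of_mem h1) h, h⟩, fun h => (mem_filter.1 h).2⟩
  · ext φ
    simp only [mem_filter, mem_orb, cut_of_mem_Irr h1]
    constructor
    · rintro ⟨g, hg, rfl⟩
      exact ⟨cj_mem_IrrInv (nrm_of_le_normalizer inf_le_right) (hK.mono inf_le_left) hθ hg,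
        g, hg.1, rfl⟩
    · rintro ⟨h4, g, hg, rfl⟩
      exact adjust hP hK h1 h2 hg (mem_IrrInv.1 h4).2

theorem mult_real (hNK : N ≤ K) (hN : Nrm K N) (ho : Odd (N.relIndex K)) (hχ : IrrOn K χ)
    (hθ : IrrOn N θ) (h : dot N χ θ ≠ 0) (hr : RealOn K χ) : mult N χ θ = 1 := by
  obtain ⟨ψ, hψ, h1, h2, -⟩ := exists_real_over_of_odd hNK hN ho hθ
    (real_under_of_odd hNK hN ho hχ hθ h hr)
  have := eq_of_real_of_odd hNK hN ho hχ (irrOn_of_mem hψ) hθ h (by rw [h2]; exact one_ne_zero) hr h1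
  exact mult_of_eq (by rw [dot_congr_left fun x hx => this x (hNK hx), h2, Nat.cast_one])

theorem eq_cj_of_dot (hNK : N ≤ K) (hN : Nrm K N) (hχ : IrrOn K χ) (hθ : θ ∈ Irr N) (hφ : φ ∈ Irr N)
    (h1 : dot N χ θ ≠ 0) (h2 : dot N χ φ ≠ 0) : ∃ g ∈ K, cj g θ = φ := by
  have := mem_orb_of_dot hNK hN hχ (irrOn_of_mem hθ) (irrOn_of_mem hφ) h1 h2
  rwa [mem_orb, cut_of_mem_Irr hθ, cut_of_mem_Irr hφ] at this

/-- The correspondence of real characters. -/
def Rel (p : ℕ) (P K C : Subgroup Γ) (χ ξ : Γ → ℂ) : Prop :=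
  ∃ θ ∈ IrrInv P K, ∃ η ∈ IrrInv P C, dot K χ θ ≠ 0 ∧ ¬ p ∣ mult C θ η ∧ dot C ξ η ≠ 0

section Corr
variable [hp : Fact p.Prime] [K.Normal] (hP : Amalg.Syl p P ⊤) (ho : Odd K.index)
  (hN : N = normalizer (P : Set Γ)) (hC : C = N ⊓ K)
  (hm : Match p (IrrInv P K : Set (Γ → ℂ)) (IrrInv P C : Set (Γ → ℂ)) (mult C))

include hP hN hC in
theorem match_norm (hQ : (P ⊓ K).Normal) :
    Match p (IrrInv P K : Set (Γ → ℂ)) (IrrInv P C : Set (Γ → ℂ)) (mult C) := by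
  refine match_fix' (Q := P ⊓ K) hP.isPGroup (nrm_of_normal _ _) inf_le_right (nrm_of_normal _ _)
    (nrm_of_normal _ _) (hP.isPGroup.to_le inf_le_left) (hP.inf_normal_top K).not_dvd_relIndex
    fun k => ?_
  have h1 : ∀ k ∈ K, ∀ x, x * k * x⁻¹ * k⁻¹ ∈ K := fun k hk x =>
    mul_mem (nrm_of_normal ⊤ K x (mem_top _) k hk) (inv_mem hk)
  subst hC hN
  refine ⟨fun h => ⟨h.2, fun x hx => mem_inf.2 ⟨?_, h1 k h.2 x⟩⟩, fun ⟨h2, h3⟩ => ⟨?_, h2⟩⟩
  · rw [mul_assoc, mul_assoc, ← mul_assoc k]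
    exact mul_mem hx (nrm_of_le_normalizer le_rfl k h.1 _ (inv_mem hx))
  · refine Amalg.mem_normalizer_of_cj_le (Amalg.cj_le_iff'.2 fun x hx => ?_)
    have := mul_mem hx (h3 _ (inv_mem hx)).1
    convert this using 1
    group

include hN hC in
theorem nrms : Nrm N P ∧ Nrm N K ∧ Nrm N C ∧ C ≤ N ∧ C ≤ K ∧ P ≤ N := by
  subst hC hN
  exact ⟨nrm_of_le_normalizer le_rfl, nrm_of_normal _ _, (nrm_self _).inf (nrm_of_normal _ _),
    inf_le_left, inf_le_right, le_normalizer⟩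

include ho hC in
theorem odd_C : Odd (C.relIndex N) := by
  rw [hC, inf_relIndex_left]
  exact ho.of_dvd_nat (relIndex_dvd_index_of_normal K N)

include hP ho hN hC hm

theorem real_iff (hθ : θ ∈ IrrInv P K) (hη : η ∈ IrrInv P C) (h : ¬ p ∣ mult C θ η) :
    RealOn K θ ↔ RealOn C η := by
  obtain ⟨-, -, -, -, h5, -⟩ := nrms hN hC
  have h1 := (mem_IrrInv.1 hθ).1
  have h2 := (mem_IrrInv.1 hη).1
  have h3 := mult_star ((irrOn_of_mem h1).charOn.mono h5) (irrOn_of_mem h2).charOn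
  rw [← star_eq_iff h1, ← star_eq_iff h2]
  refine ⟨fun e => mt_unique hm hθ (star_mem_IrrInv hη) hη ?_ h,
    fun e => hm.inj _ (star_mem_IrrInv hθ) _ hθ _ hη ?_ h⟩
  · rwa [← h3, e] at h
  · rwa [← h3, e] at h

theorem rel_ex (hχ : χ ∈ Irr ⊤) (hr : RealOn ⊤ χ) (hd : ¬ p ∣ charDegree χ) :
    ∃ ξ ∈ Irr N, RealOn N ξ ∧ Rel p P K C χ ξ ∧
      ((charDegree ξ : ZMod p) = charDegree χ ∨ (charDegree ξ : ZMod p) = -charDegree χ) := by
  obtain ⟨h1, h2, h3, h4, h5, h6⟩ := nrms hN hC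
  have hK := nrm_of_normal ⊤ K
  have ho' : Odd (K.relIndex ⊤) := by rwa [relIndex_top_right]
  have hχ' := irrOn_of_mem hχ
  obtain ⟨θ, hθ, hi, h7, -⟩ := exists_inv_under hP.isPGroup (hK.mono le_top)
    (hχ'.charOn.mono le_top) (hχ'.classOn.mono le_top le_top) hd
  have hθ' := irrOn_of_mem hθ
  have h8 : dot K χ θ ≠ 0 := ((hχ'.charOn.mono le_top).mult_ne_zero hθ'.charOn).1
    fun e => h7 (e ▸ dvd_zero p)
  have hθi := mem_IrrInv.2 ⟨hθ, hi⟩
  obtain ⟨η, hη, h9, h10⟩ := hm.ex θ hθi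
  have h11 := not_dvd_of_sign h9
  have hη1 := (mem_IrrInv.1 hη).1
  have hη' := irrOn_of_mem hη1
  obtain ⟨ξ, hξ, h12, h13, -⟩ := exists_real_over_of_odd h4 h3 (odd_C ho hC) hη'
    ((real_iff hP ho hN hC hm hθi hη h11).1 (real_under_of_odd le_top hK ho' hχ' hθ' h8 hr))
  have h14 : dot C ξ η ≠ 0 := by rw [h13]; exact one_ne_zero
  refine ⟨ξ, hξ, h12, ⟨θ, hθi, η, hη, h8, h11, h14⟩, ?_⟩
  have e1 : inertia N C η = inertia N K θ := by
    ext n
    rw [mem_inertia', mem_inertia', cut_of_mem_Irr hθ, cut_of_mem_Irr hη1]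
    refine and_congr_right fun hn => ⟨fun e => hm.inj _ (cj_mem_IrrInv h1 h2 hθi hn) _ hθi _ hη ?_ h11,
      fun e => mt_unique hm hθi (cj_mem_IrrInv h1 h3 hη hn) hη ?_ h11⟩
    · rwa [← mult_cj h3 hn, e] at h11
    · rwa [← mult_cj h3 hn, e] at h11
  have e2 : (charDegree θ : ZMod p) = mult C θ η * charDegree η := by
    rw [(hθ'.charOn.mono h5).deg_eq_sum, Nat.cast_sum, sum_irr_eq_sum_invOn hP.isPGroup
      (h3.mono h6), sum_eq_single_of_mem η hη, Nat.cast_mul]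
    · intro γ hγ e
      exact (ZMod.natCast_eq_zero_iff _ _).2 ((h10 γ hγ e).mul_right _)
    · intro φ hφ u hu
      rw [deg_cj, ← mult_cj (h3.mono h6) hu θ φ,
        mult_congr_left (χ' := cj u θ) fun x hx => (hi u hu x (h5 hx)).symm]
  have e3 := card_orb_cast hP hK hθi
  rw [top_inf_eq, ← hN] at e3
  rw [clifford_deg le_top hK hχ' hθ' h8, clifford_deg h4 h3 (irrOn_of_mem hξ) hη' h14,
    mult_real le_top hK ho' hχ' hθ' h8 hr, mult_real h4 h3 (odd_C ho hC) (irrOn_of_mem hξ) hη' h14 h12,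
    e1]
  push_cast
  rw [e2, e3]
  rcases h9 with e | e <;> rw [e] <;> simp

theorem rel_unique {ξ' : Γ → ℂ} (hχ : χ ∈ Irr ⊤) (hξ : ξ ∈ Irr N) (hξ' : ξ' ∈ Irr N)
    (hr : RealOn N ξ) (hr' : RealOn N ξ') (h : Rel p P K C χ ξ) (h' : Rel p P K C χ ξ') :
    ξ = ξ' := by
  obtain ⟨h1, h2, h3, h4, h5, h6⟩ := nrms hN hC
  have hK := nrm_of_normal ⊤ K
  obtain ⟨θ, hθ, η, hη, a1, a2, a3⟩ := h
  obtain ⟨θ', hθ', η', hη', b1, b2, b3⟩ := h'
  obtain ⟨g, hg, rfl⟩ := eq_cj_of_dot le_top hK (irrOn_of_mem hχ) (mem_IrrInv.1 hθ).1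
    (mem_IrrInv.1 hθ').1 a1 b1
  obtain ⟨n, ⟨-, hn⟩, e⟩ := adjust hP hK (mem_IrrInv.1 hθ).1 (mem_IrrInv.1 hθ).2 hg
    (mem_IrrInv.1 hθ').2
  rw [← hN] at hn
  have e2 : η' = cj n η := mt_unique hm hθ' hη' (cj_mem_IrrInv h1 h3 hη hn) b2
    (by rwa [← e, mult_cj h3 hn])
  rw [e2, dot_cj_right h4 h3 (irrOn_of_mem hξ').classOn hn] at b3
  exact eq_of_mem_Irr hξ hξ' (eq_of_real_of_odd h4 h3 (odd_C ho hC) (irrOn_of_mem hξ)
    (irrOn_of_mem hξ') (irrOn_of_mem (mem_IrrInv.1 hη).1) a3 b3 hr hr')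

theorem rel_inj {χ' : Γ → ℂ} (hχ : χ ∈ Irr ⊤) (hχ' : χ' ∈ Irr ⊤) (hξ : ξ ∈ Irr N)
    (hr : RealOn ⊤ χ) (hr' : RealOn ⊤ χ') (h : Rel p P K C χ ξ) (h' : Rel p P K C χ' ξ) :
    χ = χ' := by
  obtain ⟨h1, h2, h3, h4, h5, h6⟩ := nrms hN hC
  have hK := nrm_of_normal ⊤ K
  obtain ⟨θ, hθ, η, hη, a1, a2, a3⟩ := h
  obtain ⟨θ', hθ', η', hη', b1, b2, b3⟩ := h'
  obtain ⟨n, hn, rfl⟩ := eq_cj_of_dot h4 h3 (irrOn_of_mem hξ) (mem_IrrInv.1 hη).1
    (mem_IrrInv.1 hη').1 a3 b3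
  have e2 : θ' = cj n θ := hm.inj _ hθ' _ (cj_mem_IrrInv h1 h2 hθ hn) _ hη' b2
    (by rwa [mult_cj h3 hn])
  rw [e2, dot_cj_right le_top hK (irrOn_of_mem hχ').classOn (mem_top n)] at b1
  exact eq_of_mem_Irr hχ hχ' (eq_of_real_of_odd le_top hK (by rwa [relIndex_top_right])
    (irrOn_of_mem hχ) (irrOn_of_mem hχ') (irrOn_of_mem (mem_IrrInv.1 hθ).1) a1 b1 hr hr')

theorem rel_surj (hξ : ξ ∈ Irr N) (hr : RealOn N ξ) (hd : ¬ p ∣ charDegree ξ) :
    ∃ χ ∈ Irr ⊤, RealOn ⊤ χ ∧ Rel p P K C χ ξ := by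
  obtain ⟨h1, h2, h3, h4, h5, h6⟩ := nrms hN hC
  have hK := nrm_of_normal ⊤ K
  have hξ' := irrOn_of_mem hξ
  obtain ⟨η, hη, hi, h7, -⟩ := exists_inv_under hP.isPGroup (h3.mono h6)
    (hξ'.charOn.mono h4) (hξ'.classOn.mono h6 h4) hd
  have h8 : dot C ξ η ≠ 0 := ((hξ'.charOn.mono h4).mult_ne_zero (irrOn_of_mem hη).charOn).1
    fun e => h7 (e ▸ dvd_zero p)
  have hηi := mem_IrrInv.2 ⟨hη, hi⟩
  obtain ⟨θ, hθ, h9⟩ := hm.surj η hηi
  obtain ⟨χ, hχ, h12, h13, -⟩ := exists_real_over_of_odd le_top hK (by rwa [relIndex_top_right])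
    (irrOn_of_mem (mem_IrrInv.1 hθ).1) ((real_iff hP ho hN hC hm hθ hηi h9).2
      (real_under_of_odd h4 h3 (odd_C ho hC) hξ' (irrOn_of_mem hη) h8 hr))
  exact ⟨χ, hχ, h12, θ, hθ, η, hηi, by rw [h13]; exact one_ne_zero, h9, h8⟩

end Corr

theorem inf_normal {G : Type u} [Group G] [Finite G] [hp : Fact p.Prime]
    (hs : Group.IsSolvable (OO p G)) (hr : RD p (⊤ : Subgroup G)) {P : Subgroup G}
    (hP : Amalg.Syl p P ⊤) : (P ⊓ OO 2 G).Normal := by
  have := OO_normal 2 G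
  have h1 := hP.inf_normal_top (OO 2 G)
  have h2 := normal_sylow hs hr (OO 2 G) le_rfl ⟨0, by simp⟩ h1.toSylow
  have h3 := Sylow.characteristic_of_normal _ h2
  rw [← h1.map_toSylow]
  infer_instance

theorem bij [hp : Fact p.Prime] [K.Normal] (ho : Odd K.index) (hr : RD p (⊤ : Subgroup Γ))
    (hP : Amalg.Syl p P ⊤) (hQ : (P ⊓ K).Normal) :
    ∃ f : {χ : IrrCharacter Γ // ∀ g : Γ, ((χ : Γ → ℂ) g).im = 0} →
      {ξ : IrrCharacter ↥(normalizer (P : Set Γ)) //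
        (∀ n, ((ξ : ↥(normalizer (P : Set Γ)) → ℂ) n).im = 0) ∧
          ¬ p ∣ charDegree (ξ : ↥(normalizer (P : Set Γ)) → ℂ)}, Function.Bijective f ∧
      ∀ χ, ((charDegree ((f χ).1 : ↥(normalizer (P : Set Γ)) → ℂ) : ZMod p) =
        (charDegree (χ.1 : Γ → ℂ) : ZMod p) ∨
        (charDegree ((f χ).1 : ↥(normalizer (P : Set Γ)) → ℂ) : ZMod p) =
          -(charDegree (χ.1 : Γ → ℂ) : ZMod p)) := by
  have hm := match_norm hP rfl rfl hQ
  have h0 : ∀ χ : {χ : IrrCharacter Γ // ∀ g : Γ, ((χ : Γ → ℂ) g).im = 0},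
      (χ.1 : Γ → ℂ) ∈ Irr ⊤ ∧ RealOn ⊤ (χ.1 : Γ → ℂ) := fun χ =>
    ⟨mem_Irr_top.2 χ.1.2, realOn_top.2 χ.2⟩
  have h1 := fun χ => hr _ (irrOn_of_mem (h0 χ).1) (h0 χ).2
  choose F hF h2 h3 h4 using fun χ => rel_ex hP ho rfl rfl hm (h0 χ).1 (h0 χ).2 (h1 χ)
  refine ⟨fun χ => ⟨⟨res _ (F χ), irrOn_of_mem (hF χ)⟩, realOn_iff_im.1 (h2 χ), fun h => h1 χ ?_⟩,
    ⟨fun χ χ' e => ?_, fun ⟨ξ, h5, h6⟩ => ?_⟩, h4⟩
  · rw [← ZMod.natCast_eq_zero_iff] at h ⊢
    rcases h4 χ with e | e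
    · exact e.symm.trans h
    · exact neg_eq_zero.1 (e.symm.trans h)
  · have e' : F χ = F χ' := eq_of_res_eq (hF χ) (hF χ')
      (congrArg Subtype.val (congrArg Subtype.val e))
    exact Subtype.ext (Subtype.ext (rel_inj hP ho rfl rfl hm (h0 χ).1 (h0 χ').1 (hF χ) (h0 χ).2
      (h0 χ').2 (h3 χ) (by rw [e']; exact h3 χ')))
  · induction ξ using irrCharacter_ind with | h ξ hξ => ?_
    have h7 := realOn_iff_im.2 h5
    obtain ⟨χ, hχ, h8, h9⟩ := rel_surj hP ho rfl rfl hm hξ h7 h6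
    let c : {χ : IrrCharacter Γ // ∀ g : Γ, ((χ : Γ → ℂ) g).im = 0} :=
      ⟨⟨χ, mem_Irr_top.1 hχ⟩, realOn_top.1 h8⟩
    have e : F c = ξ := rel_unique hP ho rfl rfl hm hχ (hF c) hξ (h2 c) h7 (h3 c) h9
    exact ⟨c, Subtype.ext (Subtype.ext (congrArg (res _) e))⟩

theorem mem_of_real [K.Normal] (ho : Odd K.index) {x : Γ} (hx : IsConj x x⁻¹) : x ∈ K := by
  obtain ⟨g, e⟩ := isConj_iff.1 hx
  refine (QuotientGroup.eq_one_iff x).1 (eq_one_of_conj_eq_inv (K := ⊤) (by rwa [card_top])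
    (mem_top (g : Γ ⧸ K)) (mem_top _) ?_)
  rw [← QuotientGroup.mk_inv, ← QuotientGroup.mk_inv, ← e]
  rfl

theorem meet_aux [hp : Fact p.Prime] [K.Normal] (ho : Odd K.index) (hr : RD p (⊤ : Subgroup Γ))
    (hP : Amalg.Syl p P ⊤) (hQ : P ⊓ K = ⊥) {x : Γ} (hx : IsConj x x⁻¹) :
    ∃ y ∈ normalizer (P : Set Γ), IsConj x y := by
  obtain ⟨f, hf, -⟩ := bij ho hr hP (hQ ▸ inferInstance)
  have h1 := Nat.card_le_card_of_injective _ (Subtype.map_injective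
    (q := fun ξ : IrrCharacter (normalizer (P : Set Γ)) => ∀ n, (ξ.1 n).im = 0)
    (fun _ h => h.1) Function.injective_id |>.comp hf.1)
  rw [Agent.S0160.result, Agent.S0160.result] at h1
  have hc : ∀ y ∈ normalizer (P : Set Γ), IsConj y y⁻¹ → P ≤ centralizer {y} := fun y hy h u hu => by
    have h2 : y * u * y⁻¹ * u⁻¹ ∈ P ⊓ K := mem_inf.2
      ⟨mul_mem (nrm_of_le_normalizer le_rfl y hy u hu) (inv_mem hu), by
        rw [mul_assoc, mul_assoc, ← mul_assoc u]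
        exact mul_mem (mem_of_real ho h) (nrm_of_normal ⊤ K u (mem_top _) _
          (inv_mem (mem_of_real ho h)))⟩
    rw [hQ, mem_bot, mul_inv_eq_one, mul_inv_eq_iff_eq_mul] at h2
    exact mem_centralizer_singleton_iff.2 h2.symm
  generalize hN : normalizer (P : Set Γ) = N at *
  let i : {C : ConjClasses N // ∀ g, ConjClasses.mk g = C → IsConj g g⁻¹} →
      {C : ConjClasses Γ // ∀ g, ConjClasses.mk g = C → IsConj g g⁻¹} := fun C =>
    ⟨C.1.map N.subtype, fun g hg => by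
      obtain ⟨C, hC⟩ := C
      obtain ⟨y, rfl⟩ := ConjClasses.exists_rep C
      have h2 : IsConj g y := ConjClasses.mk_eq_mk_iff_isConj.1 hg
      have h3 : IsConj (y : Γ) (y : Γ)⁻¹ := N.subtype.map_isConj (hC y rfl)
      obtain ⟨c, e⟩ := isConj_iff.1 h2
      exact h2.trans (h3.trans (isConj_iff.2 ⟨c, by rw [← e]; group⟩ : IsConj g⁻¹ _).symm)⟩
  have hi : Function.Injective i := by
    rintro ⟨C, hC⟩ ⟨D, hD⟩ e
    obtain ⟨y, rfl⟩ := ConjClasses.exists_rep C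
    obtain ⟨z, rfl⟩ := ConjClasses.exists_rep D
    have h2 : IsConj (y : Γ) z := ConjClasses.mk_eq_mk_iff_isConj.1 (congrArg Subtype.val e)
    obtain ⟨g, e⟩ := isConj_iff.1 h2
    have h3 := hc y y.2 (N.subtype.map_isConj (hC y rfl))
    have h4 := hc z z.2 (N.subtype.map_isConj (hD z rfl))
    have h5 := Amalg.cj_mono g h3
    rw [Amalg.cj_centralizer_singleton, e] at h5
    obtain ⟨t, ht, e'⟩ := ((hP.conj_top g).of_le h5 le_top).exists_conj (hP.of_le h4 le_top)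
    rw [← Amalg.cj_mul, Amalg.cj_eq_self_iff, hN] at e'
    refine Subtype.ext (ConjClasses.mk_eq_mk_iff_isConj.2 (isConj_iff.2 ⟨⟨_, e'⟩, Subtype.ext ?_⟩))
    have h6 := mem_centralizer_singleton_iff.1 ht
    show t * g * y * (t * g)⁻¹ = z
    rw [show t * g * y * (t * g)⁻¹ = t * (g * y * g⁻¹) * t⁻¹ by group, e, h6, mul_inv_cancel_right]
  obtain ⟨⟨C, hC⟩, e⟩ := (hi.bijective_of_nat_card_le h1).2 ⟨ConjClasses.mk x, fun g hg => by
    have h2 : IsConj g x := ConjClasses.mk_eq_mk_iff_isConj.1 hg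
    obtain ⟨c, e⟩ := isConj_iff.1 h2
    exact h2.trans (hx.trans (isConj_iff.2 ⟨c, by rw [← e]; group⟩ : IsConj g⁻¹ _).symm)⟩
  obtain ⟨y, rfl⟩ := ConjClasses.exists_rep C
  exact ⟨y, y.2, (ConjClasses.mk_eq_mk_iff_isConj.1 (congrArg Subtype.val e)).symm⟩

theorem meet [hp : Fact p.Prime] [K.Normal] (ho : Odd K.index) (hr : RD p (⊤ : Subgroup Γ))
    (hP : Amalg.Syl p P ⊤) (hQ : (P ⊓ K).Normal) {x : Γ} (hx : IsConj x x⁻¹) :
    ∃ y ∈ normalizer (P : Set Γ), IsConj x y := by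
  have hsu := QuotientGroup.mk'_surjective (P ⊓ K)
  have := (inferInstance : K.Normal).map _ hsu
  obtain ⟨y, hy, h⟩ := meet_aux (K := K.map (QuotientGroup.mk' (P ⊓ K)))
    (ho.of_dvd_nat (index_map_dvd K hsu)) (hr.quot _) (hP.map_top hsu) (by
      rw [eq_bot_iff]
      rintro _ ⟨⟨u, hu, rfl⟩, k, hk, e⟩
      have h1 := (QuotientGroup.eq.1 e).2
      exact (QuotientGroup.eq_one_iff u).2 ⟨hu, (mul_mem_cancel_left (inv_mem hk)).1 h1⟩)
    (x := QuotientGroup.mk' _ x) (by simpa using (QuotientGroup.mk' (P ⊓ K)).map_isConj hx)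
  obtain ⟨c, rfl⟩ := isConj_iff.1 h
  obtain ⟨g, rfl⟩ := hsu c
  refine ⟨g * x * g⁻¹, Amalg.mem_normalizer_of_cj_le (Amalg.cj_le_iff'.2 fun u hu => ?_),
    isConj_iff.2 ⟨g, rfl⟩⟩
  obtain ⟨v, hv, e⟩ := nrm_of_le_normalizer le_rfl _ hy _ (mem_map_of_mem _ hu)
  have h1 : v⁻¹ * (g * x * g⁻¹ * u * (g * x * g⁻¹)⁻¹) ∈ P ⊓ K := QuotientGroup.eq.1 e
  exact (mul_mem_cancel_left (inv_mem hv)).1 h1.1

end Cfsg.Lib.Block2.RP
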