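import Mathlib

/-! Bead combinatorics on an abacus: antisymmetric functions on tuples. -/

set_option autoImplicit false
set_option linter.dupNamespace false
set_option linter.unusedSectionVars false
set_option linter.style.haveILetI false

open Finset Equiv

namespace Cfsg.Lib.Block2.Sym

variable {J I V : Type*} [Fintype J] [DecidableEq J] [DecidableEq I] [AddCommGroup V]

/-- Lowering operator. -/
def Lo (r : ℕ) (f : (J → ℕ) → V) (β : J → ℕ) : V :=
  ∑ j, if r ≤ β j then f (β - Pi.single j r) else 0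

/-- Raising operator on a runner. -/
def Tr (ρ : J → I) (x : ℕ × I) (f : (J → ℕ) → V) (β : J → ℕ) : V :=
  ∑ j with ρ j = x.2, f (β + Pi.single j x.1)

/-- Antisymmetry under runner preserving permutations. -/
def Alt (ρ : J → I) (f : (J → ℕ) → V) : Prop :=
  ∀ σ : Perm J, (∀ j, ρ (σ j) = ρ j) → ∀ β, f (β ∘ σ) = (Perm.sign σ : ℤ) • f β

/-- Injective on each runner. -/
def RInj (ρ : J → I) (a : J → ℕ) : Prop := ∀ j l, ρ j = ρ l → a j = a l → j = l

variable {ρ : J → I} {f : (J → ℕ) → V} {a δ β : J → ℕ}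

theorem comp_add_single (σ : Perm J) (β : J → ℕ) (j : J) (r : ℕ) :
    β ∘ σ + Pi.single j r = (β + Pi.single (σ j) r : J → ℕ) ∘ σ := by
  ext l; simp [Pi.single_apply]

theorem comp_sub_single (σ : Perm J) (β : J → ℕ) (j : J) (r : ℕ) :
    β ∘ σ - Pi.single j r = (β - Pi.single (σ j) r : J → ℕ) ∘ σ := by
  ext l; simp [Pi.single_apply]

theorem Alt.lo (h : Alt ρ f) (r : ℕ) : Alt ρ (Lo r f) := by
  intro σ hσ β
  unfold Lo
  rw [smul_sum]
  refine Fintype.sum_equiv σ _ _ fun j => ?_
  rw [comp_sub_single, h σ hσ]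
  simp only [Function.comp]
  split_ifs <;> simp

theorem Alt.tr (h : Alt ρ f) (x : ℕ × I) : Alt ρ (Tr ρ x f) := by
  intro σ hσ β
  unfold Tr
  rw [smul_sum, sum_filter, sum_filter]
  refine Fintype.sum_equiv σ _ _ fun j => ?_
  rw [comp_add_single, h σ hσ, hσ]

theorem Alt.iterate (h : Alt ρ f) (r n : ℕ) : Alt ρ ((Lo r)^[n] f) := by
  induction n with
  | zero => exact h
  | succ n ih => rw [Function.iterate_succ_apply']; exact ih.lo r

theorem swap_pres {j l : J} (h : ρ j = ρ l) (k : J) : ρ (swap j l k) = ρ k := by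
  rw [swap_apply_def]; split_ifs with h1 h2 <;> simp_all

theorem Alt.swap (h : Alt ρ f) {j l : J} (hne : j ≠ l) (e : ρ j = ρ l) (β : J → ℕ) :
    f (β ∘ Equiv.swap j l) = - f β := by
  rw [h _ (swap_pres e), Perm.sign_swap hne]; simp

theorem Alt.eq_zero [IsAddTorsionFree V] (h : Alt ρ f) (hb : ¬ RInj ρ β) : f β = 0 := by
  unfold RInj at hb
  push Not at hb
  obtain ⟨j, l, e, e', hne⟩ := hb
  have := h.swap hne e β
  have e2 : β ∘ Equiv.swap j l = β := by
    ext k; simp only [Function.comp, swap_apply_def]; split_ifs <;> simp_all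
  rw [e2] at this
  exact self_eq_neg.1 this

theorem Alt.mono {I' : Type*} {ρ' : J → I'} (h : Alt ρ f) (e : ∀ j l, ρ' j = ρ' l → ρ j = ρ l) :
    Alt ρ' f := fun σ hσ β => h σ (fun j => e _ _ (hσ j)) β

theorem sum_add_single (β : J → ℕ) (j : J) (r : ℕ) :
    ∑ l, (β + Pi.single j r : J → ℕ) l = ∑ l, β l + r := by
  simp [sum_add_distrib]

theorem sub_add_single {j : J} {r : ℕ} (h : r ≤ β j) :
    (β - Pi.single j r : J → ℕ) + Pi.single j r = β := by
  ext l; simp only [Pi.add_apply, Pi.sub_apply, Pi.single_apply]; split_ifs with e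
  · subst e; omega
  · omega

theorem add_sub_single (β : J → ℕ) (j : J) (r : ℕ) :
    (β + Pi.single j r : J → ℕ) - Pi.single j r = β := by
  ext l; simp

theorem sum_sub_single {j : J} {r : ℕ} (h : r ≤ β j) :
    ∑ l, (β - Pi.single j r : J → ℕ) l + r = ∑ l, β l := by
  rw [← sum_add_single _ j, sub_add_single h]

/-- Rank of a bead on its runner. -/
def rk (ρ : J → I) (a : J → ℕ) (j : J) : ℕ := #{l | ρ l = ρ j ∧ a l < a j}

/-- A core configuration. -/
structure Core (ρ : J → I) (δ : J → ℕ) : Prop where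
  inj : RInj ρ δ
  lt : ∀ j, δ j < #{l | ρ l = ρ j}

theorem Core.exists_eq (h : Core ρ δ) (j : J) {t : ℕ} (ht : t < #{l | ρ l = ρ j}) :
    ∃ l, ρ l = ρ j ∧ δ l = t := by
  have : image δ {l | ρ l = ρ j} = range #{l | ρ l = ρ j} := by
    apply eq_of_subset_of_card_le
    · intro x hx
      simp only [mem_image, mem_filter, mem_univ, true_and] at hx
      obtain ⟨l, e, rfl⟩ := hx
      simpa [← e] using h.lt l
    · rw [card_range, card_image_of_injOn]
      intro x hx y hy e
      simp only [coe_filter, mem_univ, true_and, Set.mem_ofPred_eq] at hx hy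
      exact h.inj _ _ (hx.trans hy.symm) e
  have h2 := mem_range.2 ht
  rw [← this] at h2
  simpa using h2

theorem RInj.rk_le (h : RInj ρ a) (j : J) : rk ρ a j ≤ a j := by
  unfold rk
  rw [← card_range (a j)]
  refine card_le_card_of_injOn a (fun l hl => by simp at hl ⊢; exact hl.2) ?_
  intro x hx y hy e
  simp only [coe_filter, mem_univ, true_and, Set.mem_ofPred_eq] at hx hy
  exact h _ _ (hx.1.trans hy.1.symm) e

theorem rk_lt_rk {j l : J} (e : ρ j = ρ l) (h : a j < a l) : rk ρ a j < rk ρ a l := by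
  unfold rk
  apply card_lt_card
  rw [ssubset_iff_of_subset]
  · exact ⟨j, by simp [e, h], by simp⟩
  · intro k hk
    simp only [mem_filter, mem_univ, true_and] at hk ⊢
    exact ⟨hk.1.trans e, hk.2.trans h⟩

theorem RInj.core_rk (h : RInj ρ a) : Core ρ (rk ρ a) where
  inj j l e e' := by
    rcases lt_trichotomy (a j) (a l) with h1 | h1 | h1
    · exact absurd e' (rk_lt_rk e h1).ne
    · exact h _ _ e h1
    · exact absurd e' (rk_lt_rk e.symm h1).ne'
  lt j := by
    unfold rk
    apply card_lt_card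
    rw [ssubset_iff_of_subset]
    · exact ⟨j, by simp, by simp⟩
    · intro k hk
      simp only [mem_filter, mem_univ, true_and] at hk ⊢
      exact hk.1

theorem exists_core (ρ : J → I) : ∃ δ, Core ρ δ :=
  ⟨_, RInj.core_rk (a := fun j => (Fintype.equivFin J j : ℕ)) fun j l _ e =>
    (Fintype.equivFin J).injective (Fin.ext e)⟩

theorem Core.exists_perm {δ' : J → ℕ} (h : Core ρ δ) (h' : Core ρ δ') :
    ∃ τ : Perm J, (∀ j, ρ (τ j) = ρ j) ∧ δ' = δ ∘ τ := by
  choose t ht ht' using fun j => h.exists_eq j (h'.lt j)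
  have hi : Function.Injective t := fun j l e =>
    h'.inj _ _ (by rw [← ht j, ← ht l, e]) (by rw [← ht' j, ← ht' l, e])
  exact ⟨Equiv.ofBijective t (Finite.injective_iff_bijective.1 hi), ht, funext fun j => (ht' j).symm⟩

theorem Core.sum_rk (h : Core ρ δ) (ha : RInj ρ a) : ∑ j, rk ρ a j = ∑ j, δ j := by
  obtain ⟨τ, -, e⟩ := h.exists_perm ha.core_rk
  rw [e]; exact Equiv.sum_comp τ δ

theorem Core.sum_le (h : Core ρ δ) (ha : RInj ρ a) : ∑ j, δ j ≤ ∑ j, a j :=
  h.sum_rk ha ▸ sum_le_sum fun j _ => ha.rk_le j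

theorem Core.exists_perm_of_le (h : Core ρ δ) (ha : RInj ρ a) (hs : ∑ j, a j ≤ ∑ j, δ j) :
    ∃ τ : Perm J, (∀ j, ρ (τ j) = ρ j) ∧ a = δ ∘ τ := by
  obtain ⟨τ, hτ, e⟩ := h.exists_perm ha.core_rk
  refine ⟨τ, hτ, e ▸ ?_⟩
  rw [← h.sum_rk ha] at hs
  have := (sum_eq_sum_iff_of_le (s := univ) fun j _ => ha.rk_le j).1
    (le_antisymm (sum_le_sum fun j _ => ha.rk_le j) hs)
  exact funext fun j => (this j (mem_univ _)).symm

theorem Core.rk_eq (h : Core ρ δ) : rk ρ δ = δ := by
  have := (sum_eq_sum_iff_of_le (s := univ) fun j _ => h.inj.rk_le j).1 (h.sum_rk h.inj)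
  exact funext fun j => this j (mem_univ _)

theorem Core.eq_zero [IsAddTorsionFree V] (h : Core ρ δ) (hf : Alt ρ f)
    (hs : ∑ j, a j < ∑ j, δ j) : f a = 0 :=
  hf.eq_zero fun ha => absurd (h.sum_le ha) (not_le.2 hs)

theorem core_val (N : ℕ) : Core (fun _ : Fin N => ()) Fin.val where
  inj _ _ _ e := Fin.ext e
  lt j := by simp

/-- An injective tuple of small weight occupies all small positions. -/
theorem exists_eq_of_small {N m t : ℕ} {β : Fin N → ℕ} (h : Function.Injective β)
    (hs : ∑ j, β j ≤ ∑ j : Fin N, (j : ℕ) + m) (ht : t + m < N) : ∃ j, β j = t := by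
  by_contra hn
  push Not at hn
  have hi : RInj (fun _ : Fin N => ()) β := fun j l _ e => h e
  have h1 : ∀ j, rk (fun _ : Fin N => ()) β j + (if t < β j then 1 else 0) ≤ β j := by
    intro j
    split_ifs with hj
    · unfold rk
      have : #{l | (fun _ : Fin N => ()) l = (fun _ : Fin N => ()) j ∧ β l < β j} ≤
          #((range (β j)).erase t) := by
        refine card_le_card_of_injOn β (fun l hl => by simp at hl ⊢; exact ⟨hl, hn l⟩) h.injOn
      rw [card_erase_of_mem (mem_range.2 hj), card_range] at this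
      omega
    · exact hi.rk_le j
  have h2 := sum_le_sum fun j (_ : j ∈ univ) => h1 j
  rw [sum_add_distrib, (core_val N).sum_rk hi, ← card_filter] at h2
  have h3 : #{j | ¬ t < β j} ≤ t := by
    rw [← card_range t]
    refine card_le_card_of_injOn β (fun l hl => ?_) h.injOn
    simp at hl ⊢
    exact lt_of_le_of_ne hl (hn l)
  have h4 := card_filter_add_card_filter_not (s := (univ : Finset (Fin N))) fun j => t < β j
  simp only [card_univ, Fintype.card_fin] at h4
  omega

/-! ### The Euler identity -/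

theorem pair_sum [IsAddTorsionFree V] (hf : Alt ρ f) {j l : J} (hne : j ≠ l) (e : ρ j = ρ l)
    (a : J → ℕ) :
    ∑ k ∈ range (a j), f (a - Pi.single j (k + 1) + Pi.single l (k + 1)) +
      ∑ k ∈ range (a l), f (a - Pi.single l (k + 1) + Pi.single j (k + 1)) = - f a := by
  set h : ℕ → V := fun x =>
    f (Function.update (Function.update a j x) l (a j + a l - x)) with hh
  have h0 : ∑ x ∈ range (a j + a l + 1), h x = 0 := by
    rw [← self_eq_neg, ← sum_neg_distrib, ← sum_range_reflect]
    refine sum_congr rfl fun x hx => ?_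
    simp only [hh]
    rw [← hf.swap hne e]
    simp only [mem_range] at hx
    congr 1
    ext k
    simp only [Function.comp, swap_apply_def, Function.update_apply]
    split_ifs <;> simp_all <;> omega
  have h1 : ∑ k ∈ range (a j), f (a - Pi.single j (k + 1) + Pi.single l (k + 1)) =
      ∑ x ∈ range (a j), h x := by
    rw [← sum_range_reflect h]
    refine sum_congr rfl fun x hx => ?_
    simp only [mem_range] at hx
    rw [hh]
    congr 1
    ext k
    simp only [Pi.add_apply, Pi.sub_apply, Pi.single_apply, Function.update_apply]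
    split_ifs <;> simp_all <;> omega
  have h2 : ∑ k ∈ range (a l), f (a - Pi.single l (k + 1) + Pi.single j (k + 1)) =
      ∑ x ∈ range (a l), h (a j + (x + 1)) := by
    refine sum_congr rfl fun x hx => ?_
    simp only [mem_range] at hx
    rw [hh]
    congr 1
    ext k
    simp only [Pi.add_apply, Pi.sub_apply, Pi.single_apply, Function.update_apply]
    split_ifs <;> simp_all <;> omega
  have h3 : h (a j + 0) = f a := by
    simp only [hh]
    congr 1
    ext k
    simp only [Function.update_apply]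
    split_ifs <;> simp_all
  rw [add_assoc, sum_range_add, sum_range_succ', h3] at h0
  rw [h1, h2, eq_neg_iff_add_eq_zero, ← h0, add_assoc]

theorem euler [IsAddTorsionFree V] (hδ : Core ρ δ) (hf : Alt ρ f) (a : J → ℕ) :
    ∑ j, ∑ k ∈ range (a j), Tr ρ (k + 1, ρ j) f (a - Pi.single j (k + 1)) =
      ((∑ j, a j : ℕ) - (∑ j, δ j : ℕ) : ℤ) • f a := by
  set S : J → J → V := fun j l =>
    ∑ k ∈ range (a j), f (a - Pi.single j (k + 1) + Pi.single l (k + 1)) with hS
  have h1 : ∀ j, ∑ k ∈ range (a j), Tr ρ (k + 1, ρ j) f (a - Pi.single j (k + 1)) =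
      a j • f a + (∑ l with ρ l = ρ j ∧ δ l < δ j, S j l + ∑ l with ρ l = ρ j ∧ δ j < δ l, S j l) := by
    intro j
    change ∑ k ∈ range (a j), ∑ l with ρ l = ρ j,
      f (a - Pi.single j (k + 1) + Pi.single l (k + 1)) = _
    rw [sum_comm (s := range (a j))]
    have : S j j = a j • f a := by
      rw [hS]
      simp only
      rw [sum_congr rfl fun k hk => by rw [sub_add_single (by simpa using hk)]]
      simp
    rw [← this, sum_filter, sum_filter, sum_filter, ← sum_add_distrib,
      ← add_sum_erase _ _ (mem_univ j), ← add_sum_erase _ _ (mem_univ j)]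
    simp only [if_true, lt_irrefl, and_false, if_false, add_zero, zero_add]
    congr 1
    refine sum_congr rfl fun l hl => ?_
    by_cases e : ρ l = ρ j
    · rcases lt_trichotomy (δ l) (δ j) with h | h | h
      · simp [e, h, h.le, hS]
      · exact absurd (hδ.inj _ _ e h) (mem_erase.1 hl).1
      · simp [e, h, h.le, hS]
    · simp [e]
  rw [sum_congr rfl fun j _ => h1 j, sum_add_distrib, sum_add_distrib, ← sum_smul]
  have h2 : ∑ j, ∑ l with ρ l = ρ j ∧ δ j < δ l, S j l =
      ∑ j, ∑ l with ρ l = ρ j ∧ δ l < δ j, S l j := by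
    simp only [sum_filter]
    rw [sum_comm]
    refine sum_congr rfl fun j _ => sum_congr rfl fun l _ => ?_
    simp only [eq_comm]
  rw [h2, ← sum_add_distrib]
  have h3 : ∀ j, ∑ l with ρ l = ρ j ∧ δ l < δ j, S j l + ∑ l with ρ l = ρ j ∧ δ l < δ j, S l j =
      - (δ j • f a) := by
    intro j
    rw [← sum_add_distrib, sum_congr rfl fun l hl => pair_sum hf
      (fun e => by simp [e] at hl) (mem_filter.1 hl).2.1.symm a, sum_const]
    have := congrFun hδ.rk_eq j
    unfold rk at this
    rw [this, smul_neg]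
  rw [sum_congr rfl fun j _ => h3 j, sum_neg_distrib, ← sum_smul, sub_smul, sub_eq_add_neg,
    natCast_zsmul, natCast_zsmul]

end Cfsg.Lib.Block2.Sym
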