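import Cfsg.Agent.Lib.Block2.Sym9
import Cfsg.Agent.Lib.Block2.Star
import Cfsg.Agent.Lib.Block2.Fong
import Cfsg.Agent.S4710

/-! The Nakayama conjecture and heights in blocks of the alternating groups. -/

set_option autoImplicit false
set_option linter.dupNamespace false
set_option linter.unusedSectionVars false
set_option linter.style.haveILetI false

open Finset Equiv Cfsg Cfsg.Lib.Amalg Cfsg.Lib.Core Cfsg.Lib.Char Cfsg.Lib.Block Cfsg.Lib.Small
open Cfsg.Lib.Block2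
open scoped Nat

namespace Cfsg.Lib.Block2.Sym

section comb

variable {J I V : Type*} [Fintype J] [DecidableEq J] [DecidableEq I] [AddCommGroup V]
variable {ρ : J → I} {f : (J → ℕ) → V} {c δ : J → ℕ} {w : ℕ}

/-- Top bead of a runner. -/
def Top (ρ : J → I) (δ : J → ℕ) (j : J) : Prop := ∀ l, ρ l = ρ j → δ l ≤ δ j

theorem Core.lo_up [IsAddTorsionFree V] (hδ : Core ρ δ) (hf : Alt ρ f) {r : ℕ}
    (hc : ∀ j l, ρ l = ρ j → δ l + r = δ j + c j → c j < r → c l = 0) :
    Lo r f (δ + c) = ∑ j, if r ≤ c j then f (δ + (c - Pi.single j r)) else 0 := by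
  refine sum_congr rfl fun j _ => ?_
  by_cases h : r ≤ c j
  · rw [if_pos h, if_pos (show r ≤ (δ + c) j from h.trans (Nat.le_add_left _ _))]
    conv_lhs => rw [← sub_add_single h, ← add_assoc, add_sub_single]
  rw [if_neg h]
  split_ifs with h'
  · rw [Pi.add_apply] at h'
    obtain ⟨l, h1, h2⟩ := hδ.exists_eq j (t := δ j + c j - r) (by have := hδ.lt j; omega)
    have h3 : l ≠ j := by rintro rfl; omega
    exact hf.eq_zero fun hi => h3 (hi _ _ h1 (by
      simp [h3, h2, hc j l h1 (by omega) (by omega)]))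
  · rfl

theorem Core.lo_top [IsAddTorsionFree V] (hδ : Core ρ δ) (hf : Alt ρ f) (r : ℕ)
    (hc : ∀ j, c j ≠ 0 → Top ρ δ j) :
    Lo r f (δ + c) = ∑ j, if r ≤ c j then f (δ + (c - Pi.single j r)) else 0 :=
  hδ.lo_up hf fun j l h1 h2 h3 => not_not.1 fun h => by have := hc l h j h1.symm; omega

theorem Yv_succ' : Yv ρ δ (w + 1) = Lo 1 (Yv ρ δ w) := Function.iterate_succ_apply' _ _ _

theorem top_sub (hc : ∀ j, c j ≠ 0 → Top ρ δ j) (d : J → ℕ) (j : J) (h : (c - d) j ≠ 0) :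
    Top ρ δ j := hc j fun e => h (by simp [e])

theorem Core.Yv_top (hδ : Core ρ δ) (hc : ∀ j, c j ≠ 0 → Top ρ δ j) (hs : ∑ j, c j = w) :
    Yv ρ δ w (δ + c) * (∏ j, (c j)! : ℕ) = w ! := by
  induction w generalizing c with
  | zero =>
    obtain rfl : c = 0 := funext fun j => sum_eq_zero_iff.1 hs j (mem_univ j)
    simpa [Yv] using eps_comp (σ := 1) hδ.inj fun _ => rfl
  | succ w ih =>
    rw [Yv_succ', hδ.lo_top (alt_Yv w) 1 hc, sum_mul, Nat.factorial_succ,
      ← hs, Nat.cast_mul, Nat.cast_sum _ c, sum_mul]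
    refine sum_congr rfl fun j _ => ?_
    split_ifs with h
    · rw [← prod_factorial_sub h, Nat.cast_mul, mul_left_comm,
        ih (top_sub hc _) (by have := sum_sub_single h; omega)]
    · simp [show c j = 0 by omega]

theorem Core.Yv_top_pos (hδ : Core ρ δ) (hc : ∀ j, c j ≠ 0 → Top ρ δ j) (hs : ∑ j, c j = w) :
    0 < Yv ρ δ w (δ + c) :=
  pos_of_mul_pos_left (hδ.Yv_top hc hs ▸ Int.natCast_pos.2 w.factorial_pos) (Int.natCast_nonneg _)

theorem Core.Yv_hook (hδ : Core ρ δ) {j l : J} (hj : Top ρ δ j) (h1 : ρ l = ρ j) (h2 : δ l + 1 = δ j)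
    (k : ℕ) : Yv ρ δ (k + 1) (δ + (Pi.single j k + Pi.single l 1)) = k := by
  have h3 : l ≠ j := by rintro rfl; omega
  induction k with
  | zero => exact (alt_Yv _).eq_zero fun hi => h3 (hi _ _ h1 (by simp [h3, h3.symm, h2]))
  | succ k ih =>
    have h4 := hδ.Yv_top (c := Pi.single j (k + 1)) (w := k + 1)
      (fun i hi => by rwa [not_not.1 fun e : i ≠ j => hi (by simp [e])]) (by simp)
    rw [prod_eq_single j (fun i _ e => by simp [e]) (by simp), Pi.single_eq_same,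
      mul_eq_right₀ (by exact_mod_cast Nat.factorial_ne_zero _)] at h4
    rw [Yv_succ', hδ.lo_up (alt_Yv _), sum_eq_add j l h3.symm
      (fun i _ e => by simp [e.1, e.2]) (by simp) (by simp), if_pos (by simp [h3.symm]),
      if_pos (by simp), add_sub_single, h4, show (Pi.single j (k + 1) + Pi.single l 1 -
        Pi.single j 1 : J → ℕ) = Pi.single j k + Pi.single l 1 by
      rw [Pi.single_add, add_right_comm, add_sub_single], ih, Nat.cast_succ]
    intro a b e1 e2 e3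
    have e4 : a ≠ j := by rintro rfl; simp at e3
    rw [Nat.lt_one_iff.1 e3] at e2
    have e5 : b ≠ j := by rintro rfl; have := hj a e1.symm; omega
    have e6 : b ≠ l := by rintro rfl; exact e4 (hδ.inj _ _ (e1.symm.trans h1) (by omega))
    simp [e5, e6]

theorem exists_digits (m n s : ℕ) (h : s ≤ n * m) :
    ∃ d : Fin n → ℕ, (∀ i, d i ≤ m) ∧ ∑ i, d i = s := by
  induction n generalizing s with
  | zero => exact ⟨0, by simp, by simp; omega⟩
  | succ n ih =>
    obtain ⟨d, h1, h2⟩ := ih (s - m) (by rw [add_mul] at h; omega)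
    exact ⟨Fin.cons (min m s) d, Fin.cases (by simp) h1, by simp [Fin.sum_univ_succ, h2]; omega⟩

end comb

variable {p : ℕ} [hp : Fact p.Prime] {M : Ideal AlgInt} [M.IsMaximal] {w : ℕ}

theorem fact_factorial_mul_add (q : ℕ) {r : ℕ} (hr : r < p) :
    (p * q + r)!.factorization p = (q !).factorization p + q := by
  rw [← fact_factorial_mul, Nat.factorization_def _ hp.out, Nat.factorization_def _ hp.out,
    padicValNat_factorial_mul_add _ hr]

theorem exists_carry (hw : p ≤ w) (h : p ≠ 2 ∨ w % 4 ≠ 3) : ∃ k : Fin p → ℕ, ∑ i, k i = w ∧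
    (w !).factorization p = ∑ i, (k i)!.factorization p + 1 := by
  induction w using Nat.strong_induction_on with | _ w ih => ?_
  have h1 := hp.out.two_le
  obtain ⟨q, r, hr, rfl⟩ : ∃ q r, r < p ∧ w = p * q + r :=
    ⟨_, _, Nat.mod_lt _ hp.out.pos, (Nat.div_add_mod w p).symm⟩
  obtain ⟨q, rfl⟩ : ∃ q', q = q' + 1 := Nat.exists_eq_succ_of_ne_zero (by rintro rfl; omega)
  have H : ∀ (k : Fin p → ℕ) (s : ℕ), s ≤ p * (p - 1) → ∃ k' : Fin p → ℕ,
      ∑ i, k' i = p * ∑ i, k i + s ∧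
        ∑ i, (k' i)!.factorization p = ∑ i, (k i)!.factorization p + ∑ i, k i := fun k s hs => by
    obtain ⟨d, h2, h3⟩ := exists_digits _ _ _ hs
    refine ⟨fun i => p * k i + d i, by rw [sum_add_distrib, h3, mul_sum], ?_⟩
    rw [← sum_add_distrib]
    exact sum_congr rfl fun i _ => fact_factorial_mul_add _ (by have := h2 i; omega)
  rw [fact_factorial_mul_add _ hr]
  by_cases hq : p ∣ q + 1
  · obtain ⟨k, h2, h3⟩ := ih (q + 1) (by nlinarith) (Nat.le_of_dvd q.succ_pos hq)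
      (or_iff_not_imp_left.2 fun e => by rw [not_not.1 e] at hq; omega)
    obtain ⟨k', h4, h5⟩ := H k r (hr.le.trans (Nat.le_mul_of_pos_right _ (by omega)))
    exact ⟨k', by rw [h4, h2], by omega⟩
  · obtain ⟨k', h4, h5⟩ := H (Pi.single 0 q) (r + p) (by
      by_cases e : p = 2
      · subst e; omega
      · have : 2 ≤ p - 1 := by omega
        nlinarith)
    rw [sum_eq_single (0 : Fin p) (f := fun i => ((Pi.single 0 q : Fin p → ℕ) i)!.factorization p)
      (fun i _ e => by simp [e]) (by simp)] at h5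
    refine ⟨k', by rw [h4]; simp; ring, ?_⟩
    rw [h5, Nat.factorial_succ, Nat.factorization_mul q.succ_ne_zero q.factorial_ne_zero,
      Finsupp.add_apply, Nat.factorization_eq_zero_of_not_dvd hq]
    simp [add_assoc]

theorem mem_of_prop {G : Type*} [Group G] [Fintype G] (hM : IsPModular p M)
    {B : Set (IrrCharacter G)} (hB : IsPBlock M B) {u : G} (hu : ∃ k, orderOf u = p ^ k)
    {Q : Subgroup G} (hQ : IsPGroup p Q) (h1 : Q ≤ Subgroup.centralizer {u})
    (h2 : Subgroup.centralizer {u} ≤ Subgroup.normalizer (Q : Set G)) {χ ψ : IrrCharacter G} {a : ℂ}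
    (h : ∀ c ∈ Subgroup.centralizer (Q : Set G), ¬ p ∣ orderOf c → χ.1 (c * u) = a * ψ.1 (c * u))
    (h0 : χ.1 u ≠ 0) (hχ : χ ∈ B) : ψ ∈ B := by
  rw [← sum_bp (M := M) (Subgroup.centralizer {u}) χ.1 u] at h0
  obtain ⟨e, he, h3⟩ := exists_ne_zero_of_sum_ne_zero h0
  rw [mem_blks] at he
  have h4 : bp (Subgroup.centralizer {u}) e χ.1 u = a * bp (Subgroup.centralizer {u}) e ψ.1 u := by
    simp only [bp, charExt_mul_single, mul_sum]
    refine sum_congr rfl fun c _ => ?_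
    by_cases hc : (lft (Subgroup.centralizer {u}) e).coeff c = 0
    · simp [hc]
    rw [h c ((supp_IB_of_supp_EB isBlockUnion_bset (he.EB_bset.symm ▸
      he.cen.supp_centralizer hM he.idem hQ h1 h2)).mem hc), mul_left_comm]
    exact Subgroup.orderOf_mk c (cenIn_lft.supp.mem hc) ▸ not_dvd_orderOf_of_blockCoeff_ne_zero hM
      isBlockUnion_bset (coeff_IB_coe _ ⟨c, cenIn_lft.supp.mem hc⟩ ▸ hc)
  have h5 := (isPPart_self hp.out hu).pp_eq
  rw [eB_inj hB.isBlockUnion (isPBlock_blockOf ψ).isBlockUnion (BPO.unique hM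
    (not_not.1 fun h' => h3 (bp_eq_zero hM hB hχ he h' h5)) (not_not.1 fun h' => h3 (by
      rw [h4, bp_eq_zero hM (isPBlock_blockOf ψ) (mem_blockOf_self ψ) he h' h5, mul_zero])))]
  exact mem_blockOf_self ψ

variable {N : ℕ} {α : Type*} [Fintype α] [DecidableEq α] {a δ : Fin N → ℕ} {ρ : Fin N → Fin p}
  {χ ψ : IrrCharacter (Perm α)} {B : Set (IrrCharacter (Perm α))}

/-- The Nakayama conjecture. -/
theorem In.mem (hM : IsPModular p M) (hB : IsPBlock M B) (hN : Fintype.card α ≤ N) (hδ : Core ρ δ)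
    (hχ : χ ∈ B) (h : In ρ δ w χ) (h' : In ρ δ w ψ) : ψ ∈ B := by
  obtain ⟨S, -, hS⟩ := exists_subset_card_eq (s := univ) (h.le_card hδ)
  obtain ⟨E, -, -, h1, -, u, hu, rfl⟩ := exists_elem hS
  have h2 := h1 u hu
  have H : ∀ {χ : IrrCharacter (Perm α)}, In ρ δ w χ → ∃ y : ℂ, y ≠ 0 ∧ ∀ c, Perm.Disjoint u c →
      χ.1 (c * u) = y * Xc (c.cycleType + Multiset.replicate
        (Fintype.card α - #u.support - #c.support) 1) (tp ρ δ) := fun ⟨a, h3, h4⟩ => by
    obtain ⟨ε, hε⟩ := h4.exists_sign hN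
    refine ⟨(ε * Yv ρ δ w a : ℤ), Int.cast_ne_zero.2 (mul_ne_zero ε.ne_zero
      (hδ.Yv_ne_zero (tp_inj_iff.1 h4.inj) h3)), fun c hc => ?_⟩
    rw [← hc.commute.eq, hε, cyc_mul hc, cycleType_eq_of_pow h2 hS, Xc_tp hδ h3]
    push_cast
    ring
  obtain ⟨y, -, hy⟩ := H h
  obtain ⟨z, hz, hz'⟩ := H h'
  obtain ⟨k, -, hk⟩ := (Nat.dvd_prime_pow hp.out).1
    (orderOf_dvd_of_pow_eq_one (show u ^ p ^ 1 = 1 by rwa [pow_one]))
  refine mem_of_prop hM hB ⟨k, hk⟩ (isPGroup_Eb h2) Eb_le le_normalizer_Eb (a := y / z)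
    (fun c hc hc' => ?_) (h.apply_ne_zero hN hδ h2 hS) hχ
  have : Perm.Disjoint u c := fun x => or_iff_not_imp_left.2 fun hx =>
    fix_of_centralizer_Eb h2 hc' hc (Perm.mem_support.2 hx)
  rw [hy c this, hz' c this, ← mul_assoc, div_mul_cancel₀ _ hz]

theorem In.exists_lab (h : In ρ δ w χ) (ha : ∑ j, a j = ∑ j, δ j + w) (h0 : Yv ρ δ w a ≠ 0) :
    ∃ ψ : IrrCharacter (Perm α), Lab ψ (tp ρ a) :=
  exists_lab' (tp_inj_iff.2 (not_not.1 fun hi => h0 ((alt_Yv w).eq_zero hi))) (by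
    rw [← h.vc_add, sum_tp, sum_tp, ha]; ring)

theorem In.exists_top (hN : Fintype.card α + 2 * p ≤ N) (hδ : Core ρ δ) (h : In ρ δ w χ)
    (i : Fin p) : ∃ j, ρ j = i ∧ Top ρ δ j ∧ ∃ l, ρ l = ρ j ∧ δ l + 1 = δ j := by
  obtain ⟨j, hj⟩ := exists_eq_of_small (m := Fintype.card α) (t := p * 1 + i) (tp_inj_iff.2 hδ.inj)
    (by rw [vc_def, ← h.vc_add]; omega) (by have := i.2; omega)
  have h1 : ρ j = i := Fin.ext (by
    rw [← tp_mod (a := δ), hj, Nat.mul_add_mod, Nat.mod_eq_of_lt i.2])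
  have h2 : δ j = 1 := by
    rw [← tp_div (ρ := ρ) (a := δ), hj, Nat.mul_add_div hp.out.pos, Nat.div_eq_of_lt i.2]
  have h3 := hδ.lt j
  obtain ⟨j', a1, a2⟩ := hδ.exists_eq j (t := #{l | ρ l = ρ j} - 1) (by omega)
  obtain ⟨l, a3, a4⟩ := hδ.exists_eq j (t := #{l | ρ l = ρ j} - 2) (by omega)
  refine ⟨j', a1.trans h1, fun k hk => ?_, l, a3.trans a1.symm, by omega⟩
  have := hδ.lt k
  rw [hk, a1] at this
  omega

theorem In.exists_one (hN : Fintype.card α + 2 * p ≤ N) (hδ : Core ρ δ) (h : In ρ δ w χ)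
    (hw : p ≤ w) (hw' : p = 2 → 3 ≤ w) : ∃ a ψ, ∑ j, a j = ∑ j, δ j + w ∧ Lab ψ (tp ρ a) ∧
      (Yv ρ δ w a).natAbs.factorization p = 1 ∧
        (p = 2 → ∃ g ∉ alternatingGroup α, ψ.1 g ≠ 0) := by
  have hN' : Fintype.card α ≤ N := by omega
  have h0 := h.le_card hδ
  have H : ∀ a, ∑ j, a j = ∑ j, δ j + w → ∀ ψ : IrrCharacter (Perm α), Lab ψ (tp ρ a) → p = 2 → Odd w →
      ∃ g ∉ alternatingGroup α, ψ.1 g ≠ 0 := by
    rintro a ha ψ hψ rfl ho
    obtain ⟨S, -, hS⟩ := exists_subset_card_eq (s := univ) h0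
    obtain ⟨E, -, -, h1, -, u, hu, rfl⟩ := exists_elem hS
    exact ⟨u, by simp [sign_of_sq (h1 u hu) hS, ho.neg_one_pow],
      In.apply_ne_zero hN' hδ ⟨a, ha, hψ⟩ (h1 u hu) hS⟩
  choose t t1 t2 t3 using h.exists_top hN hδ
  by_cases h4 : p ≠ 2 ∨ w % 4 ≠ 3
  swap
  · obtain ⟨rfl, h5⟩ := not_or.1 h4 |>.imp not_not.1 not_not.1
    obtain ⟨l, h6, h7⟩ := t3 0
    obtain ⟨k, rfl⟩ : ∃ k, w = 2 * (2 * k + 1) + 1 := ⟨w / 4, by omega⟩
    have h8 := hδ.Yv_hook (t2 0) h6 h7 (2 * (2 * k + 1))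
    have h9 : ∑ j, (δ + (Pi.single (t 0) (2 * (2 * k + 1)) + Pi.single l 1) : Fin N → ℕ) j =
      ∑ j, δ j + (2 * (2 * k + 1) + 1) := by simp [sum_add_distrib]
    obtain ⟨ψ, hψ⟩ := h.exists_lab h9 (by rw [h8]; omega)
    refine ⟨_, ψ, h9, hψ, ?_, fun _ => H _ h9 ψ hψ rfl (odd_two_mul_add_one _)⟩
    rw [h8, Int.natAbs_natCast, Nat.factorization_mul two_ne_zero (by omega), Finsupp.add_apply,
      Nat.prime_two.factorization_self, Nat.factorization_eq_zero_of_not_dvd (by omega)]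
  obtain ⟨k, h5, h6⟩ := exists_carry hw h4
  have ht : Function.Injective t := fun i j e => by rw [← t1 i, e, t1]
  let c : Fin N → ℕ := fun j => if t (ρ j) = j then k (ρ j) else 0
  have c1 : ∀ j ∉ Set.range t, c j = 0 := fun j hj => if_neg fun e => hj ⟨_, e⟩
  have c2 : ∀ i, k i = c (t i) := fun i => by simp [c, t1]
  have c3 : ∀ j, c j ≠ 0 → Top ρ δ j := fun j hj => by
    obtain ⟨i, rfl⟩ := not_not.1 fun e => hj (c1 j e); exact t2 i
  have c4 : ∑ j, c j = w := (Fintype.sum_of_injective t ht k c c1 c2).symm.trans h5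
  have h7 : ∑ j, (δ + c) j = ∑ j, δ j + w := by simp [sum_add_distrib, c4]
  obtain ⟨ψ, hψ⟩ := h.exists_lab h7 (hδ.Yv_top_pos c3 c4).ne'
  refine ⟨_, ψ, h7, hψ, ?_, ?_⟩
  · have := congrArg (fun x : ℤ => x.natAbs.factorization p) (hδ.Yv_top c3 c4)
    simp only [Int.natAbs_mul, Int.natAbs_natCast] at this
    rw [Nat.factorization_mul (Int.natAbs_ne_zero.2 (hδ.Yv_top_pos c3 c4).ne')
      (prod_pos fun _ _ => Nat.factorial_pos _).ne', ← Fintype.prod_of_injective t ht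
      (fun i => (k i)!) _ (fun j hj => by simp [c1 j hj]) fun i => by rw [c2],
      Nat.factorization_prod fun j _ => Nat.factorial_ne_zero _, Finsupp.add_apply,
      Finsupp.finsetSum_apply] at this
    omega
  rintro rfl
  refine (Nat.even_or_odd w).elim (fun he => ?_) (H _ h7 ψ hψ rfl)
  obtain ⟨v, rfl⟩ : ∃ v, w = v + 2 := ⟨w - 2, by omega⟩
  obtain ⟨g, hg⟩ := (Perm.exists_with_cycleType_iff α (m := 4 ::ₘ Multiset.replicate v 2)).2
    ⟨by simp; omega, by simp [Multiset.mem_replicate]⟩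
  have h8 : #g.support = 2 * (v + 2) := by rw [← g.sum_cycleType, hg]; simp; ring
  refine ⟨g, ?_, ?_⟩
  · rw [Perm.mem_alternatingGroup, Perm.sign_of_cycleType, hg, Odd.neg_one_pow]
    · simp
    · have := Nat.even_iff.1 he
      rw [Nat.odd_iff]; simp; omega
  obtain ⟨ε, hε⟩ := hψ.exists_sign hN'
  rw [hε, cyc, Perm.parts_partition, hg, Multiset.cons_add, Xc_cons,
    congrFun (lo_tp (ρ := ρ) _ 2) (δ + c), hδ.lo_top (alt_Xc _).tp 2 c3, sum_congr rfl fun j _ =>
      show _ = (if 2 ≤ c j then Yv ρ δ v (δ + (c - Pi.single j 2)) else 0) * Xc _ (tp ρ δ) by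
        split_ifs with e
        · exact Xc_tp hδ (by have := sum_sub_single e; simp only [Pi.add_apply, sum_add_distrib]; omega) _
        · simp, ← sum_mul, Xc_replicate_one]
  have h9 : ∀ j, 2 ≤ c j → 0 < Yv ρ δ v (δ + (c - Pi.single j 2)) := fun j e =>
    hδ.Yv_top_pos (top_sub c3 _) (by have := sum_sub_single e; omega)
  obtain ⟨i, hi⟩ : ∃ i, 2 ≤ k i := by
    by_contra! e
    have := hw' rfl
    have := e 0
    have := e 1
    rw [Fin.sum_univ_two] at h5
    omega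
  have := h.vc_add
  exact_mod_cast mul_ne_zero ε.ne_zero (mul_ne_zero (sum_pos' (fun j _ => by
    split_ifs with e; exacts [(h9 j e).le, le_rfl]) ⟨t i, mem_univ _, by
      rw [if_pos (c2 i ▸ hi)]; exact h9 _ (c2 i ▸ hi)⟩).ne'
    ((core_val N).Yv_ne_zero (rinj_tv.2 (tp_inj_iff.2 hδ.inj)) (by rw [vc_def]; omega)))

theorem height_alt (hM : IsPModular p M) {b : Set (IrrCharacter (alternatingGroup α))}
    (hb : IsPBlock M b) {D : Subgroup (alternatingGroup α)} (hD : IsDefectGroup p M b D) :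
    ((∃ θ ∈ b, blockHeight p b θ.1 = 1) ∧ ∃ ξ : IrrCharacter D, charDegree ξ.1 = p) ∨
      ((∀ θ ∈ b, blockHeight p b θ.1 = 0) ∧ IsMulCommutative D) := by
  have hd := card_defectGroup hM hb hD
  by_cases h2 : blockDefect p b ≤ 2
  · refine Or.inr ⟨fun θ hθ => ?_, ⟨⟨fun x y => Subtype.ext
      (commute_of_card_dvd_sq (hd ▸ pow_dvd_pow p h2) x.2 y.2)⟩⟩⟩
    have := (Cfsg.Agent.S4710.result p M hM b hb _ rfl).2 θ hθ
    omega
  cases subsingleton_or_nontrivial α
  · have := Nat.pow_lt_pow_right hp.out.one_lt (not_le.1 h2)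
    rw [← hd, Nat.card_unique] at this
    exact absurd this (by simp [Nat.one_le_iff_ne_zero, hp.out.ne_zero])
  obtain ⟨B, P, hB, h0, hP, hPD⟩ := exists_cover hM hb hD
  have hN : Fintype.card α ≤ Fintype.card α + 2 * p := Nat.le_add_right _ _
  obtain ⟨ρ, δ, w, hδ, h⟩ := exists_dat hM hB hN
  obtain ⟨χ, hχ⟩ := hB.nonempty
  obtain ⟨S, hS, hT⟩ := exists_syl_defect hM hB hN hδ h hP
  have h5 : Nat.card (P ⊓ alternatingGroup α : Subgroup _) = Nat.card D := by
    rw [hPD, Subgroup.card_subtype]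
  have h6 := card_syl hS hT
  have h7 : (Fintype.card α)!.factorization p =
      (Nat.card (alternatingGroup α)).factorization p + (2 : ℕ).factorization p := by
    rw [← Fintype.card_perm, ← Nat.card_eq_fintype_card, ← (alternatingGroup α).card_mul_index,
      alternatingGroup.index_eq_two, Nat.factorization_mul Nat.card_pos.ne' two_ne_zero,
      Finsupp.add_apply]
  have h8 : blockDefect p b + (2 : ℕ).factorization p = (w !).factorization p + w := by
    refine Nat.pow_right_injective hp.out.two_le ?_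
    simp only
    rw [← h6, pow_add, ← hd, ← h5]
    by_cases e : p = 2
    · subst e
      rw [Nat.prime_two.factorization_self, pow_one]
      refine (card_inf_alt P).2 (not_le_alt ?_ hT)
      by_contra e
      obtain rfl : w = 0 := by omega
      have := Subgroup.card_le_of_le (inf_le_left (a := P) (b := alternatingGroup α))
      rw [h5, h6, hd, Nat.pow_le_pow_iff_right one_lt_two] at this
      simp only [Nat.factorial_zero, Nat.factorization_one, Finsupp.zero_apply] at this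
      omega
    · rw [inf_eq_left.2 (le_alt e hT.isPGroup), Nat.factorization_eq_zero_of_not_dvd
        (mt (Nat.prime_dvd_prime_iff_eq hp.out Nat.prime_two).1 e), pow_zero, mul_one]
  have H : ∀ a, ∑ j, a j = ∑ j, δ j + w → ∀ ψ : IrrCharacter (Perm α), Lab ψ (tp ρ a) → ∀ θ ∈ b,
      Over (alternatingGroup α).subtype ψ.1 θ.1 → (p = 2 → ∃ g ∉ alternatingGroup α, ψ.1 g ≠ 0) →
      blockHeight p b θ.1 = (Yv ρ δ w a).natAbs.factorization p := fun a ha ψ hψ θ hθ ho hg => by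
    have a1 := hψ.fact_deg hN hδ ha
    have a2 := factorization_deg_add_defect p hθ
    have a3 : (charDegree ψ.1).factorization p = (charDegree θ.1).factorization p := by
      by_cases e : p = 2
      · obtain ⟨g, b1, b2⟩ := hg e
        have := ((ho.res_two alternatingGroup.index_eq_two b1).resolve_right
          fun e => b2 (e.2.2 g b1)).2 1
        rw [← irr_cast_deg, OneMemClass.coe_one, ← irr_cast_deg, Nat.cast_inj] at this
        rw [this]
      · exact ho.factorization_eq (alternatingGroup.index_eq_two (α := α) ▸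
          mt (Nat.prime_dvd_prime_iff_eq hp.out Nat.prime_two).1 e)
    rw [fact_factorial_mul] at a1
    omega
  have hw' : p = 2 → 3 ≤ w := by
    rintro rfl
    rw [Nat.prime_two.factorization_self] at h8
    by_contra e
    obtain rfl | rfl | rfl : w = 0 ∨ w = 1 ∨ w = 2 := by omega
    all_goals simp only [Nat.factorial, Nat.factorization_one, Finsupp.zero_apply, Nat.succ_eq_add_one,
      Nat.reduceAdd, mul_one, Nat.prime_two.factorization_self] at h8; omega
  by_cases hw : p ≤ w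
  · obtain ⟨a, ψ, a1, a2, a3, a4⟩ := (h χ hχ).exists_one le_rfl hδ hw hw'
    obtain ⟨θ, hθ, ho⟩ := exists_over_of_cover hB hb h0 ((h χ hχ).mem hM hB hN hδ hχ ⟨a, a1, a2⟩)
    obtain ⟨ξ, hξ⟩ := exists_deg_alt hS hT hw hw'
    exact Or.inl ⟨⟨θ, hθ, (H a a1 ψ a2 θ hθ ho a4).trans a3⟩, irrCongr ((MulEquiv.subgroupCongr
      hPD).trans (D.equivMapOfInjective _ (Subgroup.subtype_injective _)).symm) ξ,
      (charDegree_irrCongr _ _).trans hξ⟩
  have e : p ≠ 2 := fun e => by have := hw' e; omega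
  have h9 : ¬ p ∣ w ! := by rw [hp.out.dvd_factorial]; exact hw
  refine Or.inr ⟨fun θ hθ => ?_, ?_⟩
  · obtain ⟨ψ, hψ, ho⟩ := exists_over_of_covered hB hb h0 hθ
    obtain ⟨a, a1, a2⟩ := h ψ hψ
    rw [H a a1 ψ a2 θ hθ ho (absurd · e), Nat.factorization_eq_zero_of_not_dvd fun h =>
      h9 (h.trans (hδ.Yv_dvd (tp_inj_iff.1 a2.inj) a1))]
  · obtain ⟨E, e1, e2, -, e3⟩ := exists_elem_le hS hT
    obtain rfl : E = P := Subgroup.eq_of_le_of_card_ge e1 (by
      rw [h6, e3, Nat.factorization_eq_zero_of_not_dvd h9, zero_add])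
    exact ⟨⟨fun x y => Subtype.ext (Subtype.ext (congrArg Subtype.val (e2.1.1
      ⟨x.1, (hPD.ge ⟨_, x.2, rfl⟩).1⟩ ⟨y.1, (hPD.ge ⟨_, y.2, rfl⟩).1⟩) :))⟩⟩

end Cfsg.Lib.Block2.Sym
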