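import Cfsg.Agent.Lib.Block2.Sym1

/-! Bead combinatorics: the spanning lemma, counting coloured partitions, the hook formula. -/

set_option autoImplicit false
set_option linter.dupNamespace false
set_option linter.unusedSectionVars false
set_option linter.style.haveILetI false

open Finset Equiv

namespace Cfsg.Lib.Block2.Sym

variable {J I V : Type*} [Fintype J] [DecidableEq J] [DecidableEq I] [AddCommGroup V]
variable {ρ : J → I} {f : (J → ℕ) → V} {a δ β : J → ℕ}

instance (ρ : J → I) : LeftCommutative (Tr (V := V) ρ) where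
  left_comm x y f := by
    ext β
    unfold Tr
    rw [sum_comm]
    refine sum_congr rfl fun j _ => sum_congr rfl fun l _ => ?_
    rw [add_right_comm]

theorem foldr_tr (x : ℕ × I) (f : (J → ℕ) → V) (m : Multiset (ℕ × I)) :
    Multiset.foldr (Tr ρ) (Tr ρ x f) m = Multiset.foldr (Tr ρ) f (x ::ₘ m) := by
  induction m using Multiset.induction_on with
  | empty => simp
  | cons y m ih =>
    rw [Multiset.foldr_cons, ih, Multiset.cons_swap, Multiset.foldr_cons _ _ y]

/-- Coloured partitions of `w` avoiding the colour `i₀`. -/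
def Mu (i₀ : I) (w : ℕ) : Set (Multiset (ℕ × I)) :=
  {m | (∀ x ∈ m, 0 < x.1 ∧ x.2 ≠ i₀) ∧ (m.map Prod.fst).sum = w}

theorem mem_span_mu [Fintype I] [Module ℂ V] (hδ : Core ρ δ) (i₀ : I) (w : ℕ) (hf : Alt ρ f)
    (hH : ∀ (k : ℕ) (γ : J → ℕ), 0 < k → ∑ j, γ j + k = ∑ j, δ j + w → ∑ l, f (γ + Pi.single l k) = 0)
    (ha : ∑ j, a j = ∑ j, δ j + w) :
    f a ∈ Submodule.span ℂ ((fun m => Multiset.foldr (Tr ρ) f m δ) '' Mu i₀ w) := by
  haveI : IsAddTorsionFree V := by
    letI := Module.compHom V (algebraMap ℚ ℂ)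
    exact .of_module_rat V
  induction w using Nat.strong_induction_on generalizing f a with
  | _ w ih =>
  rcases Nat.eq_zero_or_pos w with rfl | hw
  · by_cases hi : RInj ρ a
    · obtain ⟨τ, hτ, rfl⟩ := hδ.exists_perm_of_le hi (by omega)
      rw [hf τ hτ]
      exact Submodule.smul_of_tower_mem _ _
        (Submodule.subset_span ⟨0, ⟨by simp, by simp⟩, by simp⟩)
    · rw [hf.eq_zero hi]; exact zero_mem _
  have key : ∀ (k : ℕ) i (γ : J → ℕ), 0 < k → i ≠ i₀ → ∑ j, γ j + k = ∑ j, δ j + w →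
      Tr ρ (k, i) f γ ∈ Submodule.span ℂ ((fun m => Multiset.foldr (Tr ρ) f m δ) '' Mu i₀ w) := by
    intro k i γ hk hi hγ
    by_cases hkw : k ≤ w
    · refine Submodule.span_mono ?_ (ih (w - k) (by omega) (hf.tr (k, i)) ?_ (a := γ) (by omega))
      · rintro _ ⟨m, hm, rfl⟩
        refine ⟨(k, i) ::ₘ m, ⟨?_, ?_⟩, (congrFun (foldr_tr _ _ _) _).symm⟩
        · intro x hx
          rcases Multiset.mem_cons.1 hx with rfl | hx
          · exact ⟨hk, hi⟩
          · exact hm.1 x hx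
        · rw [Multiset.map_cons, Multiset.sum_cons, hm.2]; simp only; omega
      · intro k' γ' hk' h'
        unfold Tr
        rw [sum_comm]
        refine sum_eq_zero fun j _ => ?_
        rw [← hH k' (γ' + Pi.single j k) hk' (by rw [sum_add_single]; omega)]
        exact sum_congr rfl fun l _ => by rw [add_right_comm]
    · rw [hδ.eq_zero (hf.tr _) (by omega)]; exact zero_mem _
  have key' : ∀ (k : ℕ) i (γ : J → ℕ), 0 < k → ∑ j, γ j + k = ∑ j, δ j + w →
      Tr ρ (k, i) f γ ∈ Submodule.span ℂ ((fun m => Multiset.foldr (Tr ρ) f m δ) '' Mu i₀ w) := by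
    intro k i γ hk hγ
    by_cases hi : i = i₀
    · have := hH k γ hk hγ
      rw [← sum_fiberwise univ ρ, ← add_sum_erase _ _ (mem_univ i₀), add_eq_zero_iff_eq_neg] at this
      subst hi
      unfold Tr
      rw [this]
      exact neg_mem (sum_mem fun i' hi' => key k i' γ hk (mem_erase.1 hi').1 hγ)
    · exact key k i γ hk hi hγ
  have h := euler hδ hf a
  rw [ha, Nat.cast_add, add_sub_cancel_left, natCast_zsmul, ← Nat.cast_smul_eq_nsmul ℂ] at h
  rw [← Submodule.smul_mem_iff _ (show (w : ℂ) ≠ 0 by exact_mod_cast hw.ne'), ← h]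
  refine sum_mem fun j _ => sum_mem fun k hk => key' _ _ _ (by omega) ?_
  rw [sum_sub_single (by simpa using hk), ha]

/-! ### Counting coloured partitions -/

section count
variable {i₀ : I}

theorem mu_zero : Mu i₀ 0 = {0} := by
  ext m
  refine ⟨fun h => ?_, fun h => by rw [h]; exact ⟨by simp, by simp⟩⟩
  by_contra h0
  obtain ⟨x, hx⟩ := Multiset.exists_mem_of_ne_zero h0
  have := Multiset.single_le_sum (s := m.map Prod.fst) (fun _ _ => Nat.zero_le _) x.1
    (Multiset.mem_map_of_mem _ hx)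
  have := (h.1 x hx).1
  have := h.2
  omega

open scoped Classical in
/-- Increase a smallest part. -/
noncomputable def bump (m : Multiset (ℕ × I)) : Multiset (ℕ × I) :=
  if h : ∃ x ∈ m, ∀ y ∈ m.erase x, x.1 < y.1 then (h.choose.1 + 1, h.choose.2) ::ₘ m.erase h.choose
  else 0

theorem bump_cons {x : ℕ × I} {m : Multiset (ℕ × I)} (h : ∀ y ∈ m, x.1 < y.1) :
    bump (x ::ₘ m) = (x.1 + 1, x.2) ::ₘ m := by
  have h1 : ∃ z ∈ x ::ₘ m, ∀ y ∈ (x ::ₘ m).erase z, z.1 < y.1 := ⟨x, by simp, by simpa using h⟩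
  have h2 : h1.choose = x := by
    by_contra hne
    have hs := h1.choose_spec
    have h3 := h _ ((Multiset.mem_cons.1 hs.1).resolve_left hne)
    have h4 := hs.2 x (by rw [Multiset.mem_erase_of_ne (Ne.symm hne)]; simp)
    omega
  rw [bump, dif_pos h1, h2, Multiset.erase_cons_head]

theorem mu_succ (w : ℕ) : Mu i₀ (w + 1) ⊆
    (fun x : {i // i ≠ i₀} × Mu i₀ w => (1, x.1.1) ::ₘ x.2.1) '' Set.univ ∪
      bump '' (Mu i₀ w \ {0}) := by
  intro m hm
  have h0 : m ≠ 0 := by rintro rfl; simpa using hm.2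
  obtain ⟨x, hx, hmin⟩ : ∃ x ∈ m, ∀ y ∈ m, x.1 ≤ y.1 := by
    simpa using m.toFinset.exists_min_image Prod.fst (by simpa using h0)
  obtain ⟨m, rfl⟩ := Multiset.exists_cons_of_mem hx
  have h1 := hm.1 x hx
  have h2 := hm.2
  rw [Multiset.map_cons, Multiset.sum_cons] at h2
  have h3 : ∀ y ∈ m, 0 < y.1 ∧ y.2 ≠ i₀ := fun y hy => hm.1 y (Multiset.mem_cons_of_mem hy)
  by_cases e : x.1 = 1
  · exact Or.inl ⟨(⟨x.2, h1.2⟩, ⟨m, h3, by omega⟩), trivial, by simp [← e]⟩
  · refine Or.inr ⟨(x.1 - 1, x.2) ::ₘ m, ⟨⟨?_, ?_⟩, by simp⟩, ?_⟩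
    · intro y hy
      rcases Multiset.mem_cons.1 hy with rfl | hy
      · exact ⟨by simp only; omega, h1.2⟩
      · exact h3 y hy
    · rw [Multiset.map_cons, Multiset.sum_cons]; simp only; omega
    · rw [bump_cons fun y hy => by have := hmin y (Multiset.mem_cons_of_mem hy); simp only; omega]
      simp only
      rw [Nat.sub_add_cancel h1.1]

variable [Fintype I]

theorem finite_mu (w : ℕ) : (Mu i₀ w).Finite := by
  induction w with
  | zero => rw [mu_zero]; exact Set.finite_singleton _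
  | succ w ih =>
    haveI := ih.to_subtype
    exact ((Set.toFinite _).union ((ih.subset Set.sdiff_subset).image _)).subset (mu_succ w)

theorem card_ne (i₀ : I) : Nat.card {i // i ≠ i₀} + 1 = Fintype.card I := by
  rw [Nat.card_eq_fintype_card, Fintype.card_subtype_compl, Fintype.card_subtype_eq]
  have : 0 < Fintype.card I := Fintype.card_pos_iff.2 ⟨i₀⟩
  omega

theorem ncard_mu_succ (w : ℕ) : (Mu i₀ (w + 1)).ncard ≤
    Nat.card {i // i ≠ i₀} * (Mu i₀ w).ncard + (Mu i₀ w \ {0}).ncard := by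
  haveI := (finite_mu (i₀ := i₀) w).to_subtype
  refine (Set.ncard_le_ncard (mu_succ w) ?_).trans ((Set.ncard_union_le _ _).trans ?_)
  · exact (Set.toFinite _).union (((finite_mu w).subset Set.sdiff_subset).image _)
  refine add_le_add ((Set.ncard_image_le (Set.toFinite _)).trans ?_)
    (Set.ncard_image_le ((finite_mu w).subset Set.sdiff_subset))
  rw [Set.ncard_univ, Nat.card_prod, Nat.card_coe_set_eq]

theorem ncard_mu_succ_le (w : ℕ) : (Mu i₀ (w + 1)).ncard ≤ Fintype.card I * (Mu i₀ w).ncard := by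
  rw [← card_ne i₀, add_mul, one_mul]
  exact (ncard_mu_succ w).trans
    (add_le_add le_rfl (Set.ncard_le_ncard Set.sdiff_subset (finite_mu w)))

theorem ncard_mu_one : (Mu i₀ 1).ncard + 1 ≤ Fintype.card I := by
  have := ncard_mu_succ (i₀ := i₀) 0
  rw [mu_zero] at this
  rw [← card_ne i₀]
  simpa using this

theorem ncard_mu_le (w k : ℕ) :
    (Mu i₀ (w + k)).ncard ≤ Fintype.card I ^ k * (Mu i₀ w).ncard := by
  induction k with
  | zero => simp
  | succ k ih =>
    rw [pow_succ', mul_assoc]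
    exact (ncard_mu_succ_le _).trans (Nat.mul_le_mul_left _ ih)

theorem ncard_mu_lt {w : ℕ} (hw : 0 < w) : (Mu i₀ w).ncard < Fintype.card I ^ w := by
  obtain ⟨k, rfl⟩ := Nat.exists_eq_add_of_le hw
  have h1 := ncard_mu_one (i₀ := i₀)
  refine (ncard_mu_le 1 k).trans_lt ?_
  rw [add_comm 1, pow_succ]
  exact Nat.mul_lt_mul_of_pos_left (by omega) (pow_pos (by omega) _)

theorem mu_three : Mu i₀ 3 ⊆ (fun i : {i // i ≠ i₀} => ({(3, i.1)} : Multiset (ℕ × I))) '' Set.univ ∪
    (fun x : {i // i ≠ i₀} × {i // i ≠ i₀} => ({(1, x.1.1), (2, x.2.1)} : Multiset (ℕ × I))) ''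
      Set.univ ∪ (fun s : Sym {i // i ≠ i₀} 3 => s.1.map fun i => (1, i.1)) '' Set.univ := by
  rintro m ⟨h1, h2⟩
  have h3 : m.card ≤ 3 := by
    have := Multiset.card_nsmul_le_sum (s := m.map Prod.fst) (a := 1) (by
      intro x hx
      obtain ⟨y, hy, rfl⟩ := Multiset.mem_map.1 hx
      exact (h1 y hy).1)
    simpa [h2] using this
  interval_cases h : m.card
  · simp [Multiset.card_eq_zero.1 h] at h2
  · obtain ⟨x, rfl⟩ := Multiset.card_eq_one.1 h
    exact Or.inl (Or.inl ⟨⟨x.2, (h1 x (by simp)).2⟩, trivial, by simp at h2; simp [← h2]⟩)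
  · obtain ⟨x, y, rfl⟩ := Multiset.card_eq_two.1 h
    have hx := h1 x (by simp)
    have hy := h1 y (by simp)
    simp at h2
    refine Or.inl (Or.inr ?_)
    by_cases e : x.1 = 1
    · exact ⟨(⟨x.2, hx.2⟩, ⟨y.2, hy.2⟩), trivial, by
        simp only; rw [← e, show 2 = y.1 by omega]⟩
    · exact ⟨(⟨y.2, hy.2⟩, ⟨x.2, hx.2⟩), trivial, by
        simp only; rw [show 1 = y.1 by omega, show 2 = x.1 by omega, Multiset.pair_comm]⟩
  · obtain ⟨x, y, z, rfl⟩ := Multiset.card_eq_three.1 h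
    have hx := h1 x (by simp)
    have hy := h1 y (by simp)
    have hz := h1 z (by simp)
    simp at h2
    refine Or.inr ⟨⟨{⟨x.2, hx.2⟩, ⟨y.2, hy.2⟩, ⟨z.2, hz.2⟩}, by simp⟩, trivial, ?_⟩
    obtain ⟨x1, x2⟩ := x
    obtain ⟨y1, y2⟩ := y
    obtain ⟨z1, z2⟩ := z
    simp only at hx hy hz h2
    obtain rfl : x1 = 1 := by omega
    obtain rfl : y1 = 1 := by omega
    obtain rfl : z1 = 1 := by omega
    simp

theorem two_mul_ncard_mu_three : 2 * (Mu i₀ 3).ncard < Fintype.card I ^ 3 := by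
  have h := (Set.ncard_le_ncard (mu_three (i₀ := i₀)) (Set.toFinite _)).trans
    ((Set.ncard_union_le _ _).trans (add_le_add ((Set.ncard_union_le _ _).trans
      (add_le_add (Set.ncard_image_le (Set.toFinite _)) (Set.ncard_image_le (Set.toFinite _))))
      (Set.ncard_image_le (Set.toFinite _))))
  rw [Set.ncard_univ, Set.ncard_univ, Set.ncard_univ, Nat.card_prod,
    Nat.card_eq_fintype_card (α := Sym _ _), Sym.card_sym_eq_choose,
    ← Nat.card_eq_fintype_card] at h
  rw [← card_ne i₀]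
  generalize Nat.card {i // i ≠ i₀} = e at *
  have h6 : 6 * (e + 3 - 1).choose 3 = e * (e + 1) * (e + 2) := by
    have := Nat.descFactorial_eq_factorial_mul_choose (e + 2) 3
    simp [Nat.descFactorial, Nat.factorial] at this
    rw [show e + 3 - 1 = e + 2 by omega, ← this]; ring
  nlinarith [Nat.zero_le (e ^ 3), Nat.zero_le e, sq_nonneg ((e : ℤ) - 1)]

theorem two_mul_ncard_mu {w : ℕ} (hw : 3 ≤ w) : 2 * (Mu i₀ w).ncard < Fintype.card I ^ w := by
  obtain ⟨k, rfl⟩ := Nat.exists_eq_add_of_le hw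
  have h1 := two_mul_ncard_mu_three (i₀ := i₀)
  have h2 := ncard_mu_le (i₀ := i₀) 3 k
  have h3 : 0 < Fintype.card I ^ k := pow_pos (Fintype.card_pos_iff.2 ⟨i₀⟩) _
  rw [add_comm 3, pow_add]
  rw [add_comm 3] at h2
  nlinarith

end count

theorem finrank_span_le [Fintype I] [Module ℂ V] (hδ : Core ρ δ) (i₀ : I) (w : ℕ) (hf : Alt ρ f)
    (hH : ∀ (k : ℕ) (γ : J → ℕ), 0 < k → ∑ j, γ j + k = ∑ j, δ j + w → ∑ l, f (γ + Pi.single l k) = 0) :
    ∃ W : Submodule ℂ V, Module.Finite ℂ W ∧ Module.finrank ℂ W ≤ (Mu i₀ w).ncard ∧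
      ∀ a, ∑ j, a j = ∑ j, δ j + w → f a ∈ W := by
  refine ⟨_, Module.Finite.span_of_finite ℂ ((finite_mu w).image _), ?_,
    fun a ha => mem_span_mu hδ i₀ w hf hH ha⟩
  haveI := ((finite_mu (i₀ := i₀) w).image fun m => Multiset.foldr (Tr ρ) f m δ).fintype
  refine (finrank_span_le_card _).trans ?_
  rw [← Set.ncard_eq_toFinset_card']
  exact Set.ncard_image_le (finite_mu w)

end Cfsg.Lib.Block2.Sym
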