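import Cfsg.Agent.Lib.Block2.Sym2

/-! Bead combinatorics: the hook formula. -/

set_option autoImplicit false
set_option linter.dupNamespace false
set_option linter.unusedSectionVars false
set_option linter.style.haveILetI false

open Finset Equiv
open scoped Nat

namespace Cfsg.Lib.Block2.Sym

variable {J I V : Type*} [Fintype J] [DecidableEq J] [DecidableEq I] [AddCommGroup V]
variable {ρ : J → I} {f : (J → ℕ) → V} {a δ β : J → ℕ}

/-- The sign of a rearranged core. -/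
def eps (ρ : J → I) (δ a : J → ℕ) : ℤ :=
  ∑ τ : Perm J, if (∀ j, ρ (τ j) = ρ j) ∧ a = δ ∘ τ then (Perm.sign τ : ℤ) else 0

theorem alt_eps : Alt ρ (eps ρ δ) := by
  intro σ hσ β
  unfold eps
  rw [smul_sum]
  refine (Fintype.sum_equiv (Equiv.mulRight σ) _ _ fun τ => ?_).symm
  have : ((∀ j, ρ ((τ * σ) j) = ρ j) ∧ β ∘ σ = δ ∘ ⇑(τ * σ)) ↔
      ((∀ j, ρ (τ j) = ρ j) ∧ β = δ ∘ τ) := by
    refine and_congr ⟨fun h j => ?_, fun h j => ?_⟩ ⟨fun h => ?_, fun h => ?_⟩
    · have := h (σ.symm j)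
      rw [← hσ (σ.symm j)] at this
      simpa using this
    · rw [Perm.mul_apply, h, hσ]
    · ext j
      simpa using congrFun h (σ.symm j)
    · rw [h]; rfl
  simp only [coe_mulRight, this]
  split_ifs <;> simp [mul_comm]

theorem RInj.perm_eq (h : RInj ρ δ) {σ τ : Perm J} (hσ : ∀ j, ρ (σ j) = ρ j)
    (hτ : ∀ j, ρ (τ j) = ρ j) (e : δ ∘ σ = δ ∘ τ) : σ = τ :=
  Equiv.ext fun j => h _ _ (by rw [hσ, hτ]) (congrFun e j)

theorem eps_comp (h : RInj ρ δ) {σ : Perm J} (hσ : ∀ j, ρ (σ j) = ρ j) :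
    eps ρ δ (δ ∘ σ) = Perm.sign σ := by
  unfold eps
  rw [sum_eq_single σ, if_pos ⟨hσ, rfl⟩]
  · exact fun τ _ hne => if_neg fun h' => hne (h.perm_eq hσ h'.1 h'.2).symm
  · simp

theorem Core.eq_eps [IsAddTorsionFree V] (hδ : Core ρ δ) (hf : Alt ρ f)
    (hs : ∑ j, a j ≤ ∑ j, δ j) : f a = eps ρ δ a • f δ := by
  by_cases hi : RInj ρ a
  · obtain ⟨τ, hτ, rfl⟩ := hδ.exists_perm_of_le hi hs
    rw [hf τ hτ, eps_comp hδ.inj hτ]
  · rw [hf.eq_zero hi, alt_eps.eq_zero hi, zero_smul]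

/-- Signed number of ways to reach the core. -/
def Yv (ρ : J → I) (δ : J → ℕ) (w : ℕ) : (J → ℕ) → ℤ := (Lo 1)^[w] (eps ρ δ)

theorem alt_Yv (w : ℕ) : Alt ρ (Yv ρ δ w) := alt_eps.iterate 1 w

theorem Yv_succ (w : ℕ) (a : J → ℕ) :
    Yv ρ δ (w + 1) a = ∑ j, if 1 ≤ a j then Yv ρ δ w (a - Pi.single j 1) else 0 := by
  rw [Yv, Function.iterate_succ_apply']; rfl

theorem Core.iterate_eq [IsAddTorsionFree V] (hδ : Core ρ δ) (hf : Alt ρ f) {w : ℕ}
    (hs : ∑ j, a j = ∑ j, δ j + w) : (Lo 1)^[w] f a = Yv ρ δ w a • f δ := by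
  induction w generalizing a with
  | zero => exact hδ.eq_eps hf hs.le
  | succ w ih =>
    rw [Function.iterate_succ_apply', Yv_succ, sum_smul, Lo]
    refine sum_congr rfl fun j _ => ?_
    split_ifs with h
    · exact ih (by have := sum_sub_single h; omega)
    · simp

/-- The block determinant. -/
def Dt (ρ : J → I) (δ a : J → ℕ) : ℤ :=
  (Matrix.of fun l j => if ρ l = ρ j then ((a j).descFactorial (δ l) : ℤ) else 0).det

theorem alt_Dt : Alt ρ (Dt ρ δ) := by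
  intro σ hσ β
  unfold Dt
  rw [smul_eq_mul, ← Int.cast_id (n := (Perm.sign σ : ℤ)), ← Matrix.det_permute']
  congr 1
  ext l j
  simp [hσ]

theorem Dt_row {σ : Perm J} (hσ : ∀ j, ρ (σ j) = ρ j) :
    Dt ρ (δ ∘ σ) a = Perm.sign σ * Dt ρ δ a := by
  unfold Dt
  rw [← Int.cast_id (n := (Perm.sign σ : ℤ)), ← Matrix.det_permute]
  congr 1
  ext l j
  simp [hσ]

theorem Core.Dt_eq (hδ : Core ρ δ) (a : J → ℕ) :
    Dt ρ δ a = ∏ j, ∏ l with ρ l = ρ j ∧ δ l < δ j, ((a j : ℤ) - a l) := by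
  letI : LinearOrder I := by classical exact linearOrderOfSTO WellOrderingRel
  unfold Dt
  rw [Matrix.BlockTriangular.det (b := ρ) (fun l j h => by simp [h.ne']),
    ← prod_fiberwise_of_maps_to (t := univ.image ρ) (g := ρ) (fun j _ => mem_image_of_mem _ (mem_univ _))]
  refine prod_congr rfl fun i hi => ?_
  obtain ⟨j₀, -, rfl⟩ := mem_image.1 hi
  have hb : Function.Bijective fun j : {j // ρ j = ρ j₀} =>
      (⟨δ j, by simpa [j.2] using hδ.lt j⟩ : Fin #{l | ρ l = ρ j₀}) := by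
    constructor
    · exact fun x y e => Subtype.ext (hδ.inj _ _ (x.2.trans y.2.symm) (by simpa using e))
    · intro t
      obtain ⟨l, h1, h2⟩ := hδ.exists_eq j₀ t.2
      exact ⟨⟨l, h1⟩, Fin.ext h2⟩
  set e := (Equiv.ofBijective _ hb).symm with he
  have he1 : ∀ x, δ (e x) = x := fun x => congrArg Fin.val ((Equiv.ofBijective _ hb).apply_symm_apply x)
  have h := Matrix.det_eval_matrixOfPolynomials_eq_det_vandermonde (fun x => (a (e x) : ℤ))
    (fun i => descPochhammer ℤ i) (fun i => descPochhammer_natDegree ℤ i)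
    (fun i => monic_descPochhammer ℤ i)
  rw [← Matrix.det_submatrix_equiv_self e, ← Matrix.det_transpose]
  refine Eq.trans (b := _) ?_ (h.symm.trans ?_)
  · congr 1
    ext x y
    simp [Matrix.toSquareBlock_def, (e x).2, (e y).2, he1, descPochhammer_eval_eq_descFactorial]
  rw [Matrix.det_vandermonde, prod_subtype (p := fun j => ρ j = ρ j₀) _ (by simp),
    prod_comm' (t' := univ) (s' := fun y => Iio y) (by simp)]
  refine Fintype.prod_equiv e _ _ fun y => ?_
  refine prod_bij (fun x _ => (e x).1) ?_ ?_ ?_ (fun _ _ => rfl)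
  · intro x hx
    simpa [(e x).2, (e y).2, he1] using hx
  · exact fun x _ x' _ h => e.injective (Subtype.ext h)
  · intro l hl
    simp only [mem_filter, mem_univ, true_and, (e y).2] at hl
    obtain ⟨x, hx⟩ := e.surjective ⟨l, hl.1⟩
    refine ⟨x, ?_, by rw [hx]⟩
    have h2 := hl.2
    rw [show l = (e x).1 by rw [hx], he1, he1] at h2
    simpa using h2

/-- Product of differences of beads on common runners. -/
def Pd (ρ : J → I) (a : J → ℕ) : ℕ := ∏ j, ∏ l with ρ l = ρ j ∧ a l < a j, (a j - a l)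

theorem Pd_pos : 0 < Pd ρ a :=
  prod_pos fun j _ => prod_pos fun l hl => by simpa using (mem_filter.1 hl).2.2

theorem Core.natAbs_Dt (hδ : Core ρ δ) (ha : RInj ρ a) : (Dt ρ δ a).natAbs = Pd ρ a := by
  obtain ⟨τ, hτ, rfl⟩ := ha.core_rk.exists_perm hδ
  rw [Dt_row hτ, Int.natAbs_mul, Int.units_natAbs, one_mul, ha.core_rk.Dt_eq]
  have : ∏ j, ∏ l with ρ l = ρ j ∧ rk ρ a l < rk ρ a j, ((a j : ℤ) - a l) = Pd ρ a := by
    unfold Pd
    push_cast
    refine prod_congr rfl fun j _ => prod_congr ?_ fun l hl => ?_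
    · ext l
      simp only [mem_filter, mem_univ, true_and, and_congr_right_iff]
      refine fun e => ⟨fun h => ?_, rk_lt_rk e⟩
      rcases lt_trichotomy (a l) (a j) with h1 | h1 | h1
      · exact h1
      · simp [ha _ _ e h1] at h
      · exact absurd (rk_lt_rk e.symm h1) h.le.not_gt
    · rw [Nat.cast_sub (mem_filter.1 hl).2.2.le]
  rw [this, Int.natAbs_natCast]

theorem prod_range_sub (n : ℕ) : ∏ t ∈ range n, (n - t) = n ! := by
  rw [← Nat.descFactorial_self, Nat.descFactorial_eq_prod_range]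

theorem RInj.prod_eq (ha : RInj ρ a) (j : J) :
    ∏ l with ρ l = ρ j ∧ a l < a j, (a j - a l) =
      ∏ t ∈ image a {l | ρ l = ρ j ∧ a l < a j}, (a j - t) := by
  rw [prod_image]
  intro x hx y hy e
  simp only [coe_filter, mem_univ, true_and, Set.mem_ofPred_eq] at hx hy
  exact ha _ _ (hx.1.trans hy.1.symm) e

theorem RInj.Pd_dvd (ha : RInj ρ a) : Pd ρ a ∣ ∏ j, (a j)! := by
  refine prod_dvd_prod_of_dvd _ _ fun j _ => ?_
  rw [ha.prod_eq, ← prod_range_sub]
  refine prod_dvd_prod_of_subset _ _ _ fun t ht => ?_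
  simp only [mem_image, mem_filter, mem_univ, true_and] at ht
  obtain ⟨l, h, rfl⟩ := ht
  simpa using h.2

theorem Core.Pd_eq (hδ : Core ρ δ) : Pd ρ δ = ∏ j, (δ j)! := by
  refine prod_congr rfl fun j _ => ?_
  rw [hδ.inj.prod_eq, ← prod_range_sub]
  congr 1
  ext t
  simp only [mem_image, mem_filter, mem_univ, true_and, mem_range]
  refine ⟨fun ⟨l, h, e⟩ => e ▸ h.2, fun h => ?_⟩
  obtain ⟨l, h1, h2⟩ := hδ.exists_eq j (h.trans (hδ.lt j))
  exact ⟨l, ⟨h1, h2 ▸ h⟩, h2⟩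

theorem Core.Dt_self (hδ : Core ρ δ) : Dt ρ δ δ = ∏ j, (δ j)! := by
  rw [hδ.Dt_eq, ← hδ.Pd_eq, Pd]
  push_cast
  exact prod_congr rfl fun j _ => prod_congr rfl fun l hl => by
    rw [Nat.cast_sub (mem_filter.1 hl).2.2.le]

theorem mul_descFactorial_pred (x k : ℕ) :
    (x : ℤ) * (x - 1).descFactorial k = (x - k) * x.descFactorial k := by
  rcases x with _ | x
  · rcases k with _ | k <;> simp
  · have h1 := Nat.succ_descFactorial_succ x k
    rw [Nat.descFactorial_succ] at h1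
    by_cases h : k ≤ x + 1
    · rw [← Nat.cast_sub h, Nat.add_sub_cancel]
      exact_mod_cast h1.symm
    · rw [Nat.add_sub_cancel, Nat.descFactorial_of_lt (by omega), Nat.descFactorial_of_lt (by omega)]
      simp

theorem sum_mul_Dt (a : J → ℕ) : ∑ j, (a j : ℤ) * Dt ρ δ (a - Pi.single j 1) =
    ((∑ j, a j : ℕ) - (∑ j, δ j : ℕ) : ℤ) * Dt ρ δ a := by
  unfold Dt
  simp only [Matrix.det_apply', mul_sum, Matrix.of_apply]
  rw [sum_comm]
  refine sum_congr rfl fun σ _ => ?_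
  rw [← Equiv.sum_comp σ δ]
  push_cast
  rw [← sum_sub_distrib, sum_mul]
  refine sum_congr rfl fun j _ => ?_
  rw [← mul_prod_erase _ _ (mem_univ j), ← mul_prod_erase _ _ (mem_univ j),
    prod_congr rfl fun l hl => by
      rw [Pi.sub_apply, Pi.single_eq_of_ne (mem_erase.1 hl).1, Nat.sub_zero]]
  simp only [Pi.sub_apply, Pi.single_eq_same]
  split_ifs
  · linear_combination (Perm.sign σ : ℤ) * (∏ x ∈ univ.erase j,
      if ρ (σ x) = ρ x then ((a x).descFactorial (δ (σ x)) : ℤ) else 0) *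
      mul_descFactorial_pred (a j) (δ (σ j))
  · simp

theorem prod_factorial_sub {j : J} (h : 1 ≤ a j) :
    a j * ∏ l, ((a - Pi.single j 1 : J → ℕ) l)! = ∏ l, (a l)! := by
  rw [← mul_prod_erase _ _ (mem_univ j), ← mul_prod_erase _ _ (mem_univ j),
    prod_congr rfl fun l hl => by
      rw [Pi.sub_apply, Pi.single_eq_of_ne (mem_erase.1 hl).1, Nat.sub_zero], ← mul_assoc]
  simp only [Pi.sub_apply, Pi.single_eq_same]
  rw [Nat.mul_factorial_pred (by omega)]

theorem Core.Yv_mul (hδ : Core ρ δ) {w : ℕ} (hs : ∑ j, a j = ∑ j, δ j + w) :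
    Yv ρ δ w a * (∏ j, (a j)! : ℕ) = w ! * Dt ρ δ a := by
  induction w generalizing a with
  | zero =>
    rw [hδ.eq_eps alt_Dt hs.le, hδ.Dt_self]
    by_cases hi : RInj ρ a
    · obtain ⟨τ, hτ, rfl⟩ := hδ.exists_perm_of_le hi hs.le
      rw [← Equiv.prod_comp τ fun j => (δ j)!]
      simp [Yv]
    · simp [Yv, alt_eps.eq_zero hi]
  | succ w ih =>
    have h := sum_mul_Dt (ρ := ρ) (δ := δ) a
    rw [hs, Nat.cast_add, add_sub_cancel_left] at h
    rw [Nat.factorial_succ, Nat.cast_mul, mul_comm ((w + 1 : ℕ) : ℤ), mul_assoc, ← h, Yv_succ,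
      sum_mul, mul_sum]
    refine sum_congr rfl fun j _ => ?_
    split_ifs with h
    · rw [← prod_factorial_sub h, Nat.cast_mul, mul_left_comm,
        ih (by have := sum_sub_single h; omega), mul_left_comm]
    · simp [show a j = 0 by omega]

theorem Core.hook (hδ : Core ρ δ) (ha : RInj ρ a) {w : ℕ} (hs : ∑ j, a j = ∑ j, δ j + w) :
    (Yv ρ δ w a).natAbs * ∏ j, (a j)! = w ! * Pd ρ a := by
  have := congrArg Int.natAbs (hδ.Yv_mul hs)
  rwa [Int.natAbs_mul, Int.natAbs_mul, Int.natAbs_natCast, Int.natAbs_natCast,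
    hδ.natAbs_Dt ha] at this

theorem Core.Yv_ne_zero (hδ : Core ρ δ) (ha : RInj ρ a) {w : ℕ} (hs : ∑ j, a j = ∑ j, δ j + w) :
    Yv ρ δ w a ≠ 0 := by
  intro h
  have := hδ.hook ha hs
  rw [h] at this
  exact (Nat.mul_pos (Nat.factorial_pos w) Pd_pos).ne (by simpa using this)

theorem Core.Yv_dvd (hδ : Core ρ δ) (ha : RInj ρ a) {w : ℕ} (hs : ∑ j, a j = ∑ j, δ j + w) :
    (Yv ρ δ w a).natAbs ∣ w ! := by
  obtain ⟨c, hc⟩ := ha.Pd_dvd
  have := hδ.hook ha hs
  rw [hc, mul_comm (Pd ρ a), ← mul_assoc] at this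
  exact ⟨c, (Nat.eq_of_mul_eq_mul_right Pd_pos this).symm⟩

end Cfsg.Lib.Block2.Sym
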