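import Cfsg.Agent.Lib.Block2.Sym3

/-! Frobenius' character formula: recursion, Heisenberg relation, orthogonality of columns. -/

set_option autoImplicit false
set_option linter.dupNamespace false
set_option linter.unusedSectionVars false
set_option linter.style.haveILetI false

open Finset Equiv MvPolynomial
open scoped Nat

namespace Cfsg.Lib.Block2.Sym

section ops
variable {J I V : Type*} [Fintype J] [DecidableEq J] [DecidableEq I] [AddCommGroup V]
variable {ρ : J → I} {f : (J → ℕ) → V} {β : J → ℕ}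

/-- Raising operator. -/
def Ra (r : ℕ) (f : (J → ℕ) → V) (β : J → ℕ) : V := ∑ j, f (β + Pi.single j r)

theorem Alt.ra (h : Alt ρ f) (r : ℕ) : Alt ρ (Ra r f) := by
  intro σ hσ β
  unfold Ra
  rw [smul_sum]
  refine Fintype.sum_equiv σ _ _ fun j => ?_
  rw [comp_add_single, h σ hσ]

theorem ra_lo (r s : ℕ) (f : (J → ℕ) → V) (β : J → ℕ) : Ra r (Lo s f) β = Lo s (Ra r f) β +
    ∑ j, if β j < s ∧ s ≤ β j + r then f (Function.update β j (β j + r - s)) else 0 := by
  unfold Ra Lo
  rw [sum_comm, ← sum_add_distrib]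
  refine sum_congr rfl fun j _ => ?_
  by_cases h : s ≤ β j
  · rw [if_pos h, if_neg (by omega), add_zero]
    refine sum_congr rfl fun l _ => ?_
    rw [if_pos (by simp only [Pi.add_apply]; omega)]
    congr 1
    ext k
    simp only [Pi.add_apply, Pi.sub_apply, Pi.single_apply]
    split_ifs <;> simp_all <;> omega
  · rw [if_neg h, zero_add, sum_eq_single j]
    · simp only [Pi.add_apply, Pi.single_eq_same, not_le.1 h, true_and]
      congr 2
      ext k
      simp only [Pi.add_apply, Pi.sub_apply, Pi.single_apply, Function.update_apply]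
      split_ifs <;> simp_all
    · intro l _ hl
      rw [if_neg (by simpa [Pi.single_eq_of_ne hl.symm] using h)]
    · simp

/-- Tuples of given weight. -/
def Tm (J : Type*) [Fintype J] [DecidableEq J] (m : ℕ) : Finset (J → ℕ) := piAntidiag univ m

@[simp] theorem mem_Tm {m : ℕ} : β ∈ Tm J m ↔ ∑ j, β j = m := by simp [Tm]

theorem adj {R : Type*} [CommRing R] (f g : (J → ℕ) → R) (m r : ℕ) (Q Q' : (J → ℕ) → Prop)
    [DecidablePred Q] [DecidablePred Q'] (h : ∀ γ j, Q (γ + Pi.single j r) ↔ Q' γ) :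
    ∑ β ∈ Tm J (m + r) with Q β, Lo r f β * g β =
      ∑ γ ∈ Tm J m with Q' γ, f γ * Ra r g γ := by
  unfold Lo Ra
  simp only [sum_mul, mul_sum]
  rw [sum_comm, sum_comm (s := filter Q' _)]
  refine sum_congr rfl fun j _ => ?_
  simp only [ite_mul, zero_mul]
  rw [← sum_filter]
  refine (sum_bij' (fun γ _ => γ + Pi.single j r) (fun β _ => β - Pi.single j r) ?_ ?_ ?_ ?_ ?_).symm
  · intro γ hγ
    simp only [mem_filter, mem_Tm] at hγ ⊢
    exact ⟨⟨by rw [sum_add_single, hγ.1], (h _ _).2 hγ.2⟩, by simp⟩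
  · intro β hβ
    simp only [mem_filter, mem_Tm] at hβ ⊢
    have := sum_sub_single hβ.2
    exact ⟨by omega, (h _ j).1 (by rw [sub_add_single hβ.2]; exact hβ.1.2)⟩
  · exact fun γ _ => add_sub_single _ _ _
  · exact fun β hβ => sub_add_single (mem_filter.1 hβ).2
  · intro γ _
    rw [add_sub_single]

end ops

/-- One runner. -/
abbrev tv (N : ℕ) : Fin N → Unit := fun _ => ()

/-- Weight of the vacuum. -/
def vc (N : ℕ) : ℕ := ∑ j : Fin N, (j : ℕ)

theorem vc_def (N : ℕ) : ∑ j : Fin N, (j : ℕ) = vc N := rfl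

variable {N : ℕ} {β : Fin N → ℕ} {μ ν : Multiset ℕ} {r : ℕ}

theorem rinj_tv : RInj (tv N) β ↔ Function.Injective β :=
  ⟨fun h j l e => h j l rfl e, fun h _ _ _ e => h e⟩

/-- The alternant. -/
noncomputable def aD (N : ℕ) : MvPolynomial (Fin N) ℤ :=
  ∑ τ : Perm (Fin N), monomial (Finsupp.equivFunOnFinite.symm (Fin.val ∘ τ)) (Perm.sign τ : ℤ)

/-- Frobenius' formula. -/
noncomputable def Xc (μ : Multiset ℕ) (β : Fin N → ℕ) : ℤ :=
  coeff (Finsupp.equivFunOnFinite.symm β) (aD N * (μ.map (psum (Fin N) ℤ)).prod)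

theorem Xc_zero : Xc 0 = eps (tv N) Fin.val := by
  ext β
  simp [Xc, aD, eps, coeff_sum, coeff_monomial, eq_comm]

theorem Xc_cons (r : ℕ) (μ : Multiset ℕ) : Xc (N := N) (r ::ₘ μ) = Lo r (Xc μ) := by
  ext β
  unfold Xc Lo
  rw [Multiset.map_cons, Multiset.prod_cons, mul_comm (psum _ _ _), ← mul_assoc, psum, mul_sum,
    coeff_sum]
  refine sum_congr rfl fun j _ => ?_
  rw [X_pow_eq_monomial, coeff_mul_monomial', mul_one]
  simp only [Finsupp.single_le_iff, Finsupp.equivFunOnFinite_symm_apply_apply]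
  congr 2
  ext l
  simp [Finsupp.single_apply, Pi.single_apply, eq_comm]

theorem alt_Xc (μ : Multiset ℕ) : Alt (tv N) (Xc μ) := by
  induction μ using Multiset.induction_on with
  | empty => rw [Xc_zero]; exact alt_eps
  | cons r μ ih => rw [Xc_cons]; exact ih.lo r

theorem Xc_replicate_add (r w : ℕ) (μ : Multiset ℕ) :
    Xc (N := N) (Multiset.replicate w r + μ) = (Lo r)^[w] (Xc μ) := by
  induction w with
  | zero => simp
  | succ w ih => rw [Multiset.replicate_succ, Multiset.cons_add, Xc_cons, ih,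
      Function.iterate_succ_apply']

theorem heis (hr : 0 < r) (hN : μ.sum ≤ N) (hs : ∑ j, β j + r = vc N + μ.sum) :
    Ra r (Xc μ) β = r * μ.count r * Xc (μ.erase r) β := by
  induction μ using Multiset.induction_on generalizing β with
  | empty =>
    rw [(core_val N).eq_zero ((alt_Xc 0).ra r) (by simp at hs; rw [vc_def]; omega)]
    simp
  | cons s μ ih =>
    by_cases hi : RInj (tv N) β
    swap
    · rw [((alt_Xc _).ra r).eq_zero hi, (alt_Xc _).eq_zero hi, mul_zero]
    rw [Multiset.sum_cons] at hN hs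
    have h0 : vc N ≤ _ := (core_val N).sum_le hi
    have hex : ∀ t < r, ∃ j, β j = t := fun t ht =>
      exists_eq_of_small (m := s + μ.sum - r) (rinj_tv.1 hi) (by rw [vc_def]; omega) (by omega)
    have h1 : Lo s (Ra r (Xc μ)) β = r * μ.count r * Xc (s ::ₘ μ.erase r) β := by
      rw [Xc_cons, Lo, Lo, mul_sum]
      refine sum_congr rfl fun j _ => ?_
      split_ifs with h
      · exact ih (by omega) (by have := sum_sub_single h; omega)
      · simp
    rw [Xc_cons, ra_lo, h1]
    by_cases e : r = s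
    · subst e
      have h2 : #{j | β j < r} = r := by
        rw [← card_image_of_injective _ (rinj_tv.1 hi)]
        conv_rhs => rw [← card_range r]
        congr 1
        ext t
        simp only [mem_image, mem_filter, mem_univ, true_and, mem_range]
        exact ⟨fun ⟨j, h, e⟩ => e ▸ h, fun h => let ⟨j, e⟩ := hex t h; ⟨j, e ▸ h, e⟩⟩
      simp only [le_add_iff_nonneg_left, zero_le, and_true, Nat.add_sub_cancel,
        Function.update_eq_self, Multiset.count_cons_self, Multiset.erase_cons_head]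
      rw [← sum_filter, sum_const, h2]
      by_cases hm : r ∈ μ
      · rw [Multiset.cons_erase hm]; simp; ring
      · simp [Multiset.count_eq_zero_of_notMem hm]
    · rw [Multiset.count_cons_of_ne e, Multiset.erase_cons_tail _ (Ne.symm e), sum_eq_zero, add_zero]
      intro j _
      split_ifs with h
      · obtain ⟨l, hl⟩ := hex (β j + r - s) (by omega)
        have hne : l ≠ j := by rintro rfl; omega
        refine (alt_Xc _).eq_zero fun hi' => hne (hi' _ _ rfl ?_)
        simp [hne, hl]
      · rfl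

/-- Centralizer order. -/
def zz (μ : Multiset ℕ) : ℕ := μ.prod * ∏ k ∈ μ.toFinset, (μ.count k)!

theorem zz_cons (r : ℕ) (μ : Multiset ℕ) : zz (r ::ₘ μ) = r * (μ.count r + 1) * zz μ := by
  have h : ∀ (ν : Multiset ℕ) (s : Finset ℕ), ν.toFinset ⊆ s →
      ∏ k ∈ ν.toFinset, (ν.count k)! = ∏ k ∈ s, (ν.count k)! := fun ν s hs =>
    prod_subset hs fun k _ hk => by
      rw [Multiset.count_eq_zero_of_notMem (by simpa using hk), Nat.factorial_zero]
  unfold zz
  rw [h μ (insert r μ.toFinset) (subset_insert _ _), Multiset.toFinset_cons,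
    ← mul_prod_erase _ _ (mem_insert_self r _), ← mul_prod_erase _ _ (mem_insert_self r _),
    prod_congr rfl fun k hk => by rw [Multiset.count_cons_of_ne (mem_erase.1 hk).1],
    Multiset.count_cons_self, Multiset.prod_cons, Nat.factorial_succ]
  ring

theorem sum_eps_sq : ∑ β ∈ Tm (Fin N) (vc N), eps (tv N) Fin.val β * eps (tv N) Fin.val β
    = N ! := by
  have h : ∀ β, eps (tv N) Fin.val β * eps (tv N) Fin.val β =
      ∑ τ : Perm (Fin N), if β = Fin.val ∘ τ then 1 else 0 := by
    intro β
    conv_lhs => lhs; unfold eps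
    rw [sum_mul]
    refine sum_congr rfl fun τ _ => ?_
    simp only [implies_true, true_and]
    split_ifs with h
    · rw [h, eps_comp (core_val N).inj fun _ => rfl, ← Units.val_mul, Int.units_mul_self]; rfl
    · simp
  simp only [h]
  rw [sum_comm, sum_congr rfl fun τ _ => by
    rw [sum_ite_eq', if_pos (show Fin.val ∘ τ ∈ Tm (Fin N) (vc N) from
      mem_Tm.2 (Equiv.sum_comp τ Fin.val))]]
  simp [Fintype.card_perm]

theorem col {n : ℕ} (hN : n ≤ N) (h0 : ∀ r ∈ μ, 0 < r) (h0' : ∀ r ∈ ν, 0 < r) (hμ : μ.sum = n)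
    (hν : ν.sum = n) : ∑ β ∈ Tm (Fin N) (vc N + n), Xc μ β * Xc ν β =
      if μ = ν then ((N ! * zz μ : ℕ) : ℤ) else 0 := by
  induction μ using Multiset.induction_on generalizing ν n with
  | empty =>
    obtain rfl : n = 0 := hμ.symm
    obtain rfl : ν = 0 := by
      by_contra h
      obtain ⟨x, hx⟩ := Multiset.exists_mem_of_ne_zero h
      have := Multiset.single_le_sum (s := ν) (fun _ _ => Nat.zero_le _) x hx
      have := h0' x hx
      omega
    simp [Xc_zero, sum_eps_sq, zz]
  | cons r μ ih =>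
    rw [Multiset.sum_cons] at hμ
    have hr := h0 r (by simp)
    have h := adj (Xc (N := N) μ) (Xc ν) (vc N + μ.sum) r (fun _ => True) (fun _ => True) (by simp)
    rw [filter_true, filter_true] at h
    rw [Xc_cons, show vc N + n = vc N + μ.sum + r by omega, h, sum_congr rfl fun γ hγ => by
      rw [heis hr (by omega) (by simp at hγ; omega), mul_left_comm], ← mul_sum]
    by_cases hm : r ∈ ν
    · obtain ⟨ν, rfl⟩ := Multiset.exists_cons_of_mem hm
      rw [Multiset.sum_cons] at hν
      rw [Multiset.erase_cons_head, ih (by omega) (fun x hx => h0 x (by simp [hx]))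
        (fun x hx => h0' x (by simp [hx])) rfl (by omega)]
      simp only [Multiset.cons_inj_right, Multiset.count_cons_self]
      split_ifs with e
      · subst e; rw [zz_cons]; push_cast; ring
      · simp
    · rw [Multiset.count_eq_zero_of_notMem hm, if_neg (by rintro rfl; simp at hm)]
      simp

theorem col_blk {n : ℕ} (hN : n ≤ N) (hμ : μ.sum = n) (hν : ν.sum = n) (hr : 0 < r) (h1 : r ∈ μ)
    (h2 : r ∉ ν) (Q : (Fin N → ℕ) → Prop) [DecidablePred Q]
    (hQ : ∀ γ j, Q (γ + Pi.single j r) ↔ Q γ) :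
    ∑ β ∈ Tm (Fin N) (vc N + n) with Q β, Xc μ β * Xc ν β = 0 := by
  obtain ⟨μ, rfl⟩ := Multiset.exists_cons_of_mem h1
  rw [Multiset.sum_cons] at hμ
  rw [Xc_cons, show vc N + n = vc N + μ.sum + r by omega, adj _ _ _ _ Q Q hQ]
  refine sum_eq_zero fun γ hγ => ?_
  rw [heis hr (by omega) (by simp at hγ; omega), Multiset.count_eq_zero_of_notMem h2]
  simp

end Cfsg.Lib.Block2.Sym
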