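import Cfsg.Agent.Lib.Block2.Sym4
import Cfsg.Agent.Lib.Char.Classes

/-! The irreducible characters of the symmetric groups. -/

set_option autoImplicit false
set_option linter.dupNamespace false
set_option linter.unusedSectionVars false
set_option linter.style.haveILetI false

open Finset Equiv MvPolynomial Cfsg Cfsg.Lib.Char
open scoped Nat ComplexConjugate

namespace Cfsg.Lib.Block2.Sym

variable {N : ℕ} {α : Type*} [Fintype α] [DecidableEq α] {β γ : Fin N → ℕ}

theorem prod_psum_eq {O : Type*} [Fintype O] [DecidableEq O] (π : α → O)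
    (hπ : Function.Surjective π) (P : (α → Fin N) → Prop) [DecidablePred P]
    (hP : ∀ f, P f ↔ ∀ a b, π a = π b → f a = f b) :
    ∏ o, psum (Fin N) ℤ #{a | π a = o} = ∑ f with P f, ∏ a, X (f a) := by
  simp only [psum]
  rw [prod_univ_sum, Fintype.piFinset_univ]
  refine sum_bij (fun g _ => g ∘ π) ?_ ?_ ?_ ?_
  · exact fun g _ => mem_filter.2 ⟨mem_univ _, (hP _).2 fun a b e => by simp [e]⟩
  · exact fun g _ g' _ e => hπ.injective_comp_right e
  · intro f hf
    refine ⟨f ∘ Function.surjInv hπ, mem_univ _, funext fun a => ?_⟩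
    exact (hP _).1 (mem_filter.1 hf).2 _ _ (Function.surjInv_eq hπ _)
  · intro g _
    rw [← prod_fiberwise univ π]
    refine prod_congr rfl fun o _ => ?_
    rw [prod_congr rfl fun a ha => by rw [Function.comp, (mem_filter.1 ha).2], prod_const]

/-- Cycle lengths, including fixed points. -/
abbrev cyc (σ : Perm α) : Multiset ℕ := σ.partition.parts

theorem prod_psum_cyc (σ : Perm α) : ((cyc σ).map (psum (Fin N) ℤ)).prod =
    ∑ f : α → Fin N with f ∘ σ = f, ∏ a, X (f a) := by
  set S := σ.cycleFactorsFinset.disjSum σ.supportᶜ with hS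
  let π : α → S := fun a => if h : σ a = a then ⟨.inr a, by simp [hS, h]⟩ else
    ⟨.inl (σ.cycleOf a), by simp [hS, Perm.cycleOf_mem_cycleFactorsFinset_iff, h]⟩
  have h1 : ∀ a c hc, π a = ⟨.inl c, hc⟩ ↔ a ∈ c.support := by
    intro a c hc
    have hc' : c ∈ σ.cycleFactorsFinset := by simpa [hS] using hc
    by_cases h : σ a = a
    · simp only [π, dif_pos h, Subtype.mk.injEq, reduceCtorEq, false_iff]
      exact fun ha => Perm.mem_support.1 (Perm.mem_cycleFactorsFinset_support_le hc' ha) h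
    · simp only [π, dif_neg h, Subtype.mk.injEq, Sum.inl.injEq]
      refine ⟨fun e => ?_, fun ha => (Perm.cycle_is_cycleOf ha hc').symm⟩
      rw [← e, Perm.mem_support_cycleOf_iff' h]
  have h2 : ∀ a b hb, π a = ⟨.inr b, hb⟩ ↔ a = b := by
    intro a b hb
    have hb' : σ b = b := by simpa [hS] using hb
    by_cases h : σ a = a
    · simp [π, h]
    · simp only [π, dif_neg h, Subtype.mk.injEq, reduceCtorEq, false_iff]
      rintro rfl
      exact h hb'
  rw [← prod_psum_eq π ?_ _ ?_]
  · have : ∀ o : S, #{a | π a = o} = Sum.elim (fun c => #c.support) (fun _ => 1) o.1 := by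
      rintro ⟨c | b, h⟩
      · simp only [h1, filter_mem_eq_inter, univ_inter, Sum.elim_inl]
      · simp [h2, filter_eq']
    simp only [this]
    rw [prod_coe_sort S fun o => psum (Fin N) ℤ (Sum.elim (fun c => #c.support) (fun _ => 1) o),
      hS, prod_disjSum, cyc, Perm.parts_partition, Multiset.map_add, Multiset.prod_add,
      Perm.cycleType_def, Multiset.map_map]
    simp [card_compl]
  · rintro ⟨c | b, h⟩
    · have hc' : c ∈ σ.cycleFactorsFinset := by simpa [hS] using h
      obtain ⟨a, ha⟩ := (Perm.mem_cycleFactorsFinset_iff.1 hc').1.nonempty_support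
      exact ⟨a, (h1 _ _ _).2 ha⟩
    · exact ⟨b, (h2 _ _ _).2 rfl⟩
  · intro f
    constructor
    · intro hf a b e
      have hz : ∀ (n : ℕ) x, f ((σ ^ n) x) = f x := by
        intro n x
        induction n with
        | zero => rfl
        | succ n ih => rw [pow_succ', Perm.mul_apply, ← ih]; exact congrFun hf _
      by_cases h : σ b = b
      · rw [(h2 a b (by simp [hS, h])).1 (by rw [e]; simp [π, h])]
      · have := (h1 a (σ.cycleOf b)
          (by simp [hS, Perm.cycleOf_mem_cycleFactorsFinset_iff, h])).1 (by rw [e]; simp [π, h])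
        obtain ⟨n, -, rfl⟩ := ((Perm.mem_support_cycleOf_iff' h).1 this).exists_pow_eq'
        exact hz n b
    · intro hf
      ext a
      by_cases h : σ a = a
      · simp [h]
      · rw [Function.comp, hf (σ a) a]
        simp [π, h]

/-- Fibre sizes. -/
def fib (f : α → Fin N) (j : Fin N) : ℕ := #{a | f a = j}

theorem Xc_cyc (σ : Perm α) (β : Fin N → ℕ) : Xc (cyc σ) β = ∑ τ : Perm (Fin N),
    Perm.sign τ * (#{f : α → Fin N | f ∘ σ = f ∧ Fin.val ∘ τ + fib f = β} : ℤ) := by
  rw [Xc, prod_psum_cyc, aD, sum_mul, coeff_sum]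
  refine sum_congr rfl fun τ _ => ?_
  have h : ∀ f : α → Fin N, (∏ a, X (f a) : MvPolynomial (Fin N) ℤ) =
      monomial (Finsupp.equivFunOnFinite.symm (fib f)) 1 := by
    intro f
    rw [← prod_fiberwise univ f, monomial_eq, C_1, one_mul, Finsupp.prod_fintype _ _ (by simp)]
    refine prod_congr rfl fun j _ => ?_
    rw [prod_congr rfl fun a ha => by rw [(mem_filter.1 ha).2], prod_const]
    rfl
  rw [mul_sum, coeff_sum, ← filter_filter, card_filter]
  push_cast
  rw [mul_sum]
  refine sum_congr rfl fun f _ => ?_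
  rw [h, monomial_mul, coeff_monomial, mul_one, mul_ite, mul_one, mul_zero]
  congr 1
  simp [Finsupp.ext_iff, funext_iff]

/-- The virtual character attached to a tuple. -/
noncomputable def Xp (β : Fin N → ℕ) (σ : Perm α) : ℂ := Xc (cyc σ) β

theorem isGen_Xp (β : Fin N → ℕ) : IsGeneralizedCharacter (Perm α) (Xp β) := by
  have h : ∀ τ : Perm (Fin N), IsCharacter (Perm α) fun σ =>
      (#{f : α → Fin N | f ∘ σ = f ∧ Fin.val ∘ τ + fib f = β} : ℂ) := by
    intro τ
    letI : MulAction (Perm α) {f : α → Fin N // Fin.val ∘ τ + fib f = β} :=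
      { smul := fun σ f => ⟨f.1 ∘ σ.symm, by
          refine Eq.trans ?_ f.2
          congr 1
          ext j
          exact card_bij' (fun a _ => σ.symm a) (fun a _ => σ a) (by simp) (by simp) (by simp)
            (by simp)⟩
        one_smul := fun _ => rfl
        mul_smul := fun _ _ _ => rfl }
    convert isCharacter_fixedBy (G := Perm α) {f : α → Fin N // Fin.val ∘ τ + fib f = β} with σ
    rw [← Nat.card_eq_finsetCard]
    have e : ∀ f : α → Fin N, f ∘ σ = f ↔ f ∘ σ.symm = f := fun f =>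
      ⟨fun h => funext fun a => by simpa using (congrFun h (σ.symm a)).symm,
        fun h => funext fun a => by simpa using (congrFun h (σ a)).symm⟩
    exact Nat.card_congr
      { toFun := fun f => ⟨⟨f.1, (mem_filter.1 f.2).2.2⟩,
          Subtype.ext ((e _).1 (mem_filter.1 f.2).2.1)⟩
        invFun := fun f => ⟨f.1.1, mem_filter.2 ⟨mem_univ _, (e _).2 (congrArg Subtype.val f.2), f.1.2⟩⟩
        left_inv := fun _ => rfl
        right_inv := fun _ => rfl }
  convert isGeneralizedCharacter_sum univ fun τ _ =>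
    (h τ).isGeneralizedCharacter.intCast_smul (Perm.sign τ)
  ext σ
  simp [Xp, Xc_cyc]

theorem alt_Xp : Alt (tv N) (Xp (α := α)) := by
  intro σ hσ β
  ext x
  simp [Xp, alt_Xc _ σ hσ]

theorem conj_Xp (β : Fin N → ℕ) (σ : Perm α) : conj (Xp β σ) = Xp β σ := by simp [Xp]

theorem sum_cyc (σ : Perm α) : (cyc σ).sum = Fintype.card α := σ.partition.parts_sum

theorem cyc_pos {σ : Perm α} {r : ℕ} (h : r ∈ cyc σ) : 0 < r := σ.partition.parts_pos h

theorem cyc_eq_iff {σ τ : Perm α} : cyc σ = cyc τ ↔ IsConj σ τ := by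
  rw [Perm.partition_eq_of_isConj, Nat.Partition.ext_iff]

theorem zz_cyc (σ : Perm α) : zz (cyc σ) = Nat.card (Subgroup.centralizer {σ}) := by
  rw [Perm.nat_card_centralizer, cyc, Perm.parts_partition, Perm.sum_cycleType]
  have h1 : σ.cycleType.count 1 = 0 :=
    Multiset.count_eq_zero_of_notMem fun h => by simpa using Perm.two_le_of_mem_cycleType h
  induction Fintype.card α - #σ.support with
  | zero => simp [zz]
  | succ m ih =>
    rw [Multiset.replicate_succ, Multiset.add_cons, zz_cons, ih, Nat.factorial_succ]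
    simp [h1]
    ring

theorem col_Xp (hN : Fintype.card α ≤ N) (x y : Perm α) :
    ∑ β ∈ Tm (Fin N) (vc N + Fintype.card α), Xp β x * Xp β y =
      N ! * Nat.card (Subgroup.centralizer {y}) * classIndicator y x := by
  have := congrArg (Int.cast : ℤ → ℂ) (col hN (fun _ => cyc_pos) (fun _ => cyc_pos) (sum_cyc x)
    (sum_cyc y))
  push_cast at this
  simp only [Xp]
  rw [this, classIndicator]
  by_cases h : IsConj y x
  · rw [if_pos h, if_pos (cyc_eq_iff.2 h.symm), ← zz_cyc, cyc_eq_iff.2 h, mul_one]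
  · rw [if_neg h, if_neg fun h' => h (cyc_eq_iff.1 h').symm, mul_zero]

theorem sum_inner_smul (hN : Fintype.card α ≤ N) {θ : Perm α → ℂ} (hθ : IsClassFunction _ θ) :
    ∑ β ∈ Tm (Fin N) (vc N + Fintype.card α), classInner θ (Xp β) • Xp β = (N ! : ℂ) • θ := by
  ext y
  have h1 := congrArg conj (classInner_classIndicator y hθ)
  rw [conj_classInner, classInner_def] at h1
  simp only [Finset.sum_apply, Pi.smul_apply, smul_eq_mul, classInner_def, conj_Xp, mul_assoc,
    sum_mul]
  rw [← mul_sum, sum_comm, sum_congr rfl fun x _ => by rw [← mul_sum, col_Xp hN]]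
  have h2 : ∀ x, conj (classIndicator y x) = classIndicator y x := fun x => by
    unfold classIndicator; split_ifs <;> simp
  simp only [h2, map_mul, map_inv₀, map_natCast, Complex.conj_conj] at h1
  have h3 : (Nat.card (Subgroup.centralizer {y}) : ℂ) ≠ 0 := card_ne_zero _
  rw [sum_congr rfl fun x _ => mul_left_comm _ _ _, ← mul_sum, mul_left_comm, h1]
  field_simp

/-- `β` labels `χ`. -/
structure Lab (χ : IrrCharacter (Perm α)) (β : Fin N → ℕ) : Prop where
  sum : ∑ j, β j = vc N + Fintype.card α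
  ne : classInner χ.1 (Xp β) ≠ 0

variable {χ ψ : IrrCharacter (Perm α)}

theorem Lab.inj (h : Lab χ β) : Function.Injective β := by
  by_contra hn
  exact h.ne (by rw [alt_Xp.eq_zero (rinj_tv.not.2 hn), classInner_zero_right])

theorem Lab.comp (h : Lab χ β) (σ : Perm (Fin N)) : Lab χ (β ∘ σ) where
  sum := (Equiv.sum_comp σ β).trans h.sum
  ne := by
    rw [alt_Xp σ fun _ => rfl, classInner_zsmul_right]
    exact mul_ne_zero (by simp) h.ne

theorem exists_lab (hN : Fintype.card α ≤ N) (χ : IrrCharacter (Perm α)) :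
    ∃ β : Fin N → ℕ, Lab χ β := by
  by_contra hn
  have h := sum_inner_smul hN χ.2.isClassFunction
  rw [sum_eq_zero fun β hβ => by
    rw [not_not.1 fun h => hn ⟨β, mem_Tm.1 hβ, h⟩, zero_smul]] at h
  exact smul_ne_zero (by exact_mod_cast (Nat.factorial_ne_zero N)) χ.2.ne_zero h.symm

theorem Lab.spec (hN : Fintype.card α ≤ N) (h : Lab χ β) :
    (χ.1 = Xp β ∨ χ.1 = -Xp β) ∧ ∀ γ : Fin N → ℕ, Lab χ γ → ∃ σ : Perm (Fin N), γ = β ∘ σ := by
  choose c hc using fun γ : Fin N → ℕ =>
    χ.2.isGeneralizedCharacter.classInner_int (isGen_Xp γ)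
  have h1 := sum_inner_smul hN χ.2.isClassFunction
  have h2 : ∑ γ ∈ Tm (Fin N) (vc N + Fintype.card α), c γ ^ 2 = N ! := by
    have := congrArg (classInner χ.1) h1
    rw [classInner_sum_right, classInner_smul_right, χ.2.classInner_self] at this
    simp only [classInner_smul_right, hc, map_intCast, map_natCast, mul_one] at this
    simp only [sq]
    exact_mod_cast this
  have h3 : ∀ σ : Perm (Fin N), c (β ∘ σ) = Perm.sign σ * c β := fun σ => by
    have := hc (β ∘ σ)
    rw [alt_Xp σ fun _ => rfl, classInner_zsmul_right, hc] at this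
    exact_mod_cast this.symm
  have hi : Function.Injective fun σ : Perm (Fin N) => β ∘ σ := fun σ τ e =>
    Equiv.ext fun j => h.inj (congrFun e j)
  have hsub : univ.image (fun σ : Perm (Fin N) => β ∘ σ) ⊆ Tm (Fin N) (vc N + Fintype.card α) := by
    intro γ hγ
    obtain ⟨σ, -, rfl⟩ := mem_image.1 hγ
    exact mem_Tm.2 (h.comp σ).sum
  have h4 : ∑ γ ∈ univ.image (fun σ : Perm (Fin N) => β ∘ σ), c γ ^ 2 = N ! * c β ^ 2 := by
    rw [sum_image fun _ _ _ _ e => hi e]
    simp [h3, mul_pow, Fintype.card_perm, ← Units.val_pow_eq_pow_val]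
  rw [← sum_sdiff hsub, h4] at h2
  have h5 : c β ≠ 0 := fun e => h.ne (by rw [hc, e, Int.cast_zero])
  have h6 : 0 ≤ ∑ γ ∈ Tm (Fin N) (vc N + Fintype.card α) \
    univ.image (fun σ : Perm (Fin N) => β ∘ σ), c γ ^ 2 := sum_nonneg fun _ _ => sq_nonneg _
  have h7 : (0 : ℤ) < N ! := by exact_mod_cast N.factorial_pos
  have h8 : 1 ≤ c β ^ 2 := by have := pow_pos (abs_pos.2 h5) 2; rw [sq_abs] at this; omega
  have h9 : c β ^ 2 = 1 := by nlinarith
  rw [h9, mul_one, add_eq_right, sum_eq_zero_iff_of_nonneg fun _ _ => sq_nonneg _] at h2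
  constructor
  · rw [← sum_sdiff hsub, sum_eq_zero fun γ hγ => by
      rw [hc, pow_eq_zero_iff two_ne_zero |>.1 (h2 γ hγ), Int.cast_zero, zero_smul], zero_add,
      sum_image fun _ _ _ _ e => hi e] at h1
    have h10 : ∀ σ : Perm (Fin N), classInner χ.1 (Xp (β ∘ σ)) • Xp (α := α) (β ∘ σ) =
        (c β : ℂ) • Xp β := fun σ => by
      rw [hc, h3, alt_Xp σ fun _ => rfl, ← Int.cast_smul_eq_zsmul ℂ, smul_smul]
      rcases Int.units_eq_one_or (Perm.sign σ) with e | e <;> simp [e]
    simp only [h10, sum_const, card_univ, Fintype.card_perm, Fintype.card_fin] at h1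
    rw [← Nat.cast_smul_eq_nsmul ℂ] at h1
    have h11 := smul_right_injective _ (by exact_mod_cast (Nat.factorial_ne_zero N)) h1
    rcases sq_eq_one_iff.1 h9 with e | e <;> simp [← h11, e]
  · intro γ hγ
    by_contra hn
    refine hγ.ne ?_
    rw [hc, pow_eq_zero_iff two_ne_zero |>.1 (h2 γ (mem_sdiff.2 ⟨mem_Tm.2 hγ.sum, fun h' => ?_⟩)),
      Int.cast_zero]
    obtain ⟨σ, -, e⟩ := mem_image.1 h'
    exact hn ⟨σ, e.symm⟩

theorem Lab.eq_or (hN : Fintype.card α ≤ N) (h : Lab χ β) : χ.1 = Xp β ∨ χ.1 = -Xp β :=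
  (h.spec hN).1

theorem Lab.exists_perm (hN : Fintype.card α ≤ N) (h : Lab χ β) (h' : Lab χ γ) :
    ∃ σ : Perm (Fin N), γ = β ∘ σ := (h.spec hN).2 γ h'

theorem Lab.exists_sign (hN : Fintype.card α ≤ N) (h : Lab χ β) :
    ∃ ε : ℤˣ, ∀ σ, χ.1 σ = (ε : ℤ) * Xc (cyc σ) β := by
  rcases h.eq_or hN with e | e
  · exact ⟨1, fun σ => by simp [e, Xp]⟩
  · exact ⟨-1, fun σ => by simp [e, Xp]⟩

theorem cyc_one : cyc (1 : Perm α) = Multiset.replicate (Fintype.card α) 1 := by
  simp [cyc, Perm.parts_partition]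

theorem Xc_replicate_one (n : ℕ) : Xc (Multiset.replicate n 1) β = Yv (tv N) Fin.val n β := by
  rw [← add_zero (Multiset.replicate n 1), Xc_replicate_add, Xc_zero, Yv]

theorem exists_lab' (hi : Function.Injective β) (hs : ∑ j, β j = vc N + Fintype.card α) :
    ∃ χ : IrrCharacter (Perm α), Lab χ β := by
  obtain ⟨χ, h1, h2⟩ := (isGen_Xp (α := α) β).isClassFunction.exists_classInner_ne_zero (by
    intro h
    have := congrFun h 1
    rw [Xp, cyc_one, Xc_replicate_one, Pi.zero_apply] at this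
    exact (core_val N).Yv_ne_zero (rinj_tv.2 hi) hs (by exact_mod_cast this))
  exact ⟨⟨χ, h1⟩, hs, classInner_eq_zero_comm.not.1 h2⟩

end Cfsg.Lib.Block2.Sym
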