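import Cfsg.Agent.Lib.Block2.Sym5
import Cfsg.Agent.Lib.Amalg.Syl

/-! Permutation group facts for the blocks of the symmetric groups. -/

set_option autoImplicit false
set_option linter.dupNamespace false
set_option linter.unusedSectionVars false
set_option linter.style.haveILetI false

open Finset Equiv Cfsg Cfsg.Lib.Amalg Cfsg.Lib.Core
open scoped Nat

namespace Cfsg.Lib.Block2.Sym

variable {α : Type*} [Fintype α] [DecidableEq α] {p : ℕ} [hp : Fact p.Prime]
variable {S : Finset α} {u c g : Perm α}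

theorem dvd_orderOf_iff {σ : Perm α} : p ∣ orderOf σ ↔ ∃ r ∈ cyc σ, p ∣ r := by
  rw [← Perm.lcm_cycleType]
  constructor
  · intro h
    obtain ⟨r, hr, h⟩ := hp.out.prime.exists_mem_multiset_dvd
      (h.trans (Multiset.lcm_dvd.2 fun _ => Multiset.dvd_prod))
    exact ⟨r, by simp [cyc, Perm.parts_partition, hr], h⟩
  · rintro ⟨r, hr, h⟩
    rw [cyc, Perm.parts_partition, Multiset.mem_add] at hr
    rcases hr with hr | hr
    · exact h.trans (Multiset.dvd_lcm hr)
    · rw [Multiset.eq_of_mem_replicate hr, Nat.dvd_one] at h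
      exact absurd h hp.out.ne_one

/-- Permutations supported on `S`. -/
def SS (S : Finset α) : Subgroup (Perm α) where
  carrier := {g | ∀ x, x ∉ S → g x = x}
  mul_mem' ha hb x hx := by rw [Perm.mul_apply, hb x hx, ha x hx]
  one_mem' _ _ := rfl
  inv_mem' ha x hx := by rw [Perm.inv_eq_iff_eq, ha x hx]

theorem mem_SS : g ∈ SS S ↔ ∀ x, x ∉ S → g x = x := Iff.rfl

theorem mem_SS' : g ∈ SS S ↔ g.support ⊆ S :=
  ⟨fun h x hx => by_contra fun hn => Perm.mem_support.1 hx (h x hn),
    fun h x hx => by_contra fun hn => hx (h (Perm.mem_support.2 hn))⟩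

theorem apply_mem_of_mem_SS (h : g ∈ SS S) {x : α} (hx : x ∈ S) : g x ∈ S := by
  by_contra hn
  exact hn (by rw [g.injective (h _ hn)]; exact hx)

theorem card_SS (S : Finset α) : Nat.card (SS S) = (#S)! := by
  rw [← Fintype.card_coe, ← Fintype.card_perm, ← Nat.card_eq_fintype_card]
  exact Nat.card_congr (Perm.subtypeEquivSubtypePerm (· ∈ S)).symm

theorem cj_SS (x : Perm α) (S : Finset α) : cj x (SS S) = SS (S.map x.toEmbedding) := by
  ext g
  rw [mem_cj, mem_SS, mem_SS, ← x.forall_congr_right (q := fun y => y ∉ S.map x.toEmbedding → g y = y)]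
  simp [Equiv.symm_apply_eq]

theorem SS_le_centralizer (h : ∀ x ∈ S, c x = x) : SS S ≤ Subgroup.centralizer {c} := by
  intro g hg
  rw [Subgroup.mem_centralizer_singleton_iff]
  refine Perm.Disjoint.commute fun x => ?_
  by_cases hx : x ∈ S
  · exact Or.inr (h x hx)
  · exact Or.inl (hg x hx)

theorem exists_reg (A : Type*) [Group A] [Finite A] {k : ℕ} (h : #S = k * Nat.card A) :
    ∃ f : (Fin k → A) →* Perm α, Function.Injective f ∧ (∀ a, f a ∈ SS S) ∧
      (∀ a, (∀ i, a i ≠ 1) → (f a).support = S) ∧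
      ((∀ x : A, ∀ [Fintype A] [DecidableEq A], Perm.sign (Equiv.mulLeft x) = 1) →
        ∀ a, Perm.sign (f a) = 1) := by
  classical
  letI := Fintype.ofFinite A
  let e : Fin k × A ≃ {x // x ∈ S} := Fintype.equivOfCardEq (by
    simp [h, Nat.card_eq_fintype_card])
  let f₀ : (Fin k → A) →* Perm (Fin k × A) :=
    { toFun := fun a => prodCongrRight fun i => Equiv.mulLeft (a i)
      map_one' := by ext x <;> simp
      map_mul' := fun a b => by ext x <;> simp [mul_assoc] }
  refine ⟨(Perm.extendDomainHom e).comp f₀, (Perm.extendDomainHom_injective e).comp ?_,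
    fun a x hx => Perm.extendDomain_apply_not_subtype _ _ hx, fun a ha => ?_, fun hs a => ?_⟩
  · intro a b hab
    ext i
    simpa [f₀] using DFunLike.congr_fun hab (i, 1)
  · refine eq_of_subset_of_card_le (mem_SS'.1 fun x hx =>
      Perm.extendDomain_apply_not_subtype _ _ hx) ?_
    change _ ≤ #((f₀ a).extendDomain e).support
    rw [Perm.card_support_extend_domain, show (f₀ a).support = univ from
      eq_univ_of_forall fun x => by obtain ⟨i, y⟩ := x; simp [f₀, ha i]]
    simp [h, Nat.card_eq_fintype_card]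
  · change Perm.sign ((f₀ a).extendDomain e) = 1
    rw [Perm.sign_extendDomain]
    change Perm.sign (prodCongrRight fun i => Equiv.mulLeft (a i)) = 1
    rw [Perm.sign_prodCongrRight]
    exact prod_eq_one fun i _ => hs _

theorem exists_elem {w : ℕ} (h : #S = p * w) : ∃ E : Subgroup (Perm α), E ≤ SS S ∧
    IsMulCommutative E ∧ (∀ a ∈ E, a ^ p = 1) ∧ Nat.card E = p ^ w ∧ ∃ u ∈ E, u.support = S := by
  obtain ⟨f, h1, h2, h3, -⟩ := exists_reg (S := S) (Multiplicative (ZMod p)) (k := w)
    (by simp [h, mul_comm])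
  refine ⟨f.range, by rintro _ ⟨a, rfl⟩; exact h2 a, inferInstance, ?_, ?_,
    f fun _ => Multiplicative.ofAdd 1, ⟨_, rfl⟩, h3 _ fun _ => by simp⟩
  · rintro _ ⟨a, rfl⟩
    rw [← map_pow, show a ^ p = 1 from funext fun i => by
      rw [Pi.pow_apply, ← ofAdd_toAdd (a i), ← ofAdd_nsmul]; simp, map_one]
  · rw [← Nat.card_congr (MonoidHom.ofInjective h1).toEquiv]
    simp [Nat.card_pi]

theorem cycleType_eq_of_pow {w : ℕ} (hu : u ^ p = 1) (h : #u.support = p * w) :
    u.cycleType = Multiset.replicate w p := by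
  have h1 := Perm.cycleType_of_pow_prime_eq_one hu
  have h2 := u.sum_cycleType
  rw [h1, Multiset.sum_replicate, h, smul_eq_mul, mul_comm] at h2
  rw [h1, Nat.eq_of_mul_eq_mul_left hp.out.pos h2]

theorem cyc_mul (h : Perm.Disjoint u c) : cyc (u * c) = u.cycleType +
    (c.cycleType + Multiset.replicate (Fintype.card α - #u.support - #c.support) 1) := by
  rw [cyc, Perm.parts_partition, h.cycleType_mul, h.card_support_mul, add_assoc, Nat.sub_sub]

/-- The base group of the centralizer. -/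
def Eb (u : Perm α) : Subgroup (Perm α) where
  carrier := {g | Commute g u ∧ ∀ x, u.SameCycle x (g x)}
  mul_mem' ha hb := ⟨ha.1.mul_left hb.1, fun x => (hb.2 x).trans (ha.2 _)⟩
  one_mem' := ⟨Commute.one_left _, fun _ => .rfl⟩
  inv_mem' {a} ha := ⟨ha.1.inv_left, fun x => by simpa using (ha.2 (a⁻¹ x)).symm⟩

theorem isPGroup_Eb (hu : u ^ p = 1) : IsPGroup p (Eb u) := by
  refine isPGroup_iff_mem.2 fun g hg => ⟨1, ?_⟩
  ext x
  obtain ⟨k, hk⟩ := (hg.2 x).exists_nat_pow_eq
  have : ∀ j, (g ^ j) x = (u ^ (k * j)) x := by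
    intro j
    induction j with
    | zero => simp
    | succ j ih =>
      rw [pow_succ', Perm.mul_apply, ih, ← Perm.mul_apply, (hg.1.pow_right _).eq, Perm.mul_apply,
        ← hk, ← Perm.mul_apply, ← pow_add, mul_add, mul_one]
  rw [pow_one, this, mul_comm, pow_mul, hu, one_pow]

theorem Eb_le : Eb u ≤ Subgroup.centralizer {u} := fun _ hg =>
  Subgroup.mem_centralizer_singleton_iff.2 hg.1.eq

theorem le_normalizer_Eb : Subgroup.centralizer {u} ≤ Subgroup.normalizer (Eb u : Set (Perm α)) := by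
  refine le_normalizer_of_cj_le fun h hh => cj_le_iff'.2 fun g hg => ?_
  have h1 : Commute h u := Subgroup.mem_centralizer_singleton_iff.1 hh
  refine ⟨(h1.mul_left hg.1).mul_left h1.inv_left, fun x => ?_⟩
  have := (hg.2 (h⁻¹ x)).conj (g := h)
  rw [h1.eq] at this
  simpa using this

theorem fix_of_centralizer_Eb (hu : u ^ p = 1) (hc : ¬ p ∣ orderOf c)
    (h : c ∈ Subgroup.centralizer (Eb u : Set (Perm α))) {x : α} (hx : x ∈ u.support) :
    c x = x := by
  set f := u.cycleOf x with hf
  have hfm : f ∈ u.cycleFactorsFinset := Perm.cycleOf_mem_cycleFactorsFinset_iff.2 hx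
  have hcy : f.IsCycle := (Perm.mem_cycleFactorsFinset_iff.1 hfm).1
  have hfx : f x ≠ x := by rw [hf, Perm.cycleOf_apply_self]; exact Perm.mem_support.1 hx
  have h1 : Commute f c := h f ⟨Perm.self_mem_cycle_factors_commute hfm, fun y => by
    rw [hf, Perm.cycleOf_apply]; split_ifs <;> simp [Perm.SameCycle.rfl]⟩
  have ho : orderOf f = p := by
    rw [hcy.orderOf]
    exact Perm.pow_prime_eq_one_iff.1 hu _ (Multiset.mem_map.2 ⟨f, hfm, rfl⟩)
  obtain ⟨k, hk⟩ := hcy.exists_pow_eq hfx (show f (c x) ≠ c x by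
    rw [← Perm.mul_apply, h1.eq, Perm.mul_apply]; exact fun e => hfx (c.injective e))
  have : ∀ j, (c ^ j) x = (f ^ (k * j)) x := by
    intro j
    induction j with
    | zero => simp
    | succ j ih =>
      rw [pow_succ', Perm.mul_apply, ih, ← Perm.mul_apply, (h1.symm.pow_right _).eq, Perm.mul_apply,
        ← hk, ← Perm.mul_apply, ← pow_add, mul_add, mul_one]
  have h2 := this (orderOf c)
  rw [pow_orderOf_eq_one, Perm.one_apply, eq_comm, ← hcy.pow_eq_one_iff' hfx,
    ← orderOf_dvd_iff_pow_eq_one, ho, hp.out.dvd_mul, or_iff_left hc, ← ho,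
    orderOf_dvd_iff_pow_eq_one] at h2
  rw [← hk, h2, Perm.one_apply]

end Cfsg.Lib.Block2.Sym
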