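import Cfsg.Agent.Lib.Block2.Sym6
import Cfsg.Agent.Lib.Small.Subsec
import Cfsg.Agent.Lib.Block2.Amb

/-! Blocks of the symmetric groups: cores, weights, ranks and defect groups. -/

set_option autoImplicit false
set_option linter.dupNamespace false
set_option linter.unusedSectionVars false
set_option linter.style.haveILetI false

open Finset Equiv Cfsg Cfsg.Lib.Amalg Cfsg.Lib.Core Cfsg.Lib.Char Cfsg.Lib.Block Cfsg.Lib.Small
open Cfsg.Lib.Block2
open scoped Nat ComplexConjugate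

namespace Cfsg.Lib.Block2.Sym

variable {N : ℕ} {α : Type*} [Fintype α] [DecidableEq α] {p : ℕ} [hp : Fact p.Prime]
variable {β γ a δ : Fin N → ℕ} {ρ : Fin N → Fin p} {χ ψ : IrrCharacter (Perm α)} {w : ℕ}

/-- Bead positions from runner coordinates. -/
def tp (ρ : Fin N → Fin p) (a : Fin N → ℕ) (j : Fin N) : ℕ := p * a j + ρ j

theorem tp_mod (j : Fin N) : tp ρ a j % p = ρ j := by
  rw [tp, Nat.mul_add_mod, Nat.mod_eq_of_lt (ρ j).2]

theorem tp_div (j : Fin N) : tp ρ a j / p = a j := by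
  rw [tp, Nat.mul_add_div hp.out.pos, Nat.div_eq_of_lt (ρ j).2, add_zero]

theorem tp_add (j : Fin N) (k : ℕ) : tp ρ (a + Pi.single j k) = tp ρ a + Pi.single j (p * k) := by
  ext l
  simp only [tp, Pi.add_apply, Pi.single_apply]
  split_ifs <;> ring

theorem le_tp_iff {j : Fin N} {k : ℕ} : p * k ≤ tp ρ a j ↔ k ≤ a j := by
  rw [← tp_div (ρ := ρ) (a := a) j, Nat.le_div_iff_mul_le hp.out.pos, mul_comm]

theorem sum_tp : ∑ j, tp ρ a j = p * ∑ j, a j + ∑ j, (ρ j : ℕ) := by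
  simp [tp, sum_add_distrib, mul_sum]

theorem tp_inj_iff : Function.Injective (tp ρ a) ↔ RInj ρ a := by
  refine ⟨fun h j l e e' => h (by rw [tp, tp, e, e']), fun h j l e => h j l (Fin.ext ?_) ?_⟩
  · rw [← tp_mod (a := a), e, tp_mod]
  · rw [← tp_div (ρ := ρ) (a := a), e, tp_div]

theorem Alt.tp {V : Type*} [AddCommGroup V] {f : (Fin N → ℕ) → V} (h : Alt (tv N) f) :
    Alt ρ fun a => f (tp ρ a) := by
  intro σ hσ a
  rw [← h σ fun _ => rfl]
  refine congrArg f ?_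
  ext j
  simp [Sym.tp, hσ]

theorem lo_tp {V : Type*} [AddCommGroup V] (f : (Fin N → ℕ) → V) (k : ℕ) :
    (fun a => Lo (p * k) f (tp ρ a)) = Lo k fun a => f (tp ρ a) := by
  ext a
  refine sum_congr rfl fun j _ => ?_
  simp only [le_tp_iff]
  split_ifs with h
  · conv_lhs => rw [← sub_add_single h, tp_add, add_sub_single]
  · rfl

theorem Xc_tp (hδ : Core ρ δ) (ha : ∑ j, a j = ∑ j, δ j + w) (ν : Multiset ℕ) :
    Xc (Multiset.replicate w p + ν) (tp ρ a) = Yv ρ δ w a * Xc ν (tp ρ δ) := by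
  have h : ∀ w, (fun a => (Lo p)^[w] (Xc ν) (tp ρ a)) = (Lo 1)^[w] fun a => Xc ν (tp ρ a) := by
    intro w
    induction w with
    | zero => rfl
    | succ w ih =>
      rw [Function.iterate_succ_apply', Function.iterate_succ_apply', ← ih, ← lo_tp, mul_one]
  rw [Xc_replicate_add, congrFun (h w) a, hδ.iterate_eq (alt_Xc ν).tp ha, smul_eq_mul]

theorem fact_Pd_tp : (Pd (tv N) (tp ρ a)).factorization p =
    ∑ j, rk ρ a j + (Pd ρ a).factorization p := by
  unfold Pd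
  rw [Nat.factorization_prod fun j _ => (prod_pos fun l hl => by
      simpa using (mem_filter.1 hl).2.2).ne',
    Nat.factorization_prod fun j _ => (prod_pos fun l hl => by
      simpa using (mem_filter.1 hl).2.2).ne', Finsupp.finsetSum_apply, Finsupp.finsetSum_apply,
    ← sum_add_distrib]
  refine sum_congr rfl fun j _ => ?_
  rw [Nat.factorization_prod fun l hl => (by simpa using (mem_filter.1 hl).2.2 : 0 < _).ne',
    Nat.factorization_prod fun l hl => (by simpa using (mem_filter.1 hl).2.2 : 0 < _).ne',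
    Finsupp.finsetSum_apply, Finsupp.finsetSum_apply, rk, card_eq_sum_ones, ← sum_add_distrib,
    sum_filter, sum_filter]
  refine sum_congr rfl fun l _ => ?_
  by_cases e : ρ l = ρ j
  · have : tp ρ a l < tp ρ a j ↔ a l < a j := by simp [tp, e, hp.out.pos]
    simp only [this, e, true_and]
    split_ifs with h
    · rw [show tp ρ a j - tp ρ a l = p * (a j - a l) by
        rw [tp, tp, e, Nat.add_sub_add_right, Nat.mul_sub],
        Nat.factorization_mul hp.out.ne_zero (by omega)]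
      simp [hp.out.factorization_self]
    · rfl
  · simp only [e, false_and, if_false, true_and]
    split_ifs with h
    · refine Nat.factorization_eq_zero_of_not_dvd fun hd => e (Fin.ext ?_)
      rw [← tp_mod (a := a), ← tp_mod (a := a)]
      exact (Nat.modEq_iff_dvd' h.le).2 hd
    · rfl

theorem fact_factorial_mul (w : ℕ) : (p * w)!.factorization p = (w !).factorization p + w := by
  rw [Nat.factorization_def _ hp.out, Nat.factorization_def _ hp.out, padicValNat_factorial_mul]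

theorem fact_prod_tp : (∏ j, (tp ρ a j)!).factorization p =
    ∑ j, a j + (∏ j, (a j)!).factorization p := by
  rw [Nat.factorization_prod fun j _ => Nat.factorial_ne_zero _,
    Nat.factorization_prod fun j _ => Nat.factorial_ne_zero _, Finsupp.finsetSum_apply,
    Finsupp.finsetSum_apply, ← sum_add_distrib]
  refine sum_congr rfl fun j _ => ?_
  rw [add_comm, ← fact_factorial_mul, tp, Nat.factorization_def _ hp.out,
    Nat.factorization_def _ hp.out, padicValNat_factorial_mul_add _ (ρ j).2]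

theorem Lab.charDegree (hN : Fintype.card α ≤ N) (h : Lab χ β) :
    charDegree χ.1 = (Yv (tv N) Fin.val (Fintype.card α) β).natAbs := by
  obtain ⟨ε, hε⟩ := h.exists_sign hN
  have h1 := hε 1
  rw [cyc_one, Xc_replicate_one, ← irr_cast_deg] at h1
  have h2 : (Cfsg.charDegree χ.1 : ℤ) = ε * Yv (tv N) Fin.val (Fintype.card α) β := by
    exact_mod_cast h1
  have := congrArg Int.natAbs h2
  rwa [Int.natAbs_mul, Int.units_natAbs, one_mul, Int.natAbs_natCast] at this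

theorem Lab.fact_deg (hN : Fintype.card α ≤ N) (h : Lab χ (tp ρ a)) (hδ : Core ρ δ)
    (ha : ∑ j, a j = ∑ j, δ j + w) :
    (Cfsg.charDegree χ.1).factorization p + (p * w)!.factorization p =
      (Fintype.card α)!.factorization p + (Yv ρ δ w a).natAbs.factorization p := by
  have hi := tp_inj_iff.1 h.inj
  have h1 := congrArg (fun x => x.factorization p)
    ((core_val N).hook (rinj_tv.2 h.inj) (w := Fintype.card α) h.sum)
  have h2 := congrArg (fun x => x.factorization p) (hδ.hook hi ha)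
  rw [← h.charDegree hN, Nat.factorization_mul (deg_ne_zero χ.2)
    (prod_pos fun _ _ => Nat.factorial_pos _).ne', Nat.factorization_mul (Nat.factorial_ne_zero _)
    Pd_pos.ne', Finsupp.add_apply, Finsupp.add_apply, fact_prod_tp, fact_Pd_tp, hδ.sum_rk hi] at h1
  rw [Nat.factorization_mul (Int.natAbs_ne_zero.2 (hδ.Yv_ne_zero hi ha))
    (prod_pos fun _ _ => Nat.factorial_pos _).ne', Nat.factorization_mul (Nat.factorial_ne_zero _)
    Pd_pos.ne', Finsupp.add_apply, Finsupp.add_apply] at h2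
  rw [fact_factorial_mul]
  omega

/-- The residue class of a tuple. -/
def Cl (ρ : Fin N → Fin p) (β : Fin N → ℕ) : Prop := ∃ σ : Perm (Fin N), ∀ j, β (σ j) % p = ρ j

theorem cl_add {j : Fin N} {r : ℕ} (hr : p ∣ r) : Cl ρ (β + Pi.single j r) ↔ Cl ρ β := by
  refine exists_congr fun σ => forall_congr' fun l => ?_
  obtain ⟨k, rfl⟩ := hr
  simp only [Pi.add_apply, Pi.single_apply]
  split_ifs <;> simp

theorem Cl.of_comp {σ : Perm (Fin N)} (h : Cl ρ (β ∘ σ)) : Cl ρ β :=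
  let ⟨τ, h⟩ := h; ⟨σ * τ, h⟩

theorem Cl.comp (h : Cl ρ β) (σ : Perm (Fin N)) : Cl ρ (β ∘ σ) :=
  let ⟨τ, h⟩ := h; ⟨σ⁻¹ * τ, by simpa using h⟩

theorem cl_tp : Cl ρ (tp ρ a) := ⟨1, tp_mod⟩

open scoped Classical in
theorem kernel_eq_zero (hN : Fintype.card α ≤ N) {x y : Perm α} (hx : p ∣ orderOf x)
    (hy : ¬ p ∣ orderOf y) :
    ∑ β ∈ Tm (Fin N) (vc N + Fintype.card α) with Cl ρ β, Xp β x * Xp β y = 0 := by
  obtain ⟨r, hr, hd⟩ := dvd_orderOf_iff.1 hx
  have := col_blk hN (sum_cyc x) (sum_cyc y) (cyc_pos hr) hr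
    (fun h => hy (dvd_orderOf_iff.2 ⟨r, h, hd⟩)) (Cl ρ) fun _ _ => cl_add hd
  simp only [Xp]
  exact_mod_cast this

theorem Lab.cl_of_inner (hN : Fintype.card α ≤ N) (h : Lab χ β) (h' : Lab ψ γ) (hc : Cl ρ β)
    (hne : classInner (reg p χ.1) ψ.1 ≠ 0) : Cl ρ γ := by
  classical
  by_contra hn
  set T := {β ∈ Tm (Fin N) (vc N + Fintype.card α) | Cl ρ β} with hT
  have h1 : ∑ δ ∈ T, classInner χ.1 (Xp δ) • Xp δ = (N ! : ℂ) • χ.1 := by
    rw [← sum_inner_smul hN χ.2.isClassFunction]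
    refine sum_subset (filter_subset _ _) fun δ hδ hδ' => ?_
    refine smul_eq_zero_of_left (not_not.1 fun h0 => hδ' (mem_filter.2 ⟨hδ, ?_⟩)) _
    obtain ⟨σ, rfl⟩ := h.exists_perm hN ⟨mem_Tm.1 hδ, h0⟩
    exact hc.comp σ
  have h2 : ∀ θ : Perm α → ℂ, ∀ y, (∑ δ ∈ T, classInner θ (Xp δ) • Xp δ : Perm α → ℂ) y =
      (Nat.card (Perm α) : ℂ)⁻¹ * ∑ x, θ x * ∑ δ ∈ T, Xp δ x * Xp δ y := by
    intro θ y
    simp only [Finset.sum_apply, Pi.smul_apply, smul_eq_mul, classInner_def, conj_Xp, mul_assoc,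
      sum_mul]
    rw [← mul_sum, sum_comm, sum_congr rfl fun x _ => by rw [← mul_sum]]
  have h3 : ∑ δ ∈ T, classInner (reg p χ.1) (Xp δ) • Xp δ = (N ! : ℂ) • reg p χ.1 := by
    ext y
    by_cases hy : p ∣ orderOf y
    · rw [h2, Pi.smul_apply, reg_of_dvd _ hy, smul_zero, sum_eq_zero, mul_zero]
      intro x _
      by_cases hx : p ∣ orderOf x
      · rw [reg_of_dvd _ hx, zero_mul]
      · rw [sum_congr rfl fun δ _ => mul_comm _ _, kernel_eq_zero hN hy hx, mul_zero]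
    · rw [h2, Pi.smul_apply, reg_of_not_dvd _ hy, ← Pi.smul_apply, ← h1, h2]
      congr 1
      refine sum_congr rfl fun x _ => ?_
      by_cases hx : p ∣ orderOf x
      · rw [kernel_eq_zero hN hx hy, mul_zero, mul_zero]
      · rw [reg_of_not_dvd _ hx]
  have h4 := congrArg (classInner · ψ.1) h3
  simp only [classInner_sum_left, classInner_smul_left] at h4
  rw [sum_eq_zero fun δ hδ => by
    refine mul_eq_zero_of_right _ (classInner_eq_zero_comm.1 (not_not.1 fun h0 => hn ?_))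
    obtain ⟨σ, rfl⟩ := h'.exists_perm hN ⟨mem_Tm.1 (mem_filter.1 hδ).1, h0⟩
    exact (mem_filter.1 hδ).2.of_comp] at h4
  exact mul_ne_zero (by exact_mod_cast N.factorial_ne_zero) hne h4.symm

/-- Core and weight of a character. -/
def In (ρ : Fin N → Fin p) (δ : Fin N → ℕ) (w : ℕ) (χ : IrrCharacter (Perm α)) : Prop :=
  ∃ a, ∑ j, a j = ∑ j, δ j + w ∧ Lab χ (tp ρ a)

theorem Lab.exists_tp (h : Lab χ β) (hc : Cl ρ β) : ∃ a, Lab χ (tp ρ a) := by
  obtain ⟨σ, hσ⟩ := hc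
  refine ⟨fun j => β (σ j) / p, ?_⟩
  convert h.comp σ
  ext j
  rw [tp, ← hσ, Nat.div_add_mod]
  rfl

variable {M : Ideal AlgInt} [M.IsMaximal] {B : Set (IrrCharacter (Perm α))}

theorem exists_dat (hM : IsPModular p M) (hB : IsPBlock M B) (hN : Fintype.card α ≤ N) :
    ∃ (ρ : Fin N → Fin p) (δ : Fin N → ℕ) (w : ℕ), Core ρ δ ∧ ∀ χ ∈ B, In ρ δ w χ := by
  obtain ⟨χ₀, h₀, hh⟩ := exists_height_zero p hB.nonempty
  obtain ⟨β, hβ⟩ := exists_lab hN χ₀
  set ρ : Fin N → Fin p := fun j => ⟨β j % p, Nat.mod_lt _ hp.out.pos⟩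
  have hc : Cl ρ β := ⟨1, fun _ => rfl⟩
  obtain ⟨δ, hδ⟩ := exists_core ρ
  obtain ⟨a₀, ha₀⟩ := hβ.exists_tp hc
  refine ⟨ρ, δ, ∑ j, a₀ j - ∑ j, δ j, hδ, fun χ hχ => ?_⟩
  obtain ⟨γ, hγ⟩ := exists_lab hN χ
  obtain ⟨c, h1, h2⟩ := exists_contrib hM hB
  obtain ⟨a, ha⟩ := hγ.exists_tp (hβ.cl_of_inner hN hγ hc fun h => by
    have h3 := h1 χ₀ h₀ χ
    rw [h, mul_zero, Int.cast_eq_zero] at h3
    exact ((h2 χ₀ h₀ χ hχ).2.1 (h3 ▸ dvd_zero _)) hh)
  refine ⟨a, ?_, ha⟩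
  have h4 := ha.sum.trans ha₀.sum.symm
  rw [sum_tp, sum_tp, add_left_inj, Nat.mul_right_inj hp.out.ne_zero] at h4
  have := hδ.sum_le (tp_inj_iff.1 ha₀.inj)
  omega

theorem exists_span (hN : Fintype.card α ≤ N) (hδ : Core ρ δ) (h₀ : In ρ δ w χ) :
    ∃ W : Submodule ℂ (Perm α → ℂ), Module.finrank ℂ W ≤ (Mu (0 : Fin p) w).ncard ∧
      ∀ ψ, In ρ δ w ψ → reg p ψ.1 ∈ W := by
  obtain ⟨a₀, h1, h2⟩ := h₀
  have hA : Alt ρ fun a => reg p (Xp (α := α) (tp ρ a)) := by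
    intro σ hσ a
    have := alt_Xp (α := α).tp σ hσ a
    simp only at this ⊢
    rw [this]
    ext x
    simp only [reg, Set.indicator_apply, Pi.smul_apply]
    split_ifs <;> simp
  obtain ⟨W, -, h3, h4⟩ := finrank_span_le hδ 0 w hA fun k γ hk hγ => by
    ext x
    rw [Finset.sum_apply]
    by_cases hx : p ∣ orderOf x
    · exact sum_eq_zero fun _ _ => reg_of_dvd _ hx
    · have := heis (β := tp ρ γ) (μ := cyc x) (Nat.mul_pos hp.out.pos hk) (by rwa [sum_cyc])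
        (by rw [sum_cyc, ← h2.sum, sum_tp, sum_tp, h1, ← hγ]; ring)
      rw [Multiset.count_eq_zero_of_notMem fun h =>
        hx (dvd_orderOf_iff.2 ⟨_, h, dvd_mul_right _ _⟩)] at this
      simp only [reg_of_not_dvd _ hx, tp_add, Xp, Pi.zero_apply]
      simp only [Ra, Nat.cast_zero, mul_zero, zero_mul] at this
      exact_mod_cast this
  refine ⟨W, h3, fun ψ ⟨a, ha, hl⟩ => ?_⟩
  rcases hl.eq_or hN with e | e
  · exact e ▸ h4 a ha
  · rw [e, reg, Set.indicator_neg']; exact neg_mem (h4 a ha)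

theorem In.vc_add (h : In ρ δ w χ) : ∑ j, tp ρ δ j + p * w = vc N + Fintype.card α := by
  obtain ⟨a, h1, h2⟩ := h
  rw [← h2.sum, sum_tp, sum_tp, h1]
  ring

theorem In.le_card (hδ : Core ρ δ) (h : In ρ δ w χ) : p * w ≤ Fintype.card α := by
  have h1 := h.vc_add
  have h2 : vc N ≤ _ := (core_val N).sum_le (rinj_tv.2 (tp_inj_iff.2 hδ.inj))
  omega

theorem In.apply_ne_zero (hN : Fintype.card α ≤ N) (hδ : Core ρ δ) (h : In ρ δ w χ) {u : Perm α}
    (hu : u ^ p = 1) (hs : #u.support = p * w) : χ.1 u ≠ 0 := by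
  have h1 := h.vc_add
  have h0 := h.le_card hδ
  obtain ⟨a, h2, h3⟩ := h
  obtain ⟨ε, hε⟩ := h3.exists_sign hN
  rw [hε, cyc, Perm.parts_partition, cycleType_eq_of_pow hu hs, Xc_tp hδ h2, Xc_replicate_one]
  exact_mod_cast mul_ne_zero ε.ne_zero (mul_ne_zero (hδ.Yv_ne_zero (tp_inj_iff.1 h3.inj) h2)
    ((core_val N).Yv_ne_zero (rinj_tv.2 (tp_inj_iff.2 hδ.inj)) (by rw [vc_def]; omega)))

theorem exists_syl_defect (hM : IsPModular p M) (hB : IsPBlock M B) (hN : Fintype.card α ≤ N)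
    (hδ : Core ρ δ) (h : ∀ χ ∈ B, In ρ δ w χ) {D : Subgroup (Perm α)} (hD : IsDefectGroup p M B D) :
    ∃ S : Finset α, #S = p * w ∧ Syl p D (SS S) := by
  obtain ⟨χ, hχ, hh⟩ := exists_height_zero p hB.nonempty
  obtain ⟨S, -, hS⟩ := exists_subset_card_eq (s := univ) ((h χ hχ).le_card hδ)
  obtain ⟨E, -, -, h1, -, u, hu, rfl⟩ := exists_elem hS
  have h2 := h1 u hu
  have ho : ∃ k, orderOf u = p ^ k := by
    obtain ⟨k, -, hk⟩ := (Nat.dvd_prime_pow hp.out).1
      (orderOf_dvd_of_pow_eq_one (show u ^ p ^ 1 = 1 by rwa [pow_one]))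
    exact ⟨k, hk⟩
  have h3 : brauer (Subgroup.zpowers u) (eB M B) ≠ 0 := fun h0 =>
    (h χ hχ).apply_ne_zero hN hδ h2 hS
      (apply_eq_zero_of_brauer_eq_zero hM hB.isBlockUnion hχ (isPPart_self hp.out ho) h0)
  obtain ⟨c, hc1, hc⟩ := brauer_ne_zero_iff.1 h3
  have h4 : (brauer (Subgroup.zpowers u) (eB M B)).coeff c ≠ 0 := by
    rwa [coeff_trunc_of_mem _ (le_centralizer_singleton_iff.1 hc1)]
  have h5 := (((isCen_eB B).isFixed _).cenIn_brauer.supp_centralizer hM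
    (brauer_idem hM (isPGroup_zpowers ho) ((isCen_eB B).isFixed _) hB.isBlockUnion.eB_mul_self)
    (isPGroup_Eb h2) (by rw [centralizer_zpowers_eq]; exact Eb_le)
    (by rw [centralizer_zpowers_eq]; exact le_normalizer_Eb)).mem h4
  have h6 : ¬ p ∣ orderOf c := (isCen_eB B).cenIn_top.not_dvd_orderOf hM
    hB.isBlockUnion.eB_mul_self hc
  obtain ⟨T, hT⟩ := exists_syl p (SS u.support)
  obtain ⟨x, hx⟩ := hD.exists_cj_le_of_coeff hM hB hc hT.isPGroup
    (hT.le.trans (SS_le_centralizer fun _ => fix_of_centralizer_Eb h2 h6 h5))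
  refine ⟨u.support.map x.toEmbedding, by rw [card_map, hS], ?_⟩
  rw [← cj_SS, ← Subgroup.eq_of_le_of_card_ge hx]
  · exact hT.conj x
  rw [card_cj, hT.card_eq_pow, card_SS, hS, card_defectGroup hM hB hD]
  refine Nat.pow_le_pow_right hp.out.pos ?_
  obtain ⟨a, ha, hl⟩ := h χ hχ
  have h7 := hl.fact_deg hN hδ ha
  have h8 := factorization_deg_add_defect p hχ
  rw [hh, Nat.card_eq_fintype_card, Fintype.card_perm] at h8
  omega

theorem card_le_of_sectional {G : Type*} [Group G] {D E : Subgroup G} {s : ℕ}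
    (hs : SectionalPRankLE p s D) (hle : E ≤ D) (hc : IsMulCommutative E) (h : ∀ a ∈ E, a ^ p = 1) :
    Nat.card E ≤ p ^ s := by
  let f : (E ⧸ (⊥ : Subgroup E)) ≃* E := QuotientGroup.quotientBot
  let g := Subgroup.subgroupOfEquivOfLe hle
  let e := (QuotientGroup.quotientBot (G := E.subgroupOf D)).trans g
  have := hs (E.subgroupOf D) ⊥ ⊤ ⟨⟨fun a b => Subtype.ext (e.injective (by
    simp only [Subgroup.coe_mul, map_mul]; exact hc.1.1 _ _))⟩⟩ fun a _ =>
      e.injective (by rw [map_pow, map_one]; exact Subtype.ext (h _ (e a).2))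
  rwa [Subgroup.card_top, Nat.card_congr e.toEquiv] at this

theorem exists_elem_le {S : Finset α} (hS : #S = p * w) {D : Subgroup (Perm α)}
    (hD : Syl p D (SS S)) : ∃ E ≤ D, IsMulCommutative E ∧ (∀ a ∈ E, a ^ p = 1) ∧
      Nat.card E = p ^ w := by
  obtain ⟨E, h1, h2, h3, h4, -⟩ := exists_elem hS
  obtain ⟨g, -, hg⟩ := hD.exists_conj_le (isPGroup_iff_mem.2 fun x hx => ⟨1, by
    rw [pow_one, h3 x hx]⟩) h1
  refine ⟨_, hg, isMulCommutative_cj g h2, fun a ha => ?_, by rw [card_cj, h4]⟩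
  obtain ⟨y, hy, rfl⟩ := mem_cj'.1 ha
  rw [conj_pow, h3 y hy]
  simp

theorem rank_lt (hM : IsPModular p M) (hB : IsPBlock M B) {D : Subgroup (Perm α)}
    (hD : IsDefectGroup p M B D) (hD1 : D ≠ ⊥) {s : ℕ} (hs : SectionalPRankLE p s D) :
    blockRank p B < p ^ s := by
  obtain ⟨ρ, δ, w, hδ, h⟩ := exists_dat hM hB le_rfl
  obtain ⟨χ, hχ⟩ := hB.nonempty
  obtain ⟨W, h1, h2⟩ := exists_span le_rfl hδ (h χ hχ)
  obtain ⟨S, hS, hT⟩ := exists_syl_defect hM hB le_rfl hδ h hD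
  obtain ⟨E, h3, h4, h5, h6⟩ := exists_elem_le hS hT
  have hw : 0 < w := by
    refine Nat.pos_of_ne_zero ?_
    rintro rfl
    refine hD1 (hT.eq_bot_iff.2 ?_)
    rw [card_SS, hS]
    simpa using hp.out.ne_one
  have h7 : blockRank p B ≤ Module.finrank ℂ W :=
    Submodule.finrank_mono (Submodule.span_le.2 (by rintro _ ⟨ψ, hψ, rfl⟩; exact h2 ψ (h ψ hψ)))
  have h8 := ncard_mu_lt (i₀ := (0 : Fin p)) hw
  rw [Fintype.card_fin, ← h6] at h8
  exact (h7.trans h1).trans_lt (h8.trans_le (card_le_of_sectional hs h3 h4 h5))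

end Cfsg.Lib.Block2.Sym
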