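import Cfsg.Agent.Lib.Block2.Sym7
import Cfsg.Agent.Lib.Block2.Idx2
import Cfsg.Agent.Lib.Small.Cartan
import Cfsg.Agent.S4733

/-! Ranks of blocks of the alternating groups. -/

set_option autoImplicit false
set_option linter.dupNamespace false
set_option linter.unusedSectionVars false
set_option linter.style.haveILetI false

open Finset Equiv Cfsg Cfsg.Lib.Amalg Cfsg.Lib.Core Cfsg.Lib.Char Cfsg.Lib.Block Cfsg.Lib.Small
open Cfsg.Lib.Block2
open scoped Nat

namespace Cfsg.Lib.Block2.Sym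

theorem v4_sq : ∀ x : Multiplicative (Fin 2 × Fin 2), x ^ 2 = 1 := by decide

theorem v4_sign : ∀ x : Multiplicative (Fin 2 × Fin 2), Perm.sign (Equiv.mulLeft x) = 1 := by decide

variable {α : Type*} [Fintype α] [DecidableEq α] {p : ℕ} [hp : Fact p.Prime] {w : ℕ}
  {S : Finset α} {P : Subgroup (Perm α)} {u : Perm α}

theorem card_syl (hS : #S = p * w) (hP : Syl p P (SS S)) :
    Nat.card P = p ^ ((w !).factorization p + w) := by
  rw [hP.card_eq_pow, card_SS, hS, fact_factorial_mul]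

theorem card_inf_mul_relIndex' {G : Type*} [Group G] (N E : Subgroup G) :
    Nat.card (E ⊓ N : Subgroup G) * N.relIndex E = Nat.card E := by
  rw [Subgroup.relIndex, ← Subgroup.card_mul_index (N.subgroupOf E), ← Subgroup.inf_subgroupOf_left,
    Nat.card_congr (Subgroup.subgroupOfEquivOfLe inf_le_left).toEquiv]

theorem card_inf_alt (E : Subgroup (Perm α)) :
    Nat.card E ≤ Nat.card (E ⊓ alternatingGroup α : Subgroup _) * 2 ∧
      (¬ E ≤ alternatingGroup α → Nat.card (E ⊓ alternatingGroup α : Subgroup _) * 2 = Nat.card E) := by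
  rw [← card_inf_mul_relIndex' (alternatingGroup α) E]
  have h1 : (alternatingGroup α).relIndex E ∣ 2 := by
    refine (Subgroup.relIndex_dvd_index_of_normal _ _).trans ?_
    rw [alternatingGroup_eq_sign_ker, Subgroup.index_ker]
    simpa using Subgroup.card_subgroup_dvd_card (Perm.sign (α := α)).range
  refine ⟨Nat.mul_le_mul_left _ (Nat.le_of_dvd two_pos h1), fun h => ?_⟩
  rw [((Nat.dvd_prime Nat.prime_two).1 h1).resolve_left fun e => h (Subgroup.relIndex_eq_one.1 e)]

theorem mem_alt_of_pow (h2 : p ≠ 2) {k : ℕ} (hu : u ^ p ^ k = 1) : u ∈ alternatingGroup α := by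
  have := congrArg Perm.sign hu
  rwa [map_pow, map_one, Int.units_pow_eq_pow_mod_two, Nat.odd_iff.1 (hp.out.odd_of_ne_two h2).pow,
    pow_one] at this

theorem le_alt (h2 : p ≠ 2) (h : IsPGroup p P) : P ≤ alternatingGroup α := fun x hx =>
  let ⟨_, hk⟩ := isPGroup_iff_mem.1 h x hx; mem_alt_of_pow h2 hk

theorem exists_swap_mem (hS : 1 < #S) (hP : Syl 2 P (SS S)) :
    ∃ x ∈ S, ∃ y ∈ S, x ≠ y ∧ swap x y ∈ P := by
  obtain ⟨x, hx, y, hy, h⟩ := one_lt_card.1 hS
  obtain ⟨g, hg, h1⟩ := hP.exists_conj_le (P := Subgroup.zpowers (swap x y)) (isPGroup_zpowers ⟨1, by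
    rw [pow_one]; exact orderOf_eq_prime (swap_mul_self x y ▸ sq _) (by simpa using h)⟩)
    (Subgroup.zpowers_le.2 (mem_SS.2 fun z hz => swap_apply_of_ne_of_ne (by rintro rfl; exact hz hx)
      (by rintro rfl; exact hz hy)))
  exact ⟨g x, apply_mem_of_mem_SS hg hx, g y, apply_mem_of_mem_SS hg hy, g.injective.ne h,
    swap_apply_apply g x y ▸ h1 (mem_cj'.2 ⟨_, Subgroup.mem_zpowers _, rfl⟩)⟩

theorem not_le_alt (hS : 1 < #S) (hP : Syl 2 P (SS S)) : ¬ P ≤ alternatingGroup α := fun h =>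
  let ⟨_, _, _, _, h1, h2⟩ := exists_swap_mem hS hP
  by simpa [Perm.sign_swap h1] using h h2

theorem sign_of_sq (hu : u ^ 2 = 1) (hs : #u.support = 2 * w) : Perm.sign u = (-1) ^ w := by
  rw [Perm.sign_of_cycleType, cycleType_eq_of_pow hu hs]
  simp [pow_add, mul_comm w, pow_mul]

theorem exists_elem_alt (hS : #S = p * w) (hP : Syl p P (SS S)) (h : p ≠ 2 ∨ Even w) :
    ∃ E ≤ P ⊓ alternatingGroup α, IsMulCommutative E ∧ (∀ a ∈ E, a ^ p = 1) ∧
      Nat.card E = p ^ w := by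
  by_cases h2 : p = 2
  swap
  · obtain ⟨E, h1, h3⟩ := exists_elem_le hS hP
    exact ⟨E, le_inf h1 (h1.trans (le_alt h2 hP.isPGroup)), h3⟩
  subst h2
  obtain ⟨k, rfl⟩ := h.resolve_left (by simp)
  obtain ⟨f, h1, h2, -, h3⟩ := exists_reg (S := S) (Multiplicative (Fin 2 × Fin 2)) (k := k)
    (by simp [hS]; ring)
  have h4 : ∀ a ∈ f.range, a ^ 2 = 1 := by
    rintro _ ⟨a, rfl⟩
    rw [← map_pow, show a ^ 2 = 1 from funext fun i => v4_sq _, map_one]
  obtain ⟨g, -, hg⟩ := hP.exists_conj_le (P := f.range)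
    (isPGroup_iff_mem.2 fun x hx => ⟨1, by rw [pow_one, h4 x hx]⟩) (by rintro _ ⟨a, rfl⟩; exact h2 a)
  refine ⟨_, le_inf hg (cj_le_iff'.2 ?_), isMulCommutative_cj g inferInstance, fun a ha => ?_, ?_⟩
  · rintro _ ⟨a, rfl⟩
    refine Subgroup.Normal.conj_mem inferInstance _ (h3 (fun x i j => ?_) a) g
    convert v4_sign x
  · obtain ⟨y, hy, rfl⟩ := mem_cj'.1 ha
    rw [conj_pow, h4 y hy]
    simp
  · rw [card_cj, ← Nat.card_congr (MonoidHom.ofInjective h1).toEquiv]
    simp [Nat.card_pi, ← two_mul, pow_mul]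

theorem card_le_of_sectional' {G : Type*} [Group G] {N E : Subgroup G} {D : Subgroup N} {s : ℕ}
    (hs : SectionalPRankLE p s D) (hle : E ≤ D.map N.subtype) (hc : IsMulCommutative E)
    (h : ∀ a ∈ E, a ^ p = 1) : Nat.card E ≤ p ^ s := by
  rw [← Nat.card_congr (Subgroup.subgroupOfEquivOfLe (hle.trans (Subgroup.map_subtype_le _))).toEquiv]
  refine card_le_of_sectional hs (fun x hx => ?_) inferInstance fun a ha => Subtype.ext (h _ ha)
  obtain ⟨y, hy, e⟩ := hle hx
  exact Subtype.ext e ▸ hy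

variable {M : Ideal AlgInt} [M.IsMaximal]

theorem rank_lt_alt (hM : IsPModular p M) {b : Set (IrrCharacter (alternatingGroup α))}
    (hb : IsPBlock M b) {D : Subgroup (alternatingGroup α)} (hD : IsDefectGroup p M b D)
    (hD1 : D ≠ ⊥) {s : ℕ} (hs : SectionalPRankLE p s D) : blockRank p b < p ^ s := by
  cases subsingleton_or_nontrivial α
  · exact absurd (Subsingleton.elim _ _) hD1
  obtain ⟨B, P, hB, h0, hP, hPD⟩ := exists_cover hM hb hD
  obtain ⟨ρ, δ, w, hδ, h⟩ := exists_dat hM hB le_rfl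
  obtain ⟨χ, hχ⟩ := hB.nonempty
  obtain ⟨W, h1, h2⟩ := exists_span le_rfl hδ (h χ hχ)
  obtain ⟨S, hS, hT⟩ := exists_syl_defect hM hB le_rfl hδ h hP
  obtain ⟨h3, h4⟩ := rank_le_of_cover hM alternatingGroup.index_eq_two hB hb h0
    fun ψ hψ => h2 ψ (h ψ hψ)
  have h5 : Nat.card (P ⊓ alternatingGroup α : Subgroup _) = Nat.card D := by
    rw [hPD, Subgroup.card_subtype]
  have h6 := card_syl hS hT
  have h7 := Subgroup.card_le_of_le (inf_le_left (a := P) (b := alternatingGroup α))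
  have h8 := (Subgroup.one_lt_card_iff_ne_bot D).2 hD1
  by_cases hw : p ≠ 2 ∨ Even w
  · obtain ⟨E, e1, e2, e3, e4⟩ := exists_elem_alt hS hT hw
    refine lt_of_lt_of_le ?_ (e4 ▸ card_le_of_sectional' hs (hPD ▸ e1) e2 e3)
    by_cases h9 : 3 ≤ w
    · have := two_mul_ncard_mu (i₀ := (0 : Fin p)) h9
      rw [Fintype.card_fin] at this
      omega
    have h10 : Nat.card D ≤ p ^ w := by
      by_cases hp2 : p = 2
      · subst hp2
        obtain rfl | rfl : w = 0 ∨ w = 2 := by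
          have := Nat.even_iff.1 (hw.resolve_left (by simp)); omega
        · exact h5 ▸ h7.trans (by simp [h6])
        · have := (card_inf_alt P).2 (not_le_alt (by omega) hT)
          rw [h5, h6, Nat.factorial_two, Nat.prime_two.factorization_self] at this
          omega
      · rwa [h5, h6, Nat.factorization_eq_zero_of_not_dvd (by
          have := hp.out.two_le; rw [hp.out.dvd_factorial]; omega), zero_add] at h7
    have h11 := card_defectGroup hM hb hD
    obtain ⟨a1, -, a2⟩ := Cfsg.Agent.S4733.result p M hM b hb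
    have h12 := card_le_of_dvd_sq hM hb hD (h11 ▸ pow_dvd_pow _ (by
      have := (Nat.pow_le_pow_iff_right hp.out.one_lt).1 (h11 ▸ h10); omega))
    have : blockDefect p b ≠ 0 := fun e => by simp [h11, e] at h8
    omega
  obtain ⟨rfl, hw'⟩ := not_or.1 hw |>.imp not_not.1 Nat.not_even_iff_odd.1
  obtain ⟨E, e1, e2, e3, e4⟩ := exists_elem_le hS hT
  obtain ⟨E', -, -, e5, -, u, e6, rfl⟩ := exists_elem hS
  have h9 := h4 fun ψ hψ => ⟨u, by simp [sign_of_sq (e5 u e6) hS, hw'.neg_one_pow],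
    (h ψ hψ).apply_ne_zero le_rfl hδ (e5 u e6) hS⟩
  have h10 := card_le_of_sectional' hs (E := E ⊓ alternatingGroup α) (hPD ▸ inf_le_inf_right _ e1)
    ⟨⟨fun a b => Subtype.ext (congrArg Subtype.val (e2.1.1 ⟨a.1, a.2.1⟩ ⟨b.1, b.2.1⟩) :)⟩⟩
    fun a ha => e3 a ha.1
  have h11 := (card_inf_alt E).1
  have h12 : 3 ≤ w := by
    by_contra h13
    obtain rfl : w = 1 := by have := Nat.odd_iff.1 hw'; omega
    have := (card_inf_alt P).2 (not_le_alt (by omega) hT)
    simp only [h5, h6, Nat.factorial_one, Nat.factorization_one, Finsupp.zero_apply] at this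
    omega
  have := two_mul_ncard_mu (i₀ := (0 : Fin 2)) h12
  rw [Fintype.card_fin] at this
  omega

end Cfsg.Lib.Block2.Sym
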