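import Cfsg.Agent.Lib.Block2.Sym8
import Cfsg.Agent.Lib.PGrp.Basic

/-! Characters of degree `p` of Sylow subgroups of symmetric and alternating groups. -/

set_option autoImplicit false
set_option linter.dupNamespace false
set_option linter.unusedSectionVars false
set_option linter.style.haveILetI false

open Finset Equiv Cfsg Cfsg.Lib.Amalg Cfsg.Lib.Core Cfsg.Lib.Char Cfsg.Lib.Block Cfsg.Lib.Small
open Cfsg.Lib.Block2
open scoped Nat

namespace Cfsg.Lib.Block2.Sym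

variable {p : ℕ} [hp : Fact p.Prime]

section grp

variable {G : Type*} [Group G] [Finite G]

theorem exists_deg_of_comm {H : Subgroup G} [hH : H.Normal] (hi : H.index = p) {g h : G}
    (hh : h ∈ H) (hn : g * h * g⁻¹ * h⁻¹ ∉ ⁅H, H⁆) : ∃ ξ : IrrCharacter G, charDegree ξ.1 = p := by
  haveI := Fintype.ofFinite G
  haveI := Fintype.ofFinite H
  obtain ⟨l, hl⟩ := CommGroup.exists_apply_ne_one_of_hasEnoughRootsOfUnity (Abelianization H) ℂ
    (a := Abelianization.of (⟨_, hH.conj_mem h hh g⟩ * ⟨h, hh⟩⁻¹)) fun e => hn (by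
      rw [← H.map_subtype_commutator]
      exact ⟨_, (QuotientGroup.eq_one_iff _).1 e, rfl⟩)
  let θ : IrrCharacter H := ⟨_, isIrrCharacter_linear (l.comp Abelianization.of)⟩
  have h1 : H = (MulAction.stabilizer (Perm (IrrCharacter H)) θ).comap (irrPerm H) := by
    refine ((isCoatom_of_index_prime (hi ▸ hp.out)).le_iff.1 fun x hx =>
      irrPerm_of_mem hx).resolve_left (fun e => hl ?_) |>.symm
    have := irrPerm_eq_self_iff.1 (show irrPerm H g θ = θ from e.ge (Subgroup.mem_top g)) ⟨h, hh⟩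
    rw [map_mul, map_mul, map_inv, map_inv, mul_inv_eq_one]
    exact Units.ext this
  refine ⟨⟨_, isIrrCharacter_indFun_of_over le_rfl (ψ := θ) (θ := θ)
    (over_iff.2 (θ.2.classInner_self.trans_ne one_ne_zero)) fun x hx =>
      h1.ge (irrPerm_eq_self_iff.2 hx)⟩, ?_⟩
  rw [charDegree_indFun θ.2.isCharacter, hi, show charDegree θ.1 = 1 from
    Nat.cast_injective (R := ℂ) (by rw [irr_cast_deg]; simp [θ]), mul_one]

theorem exists_max {P U : Subgroup G} (hP : IsPGroup p P) (hU : U ≤ P) (h : ¬ P ≤ U) :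
    ∃ H, U ≤ H ∧ H ≤ P ∧ H.relIndex P = p ∧ (∀ g ∈ P, ∀ h ∈ H, g * h * g⁻¹ ∈ H) ∧ ⁅P, P⁆ ≤ H ∧
      ∀ x ∈ P, x ^ p ∈ H := by
  obtain ⟨H, h1, h2, h3⟩ := PGrp.exists_index_eq_of_ne_top hP (H := U.subgroupOf P)
    (by rwa [Ne, Subgroup.subgroupOf_eq_top])
  obtain ⟨h4, h5⟩ := PGrp.commutator_le_and_pow_mem_of_index_eq H h2
  refine ⟨H.map P.subtype, fun x hx => ⟨⟨x, hU hx⟩, h1 hx, rfl⟩, Subgroup.map_subtype_le _, ?_, ?_,
    P.map_subtype_commutator ▸ Subgroup.map_mono h4, fun x hx => ⟨_, h5 ⟨x, hx⟩, rfl⟩⟩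
  · rwa [Subgroup.relIndex, Subgroup.subgroupOf, Subgroup.comap_map_eq_self_of_injective
      P.subtype_injective]
  · rintro g hg _ ⟨h, hh, rfl⟩
    exact ⟨_, h3.conj_mem h hh ⟨g, hg⟩, rfl⟩

theorem exists_deg_of_le {D P H K : Subgroup G} (hD : D ≤ P) (hi : H.relIndex P = p)
    (hn : ∀ g ∈ P, ∀ h ∈ H, g * h * g⁻¹ ∈ H) (hK : ⁅H, H⁆ ≤ K) {g h : G} (hg : g ∈ D) (hg' : g ∉ H)
    (hh : h ∈ D) (hh' : h ∈ H) (h1 : g * h * g⁻¹ * h⁻¹ ∉ K) :
    ∃ ξ : IrrCharacter D, charDegree ξ.1 = p := by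
  haveI : (H.subgroupOf D).Normal := ⟨fun a ha b => hn _ (hD b.2) _ ha⟩
  haveI : (H.subgroupOf P).Normal := ⟨fun a ha b => hn _ b.2 _ ha⟩
  refine exists_deg_of_comm (H := H.subgroupOf D) ?_ (g := ⟨g, hg⟩) (h := ⟨h, hh⟩) hh' fun e =>
    h1 (hK ?_)
  · have := Subgroup.relIndex_dvd_index_of_normal (H.subgroupOf P) (D.subgroupOf P)
    rw [Subgroup.relIndex_subgroupOf hD] at this
    exact ((Nat.dvd_prime hp.out).1 (this.trans (dvd_of_eq hi))).resolve_left fun e =>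
      hg' (Subgroup.relIndex_eq_one.1 e hg)
  · have := Subgroup.mem_map_of_mem D.subtype e
    rw [Subgroup.map_commutator] at this
    exact Subgroup.commutator_mono (Subgroup.map_le_iff_le_comap.2 le_rfl)
      (Subgroup.map_le_iff_le_comap.2 le_rfl) this

end grp

variable {α : Type*} [Fintype α] [DecidableEq α] {w : ℕ} {S : Finset α} {P H : Subgroup (Perm α)}

/-- Permutations acting on each `H`-orbit like an element of `H`. -/
def Loc (H : Subgroup (Perm α)) : Subgroup (Perm α) where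
  carrier := {f | ∀ y, ∃ h ∈ H, ∀ k ∈ H, f (k y) = h (k y)}
  mul_mem' {a b} ha hb y := by
    obtain ⟨h, h1, h2⟩ := ha y
    obtain ⟨h', h3, h4⟩ := hb y
    exact ⟨h * h', mul_mem h1 h3, fun k hk => by
      rw [Perm.mul_apply, h4 k hk]; exact h2 (h' * k) (mul_mem h3 hk)⟩
  one_mem' _ := ⟨1, one_mem _, fun _ _ => rfl⟩
  inv_mem' {a} ha y := by
    obtain ⟨h, h1, h2⟩ := ha y
    exact ⟨h⁻¹, inv_mem h1, fun k hk => by
      rw [Perm.inv_eq_iff_eq]; simpa using (h2 (h⁻¹ * k) (mul_mem (inv_mem h1) hk)).symm⟩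

theorem loc_le (hP : Syl p P (SS S)) (hH : H ≤ P) (hn : ∀ g ∈ P, ∀ h ∈ H, g * h * g⁻¹ ∈ H) :
    Loc H ≤ P := by
  refine hP.le_of_le_normalizer ?_ (fun f hf y hy => ?_)
    (le_normalizer_of_cj_le fun c hc => cj_le_iff'.2 fun f hf y => ?_)
  · obtain ⟨n, hn⟩ := (hP.isPGroup.to_le hH).exists_card_eq
    refine isPGroup_iff_mem.2 fun f hf => ⟨n, Equiv.ext fun y => ?_⟩
    obtain ⟨h, h1, h2⟩ := hf y
    have : ∀ j, (f ^ j) y = (h ^ j) y := fun j => by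
      induction j with
      | zero => rfl
      | succ j ih => rw [pow_succ', pow_succ', Perm.mul_apply, ih, h2 _ (pow_mem h1 j), Perm.mul_apply]
    rw [this, ← hn, show h ^ Nat.card H = 1 from congrArg Subtype.val
      (pow_card_eq_one' (x := (⟨h, h1⟩ : H)))]
  · obtain ⟨h, h1, h2⟩ := hf y
    exact (h2 1 (one_mem _)).trans (hP.le (hH h1) y hy)
  · obtain ⟨h, h1, h2⟩ := hf (c⁻¹ y)
    exact ⟨_, hn c hc h h1, fun k hk => by simpa using h2 _ (hn _ (inv_mem hc) k hk)⟩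

theorem exists_HK (hP : Syl p P (SS S)) {g₀ : Perm α} (hg : g₀ ∈ P) {x : α}
    (hx : (g₀ ^ p) x ≠ x) : ∃ H K : Subgroup (Perm α), K ≤ H ∧ H ≤ P ∧ H.relIndex P = p ∧
      (∀ g ∈ P, ∀ h ∈ H, g * h * g⁻¹ ∈ H) ∧ ⁅H, H⁆ ≤ K ∧ (∀ g ∈ P, g ^ p ∈ H) ∧
      (∀ f ∈ P, ∀ k ∈ H, f (k x) = k x → f ∈ K) ∧
      ∀ g ∈ P, g ∉ H → ∃ h ∈ H, h ∉ K ∧ g * h * g⁻¹ ∈ K := by
  classical
  obtain ⟨H, h1, h2, h3, h4, -, h5⟩ := exists_max hP.isPGroup
    (U := P ⊓ MulAction.stabilizer (Perm α) x) inf_le_left fun h => hx (h (pow_mem hg p)).2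
  obtain ⟨K, k1, k2, k3, k4, k5, -⟩ := exists_max (hP.isPGroup.to_le h2) h1
    fun h => hx (h (h5 _ hg)).2
  have h6 : ∀ f ∈ P, ∀ c ∈ P, f (c x) = c x → c⁻¹ * f * c ∈ P ⊓ MulAction.stabilizer (Perm α) x :=
    fun f hf c hc e => ⟨P.mul_mem (P.mul_mem (P.inv_mem hc) hf) hc, show c⁻¹ (f (c x)) = x by simp [e]⟩
  have h7 : ∀ f ∈ P, ∀ k ∈ H, f (k x) = k x → f ∈ K := fun f hf k hk e => by
    simpa [mul_assoc] using k4 k hk _ (k1 (h6 f hf k (h2 hk) e))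
  refine ⟨H, K, k2, h2, h3, h4, k5, h5, h7, fun g hg hg' => ?_⟩
  obtain ⟨h, hh, hh'⟩ : ∃ h ∈ H, h ∉ K := by
    by_contra! e
    exact hp.out.ne_one (k3.symm.trans (Subgroup.relIndex_eq_one.2 e))
  have h9 : ∀ k ∈ H, ∀ y, (∃ l ∈ H, l x = k y) ↔ ∃ l ∈ H, l x = y := fun k hk y =>
    ⟨fun ⟨l, a, b⟩ => ⟨k⁻¹ * l, mul_mem (inv_mem hk) a, by simp [b]⟩,
      fun ⟨l, a, b⟩ => ⟨k * l, mul_mem hk a, by simp [b]⟩⟩
  let r := Perm.ofSubtype (h.subtypePerm (p := fun y => ∃ l ∈ H, l x = y) (h9 h hh))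
  have r1 : ∀ y, (∃ l ∈ H, l x = y) → r y = h y := fun y hy =>
    Perm.ofSubtype_subtypePerm_of_mem _ hy
  have r2 : ∀ y, ¬ (∃ l ∈ H, l x = y) → r y = y := fun y hy => Perm.ofSubtype_apply_of_not_mem _ hy
  have r3 : r ∈ P := loc_le hP h2 h4 fun y => by
    by_cases hy : ∃ l ∈ H, l x = y
    · exact ⟨h, hh, fun k hk => r1 _ ((h9 k hk y).2 hy)⟩
    · exact ⟨1, one_mem _, fun k hk => r2 _ (mt (h9 k hk y).1 hy)⟩
  have r4 : r (g⁻¹ x) = g⁻¹ x := r2 _ fun ⟨l, a, b⟩ => hg' (by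
    simpa using mul_mem (h1 (show g * l ∈ _ from ⟨mul_mem hg (h2 a), show g (l x) = x by simp [b]⟩))
      (inv_mem a))
  have r5 := h6 r r3 _ (inv_mem hg) r4
  rw [inv_inv] at r5
  refine ⟨r, by simpa [mul_assoc] using h4 _ (inv_mem hg) _ (h1 r5), fun e => hh' ?_, k1 r5⟩
  simpa using mul_mem e (inv_mem (k1 (show h⁻¹ * r ∈ _ from ⟨P.mul_mem (P.inv_mem (h2 hh)) r3,
    show h⁻¹ (r x) = x by simp [r1 x ⟨1, one_mem _, rfl⟩]⟩)))

theorem exists_cyc {m : ℕ} (hP : Syl p P (SS S)) (hS : p ^ 2 + m ≤ #S) (hm : m = 0 ∨ p = 2 ∧ m = 2) :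
    ∃ g ∈ P, ∃ x, (g ^ p) x ≠ x ∧ (m = 0 ∨ ∃ a b, a ≠ b ∧ swap a b ∈ P ∧
      ∀ i : ℕ, (g ^ i) x ≠ a ∧ (g ^ i) x ≠ b) := by
  obtain ⟨T, hT, h1⟩ := exists_subset_card_eq (s := S) (n := p ^ 2) (by omega)
  obtain ⟨f, -, h2, h3, -⟩ := exists_reg (S := T) (Multiplicative (ZMod (p ^ 2))) (k := 1)
    (by simp [h1])
  set g := f fun _ => Multiplicative.ofAdd 1
  obtain ⟨x, hx⟩ := card_pos.1 (h1 ▸ pow_pos hp.out.pos 2)
  have h4 : (g ^ p) x ≠ x := by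
    rw [← map_pow, ← Perm.mem_support, h3 _ fun _ => ?_]
    · exact hx
    rw [Pi.pow_apply, ← ofAdd_nsmul, Ne, ofAdd_eq_one, nsmul_one, ZMod.natCast_eq_zero_iff]
    exact fun h => absurd (Nat.le_of_dvd hp.out.pos h) (by nlinarith [hp.out.one_lt])
  have h5 : IsPGroup p (Subgroup.zpowers g) := isPGroup_zpowers_of_pow (k := 2) (by
    rw [← map_pow, ← map_one f]
    exact congrArg f (funext fun _ => by rw [Pi.pow_apply, ← ofAdd_nsmul]; simp))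
  have h6 : Subgroup.zpowers g ≤ SS S := Subgroup.zpowers_le.2 fun y hy => h2 _ y fun e => hy (hT e)
  have h7 : ∀ c : Perm α, ∀ i : ℕ, ((c * g * c⁻¹) ^ i) (c x) = c ((g ^ i) x) := fun c i => by
    simp [conj_pow]
  rcases hm with rfl | ⟨rfl, rfl⟩
  · obtain ⟨c, -, hc⟩ := hP.exists_conj_le h5 h6
    exact ⟨_, hc (mem_cj'.2 ⟨g, Subgroup.mem_zpowers g, rfl⟩), c x, by
      rw [h7]; exact c.injective.ne h4, Or.inl rfl⟩
  obtain ⟨a, ha, b, hb, hab⟩ := one_lt_card.1 (show 1 < #(S \ T) by rw [card_sdiff_of_subset hT]; omega)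
  rw [mem_sdiff] at ha hb
  have h8 : Subgroup.zpowers (swap a b) ≤ Subgroup.centralizer (Subgroup.zpowers g) := by
    rw [Subgroup.zpowers_le, centralizer_zpowers_eq, Subgroup.mem_centralizer_singleton_iff,
      swap_mul_eq_mul_swap, (inv_mem (h2 _) : g⁻¹ ∈ _) a ha.2, (inv_mem (h2 _) : g⁻¹ ∈ _) b hb.2]
  obtain ⟨c, -, hc⟩ := hP.exists_conj_le (P := Subgroup.zpowers g ⊔ Subgroup.zpowers (swap a b))
    (h5.to_sup_of_normal_left' (isPGroup_zpowers_of_pow (k := 1) (swap_mul_self a b ▸ sq _))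
      (h8.trans (Subgroup.centralizer_le_normalizer _))) (sup_le h6 (Subgroup.zpowers_le.2
      fun z hz => swap_apply_of_ne_of_ne (by rintro rfl; exact hz ha.1) (by rintro rfl; exact hz hb.1)))
  refine ⟨_, hc (mem_cj'.2 ⟨g, Subgroup.mem_sup_left (Subgroup.mem_zpowers g), rfl⟩), c x, by
    rw [h7]; exact c.injective.ne h4, Or.inr ⟨c a, c b, c.injective.ne hab, swap_apply_apply c a b ▸
      hc (mem_cj'.2 ⟨_, Subgroup.mem_sup_right (Subgroup.mem_zpowers _), rfl⟩), fun i => ?_⟩⟩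
  have := apply_mem_of_mem_SS (pow_mem (h2 fun _ => Multiplicative.ofAdd 1) i) hx
  rw [h7]
  exact ⟨c.injective.ne fun e => ha.2 (e ▸ this), c.injective.ne fun e => hb.2 (e ▸ this)⟩

theorem exists_deg_alt (hS : #S = p * w) (hP : Syl p P (SS S)) (hw : p ≤ w) (hw' : p = 2 → 3 ≤ w) :
    ∃ ξ : IrrCharacter (P ⊓ alternatingGroup α : Subgroup _), charDegree ξ.1 = p := by
  obtain ⟨g₀, hg, x, hx, h0⟩ := exists_cyc (m := if p = 2 then 2 else 0) hP (by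
    split_ifs with h
    · have := hw' h; subst h; omega
    · rw [hS, sq]; exact Nat.mul_le_mul_left _ hw) (by split_ifs <;> simp [*])
  obtain ⟨H, K, h1, h2, h3, h4, h5, h6, h7, h8⟩ := exists_HK hP hg hx
  have h9 : ∀ y ∈ P, ∃ t ∈ P, y * t ∈ alternatingGroup α ∧ ∀ c ∈ P, c * t * c⁻¹ ∈ K := by
    intro y hy
    by_cases e : y ∈ alternatingGroup α
    · exact ⟨1, one_mem _, by simpa using e, fun c _ => by simp⟩
    obtain rfl : p = 2 := not_not.1 fun h => e (le_alt h hP.isPGroup hy)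
    obtain ⟨a, b, hab, ht, h9⟩ := h0.resolve_left (by simp)
    refine ⟨_, ht, by simpa [Perm.sign_swap hab, Int.units_ne_iff_eq_neg, neg_eq_iff_eq_neg] using e, fun c hc => ?_⟩
    by_contra hn
    have h10 : ∀ k ∈ H, k x = c a ∨ k x = c b := fun k hk => not_not.1 fun h =>
      hn (h7 _ (mul_mem (mul_mem hc ht) (inv_mem hc)) k hk (by
        rw [← swap_apply_apply]; exact swap_apply_of_ne_of_ne (not_or.1 h).1 (not_or.1 h).2))
    have h11 : ∀ k ∈ H, k x = x ∨ k x = (g₀ ^ 2) x := fun k hk => by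
      have a1 := h10 k hk
      have a2 : x = c a ∨ x = c b := h10 1 (one_mem _)
      have a3 := h10 _ (h6 _ hg)
      grind
    have h12 : ∀ k ∈ H, ∃ i : ℕ, k x = (g₀ ^ i) x := fun k hk =>
      (h11 k hk).elim (fun e => ⟨0, e⟩) fun e => ⟨2, e⟩
    have h13 : g₀ ∉ H := fun h => hx (by
      rcases h11 _ h with e | e
      · rw [sq, Perm.mul_apply, e, e]
      · exact e.symm.trans (g₀.injective (e.trans (by rw [sq, Perm.mul_apply]))).symm)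
    obtain ⟨i, hi⟩ : ∃ i : ℕ, c⁻¹ x = (g₀ ^ i) x := by
      by_cases h : c⁻¹ ∈ H
      · exact h12 _ h
      · obtain ⟨i, hi⟩ := h12 (g₀⁻¹ * c⁻¹) (((H.subgroupOf P).mul_mem_iff_of_index_two h3
          (a := ⟨g₀, hg⟩⁻¹) (b := ⟨c, hc⟩⁻¹)).2 (by simpa [Subgroup.mem_subgroupOf, h13] using h))
        exact ⟨i + 1, by rw [pow_succ', Perm.mul_apply, ← hi]; simp⟩
    rcases h10 1 (one_mem _) with e | e
    · exact (h9 i).1 (by rw [← hi, show x = c a from e]; simp)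
    · exact (h9 i).2 (by rw [← hi, show x = c b from e]; simp)
  obtain ⟨g, hg, hg'⟩ : ∃ g ∈ P, g ∉ H := by
    by_contra! e
    exact hp.out.ne_one (h3.symm.trans (Subgroup.relIndex_eq_one.2 e))
  obtain ⟨t, a1, a2, a3⟩ := h9 g hg
  have a4 : t ∈ K := by simpa using a3 1 (one_mem _)
  have a5 : g * t ∉ H := fun h => hg' ((H.mul_mem_cancel_right (h1 a4)).1 h)
  obtain ⟨h, b1, b2, b3⟩ := h8 _ (mul_mem hg a1) a5
  obtain ⟨s, c1, c2, c3⟩ := h9 h (h2 b1)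
  have c4 : s ∈ K := by simpa using c3 1 (one_mem _)
  refine exists_deg_of_le inf_le_left h3 h4 h5 ⟨mul_mem hg a1, a2⟩ a5 ⟨mul_mem (h2 b1) c1, c2⟩
    (mul_mem b1 (h1 c4)) fun e => b2 ?_
  have := mul_mem (inv_mem e) (mul_mem (mul_mem b3 (c3 _ (mul_mem hg a1))) (inv_mem c4))
  simpa [mul_assoc] using this

end Cfsg.Lib.Block2.Sym
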