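import Cfsg.Agent.Lib.Block2.Few
import Cfsg.Agent.Lib.Block2.Major
import Cfsg.Agent.Lib.Small.Cartan
import Cfsg.Agent.Lib.Block.QuatEight
import Cfsg.Agent.Lib.Block.DualAct

/-! A nilpotent local block and the isometry it induces. -/

set_option autoImplicit false
set_option linter.dupNamespace false
set_option linter.unusedSectionVars false
set_option linter.style.haveILetI false

open Cfsg Cfsg.Lib.Block Cfsg.Lib.Block2 Cfsg.Lib.Char Cfsg.Lib.Amalg MonoidAlgebra Subgroup
open Cfsg.Lib.Small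
open scoped ComplexConjugate

namespace Cfsg.Lib.Block2.Tame

variable {p : ℕ} [Fact p.Prime] {M : Ideal AlgInt} [M.IsMaximal]

section nj

variable {K A : Type*} [Group K] [Fintype K] [Group A] [Fintype A]

variable (p) in
/-- The Broué–Puig parametrisation of a nilpotent block. -/
structure NJ (b : Set (IrrCharacter K)) (j : A →* K) (ψ₀ : IrrCharacter K)
    (J : (A → ℂ) →ₗ[ℂ] K → ℂ) : Prop where
  mem : ψ₀ ∈ b
  ht : blockHeight p b ψ₀.1 = 0
  cls : ∀ α, IsClassFunction A α → IsClassFunction K (J α)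
  gen : ∀ α, IsGeneralizedCharacter A α → IsGeneralizedCharacter K (J α)
  inner : ∀ α β, IsClassFunction A α → IsClassFunction A β →
    classInner (J α) (J β) = classInner α β
  app : ∀ α g c, (∀ a, IsConj (pp p g) (j a) → α a = c) → J α g = c * ψ₀.1 g
  irr : ∃ Φ : IrrCharacter A ≃ b, ∀ θ, (Φ θ).1.1 = J θ.1

theorem classInner_comp_equiv {A' : Type*} [Group A'] [Fintype A'] (e : A' ≃* A) (α β : A → ℂ) :
    classInner (fun a => α (e a)) (fun a => β (e a)) = classInner α β := by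
  rw [classInner_def, classInner_def, Nat.card_congr e.toEquiv]
  exact congrArg _ (e.toEquiv.sum_comp fun a => α a * conj (β a))

theorem exists_NJ (hM : IsPModular p M) {b : Set (IrrCharacter K)} (hb : IsPBlock M b)
    (hn : NilB p ⊤ (eB M b)) {P : Subgroup K} (hP : IsDefectGroup p M b P) (e : P ≃* A) :
    ∃ ψ₀ J, NJ p b (P.subtype.comp e.symm.toMonoidHom) ψ₀ J := by
  classical
  haveI := Fintype.ofFinite P
  obtain ⟨ε, hm⟩ := (hP.defG_top hM hb).exists_maxP hM (blk_top_eB hb)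
  obtain ⟨ψ₀, h₀, h0⟩ := exists_blockHeight_eq_zero (p := p) hb.nonempty
  have hs : ∀ (c c' : ℂ) (α β : A → ℂ), sst p P ε (extendByZero P fun a => (c • α + c' • β) (e a)) ψ₀.1 =
      c • sst p P ε (extendByZero P fun a => α (e a)) ψ₀.1 +
        c' • sst p P ε (extendByZero P fun a => β (e a)) ψ₀.1 := fun c c' α β => by
    have := sst_sum (p := p) (P := P) (ε := ε) (Finset.univ : Finset (Fin 2)) ![c, c']
      ![extendByZero P fun a => α (e a), extendByZero P fun a => β (e a)] ψ₀.1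
    simp only [Fin.sum_univ_two, Matrix.cons_val_zero, Matrix.cons_val_one] at this
    rw [← this]
    exact sst_congr fun u hu => by simp [extendByZero_of_mem _ hu]
  let J : (A → ℂ) →ₗ[ℂ] K → ℂ :=
    { toFun := fun α => sst p P ε (extendByZero P fun a => α (e a)) ψ₀.1
      map_add' := fun α β => by simpa using hs 1 1 α β
      map_smul' := fun c α => by simpa using hs c 0 α 0 }
  have hc : ∀ α, IsClassFunction A α → IsClassFunction P fun a => α (e a) := fun α h =>
    h.comp e.toMonoidHom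
  obtain ⟨Φ, hΦ⟩ := hn.exists_equiv hM hb hm h₀ h0
  refine ⟨ψ₀, J, h₀, h0, fun α h => (hn.fSt hM hm (hc α h)).isClassFunction_sst ψ₀.2.isClassFunction,
    fun α h => hm.isGen_sst hM (hn.fSt hM hm (hc α h.isClassFunction)) (by
      simp only [extendByZero_coe]; exact h.comp e.toMonoidHom),
    fun α β h h' => (hn.classInner_sst_sst hM hb hm h₀ h0 (hc α h) (hc β h')).trans
      (classInner_comp_equiv e α β), fun α g c h => hm.sst_apply hM hb h₀ fun x hx => ?_,
    (irrCongr e.symm).trans Φ, fun θ => (hΦ _).1⟩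
  rw [extendByZero_of_mem _ hx]
  exact h _ (isConj_iff.2 ⟨x, by simp⟩)

/-- The character of the defect group attached to a class function. -/
noncomputable def eta (J : (A → ℂ) →ₗ[ℂ] K → ℂ) (f : K → ℂ) : A → ℂ :=
  ∑ θ : IrrCharacter A, classInner f (J θ.1) • θ.1

theorem isClassFunction_eta (J : (A → ℂ) →ₗ[ℂ] K → ℂ) (f : K → ℂ) : IsClassFunction A (eta J f) :=
  fun g x => by
    simp only [eta, Finset.sum_apply, Pi.smul_apply]
    exact Finset.sum_congr rfl fun θ _ => by rw [θ.2.isClassFunction g x]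

namespace NJ

variable {b : Set (IrrCharacter K)} {j : A →* K} {ψ₀ : IrrCharacter K} {J : (A → ℂ) →ₗ[ℂ] K → ℂ}
  (h : NJ p b j ψ₀ J)
include h

theorem blockPart_eq (f : K → ℂ) : blockPart b f = J (eta J f) := by
  classical
  obtain ⟨Φ, hΦ⟩ := h.irr
  rw [Block.blockPart_eq, eta, map_sum, Finset.sum_subtype (p := (· ∈ b)) _ (by simp), ← Φ.sum_comp]
  simp only [hΦ, map_smul]

omit h in
theorem inner_eta {α : A → ℂ} (hα : IsClassFunction A α) (f : K → ℂ) :
    classInner (J α) f = classInner α (eta J f) := by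
  conv_lhs => rw [hα.eq_sum]
  simp only [eta, map_sum, map_smul, classInner_sum_left, classInner_sum_right, classInner_smul_left,
    classInner_smul_right, conj_classInner, mul_comm]

theorem exists_eta {f : K → ℂ} (hf : IsCharacter K f) : ∃ n : IrrCharacter A → ℕ,
    (∀ θ, classInner f (J θ.1) = n θ) ∧ eta J f = ∑ θ, (n θ : ℂ) • θ.1 := by
  obtain ⟨Φ, hΦ⟩ := h.irr
  choose n hn using fun θ : IrrCharacter A => hf.classInner_nat (Φ θ).1.2.isCharacter
  simp only [hΦ] at hn
  exact ⟨n, hn, by simp only [eta, hn]⟩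

theorem isGen_eta {f : K → ℂ} (hf : IsCharacter K f) : IsGeneralizedCharacter A (eta J f) := by
  obtain ⟨n, -, hn⟩ := h.exists_eta hf
  rw [hn]
  exact isGeneralizedCharacter_sum _ fun θ _ => by
    simpa only [Nat.cast_smul_eq_nsmul, natCast_zsmul] using θ.2.isGeneralizedCharacter.zsmul (n θ)

theorem app_one (hj : Function.Injective j) (α : A → ℂ) : J α 1 = α 1 * ψ₀.1 1 :=
  h.app α 1 _ fun a ha => by
    rw [pp_of_not_dvd (by simpa using (Fact.out : p.Prime).ne_one), isConj_one_right,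
      map_eq_one_iff _ hj] at ha
    rw [ha]

end NJ

end nj

section iso

variable {G A : Type*} [Group G] [Fintype G] [Group A] [Fintype A] {T : Subgroup G} [Fintype T]
  {b : Set (IrrCharacter T)} {j : A →* T} {ψ₀ : IrrCharacter T} {J : (A → ℂ) →ₗ[ℂ] T → ℂ}
  {B : Set (IrrCharacter G)} {t : G}

theorem NJ.height_iff (h : NJ p b j ψ₀ J) (hM : IsPModular p M) (hj : Function.Injective j)
    (hi : IsInducedBlock M T b B) {χ : IrrCharacter G} (hχ : χ ∈ B) :
    ∃ n : ℕ, eta J (fun c : T => χ.1 c) 1 = n ∧ (blockHeight p B χ.1 = 0 ↔ ¬ p ∣ n) := by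
  classical
  obtain ⟨Φ, hΦ⟩ := h.irr
  choose n hn using fun ξ : IrrCharacter T => (χ.2.isCharacter.restrict T).classInner_nat ξ.2.isCharacter
  have h1 := sum_mul_lam_zReg hM hi h.mem hχ hn
  rw [Finset.sum_subtype (p := (· ∈ b)) _ (by simp), ← Φ.sum_comp,
    Finset.sum_congr rfl (g := fun θ => Block.lam M ψ₀.1 (redA M (zReg p ψ₀.1)) *
      ((n (Φ θ) * charDegree θ.1 : ℕ) : resField M)) fun θ _ => by
      rw [lam_zReg_eq_mul hM hi.1 h.mem h.ht (Φ θ).2 h.mem, irr_cast_deg, irr_cast_deg, hΦ,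
        h.app_one hj, mul_div_assoc, div_self ψ₀.2.apply_one_ne_zero, mul_one, ← irr_cast_deg,
        red_natCast]
      push_cast; ring, ← Finset.mul_sum, ← Nat.cast_sum] at h1
  refine ⟨∑ θ, n (Φ θ) * charDegree θ.1, ?_, ?_⟩
  · simp only [eta, ← hΦ, hn, Finset.sum_apply, Pi.smul_apply, smul_eq_mul, ← irr_cast_deg]
    push_cast; rfl
  haveI := charP_resField hM
  rw [← CharP.cast_eq_zero_iff (resField M) p]
  have h2 := lam_zReg_ne_zero_iff hM hi.2.1 (χ := χ) hχ
  rw [← h1, mul_ne_zero_iff] at h2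
  simpa only [hχ, true_and, Ne, lam_zReg_ne_zero hM hi.1 h.mem h.ht h.mem, not_false_iff]
    using h2.symm

theorem pp_self {u : G} (hu : ∃ k, orderOf u = p ^ k) : pp p u = u := by
  simpa using pp_mul (Commute.one_right u) hu (by simpa using (Fact.out : p.Prime).ne_one)

theorem mem_zpowers_pp (ht : ∃ k, orderOf t = p ^ k) {g : G} :
    t ∈ zpowers (pp p g) ↔ t ∈ zpowers g := by
  refine ⟨fun h => zpowers_le.2 ((isPPart_pp g).mem_zpowers Fact.out) h, fun h => ?_⟩
  obtain ⟨k, rfl⟩ := (mem_powers_iff_mem_zpowers.2 h : t ∈ Submonoid.powers g)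
  rw [← pp_self ht, pp_pow]
  exact pow_mem (mem_zpowers _) k

theorem coe_pp (g : T) : ((pp p g : T) : G) = pp p (g : G) := by
  obtain ⟨y, h1, h2, h3, h4⟩ := isPPart_pp (p := p) g
  have : IsPPart p (g : G) (pp p g : T) := ⟨y, by rw [← coe_mul, h1], h2.map T.subtype,
    by simpa using h3, by simpa using h4⟩
  exact (Block2.Cfsg.IsPPart.pp_eq this).symm

omit [Fintype T] in
theorem mem_zpowers_of_dvd {g s : G} (hs : s ∈ zpowers g) (ht : t ∈ zpowers g)
    (e : orderOf s ∣ orderOf t) : s ∈ zpowers t := by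
  classical
  haveI := Fintype.ofFinite (zpowers g)
  have h1 := IsCyclic.card_pow_eq_one_le (α := zpowers g) (orderOf_pos t)
  have h2 : (Finset.univ.filter fun a : zpowers g => a ∈ zpowers (⟨t, ht⟩ : zpowers g)) =
      Finset.univ.filter fun a : zpowers g => a ^ orderOf t = 1 := by
    refine Finset.eq_of_subset_of_card_le (fun a ha => ?_) (h1.trans ?_)
    · simp only [Finset.mem_filter, Finset.mem_univ, true_and] at ha ⊢
      exact orderOf_dvd_iff_pow_eq_one.1 (by simpa [← orderOf_coe] using orderOf_dvd_of_mem_zpowers ha)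
    · rw [← Fintype.card_subtype, ← Nat.card_eq_fintype_card, Nat.card_zpowers, ← orderOf_coe]
  have h3 : (⟨s, hs⟩ : zpowers g) ∈ zpowers (⟨t, ht⟩ : zpowers g) := by
    have := h2.ge (Finset.mem_filter.2 ⟨Finset.mem_univ ⟨s, hs⟩,
      Subtype.ext (orderOf_dvd_iff_pow_eq_one.1 e)⟩)
    exact (Finset.mem_filter.1 this).2
  obtain ⟨k, hk⟩ := h3
  exact ⟨k, by simpa using congrArg Subtype.val hk⟩

omit [Fintype T] in
theorem orderOf_conj' (w g : G) : orderOf (w * g * w⁻¹) = orderOf g :=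
  (MulAut.conj w).orderOf_eq g

omit [Fintype T] in
theorem conj_mem_zpowers' {g w : G} (h : t ∈ zpowers (w * g * w⁻¹)) : w⁻¹ * t * w ∈ zpowers g := by
  obtain ⟨k, rfl⟩ := h
  exact ⟨k, by simp only [conj_zpow]; group⟩

variable (t) in
/-- class functions vanishing at the elements of which `t` is not a power -/
def Sup (γ : T → ℂ) : Prop := IsClassFunction T γ ∧ ∀ g : T, t ∉ zpowers (g : G) → γ g = 0

variable (hT : ∀ g, g ∈ T ↔ g * t * g⁻¹ ∈ zpowers t)
include hT

theorem conj_mem_zpowers {g w : G} (hw : w ∈ T) (h : t ∈ zpowers (w * g * w⁻¹)) : t ∈ zpowers g := by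
  have h1 := (hT _).1 (inv_mem hw)
  refine zpowers_le.2 (conj_mem_zpowers' h) ?_
  rw [inv_inv] at h1
  exact mem_zpowers_of_dvd (mem_zpowers t) h1 (by simpa using (orderOf_conj' w⁻¹ t).symm.dvd)

theorem NJ.sup (h : NJ p b j ψ₀ J) (ht : ∃ k, orderOf t = p ^ k) {α : A → ℂ} (hα : IsClassFunction A α)
    (h0 : ∀ a, t ∉ zpowers (j a : G) → α a = 0) : Sup t (J α) := by
  refine ⟨h.cls α hα, fun g hg => ?_⟩
  rw [h.app α g 0 fun a ha => h0 a fun h1 => hg ?_, zero_mul]
  obtain ⟨w, hw⟩ := isConj_iff.1 ha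
  rw [← hw, coe_mul, coe_mul, coe_inv, coe_pp] at h1
  exact (mem_zpowers_pp ht).1 (conj_mem_zpowers hT w.2 h1)

theorem Sup.indFun_apply {γ : T → ℂ} (h : Sup t γ) (g : T) (hg : t ∈ zpowers (g : G)) :
    indFun T γ g = γ g := by
  classical
  rw [indFun_apply', Finset.sum_congr rfl (g := fun w => if w ∈ T then γ g else 0) fun w _ => ?_,
    ← Finset.sum_filter, Finset.sum_const, ← Fintype.card_subtype, ← Nat.card_eq_fintype_card,
    nsmul_eq_mul, inv_mul_cancel_left₀ (card_ne_zero T)]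
  split_ifs with hw
  · rw [← h.1 g ⟨w, hw⟩, ← extendByZero_coe γ]; rfl
  by_cases h1 : w * g * w⁻¹ ∈ T
  · rw [extendByZero_of_mem _ h1]
    refine h.2 _ fun h2 => hw (inv_mem_iff.1 ((hT _).2 ?_))
    rw [inv_inv]
    exact mem_zpowers_of_dvd (conj_mem_zpowers' h2) hg (by simpa using (orderOf_conj' w⁻¹ t).dvd)
  · exact extendByZero_of_notMem _ h1

theorem Sup.inner {γ γ' : T → ℂ} (h : Sup t γ) (h' : Sup t γ') :
    classInner (indFun T γ) (indFun T γ') = classInner γ γ' := by
  rw [classInner_indFun_left _ (isClassFunction_indFun _), classInner_def, classInner_def]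
  refine congrArg _ (Finset.sum_congr rfl fun g _ => ?_)
  by_cases hg : t ∈ zpowers (g : G)
  · rw [h'.indFun_apply hT g hg]
  · rw [h.2 g hg, zero_mul, zero_mul]

theorem Sup.inner_eq_zero {γ : T → ℂ} (h : Sup t γ) (hM : IsPModular p M)
    (ht : ∃ k, orderOf t = p ^ k) (hi : IsInducedBlock M T b B) (hb : blockPart b γ = γ)
    {χ : IrrCharacter G} (hχ : χ ∉ B) : classInner (indFun T γ) χ.1 = 0 := by
  rw [classInner_indFun_left _ χ.2.isClassFunction, ← hb, classInner_blockPart_comm, classInner_def,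
    Finset.sum_eq_zero fun g _ => ?_, mul_zero]
  by_cases hg : t ∈ zpowers (g : G)
  · rw [blockPart_apply_eq_charExt _ (χ.2.isCharacter.restrict T).isClassFunction, ← charExt_incl,
      map_mul, incl_single, charExt_incl_idem_of_isInducedBlock hM hi g.2 (isPPart_pp _) ?_ hχ,
      map_zero, mul_zero]
    intro c hc
    obtain ⟨k, hk⟩ := (mem_zpowers_pp ht).2 hg
    rw [hT, ← hk, ((Commute.symm (mem_centralizer_singleton_iff.1 hc)).zpow_left k).symm.eq,
      mul_inv_cancel_right]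
    exact mem_zpowers _
  · rw [h.2 g hg, zero_mul]

omit hT in
theorem Sup.indFun_eq_zero {γ : T → ℂ} (h : Sup t γ) {g : G}
    (hg : ∀ w, t ∉ zpowers (w * g * w⁻¹)) : indFun T γ g = 0 :=
  indFun_eq_zero_of_isConj _ fun y hy => h.2 y (by
    obtain ⟨w, hw⟩ := isConj_iff.1 hy
    exact hw ▸ hg w)

end iso

end Cfsg.Lib.Block2.Tame
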