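import Cfsg.Agent.Lib.Block2.Tame9

/-! Construction of the columns of the central involution. -/

set_option autoImplicit false
set_option linter.dupNamespace false
set_option linter.unusedSectionVars false
set_option linter.style.haveILetI false

open Cfsg Cfsg.Lib.Block Cfsg.Lib.Block2 Cfsg.Lib.Char Cfsg.Lib.Amalg MonoidAlgebra Subgroup
open Cfsg.Lib.Small
open scoped ComplexConjugate

namespace Cfsg.Lib.Block2.Tame

variable {M : Ideal AlgInt} [M.IsMaximal] [Fact (Nat.Prime 2)] {G : Type*} [Group G] [Fintype G]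
  {D : Subgroup G} {B : Set (IrrCharacter G)} {x z : G} {k : ℕ}

theorem exists_wc (hM : IsPModular 2 M) (hB : IsPBlock M B) (hD : IsDefectGroup 2 M B D)
    (h : MC D x z (k + 1)) : ∃ w, WC B (k + 1) w := by
  haveI := Fintype.ofFinite (𝐍 (zpowers x))
  haveI := Fintype.ofFinite D
  obtain ⟨b, ψ₀, J, i1, i2, i3⟩ := exists_iso hM hB hD (h.le_norm (mem_zpowers x))
    ((centralizer_le h.le).trans (centralizer_le_normalizer _)) fun Q hQ g hg hn ho =>
      h.cent_of_norm_t (mem_zpowers x) (fun a ha ha' => (h.pow_four ha ha').trans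
        (h.ord ▸ pow_dvd_pow 2 (show 2 ≤ _ by omega))) hQ hg hn ho
  obtain ⟨σ, hσ⟩ := h.top.exists_sigma
  exact ⟨_, Iso.wc ⟨hM, fun g => mem_norm_zpowers, ⟨_, h.ord⟩, i1, i2, i3⟩ h (mem_zpowers x) hσ⟩

theorem MC.pow_z (h : MC D x z k) : x ^ 2 ^ k = z :=
  haveI := Fintype.ofFinite D
  congrArg Subtype.val h.top.pow_eq_z

theorem MC.quot {K : Type*} [Group K] [Finite K] (h : MC D x z (k + 1)) {f : G →* K} (h1 : f z = 1)
    (h2 : Nat.card f.ker = 2) (h3 : 2 * Nat.card (D.map f) = 2 ^ (k + 3)) :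
    ∃ z', MC (D.map f) (f x) z' k ∧ ∀ a ∈ D.map f, a ∉ zpowers (f x) → a * a = 1 := by
  have h4 : zpowers z = f.ker := eq_of_le_of_card_ge (zpowers_le.2 h1) (by rw [h2, Nat.card_zpowers, h.zord])
  obtain ⟨y, hy, hy'⟩ := h.exists_notMem
  have h5 : f y * f y = 1 := by rcases h.sq y hy hy' with e | e <;> rw [← map_mul, e] <;> simp [h1]
  have h6 : f y * f x * (f y)⁻¹ = (f x)⁻¹ := by
    rcases h.conj_eq hy hy' (mem_zpowers x) with e | e <;> simpa [h1] using congrArg f e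
  refine ⟨_, (mc_of_rel (k := k) (mem_map_of_mem f h.mem) (mem_map_of_mem f hy)
    (orderOf_eq_prime_pow (fun e => ?_) (by rw [← map_pow, h.pow_z, h1])) (by rw [pow_succ'] at h3; omega)
    rfl (fun ⟨i, e⟩ => ?_) (.inl h5) (.inl h6)).imp_right fun h8 => h5 ▸ h8 h6⟩
  · refine h.z_ne ?_
    rcases eq_of_mem_zpowers_two h.zord (h4.ge (show x ^ 2 ^ k ∈ f.ker by simpa using e)) with e | e <;>
      rw [← h.pow_z, pow_succ, pow_mul, e, pow_two]
    exacts [one_mul 1, h.zz]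
  · refine hy' ((mul_mem_cancel_left (inv_mem (zpow_mem (mem_zpowers x) i))).1 (zpowers_le.2 h.zmem (h4.ge ?_)))
    simpa [inv_mul_eq_one] using e

theorem ind_top {H : Subgroup G} (hH : H = ⊤) {e : Set (IrrCharacter H)} (hi : IsInducedBlock M H e B) :
    blockRank 2 e = blockRank 2 B ∧ ∀ ξ ∈ e, ∃ χ ∈ B, ∀ c : H, χ.1 c = ξ.1 c := by
  subst hH
  obtain rfl : e = irrCongr topEquiv.symm '' B := by
    rw [← bset_top hi.2.1.isBlockUnion, ← hi.ind.blk.ind_self.unique hi.ind, bset_EB hi.1.isBlockUnion]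
  exact ⟨blockRank_irrCongr _ _, by rintro _ ⟨χ, hχ, rfl⟩; exact ⟨χ, hχ, fun _ => rfl⟩⟩

theorem inner_eq_sum_of_orth {ι : Type*} [Fintype ι] [DecidableEq ι] {Φ : ι → G → ℂ} {g : ι → ℂ}
    (hg : ∀ i, g i ≠ 0) (h : ∀ i j, classInner (Φ i) (Φ j) = if i = j then g i else 0)
    {V : Submodule ℂ (G → ℂ)} (hV : ∀ i, Φ i ∈ V) (hr : Module.finrank ℂ V = Fintype.card ι) {η : G → ℂ}
    (hη : η ∈ V) (θ : G → ℂ) : classInner η θ = ∑ i, classInner η (Φ i) * classInner (Φ i) θ / g i := by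
  have h1 : Submodule.span ℂ (Set.range Φ) = V := by
    refine Submodule.eq_of_le_of_finrank_le (Submodule.span_le.2 (Set.range_subset_iff.2 hV)) ?_
    rw [finrank_span_eq_card, hr]
    refine Fintype.linearIndependent_iff.2 fun a ha i => ?_
    simpa [classInner_sum_left, classInner_smul_left, h, hg, classInner_zero_left] using
      congrArg (classInner · (Φ i)) ha
  obtain ⟨a, rfl⟩ := (Submodule.mem_span_range_iff_exists_fun ℂ).1 (h1.ge hη)
  simp [classInner_sum_left, classInner_smul_left, h, mul_right_comm _ (g _), hg]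

theorem exists_ZC (hM : IsPModular 2 M) (hB : IsPBlock M B) (hD : IsDefectGroup 2 M B D)
    (h : MC D x z (k + 1)) {e : Set (IrrCharacter (centralizer ({z} : Set G)))}
    (hi : IsInducedBlock M _ e B) (he : IsDefectGroup 2 M e (D.subgroupOf _)) :
    ∃ n w σ P, ZC B k n w σ P ∧ blockRank 2 e = n + 1 ∧ (centralizer ({z} : Set G) = ⊤ →
      (∀ χ ∈ H0 B, σ χ * σ χ = 1) ∧ (∀ i, ∑ χ ∈ H0 B, σ χ * P i χ = 0) ∧
        ∀ i j, i ≠ j → ∑ χ ∈ H0 B, P i χ * P j χ = 0) := by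
  classical
  haveI := Fintype.ofFinite (centralizer ({z} : Set G))
  obtain ⟨K, _, _, f, hf, h1, h2, h3, h4, h5, h6, h7, h8⟩ := exists_quot hM hi.1 h.zP h.le_cent he
  rw [h.zord] at h7 h8
  obtain ⟨z', h9, h10⟩ := (h.subgroupOf h.le_cent).quot h3 h7 (h8.trans h.card)
  obtain ⟨n, c₀, c, S⟩ := exists_DS hM h4 h5 h9 h10
  obtain ⟨w, W⟩ := exists_wc hM hB hD h
  obtain ⟨d1, d2⟩ := major_defect hM hD h.zP (fun d hd => h.comm_z hd) hi he
  have d3 : blockDefect 2 B = k + 3 :=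
    Nat.pow_right_injective le_rfl ((card_defectGroup hM hB hD).symm.trans h.card)
  set b := infl f hf ⁻¹' e
  have l1 : ∀ a, lf 2 f (cf b a) ∈ VB 2 e := fun a => by
    simp only [cf, map_sum, map_smul]
    exact Submodule.sum_mem _ fun ψ hψ => Submodule.smul_mem _ _ (lf_mem hf (mem_BF.1 hψ))
  have l2 : ∀ a, cf b a ∈ VB 2 b → ∀ g, 2 ∣ orderOf g → cf b a g = 0 := fun a ha g hg => by
    rw [← (VB_spec hM h4.isBlockUnion ha).1, reg_of_dvd _ hg]
  obtain ⟨l, m, hl, -, hm⟩ := exists_fsub_eq (G := G) (e := e) rfl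
  have l3 : ∀ a (χ : IrrCharacter G), cf b a ∈ VB 2 b →
      ∃ q : ℤ, classInner (lf 2 f (cf b a)) (fsub 2 e z χ.1) = q := fun a χ ha => by
    rw [fsub, classInner_reg_right, (VB_spec hM hi.1.isBlockUnion (l1 a)).1, hm, classInner_sum_right]
    refine (Subring.mem_bot.1 (Subring.sum_mem ⊥ fun ξ _ => ?_)).imp fun _ => Eq.symm
    obtain ⟨q, hq⟩ := exists_int_lf hf hM isGen_cf (l2 a ha) ξ
    rw [classInner_smul_right, hq]
    rcases mul_self_eq_one_iff.1 ((pow_two _).symm.trans (h.zord ▸ hl ξ)) with e | e <;>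
      simp [e, mul_mem, neg_mem, natCast_mem, intCast_mem]
  choose! q hq using l3
  have l4 : ∀ a a', cf b a ∈ VB 2 b → cf b a' ∈ VB 2 b →
      ∑ χ ∈ BF B, q a χ * q a' χ = 2 * ∑ ψ ∈ BF b, a ψ * a' ψ := fun a a' ha ha' => by
    apply Int.cast_injective (α := ℂ)
    have := parseval_subsec hM hB.isBlockUnion rfl d1 hi.1.isBlockUnion (subset_under hi) (l1 a) (l1 a')
    rw [inner_lf hf h1 h2 (l2 a ha), h7, inner_cf] at this
    rw [Int.cast_mul, Int.cast_ofNat, ← Nat.cast_ofNat, ← this, Int.cast_sum]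
    exact Finset.sum_congr rfl fun χ _ => by
      rw [hq a χ ha, ← conj_classInner, hq a' χ ha', map_intCast, Int.cast_mul]
  have l5 : ∀ a, cf b a ∈ VB 2 b → ∑ χ ∈ BF B, w χ * q a χ = 0 := fun a ha => by
    apply Int.cast_injective (α := ℂ)
    have := inner_eq_zero_of_VB hM hi.1.isBlockUnion (l1 a) (θ := fun c => cf B w (z * c)) fun g hg => W.wz _ (by
      rw [pp_mul (mem_centralizer_singleton_iff.1 g.2).symm d1 (by simpa using hg), h.zord]
      exact (Nat.pow_lt_pow_right one_lt_two (show 1 < k + 1 + 1 by omega)).ne)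
    rw [show (fun c : centralizer ({z} : Set G) => cf B w (z * c)) = ∑ χ ∈ BF B, (w χ : ℂ) •
      fun c : centralizer ({z} : Set G) => χ.1 (z * c) from funext fun c => by simp [cf], classInner_sum_right] at this
    rw [Int.cast_sum, Int.cast_zero, ← this]
    exact Finset.sum_congr rfl fun χ _ => by
      rw [classInner_smul_right, map_intCast, Int.cast_mul, ← hq a χ ha, fsub,
        inner_VB hM hi.1.isBlockUnion (l1 a)]
  have s0 : ∀ i, ∑ ψ ∈ BF b, c₀ ψ * c i ψ = 0 := fun i => by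
    rw [sum_BF, S.o0, Finset.sum_eq_zero fun χ e => by rw [S.z1 i χ e, mul_zero], add_zero]
  have s1 : ∀ i j, ∑ ψ ∈ BF b, c i ψ * c j ψ = if i = j then 4 else 0 := fun i j => by
    rw [sum_BF, Finset.sum_eq_zero (s := H1 b) fun χ e => by rw [S.z1 i χ e, zero_mul], add_zero]
    split_ifs with e
    · simp [← e, Finset.sum_congr rfl (S.s1 i), S.four]
    · exact S.o1 i j e
  have Z : ZC B k n w (q c₀) fun i => q (c i) := by
    refine ⟨W, S.le, S.ne, by rw [l4 _ _ S.m0 S.m0, S.n0, pow_succ' _ (k + 2)], fun i j => by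
      rw [l4 _ _ (S.m1 i) (S.m1 j), s1]; split_ifs <;> rfl, fun i => by rw [l4 _ _ S.m0 (S.m1 i), s0, mul_zero],
      fun i χ => ?_, l5 _ S.m0, fun i => l5 _ (S.m1 i), fun χ hχ ψ hψ => ctr_int hM rfl d1 hi d2 hχ hψ ?_,
      fun χ hχ => by have := height_add_two_le hM hB hχ; omega⟩
    · have e1 : cf b (fun ψ => (c₀ ψ + c i ψ) / 2) = (2⁻¹ : ℂ) • (cf b c₀ + cf b (c i)) := by
        simp only [cf, ← Finset.sum_add_distrib, Finset.smul_sum, ← add_smul, smul_smul]
        refine Finset.sum_congr rfl fun ψ hψ => congrArg (· • _) ?_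
        obtain ⟨u, hu⟩ : 2 ∣ c₀ ψ + c i ψ := by
          by_cases e : ψ ∈ H0 b
          · have := mul_self_eq_one_iff.1 (S.s0 ψ e)
            have := mul_self_eq_one_iff.1 (S.s1 i ψ e)
            omega
          · have e' : ψ ∈ H1 b := by simpa [mem_BF.1 hψ] using e
            simpa [S.z1 i ψ e'] using S.e0 ψ e'
        rw [← Int.cast_add, hu]
        simp
      refine ⟨q (fun ψ => (c₀ ψ + c i ψ) / 2) χ, Int.cast_injective (α := ℂ) ?_⟩
      rw [Int.cast_mul, ← hq _ χ (e1 ▸ Submodule.smul_mem _ _ (add_mem S.m0 (S.m1 i))), e1, Int.cast_add,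
        ← hq _ χ S.m0, ← hq _ χ (S.m1 i), map_smul, map_add, classInner_smul_left, classInner_add_left]
      simp
    have e1 : ∀ i : Option (Fin n), cf b (i.elim c₀ c) ∈ VB 2 b := by
      rintro (_ | i)
      exacts [S.m0, S.m1 i]
    rw [ctr, inner_eq_sum_of_orth (Φ := fun i : Option (Fin n) => lf 2 f (cf b (i.elim c₀ c)))
      (g := fun i => i.elim (2 ^ (k + 3)) fun _ => 8) (by rintro (_ | i) <;> simp) (fun i j => by
        rw [inner_lf hf h1 h2 (l2 _ (e1 i)), h7, inner_cf]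
        rcases i with _ | i <;> rcases j with _ | j
        · simp [S.n0, pow_succ']
        · simp [s0]
        · simp [mul_comm (c i _), s0]
        · simp only [Option.elim, s1, Option.some_inj]
          split_ifs <;> norm_num) (fun i => l1 _) (by rw [← blockRank_eq, ← h6, S.rank]; simp) (fsub_mem _), d2, d3]
    simp only [← conj_classInner (lf 2 f _) (fsub 2 e z χ.1), Fintype.sum_option, Option.elim,
      hq _ _ S.m0, hq _ _ (S.m1 _), map_intCast, ← Finset.sum_div]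
    push_cast
    field_simp
    ring
  refine ⟨n, w, _, _, Z, h6.symm.trans S.rank, fun hz => ?_⟩
  haveI : Nonempty (IrrCharacter G) := ⟨hB.nonempty.choose⟩
  choose! u u1 u2 using fun ψ (hψ : ψ ∈ H0 b) => (ind_top hz hi).2 (infl f hf ψ) (mem_H0.1 hψ).1
  have u3 : ∀ a, cf b a ∈ VB 2 b → ∀ ψ ∈ H0 b, q a (u ψ) = a ψ := fun a ha ψ hψ => by
    apply Int.cast_injective (α := ℂ)
    have e1 := inner_lf hf h1 h2 (l2 a ha) ψ.1
    rw [inner_cf_irr (mem_H0.1 hψ).1, show lf 2 f ψ.1 = (Nat.card f.ker : ℂ) • reg 2 fun c => ψ.1 (f c) from rfl,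
      classInner_smul_right, h7, map_natCast, classInner_reg_right,
      (VB_spec hM hi.1.isBlockUnion (l1 a)).1] at e1
    rw [← hq a _ ha, fsub, inner_VB hM hi.1.isBlockUnion (l1 a), ← mul_left_cancel₀ (by simp) e1]
    congr 1
    funext g
    rw [show z * g = (⟨z, h.le_cent h.zP⟩ * g : centralizer ({z} : Set G)) from rfl, u2 ψ hψ, infl_apply,
      map_mul, h3, one_mul]
  have u4 : Set.InjOn u (H0 b) := fun ψ hψ ψ' hψ' e => infl_injective hf (Subtype.ext (funext fun g => by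
    rw [← u2 ψ hψ, ← u2 ψ' hψ', e]))
  have u5 : (H0 b).image u = H0 B := Finset.eq_of_subset_of_card_le (fun χ hχ => by
    obtain ⟨ψ, hψ, rfl⟩ := Finset.mem_image.1 hχ
    refine mem_H0.2 ⟨u1 ψ hψ, (Z.odd_iff (u1 ψ hψ)).1 ?_⟩
    rcases mul_self_eq_one_iff.1 (S.s0 ψ hψ) with e | e <;> simp [u3 _ S.m0 ψ hψ, e])
    (by rw [Finset.card_image_of_injOn u4, S.four, W.four])
  rw [← u5]
  refine ⟨fun χ hχ => ?_, fun i => ?_, fun i j e => ?_⟩
  · obtain ⟨ψ, hψ, rfl⟩ := Finset.mem_image.1 hχ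
    rw [u3 _ S.m0 ψ hψ, S.s0 ψ hψ]
  · rw [Finset.sum_image u4, ← S.o0 i]
    exact Finset.sum_congr rfl fun ψ hψ => by rw [u3 _ S.m0 ψ hψ, u3 _ (S.m1 i) ψ hψ]
  · rw [Finset.sum_image u4, ← S.o1 i j e]
    exact Finset.sum_congr rfl fun ψ hψ => by rw [u3 _ (S.m1 j) ψ hψ, u3 _ (S.m1 i) ψ hψ]

end Cfsg.Lib.Block2.Tame
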