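import Cfsg.Agent.Lib.Block2.Tame10

/-! Blocks with quaternion and semidihedral defect groups. -/

set_option autoImplicit false
set_option linter.dupNamespace false
set_option linter.unusedSectionVars false
set_option linter.style.haveILetI false

open Cfsg Cfsg.Lib.Block Cfsg.Lib.Block2 Cfsg.Lib.Char Cfsg.Lib.Amalg MonoidAlgebra Subgroup
open Cfsg.Lib.Small

namespace Cfsg.Lib.Block2.Tame

variable {M : Ideal AlgInt} [M.IsMaximal] [Fact (Nat.Prime 2)] {G : Type*} [Group G] [Fintype G]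
  {D : Subgroup G} {B : Set (IrrCharacter G)} {x y z u : G} {k : ℕ} {ε : MonoidAlgebra (resField M) G}

namespace MC

theorem z_mem (h : MC D x z k) (hu : u ∈ D) (h2 : ¬ orderOf u ∣ 2) : z ∈ zpowers u := by
  by_cases e : u ∈ zpowers x
  · exact h.z_mem_zpowers e fun e' => h2 (by simp [e'])
  · rw [← (h.sq u hu e).resolve_left fun e' => h2 (orderOf_dvd_of_pow_eq_one ((pow_two u).trans e'))]
    exact Subgroup.mul_mem _ (mem_zpowers u) (mem_zpowers u)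

theorem transfer (hM : IsPModular 2 M) {K : Type*} [Group K] [Fintype K] {f : K →* G}
    (hf : Function.Injective f) {P : Subgroup K} {ε : MonoidAlgebra (resField M) K} {x z : K}
    (h : MC P x z k) (hc : (⊤ : Subgroup K).map f = centralizer {f z}) (hb : BP 2 ⊤ P ε) :
    ∑ u ∈ ordF (P.map f) (¬ · ∣ 2), aF 2 (P.map f) (push f ε) u = ∑ u ∈ ordF P (¬ · ∣ 2), aF 2 P ε u := by
  have h' := (mc_map_iff hf).2 h
  refine (Finset.sum_bij (fun u _ => f u) (fun u hu => ?_) (fun _ _ _ _ e => hf e) (fun v hv => ?_)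
    fun u hu => ?_).symm
  · simpa only [mem_ordF, mem_map_iff_mem hf, orderOf_injective f hf] using hu
  · obtain ⟨⟨u, hu, rfl⟩, h2⟩ := mem_ordF.1 hv
    exact ⟨u, mem_ordF.2 ⟨hu, orderOf_injective f hf u ▸ h2⟩, rfl⟩
  obtain ⟨h1, h2⟩ := mem_ordF.1 hu
  rw [← orderOf_injective f hf] at h2
  have h3 : ∀ g, g * f u * g⁻¹ ∈ P.map f → g ∈ (⊤ : Subgroup K).map f := fun g hg => by
    rw [hc, mem_cent_iff_two h'.zord]
    refine mem_zp ?_ (h'.z_mem hg (by rwa [ord_conj])) (ord_conj _ _).dvd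
    rw [← cj_zpowers]
    exact conj_mem_cj g (h'.z_mem (mem_map_of_mem f h1) h2)
  rw [aF, aF, nF_push hM hf h3 hb h1, rk_push hM hf hb h1 fun g hg => h3 g (by
    rw [← hg _ (mem_zpowers _), mul_inv_cancel_right]; exact mem_map_of_mem f h1)]

variable (h : MC D x z (k + 1)) (hM : IsPModular 2 M) (hB : IsPBlock M B)
include h hM hB

theorem big (hm : MaxP 2 ⊤ (eB M B) D ε) : 2 ^ (k + 1) ≤ ∑ u ∈ ordF D (¬ · ∣ 2), aF 2 D ε u + 1 := by
  have h1 := h.sum_half hM hm (j := 2) (by omega) fun a ha ha' => h.pow_four ha ha'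
  have h2 := one_le_ordF hM hm (q := fun n => ¬ n ∣ 2 ∧ n ∣ 2 ^ 2) (pow_mem h.mem (2 ^ k)) (by
    rw [orderOf_pow_of_dvd (by positivity) (h.ord ▸ pow_dvd_pow _ (by omega)), h.ord, add_assoc, pow_add,
      Nat.mul_div_cancel_left _ (by positivity)]
    norm_num)
  rw [sum_ordF _ (· ∣ 2 ^ 2), show (fun n => ¬ n ∣ 2 ∧ ¬ n ∣ 2 ^ 2) = (¬ · ∣ 2 ^ 2) from funext fun n =>
    propext (and_iff_right_of_imp fun e e' => e (e'.trans (by norm_num))), h1]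
  exact le_trans (le_of_eq (by ring)) (add_le_add_left (add_le_add_left h2 _) _)

theorem central (hD : IsDefectGroup 2 M B D) (hz : centralizer ({z} : Set G) = ⊤) :
    Nat.card B = blockRank 2 B + 2 ^ (k + 1) + 2 ∧
      ((∃ y ∈ D, orderOf y = 2 ∧ y ≠ z) → blockRank 2 B ≤ 2) := by
  obtain ⟨ε, hm⟩ := (hD.defG_top hM hB).exists_maxP hM (blk_top_eB hB)
  obtain ⟨e, hi, he⟩ := exists_major hM hB hD h.zP h.le_cent
  obtain ⟨n, w, σ, P, Z, h1, h2⟩ := exists_ZC hM hB hD h hi he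
  obtain ⟨s, r, h3, -, -, h4, h5⟩ := Z.main
  obtain ⟨h6, h7, h8⟩ := h2 hz
  obtain rfl := h4 h7 h8
  rw [(ind_top hz hi).1] at h1
  have h9 := card_eq hM hB hm
  have h10 := h.big hM hB hm
  have h11 := one_le_ordF hM hm (q := (· = 2)) h.zP h.zord
  have h12 : (s : ℚ) + 1 = 2 ^ (k + 1) := by
    refine mod_cast (h5 ?_ fun _ => .inr h6).1
    rw [h3, h1] at h9
    push_cast at h9
    exact mod_cast (by linarith : (2 : ℚ) ^ (k + 1) ≤ s + 3)
  refine ⟨by rw [h3, h1, ← (mod_cast h12 : s + 1 = 2 ^ (k + 1))]; omega, fun ⟨y, hy, e1, e2⟩ => ?_⟩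
  have h13 : rk 2 D ε z = blockRank 2 B := by
    have i := (hm.bpo_sp hM h.zP).ind hM
    have b := (hm.bp.sle_sp hM h.zP).bp.blk_top
    rw [top_inf_eq, ← b.EB_bset] at i
    exact (ind_top ((centralizer_zpowers_eq z).trans hz) (i.isInducedBlock b.isPBlock_bset hB)).1
  rcases h.inv_cases hM hB hm with ⟨e3, -⟩ | ⟨-, e3, -⟩
  · obtain ⟨g, hg⟩ := isConj_iff.1 (e3 y hy e1).isConj
    rw [mem_centralizer_singleton_iff.1 (hz.ge (mem_top g)), mul_inv_cancel_right] at hg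
    exact absurd hg.symm e2
  rw [h13] at e3
  rw [h3] at h9
  rw [h1] at *
  push_cast at *
  have : r + 1 ≤ 2 := mod_cast (by linarith : (r : ℚ) + 1 ≤ 2)
  omega

theorem count (hm : MaxP 2 ⊤ (eB M B) D ε) : ∃ s : ℚ,
    Nat.card B + s = blockRank 2 B + 2 ^ (k + 1) + 2 + ∑ u ∈ ordF D (· = 2), aF 2 D ε u ∧
    ((∀ y ∈ D, orderOf y = 2 → y = z) → s = rk 2 D ε z) ∧ ((∃ y ∈ D, orderOf y = 2 ∧ y ≠ z) →
      (∀ a ∈ D, ∀ b ∈ D, a ∉ zpowers x → b ∉ zpowers x → a * a = 1 → b * b = 1 →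
        ∃ w ∈ D, w * a * w⁻¹ = b) → s = rk 2 D ε z + 1) := by
  obtain ⟨K, _, _, f, hf, hc⟩ : ∃ (K : Type _) (_ : Group K) (_ : Fintype K) (f : K →* G),
      Function.Injective f ∧ (⊤ : Subgroup K).map f = centralizer {z} := ⟨centralizer ({z} : Set G), _,
    Fintype.ofFinite _, _, subtype_injective _, by rw [← MonoidHom.range_eq_map, range_subtype]⟩
  have h1 := hm.cent_of_comm hM (by rw [centralizer_zpowers_eq]; exact h.le_cent) (hm.bp.sle_sp hM h.zP)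
  rw [top_inf_eq, centralizer_zpowers_eq, ← hc] at h1
  obtain ⟨P, ε, -, rfl, rfl⟩ := h1.bp.exists_eq_push hf
  obtain ⟨η, -, h2⟩ := h1.blk'.exists_eq_push hf
  rw [h2, maxP_push_iff hf] at h1
  obtain ⟨e, he, rfl⟩ := h1.blk'.exists_eq_top
  obtain ⟨x, -, rfl⟩ := h.mem
  obtain ⟨z, -, rfl⟩ := h.zP
  have h' := (mc_map_iff hf).1 h
  have hz : centralizer ({z} : Set K) = ⊤ := eq_top_iff.2 fun g _ => mem_centralizer_singleton_iff.2 (hf (by
    simpa using mem_centralizer_singleton_iff.1 (hc.le (mem_map_of_mem f (mem_top g)))))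
  have h3 := card_eq hM he h1
  rw [(h'.central hM he ((isDefectGroup_iff_defG_top hM he).2 h1.defG) hz).1] at h3
  refine ⟨∑ u ∈ ordF P (· = 2), aF 2 P ε u, ?_, ?_⟩
  · rw [card_eq hM hB hm, h'.transfer hM hf hc h1.bp]
    push_cast at h3
    linarith
  rw [rk_push hM hf h1.bp h'.zP (by rw [centralizer_zpowers_eq, hc])]
  rcases h'.inv_cases hM he h1 with ⟨e1, e2⟩ | ⟨⟨y, hy, e1, e2⟩, -, e3⟩
  · refine ⟨fun _ => e2, ?_⟩
    rintro ⟨_, ⟨y, hy, rfl⟩, e3, e4⟩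
    obtain ⟨g, hg⟩ := isConj_iff.1 (e1 y hy ((orderOf_injective f hf y).symm.trans e3)).isConj
    rw [mem_centralizer_singleton_iff.1 (hz.ge (mem_top g)), mul_inv_cancel_right] at hg
    exact absurd (hg ▸ rfl) e4
  · refine ⟨fun e4 => absurd ?_ e2, fun _ e4 => e3 fun a ha b hb a1 a2 a3 a4 => ?_⟩
    · rw [← hf (e4 _ (mem_map_of_mem f hy) ((orderOf_injective f hf y).trans e1))]
      exact h1.bp.fCj_refl hM hy
    · obtain ⟨_, ⟨w, hw, rfl⟩, e⟩ := e4 _ (mem_map_of_mem f ha) _ (mem_map_of_mem f hb)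
        ((mem_zpowers_map_iff hf).not.2 a1) ((mem_zpowers_map_iff hf).not.2 a2)
        (by rw [← map_mul, a3, map_one]) (by rw [← map_mul, a4, map_one])
      exact ⟨w, hw, hf (by simpa using e)⟩

theorem quat (hD : IsDefectGroup 2 M B D) (hq : ∀ a ∈ D, a ∉ zpowers x → a * a = z) :
    blockRank 2 B ≤ 3 ∧ Nat.card B = blockRank 2 B + 2 ^ (k + 1) + 2 ∧ (H0 B).card = 4 ∧
      (∀ χ ∈ B, blockHeight 2 B χ.1 = 0 ∨ blockHeight 2 B χ.1 = 1 ∨ blockHeight 2 B χ.1 = k + 1) ∧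
      (1 ≤ k → Nat.card {χ : IrrCharacter G // χ ∈ B ∧ blockHeight 2 B χ.1 = 1} + 1 = 2 ^ (k + 1)) := by
  obtain ⟨ε, hm⟩ := (hD.defG_top hM hB).exists_maxP hM (blk_top_eB hB)
  obtain ⟨e, hi, he⟩ := exists_major hM hB hD h.zP h.le_cent
  obtain ⟨n, w, σ, P, Z, -⟩ := exists_ZC hM hB hD h hi he
  obtain ⟨s, r, h3, h4, h5, -, h6⟩ := Z.main
  have h7 : ∀ y ∈ D, orderOf y = 2 → y = z := fun y hy e => by
    have h8 : y * y = 1 := by rw [← pow_two, ← e, pow_orderOf_eq_one]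
    exact (h.eq_z (by_contra fun e' => h.z_ne ((hq y hy e').symm.trans h8)) h8).resolve_left fun e' => by
      simp [e'] at e
  obtain ⟨t, h8, h9, -⟩ := h.count hM hB hm
  rcases h.inv_cases hM hB hm with ⟨-, e1⟩ | ⟨⟨y, hy, e1, e2⟩, -⟩
  · rw [h9 h7, e1, add_left_inj] at h8
    have h10 : Nat.card B = blockRank 2 B + 2 ^ (k + 1) + 2 := mod_cast h8
    have := blockRank_ne_zero hM hB
    have := Z.le
    exact ⟨by omega, h10, Z.four, (h6 (by omega) fun _ => .inl (by omega)).2⟩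
  · exact absurd (h7 y hy e1 ▸ hm.bp.fCj_refl hM hy) e2

omit hM hB in
theorem sd_conj (hk : 1 ≤ k) (hy : y ∈ D) (h1 : y ∉ zpowers x) (h2 : y * y = 1) (h3 : y * x * y⁻¹ = x⁻¹ * z) :
    ∀ a ∈ D, ∀ b ∈ D, a ∉ zpowers x → b ∉ zpowers x → a * a = 1 → b * b = 1 → ∃ w ∈ D, w * a * w⁻¹ = b := by
  have hc : Commute x z := h.comm_z h.mem
  have h4 : ∀ j : ℕ, y * x ^ j * y⁻¹ = (x ^ j)⁻¹ * z ^ j := fun j => by
    rw [← conj_pow, h3, hc.inv_left.mul_pow, inv_pow]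
  have h5 : ∀ j : ℕ, x ^ j * y * (x ^ j)⁻¹ = x ^ (2 * j) * z ^ j * y := fun j => by
    rw [show x ^ j * y * (x ^ j)⁻¹ = x ^ j * (y * x ^ j * y⁻¹)⁻¹ * y by group, h4, mul_inv_rev, inv_inv,
      ← inv_pow, h.zinv, ← (hc.pow_pow j j).eq, ← mul_assoc, ← pow_add, two_mul]
  have h6 : ∀ j : ℕ, z ^ (2 * j) = 1 := fun j => by rw [pow_mul, pow_two, h.zz, one_pow]
  suffices ∀ a ∈ D, a ∉ zpowers x → a * a = 1 → ∃ w ∈ D, w * y * w⁻¹ = a by
    intro a ha b hb a1 a2 a3 a4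
    obtain ⟨v, hv, rfl⟩ := this a ha a1 a3
    obtain ⟨w, hw, rfl⟩ := this b hb a2 a4
    exact ⟨w * v⁻¹, Subgroup.mul_mem _ hw (inv_mem hv), by group⟩
  intro a ha a1 a2
  obtain ⟨i, hi⟩ := mem_powers_iff_mem_zpowers.2 (h.mul_mem ha hy a1 h1)
  obtain rfl : a = x ^ i * y := by simp only at hi; rw [hi, mul_assoc, h2, mul_one]
  rw [show x ^ i * y * (x ^ i * y) = x ^ i * (y * x ^ i * y⁻¹) * (y * y) by group, h4, h2, mul_one,
    mul_inv_cancel_left] at a2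
  obtain ⟨j, rfl | rfl⟩ := i.even_or_odd'
  · obtain ⟨i, rfl | rfl⟩ := j.even_or_odd'
    · exact ⟨_, pow_mem h.mem (2 * i), by rw [h5, h6, mul_one]⟩
    obtain ⟨k, rfl⟩ : ∃ j, k = j + 1 := ⟨k - 1, by omega⟩
    refine ⟨_, pow_mem h.mem (2 * i + 1 + 2 ^ (k + 1)), ?_⟩
    rw [h5, mul_add, pow_add, ← pow_succ', h.pow_z, pow_succ' 2 k, show 2 * i + 1 + 2 * 2 ^ k =
      2 * (i + 2 ^ k) + 1 by ring, pow_succ, h6, one_mul, mul_assoc _ z z, h.zz, mul_one]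
  · rw [pow_succ, h6, one_mul] at a2
    exact absurd a2 h.z_ne

theorem sd (hD : IsDefectGroup 2 M B D) (hm : MaxP 2 ⊤ (eB M B) D ε) (hk : 1 ≤ k) (hy : y ∈ D)
    (h1 : y ∉ zpowers x) (h2 : y * y = 1) (h3 : y * x * y⁻¹ = x⁻¹ * z) :
    (Nat.card B = 2 ^ (k + 1) + 3 ∨ Nat.card B = 2 ^ (k + 1) + 4) ∧
      ((∀ y ∈ D, orderOf y = 2 → FCj 2 D ε z y) ∧ Nat.card B = blockRank 2 B + 2 ^ (k + 1) + 1 ∨
        Nat.card B = blockRank 2 B + 2 ^ (k + 1) + 2) ∧ (H0 B).card = 4 ∧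
      (∀ χ ∈ B, blockHeight 2 B χ.1 = 0 ∨ blockHeight 2 B χ.1 = 1 ∨ blockHeight 2 B χ.1 = k + 1) ∧
      Nat.card {χ : IrrCharacter G // χ ∈ B ∧ blockHeight 2 B χ.1 = 1} + 1 = 2 ^ (k + 1) := by
  haveI := Fintype.ofFinite (centralizer ({z} : Set G))
  obtain ⟨e, hi, he⟩ := exists_major hM hB hD h.zP h.le_cent
  obtain ⟨n, w, σ, P, Z, h0, -⟩ := exists_ZC hM hB hD h hi he
  obtain ⟨s, r, h4, h5, h6, -, h7⟩ := Z.main
  have h8 : orderOf y = 2 := orderOf_eq_prime ((pow_two y).trans h2) fun e => h1 (e ▸ one_mem _)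
  have h9 : y ≠ z := fun e => h1 (e ▸ h.zmem)
  have h10 := ((h.subgroupOf h.le_cent).central hM hi.1 he (eq_top_iff.2 fun g _ =>
    mem_centralizer_singleton_iff.2 (Subtype.ext (mem_centralizer_singleton_iff.1 g.2)))).2
    ⟨⟨y, h.le_cent hy⟩, hy, (orderOf_coe _).symm.trans h8, fun e => h9 (congrArg Subtype.val e)⟩
  have h11 := h.sd_conj hk hy h1 h2 h3
  obtain ⟨t, h12, -, h13⟩ := h.count hM hB hm
  rw [h13 ⟨y, hy, h8, h9⟩ h11] at h12
  have h14 : (∀ y ∈ D, orderOf y = 2 → FCj 2 D ε z y) ∧ Nat.card B = blockRank 2 B + 2 ^ (k + 1) + 1 ∨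
      Nat.card B = blockRank 2 B + 2 ^ (k + 1) + 2 := by
    refine (h.inv_cases hM hB hm).imp (fun e => ⟨e.1, ?_⟩) fun e => ?_
    · exact mod_cast (by linarith [e.2] : (Nat.card B : ℚ) = blockRank 2 B + 2 ^ (k + 1) + 1)
    · exact mod_cast (by linarith [e.2.2 h11] : (Nat.card B : ℚ) = blockRank 2 B + 2 ^ (k + 1) + 2)
  have := blockRank_ne_zero hM hB
  obtain ⟨h15, h16, h17⟩ := h7 (by omega) fun _ => .inl (by omega)
  exact ⟨by omega, h14, Z.four, h16, h17 hk⟩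

end MC

end Cfsg.Lib.Block2.Tame
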