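import Cfsg.Agent.Lib.Block2.Tame11
import Cfsg.Agent.Lib.Block2.Fong

/-! Tame blocks with three Brauer characters. -/

set_option autoImplicit false
set_option linter.dupNamespace false
set_option linter.unusedSectionVars false
set_option linter.style.haveILetI false

open Cfsg Cfsg.Lib.Block Cfsg.Lib.Block2 Cfsg.Lib.Char Cfsg.Lib.Amalg MonoidAlgebra Subgroup
open Cfsg.Lib.Small

namespace Cfsg.Lib.Block2.Tame

universe u

variable {M : Ideal AlgInt} [M.IsMaximal] [Fact (Nat.Prime 2)]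

section

variable {G : Type*} [Group G] [Fintype G] {D : Subgroup G} {B : Set (IrrCharacter G)}

/-- nonabelian dihedral or semidihedral -/
def TM (D : Subgroup G) : Prop := ∃ x z k, MC D x z (k + 1) ∧ ((∀ a ∈ D, a ∉ zpowers x → a * a = 1) ∨
  1 ≤ k ∧ ∃ y ∈ D, y ∉ zpowers x ∧ y * y = 1 ∧ y * x * y⁻¹ = x⁻¹ * z)

theorem TM.of_map {K : Type*} [Group K] [Fintype K] {f : K →* G} (hf : Function.Injective f)
    {P : Subgroup K} (h : TM (P.map f)) : TM P := by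
  obtain ⟨x, z, k, h, h1⟩ := h
  obtain ⟨x, -, rfl⟩ := h.mem
  obtain ⟨z, -, rfl⟩ := h.zP
  refine ⟨x, z, k, (mc_map_iff hf).1 h, h1.imp (fun e a ha ha' => hf ?_) ?_⟩
  · simpa using e _ (mem_map_of_mem f ha) ((mem_zpowers_map_iff hf).not.2 ha')
  · rintro ⟨hk, _, ⟨y, hy, rfl⟩, e1, e2, e3⟩
    exact ⟨hk, y, hy, (mem_zpowers_map_iff hf).not.1 e1, hf (by simpa using e2), hf (by simpa using e3)⟩

theorem TM.key (h : TM D) (hM : IsPModular 2 M) (hB : IsPBlock M B) (hD : IsDefectGroup 2 M B D) :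
    blockRank 2 B ≤ 3 ∧ (blockRank 2 B = 3 → ∃ z, D ≤ centralizer {z} ∧
      (∀ y ∈ D, orderOf y = 2 → IsConj z y) ∧ ∃ a ∈ D, ∃ b ∈ D, IsConj z a ∧ IsConj z b ∧ a * b ≠ b * a) := by
  obtain ⟨x, z, k, h, h1⟩ := h
  obtain ⟨ε, hm⟩ := (hD.defG_top hM hB).exists_maxP hM (blk_top_eB hB)
  have h2 : ∀ a, a ∉ zpowers x → a * a = 1 → orderOf a = 2 := fun a ha e =>
    orderOf_eq_prime ((pow_two a).trans e) fun e => ha (e ▸ one_mem _)
  have key : ∀ (j : ℕ) (y : G), y ∈ D → y ∉ zpowers x → y * y = 1 → x ^ j * y * (x ^ j * y) = 1 →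
      ¬ 2 ^ (k + 1 + 1) ∣ j * 2 → (∀ y ∈ D, orderOf y = 2 → FCj 2 D ε z y) → ∃ z, D ≤ centralizer {z} ∧
      (∀ y ∈ D, orderOf y = 2 → IsConj z y) ∧ ∃ a ∈ D, ∃ b ∈ D, IsConj z a ∧ IsConj z b ∧ a * b ≠ b * a :=
    fun j y hy e1 e2 e3 e4 e5 => by
    have h3 := mul_mem (pow_mem h.mem j) hy
    refine ⟨z, h.le_cent, fun y hy e => (e5 y hy e).isConj, y, hy, _, h3, (e5 y hy (h2 y e1 e2)).isConj,
      (e5 _ h3 (h2 _ (by rwa [mul_mem_cancel_left (pow_mem (mem_zpowers x) j)]) e3)).isConj, fun e => e4 ?_⟩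
    rw [← h.ord, orderOf_dvd_iff_pow_eq_one, pow_mul, pow_two]
    rcases h.cen y hy e1 _ (pow_mem (mem_zpowers x) j) (mul_right_cancel ((mul_assoc _ _ _).trans e))
      with e | e <;> rw [e]
    exacts [one_mul 1, h.zz]
  rcases h1 with hd | ⟨hk, y, hy, e1, e2, e3⟩
  · obtain ⟨y, hy, e1⟩ := h.exists_notMem
    obtain ⟨-, ⟨h3, h4⟩ | ⟨-, h4⟩⟩ := h.dih_count hM hB hm hd
    · refine ⟨h4.le, fun _ => key 1 y hy e1 (hd y hy e1) (hd _ (mul_mem (pow_mem h.mem 1) hy)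
        (by rwa [mul_mem_cancel_left (pow_mem (mem_zpowers x) 1)])) (fun e => ?_) h3⟩
      have := Nat.le_of_dvd two_pos e
      have := Nat.pow_le_pow_right two_pos (show 2 ≤ k + 1 + 1 by omega)
      omega
    · exact ⟨by omega, by omega⟩
  obtain ⟨h3, ⟨h4, h5⟩ | h5, -⟩ := h.sd hM hB hD hm hk hy e1 e2 e3
  · refine ⟨by omega, fun _ => key 2 y hy e1 e2 ?_ (fun e => ?_) h4⟩
    · rw [show x ^ 2 * y * (x ^ 2 * y) = x ^ 2 * (y * x * y⁻¹) ^ 2 * (y * y) by rw [conj_pow]; group, e2, e3,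
        Commute.mul_pow (Commute.inv_left (h.comm_z h.mem)), pow_two z, h.zz]
      simp
    · have := Nat.le_of_dvd (by norm_num) e
      have := Nat.pow_le_pow_right two_pos (show 3 ≤ k + 1 + 1 by omega)
      omega
  · exact ⟨by omega, by omega⟩

theorem reg_indFun {p : ℕ} {T : Subgroup G} (ψ : T → ℂ) : reg p (indFun T ψ) = indFun T (reg p ψ) := by
  funext g
  by_cases e : p ∣ orderOf g
  · rw [reg_of_dvd _ e, indFun_eq_zero_of_isConj _ fun y hy => reg_of_dvd _ ?_]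
    obtain ⟨w, hw⟩ := isConj_iff.1 hy
    rwa [← orderOf_coe, ← hw, ord_conj]
  · rw [reg_of_not_dvd _ e, indFun_apply', indFun_apply']
    refine congrArg _ (Finset.sum_congr rfl fun w _ => ?_)
    by_cases h : w * g * w⁻¹ ∈ T
    · rw [extendByZero_of_mem _ h, extendByZero_of_mem _ h, reg_of_not_dvd]
      rwa [← orderOf_coe, ord_conj]
    · rw [extendByZero_of_notMem _ h, extendByZero_of_notMem _ h]

theorem rank_le_of_ind {p : ℕ} {T : Subgroup G} {B' : Set (IrrCharacter T)}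
    (h : ∀ χ ∈ B, ∃ ψ ∈ B', χ.1 = indFun T ψ.1) : blockRank p B ≤ blockRank p B' := by
  rw [blockRank_eq, blockRank_eq]
  refine (Submodule.finrank_mono (Submodule.span_le.2 ?_)).trans (Submodule.finrank_map_le (indLin T) _)
  rintro _ ⟨χ, hχ, rfl⟩
  obtain ⟨ψ, hψ, e⟩ := h χ hχ
  exact ⟨_, reg_mem_VB hψ, by simp only [pRegularPart_eq, e, reg_indFun]; rfl⟩

theorem TM.odd (h : TM D) (hM : IsPModular 2 M) (hB : IsPBlock M B) (hD : IsDefectGroup 2 M B D)
    (hl : blockRank 2 B = 3) : Odd (Nat.card (center G)) := by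
  obtain ⟨z, -, h1, a, -, b, -, h2, h3, h4⟩ := (h.key hM hB hD).2 hl
  refine Nat.not_even_iff_odd.1 fun e => h4 ?_
  obtain ⟨c, hc⟩ := exists_prime_orderOf_dvd_card' 2 e.two_dvd
  haveI : (zpowers c.1).Normal := ⟨fun n hn g => by
    rwa [mem_center_iff.1 (zpowers_le.2 c.2 hn) g, mul_inv_cancel_right]⟩
  have h5 := h1 c (hD.normal_le hM hB (IsPGroup.of_card (n := 1) (by
    rw [Nat.card_zpowers, orderOf_coe, hc, pow_one])) (mem_zpowers _)) ((orderOf_coe c).trans hc)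
  obtain ⟨g, rfl⟩ := isConj_iff.1 (h5.symm.trans h2)
  rw [mem_center_iff.1 c.2 g, mul_inv_cancel_right, mem_center_iff.1 c.2 b]

end

theorem not_solvable (hM : IsPModular 2 M) (n : ℕ) : ∀ {G : Type u} [Group G] [Fintype G]
    {B : Set (IrrCharacter G)} {D : Subgroup G}, Nat.card G = n → IsPSolvable 2 G → IsPBlock M B →
    IsDefectGroup 2 M B D → TM D → blockRank 2 B ≠ 3 := by
  induction n using Nat.strong_induction_on with
  | _ n ih =>
  intro G _ _ B P hn hs hB hP h hl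
  obtain ⟨χ, hχ⟩ := hB.nonempty
  obtain ⟨θ, ho⟩ := exists_lying_under' (pPrimeCore 2 G).subtype χ
  have hb := isPBlock_singleton_of_not_dvd hM (Core.not_dvd_card_pPrimeCore Fact.out) θ
  have h0 := ho.eB_mul_EB hB.isBlockUnion hb.isBlockUnion hχ rfl
  obtain ⟨T, B', fr, h1, hi⟩ := exists_fr hB hb h0
  by_cases hT : T = ⊤
  · have hc := Core.isPConstrained_of_isPSolvable hs
    have hf : IsFixed ⊤ (EB M {θ}) := hT ▸ fr.fixed
    have e := (blk_top_eB hB).eq_of_mul_ne_zero ((blk_EB hb).top_of_constrained hM hc hf) h0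
    obtain ⟨S, hS⟩ := exists_syl 2 (⊤ : Subgroup G)
    obtain ⟨x, -, rfl⟩ := (e ▸ (blk_EB hb).defG_of_constrained hM hc hf hS).exists_cj_eq
      (hP.defG_top hM hB)
    obtain ⟨z, h2, -, a, ha, b, hb, h3, h4, h5⟩ := (h.key hM hB hP).2 hl
    let f := QuotientGroup.mk' (pPrimeCore 2 G)
    have hf := QuotientGroup.mk'_surjective (pPrimeCore 2 G)
    have h6 : f z ∈ 𝐂 (pCore 2 (G ⧸ pPrimeCore 2 G)) := fun u hu => by
      obtain ⟨u, h7, rfl⟩ := ((hS.conj_top x).map_top hf).pCore_le hu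
      rw [← map_mul, mem_centralizer_singleton_iff.1 (h2 h7), map_mul]
    have h7 := Core.centralizer_pCore_le_of_isPSolvable Fact.out (Core.isPSolvable_quotient Fact.out hs _)
      Core.pPrimeCore_quotient_pPrimeCore h6
    obtain ⟨v, rfl⟩ := isConj_iff.1 h3
    obtain ⟨w, rfl⟩ := isConj_iff.1 h4
    have h8 : f (v * z * v⁻¹) * f (w * z * w⁻¹) = f (w * z * w⁻¹) * f (v * z * v⁻¹) := by
      simpa only [map_mul, map_inv] using ((normal_centralizer.conj_mem _ h6 (f v)) _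
        ((inferInstance : (pCore 2 _).Normal).conj_mem _ h7 (f w))).symm
    have h9 := mul_mem (mul_mem ha hb) (inv_mem (mul_mem hb ha))
    obtain ⟨j, hj⟩ := pow_of_mem_pgroup hP.isPGroup h9
    refine h5 (mul_inv_eq_one.1 (orderOf_eq_one_iff.1 (hj.trans ?_)))
    rcases j with _ | j
    · rfl
    refine absurd (((dvd_pow_self 2 j.succ_ne_zero).trans hj.symm.dvd).trans
      ((pPrimeCore 2 G).orderOf_dvd_natCard ?_)) (Core.not_dvd_card_pPrimeCore Fact.out)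
    rw [← QuotientGroup.ker_mk' (pPrimeCore 2 G), MonoidHom.mem_ker, map_mul, map_inv, mul_inv_eq_one, map_mul,
      h8, map_mul f (w * z * w⁻¹)]
  haveI := Fintype.ofFinite T
  obtain ⟨D, hD⟩ := hi.1.exists_isDefectGroup (p := 2)
  obtain ⟨x, -, rfl⟩ := ((fr.isDefectGroup hM h1 hi hD).defG_top hM hB).exists_cj_eq
    (hP.defG_top hM hB)
  have h2 := (h.of_map (MulAut.conj x).injective).of_map T.subtype_injective
  have h3 := rank_le_of_ind (p := 2) fun χ => (fr.mem_iff_indFun hb h1 hi χ).1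
  exact ih _ (hn ▸ card_lt_of_ne_top hT) rfl (Core.isPSolvable_subgroup Fact.out hs T) hi.1 hD h2
    ((h2.key hM hi.1 hD).1.antisymm (hl ▸ h3))

end Cfsg.Lib.Block2.Tame
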