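import Cfsg.Agent.Lib.Block2.Tame1
import Cfsg.Agent.Lib.Block.BSBig

/-! Two-groups with a cyclic subgroup of index two; local blocks. -/

set_option autoImplicit false
set_option linter.dupNamespace false
set_option linter.unusedSectionVars false
set_option linter.style.haveILetI false

open Cfsg Cfsg.Lib.Block Cfsg.Lib.Block2 Cfsg.Lib.Char Cfsg.Lib.Amalg MonoidAlgebra Subgroup
open Cfsg.Lib.Small
open scoped ComplexConjugate

namespace Cfsg.Lib.Block2.Tame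

variable {G : Type*} [Group G] [Finite G]

/-- dihedral, semidihedral or quaternion -/
structure MC (P : Subgroup G) (x z : G) (k : ℕ) : Prop where
  mem : x ∈ P
  ord : orderOf x = 2 ^ (k + 1)
  card : Nat.card P = 2 ^ (k + 2)
  zmem : z ∈ zpowers x
  zord : orderOf z = 2
  sq : ∀ a ∈ P, a ∉ zpowers x → a * a = 1 ∨ a * a = z
  cen : ∀ a ∈ P, a ∉ zpowers x → ∀ u ∈ zpowers x, a * u = u * a → u = 1 ∨ u = z

theorem mem_zpowers_map_iff {G' : Type*} [Group G'] {f : G →* G'} (hf : Function.Injective f)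
    {x a : G} : f a ∈ zpowers (f x) ↔ a ∈ zpowers x := by
  rw [← MonoidHom.map_zpowers, mem_map_iff_mem hf]

theorem mc_map_iff {G' : Type*} [Group G'] [Finite G'] {f : G →* G'} (hf : Function.Injective f)
    {P : Subgroup G} {x z : G} {k : ℕ} : MC (P.map f) (f x) (f z) k ↔ MC P x z k := by
  have h1 := fun a b => hf.eq_iff (a := a) (b := b)
  have h2 : ∀ a, f a = 1 ↔ a = 1 := fun a => map_eq_one_iff f hf
  constructor
  · intro h
    refine ⟨(mem_map_iff_mem hf).1 h.mem, (orderOf_injective f hf x).symm.trans h.ord,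
      (card_map_of_injective hf).symm.trans h.card, (mem_zpowers_map_iff hf).1 h.zmem,
      (orderOf_injective f hf z).symm.trans h.zord, fun a ha ha' => ?_, fun a ha ha' u hu e => ?_⟩
    · simpa only [← map_mul, h1, h2] using
        h.sq _ (mem_map_of_mem f ha) ((mem_zpowers_map_iff hf).not.2 ha')
    · simpa only [h1, h2] using h.cen _ (mem_map_of_mem f ha) ((mem_zpowers_map_iff hf).not.2 ha') _
        ((mem_zpowers_map_iff hf).2 hu) (by rw [← map_mul, e, map_mul])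
  · intro h
    refine ⟨mem_map_of_mem f h.mem, (orderOf_injective f hf x).trans h.ord,
      (card_map_of_injective hf).trans h.card, (mem_zpowers_map_iff hf).2 h.zmem,
      (orderOf_injective f hf z).trans h.zord, ?_, ?_⟩
    · rintro _ ⟨a, ha, rfl⟩ ha'
      simpa only [← map_mul, h1, h2] using h.sq a ha ((mem_zpowers_map_iff hf).not.1 ha')
    · rintro _ ⟨a, ha, rfl⟩ ha' u hu e
      rw [← MonoidHom.map_zpowers] at hu
      obtain ⟨u, hu, rfl⟩ := hu
      simpa only [h1, h2] using h.cen a ha ((mem_zpowers_map_iff hf).not.1 ha') u hu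
        (hf (by simpa using e))

theorem comm_of_mem_zpowers {x u v : G} (hu : u ∈ zpowers x) (hv : v ∈ zpowers x) : u * v = v * u := by
  obtain ⟨i, rfl⟩ := hu
  obtain ⟨j, rfl⟩ := hv
  exact (Commute.zpow_zpow_self x i j).eq

theorem mem_zp {g s t : G} (hs : s ∈ zpowers g) (ht : t ∈ zpowers g)
    (e : orderOf s ∣ orderOf t) : s ∈ zpowers t :=
  haveI := Fintype.ofFinite G
  mem_zpowers_of_dvd hs ht e

theorem ord_conj (w g : G) : orderOf (w * g * w⁻¹) = orderOf g := (MulAut.conj w).orderOf_eq g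

theorem mem_norm_zpowers {g t : G} : g ∈ 𝐍 (zpowers t) ↔ g * t * g⁻¹ ∈ zpowers t :=
  ⟨fun h => (mem_normalizer_iff.1 h t).1 (mem_zpowers t),
    fun h => mem_normalizer_of_cj_le (by rwa [cj_zpowers, zpowers_le])⟩

theorem eq_of_mem_zpowers_two {z u : G} (hz : orderOf z = 2) (hu : u ∈ zpowers z) : u = 1 ∨ u = z := by
  classical
  rw [mem_zpowers_iff_mem_range_orderOf, hz] at hu
  simpa [Finset.range_add_one, or_comm] using hu

theorem mem_cent_iff_two {z g : G} (hz : orderOf z = 2) :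
    g ∈ centralizer ({z} : Set G) ↔ g * z * g⁻¹ ∈ zpowers z := by
  rw [mem_centralizer_singleton_iff]
  refine ⟨fun h => by rw [h, mul_inv_cancel_right]; exact mem_zpowers z, fun h => ?_⟩
  rcases eq_of_mem_zpowers_two hz h with e | e
  · have := ord_conj g z
    rw [e, hz, orderOf_one] at this; omega
  · exact mul_inv_eq_iff_eq_mul.1 e

namespace MC

variable {P Q : Subgroup G} {x z a b u t g : G} {k : ℕ} (h : MC P x z k)
include h

theorem le : zpowers x ≤ P := zpowers_le.2 h.mem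

theorem zP : z ∈ P := h.le h.zmem

theorem top : MC (⊤ : Subgroup P) ⟨x, h.mem⟩ ⟨z, h.zP⟩ k :=
  (mc_map_iff P.subtype_injective).1 (by rwa [← MonoidHom.range_eq_map, range_subtype])

theorem subgroupOf {T : Subgroup G} (hT : P ≤ T) :
    MC (P.subgroupOf T) ⟨x, hT h.mem⟩ ⟨z, hT h.zP⟩ k :=
  (mc_map_iff T.subtype_injective).1 (by rwa [subgroupOf_map_subtype, inf_eq_left.2 hT])

theorem isPGroup : IsPGroup 2 P := IsPGroup.of_card h.card

theorem zz : z * z = 1 := by rw [← pow_two, ← h.zord, pow_orderOf_eq_one]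

theorem zinv : z⁻¹ = z := inv_eq_of_mul_eq_one_left h.zz

theorem z_ne : z ≠ 1 := fun e => by have := h.zord; rw [e, orderOf_one] at this; omega

theorem card_X : Nat.card (zpowers x) = 2 ^ (k + 1) := by rw [Nat.card_zpowers, h.ord]

theorem inv_mul_mem (ha : a ∈ P) (hb : b ∈ P) (h1 : a ∉ zpowers x) (h2 : b ∉ zpowers x) :
    a⁻¹ * b ∈ zpowers x :=
  inv_mul_mem_of_card_le h.le (by rw [h.card, h.card_X, pow_succ' _ (k + 1)]) ha hb h1 h2

theorem mul_mem (ha : a ∈ P) (hb : b ∈ P) (h1 : a ∉ zpowers x) (h2 : b ∉ zpowers x) :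
    a * b ∈ zpowers x := by
  simpa using h.inv_mul_mem (inv_mem ha) hb (by simpa using h1) h2

theorem exists_notMem : ∃ y ∈ P, y ∉ zpowers x := by
  by_contra! h1
  have := card_le_of_le (h1 : P ≤ zpowers x)
  rw [h.card, h.card_X, pow_succ _ (k + 1)] at this
  have := Nat.two_pow_pos (k + 1)
  omega

theorem conj_mem (ha : a ∈ P) (hu : u ∈ zpowers x) : a * u * a⁻¹ ∈ zpowers x := by
  by_cases h1 : a ∈ zpowers x
  · exact Subgroup.mul_mem _ (Subgroup.mul_mem _ h1 hu) (inv_mem h1)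
  · exact h.mul_mem (Subgroup.mul_mem _ ha (h.le hu)) (inv_mem ha)
      (by rwa [mul_mem_cancel_right hu]) (by simpa using h1)

theorem conj_notMem (ha : a ∈ P) (hb : b ∈ P) (hu : b ∉ zpowers x) : a * b * a⁻¹ ∉ zpowers x :=
  fun e => hu (by simpa [mul_assoc] using h.conj_mem (inv_mem ha) e)

theorem le_norm (hu : u ∈ zpowers x) : P ≤ 𝐍 (zpowers u) := fun a ha =>
  mem_norm_zpowers.2 (mem_zp (h.conj_mem ha hu) hu (ord_conj a u).dvd)

theorem eq_z (hu : u ∈ zpowers x) (h2 : u * u = 1) : u = 1 ∨ u = z :=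
  eq_of_mem_zpowers_two h.zord (mem_zp hu h.zmem (h.zord ▸ orderOf_dvd_of_pow_eq_one ((pow_two u).trans h2)))

theorem le_cent : P ≤ centralizer {z} := fun _ ha =>
  (mem_cent_iff_two h.zord).2 (mem_norm_zpowers.1 (h.le_norm h.zmem ha))

theorem comm_z (ha : a ∈ P) : a * z = z * a := mem_centralizer_singleton_iff.1 (h.le_cent ha)

theorem z_mem_zpowers (hu : u ∈ zpowers x) (h1 : u ≠ 1) : z ∈ zpowers u := by
  refine mem_zp h.zmem hu ?_
  obtain ⟨j, -, hj⟩ := (Nat.dvd_prime_pow Nat.prime_two).1 (h.ord ▸ orderOf_dvd_of_mem_zpowers hu)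
  rw [h.zord, hj]
  exact dvd_pow_self 2 fun e => h1 (orderOf_eq_one_iff.1 (by rw [hj, e, pow_zero]))

theorem pow_four (ha : a ∈ P) (h1 : a ∉ zpowers x) : orderOf a ∣ 4 := by
  refine orderOf_dvd_of_pow_eq_one ?_
  rw [show a ^ 4 = a * a * (a * a) by simp only [pow_succ, pow_zero, one_mul, mul_assoc]]
  rcases h.sq a ha h1 with e | e <;> rw [e]
  exacts [one_mul 1, h.zz]

theorem conj_eq (ha : a ∈ P) (h1 : a ∉ zpowers x) (hu : u ∈ zpowers x) :
    a * u * a⁻¹ = u⁻¹ ∨ a * u * a⁻¹ = u⁻¹ * z := by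
  have e1 : a * u * a⁻¹ = a * u * (a * u) * u⁻¹ * (a * a)⁻¹ := by group
  have e2 := h.comm_z (inv_mem (h.le hu))
  rcases h.sq a ha h1 with e | e <;>
    rcases h.sq _ (Subgroup.mul_mem _ ha (h.le hu)) (by rwa [mul_mem_cancel_right hu]) with e' | e' <;>
    rw [e1, e, e']
  · simp
  · simp [e2]
  · simp [h.zinv]
  · left; rw [← e2, mul_inv_cancel_right]

theorem cent_of_norm (hQ : Q ≤ P) (hg : g ∈ 𝐍 Q) (h1 : g ∈ 𝐍 (Q ⊓ zpowers x))
    (ho : ¬ 2 ∣ orderOf g) : g ∈ 𝐂 Q := by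
  have hp : IsPGroup 2 (Q ⊓ zpowers x : Subgroup G) := h.isPGroup.to_le (inf_le_left.trans hQ)
  refine mem_cent_of_regular_of_comm hp ho (mem_centralizer_of_odd_of_isCyclic hp
    (Subgroup.isCyclic_of_le inf_le_right) h1 (Nat.odd_iff.2 (by omega))) fun q hq => ?_
  have h2 := (mem_normalizer_iff.1 hg q).1 hq
  refine ⟨Subgroup.mul_mem _ (inv_mem hq) h2, ?_⟩
  by_cases h3 : q ∈ zpowers x
  · exact Subgroup.mul_mem _ (inv_mem h3) ((mem_normalizer_iff.1 h1 q).1 ⟨hq, h3⟩).2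
  · exact h.inv_mul_mem (hQ hq) (hQ h2) h3 fun e => h3 ((mem_normalizer_iff.1 h1 q).2 ⟨h2, e⟩).2

theorem cent_of_norm_t (ht : t ∈ zpowers x) (ho : ∀ a ∈ P, a ∉ zpowers x → orderOf a ∣ orderOf t)
    (hQ : Q ≤ P) (h1 : g ∈ 𝐍 (zpowers t)) (hg : g ∈ 𝐍 Q) (hr : ¬ 2 ∣ orderOf g) : g ∈ 𝐂 Q := by
  have h2 : g ∈ 𝐍 (Q ⊔ zpowers t : Subgroup G) := norm_inf_norm_le_norm_sup ⟨hg, h1⟩
  have h3 : Q ⊔ zpowers t ≤ P := sup_le hQ (zpowers_le.2 (h.le ht))
  refine centralizer_le (le_sup_left : Q ≤ Q ⊔ zpowers t)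
    (h.cent_of_norm h3 h2 (mem_normalizer_of_cj_le ?_) hr)
  rintro _ ⟨u, hu, rfl⟩
  have h4 := (mem_normalizer_iff.1 h2 u).1 hu.1
  refine ⟨h4, by_contra fun e => e (zpowers_le.2 ht ((mem_normalizer_iff.1 h1 u).1 ?_))⟩
  exact mem_zp hu.2 ht ((ord_conj g u).symm.dvd.trans (ho _ (h3 h4) e))

theorem mem_of_ord (ha : a ∈ P) (h4 : ¬ orderOf a ∣ 4) : a ∈ zpowers x :=
  by_contra fun e => h4 (h.pow_four ha e)

/-- the centraliser of an element outside the cyclic subgroup -/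
theorem cent_le (ha : a ∈ P) (h1 : a ∉ zpowers x) (hb : b ∈ P) (hc : a * b = b * a) :
    b = 1 ∨ b = z ∨ b = a ∨ b = a * z := by
  by_cases h2 : b ∈ zpowers x
  · rcases h.cen a ha h1 b h2 hc with e | e <;> simp [e]
  · rcases h.cen a ha h1 _ (h.inv_mul_mem ha hb h1 h2) (by
      rw [mul_inv_cancel_left, mul_assoc, ← hc, inv_mul_cancel_left]) with e | e
    · simp [(inv_mul_eq_one.1 e).symm]
    · simp [← e]

end MC

section loc

variable {p : ℕ} [Fact p.Prime] {M : Ideal AlgInt} [M.IsMaximal] {P T D : Subgroup G}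
  {β ε : MonoidAlgebra (resField M) G} {B : Set (IrrCharacter G)}

theorem exists_loc (hM : IsPModular p M) (hm : MaxP p ⊤ β P ε) (h1 : P ≤ T) (h2 : 𝐂 P ≤ T) :
    ∃ η, MaxP p T η P ε ∧ Ind T η ⊤ β := by
  obtain ⟨η, hη⟩ := (hm.bp.of_le h1 (inf_le_right.trans h2) le_top).exists_bpo hM
  have i1 := hη.ind hM
  have i2 := hm.bpo.ind hM
  rw [top_inf_eq, ← inf_eq_right.2 h2] at i2
  have i := i1.of_trans i2 le_top
  obtain ⟨E, hE⟩ := hη.blk'.exists_defG hM
  exact ⟨η, ⟨hη, hE.of_card_le hη.blk'.cen.fixed h1 hη.bp.isPGroup hη.brauer_ne_zero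
    (i.card_le hM hE hm.defG)⟩, i⟩

theorem exists_iso [Fintype T] [Fintype D] (hM : IsPModular p M) (hB : IsPBlock M B)
    (hD : IsDefectGroup p M B D) (h1 : D ≤ T) (h2 : 𝐂 D ≤ T)
    (h : ∀ Q ≤ D, ∀ g ∈ T, g ∈ 𝐍 Q → ¬ p ∣ orderOf g → g ∈ 𝐂 Q) :
    ∃ b ψ₀ J, IsInducedBlock M T b B ∧ IsDefectGroup p M b (D.subgroupOf T) ∧
      NJ p b (inclusion h1) ψ₀ J := by
  obtain ⟨ε, hm⟩ := (hD.defG_top hM hB).exists_maxP hM (blk_top_eB hB)
  obtain ⟨η, hη, hi⟩ := exists_loc hM hm h1 h2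
  have hn := hη.nilB_of_forall hM fun Q φ hQ g hg => h Q hQ.le g hg.1.1 hg.1.2
  have hb := hη.blk'.isPBlock_bset
  have e := hη.blk'.EB_bset
  rw [← e] at hη hi hn
  have hd := (isDefectGroup_subgroupOf_iff hM hb h1).2 hη.defG
  obtain ⟨ψ₀, J, hJ⟩ := exists_NJ hM hb ((isNilpotentBlock_iff_top hM hb).1
    ((isNilpotentBlock_iff hM hb).2 hn)) hd (subgroupOfEquivOfLe h1)
  exact ⟨_, ψ₀, J, hi.isInducedBlock hb hB, hd, hJ⟩

end loc

end Cfsg.Lib.Block2.Tame
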