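import Cfsg.Agent.Lib.Block2.Tame2

/-! Columns of the local isometry; four characters of height zero. -/

set_option autoImplicit false
set_option linter.dupNamespace false
set_option linter.unusedSectionVars false
set_option linter.style.haveILetI false

open Cfsg Cfsg.Lib.Block Cfsg.Lib.Block2 Cfsg.Lib.Char Cfsg.Lib.Amalg MonoidAlgebra Subgroup
open Cfsg.Lib.Small
open scoped ComplexConjugate

namespace Cfsg.Lib.Block2.Tame

section chr

variable {A : Type*} [Group A] [Fintype A] {x z y : A} {k : ℕ}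

theorem xcomm (a b : zpowers x) : a * b = b * a := Subtype.ext (comm_of_mem_zpowers a.2 b.2)

theorem xcls (θ : zpowers x → ℂ) : IsClassFunction (zpowers x) θ := fun g w => by
  rw [xcomm w g, mul_inv_cancel_right]

theorem lin_ext {ψ φ : zpowers x →* ℂˣ} (h : ψ ⟨x, mem_zpowers x⟩ = φ ⟨x, mem_zpowers x⟩) : ψ = φ := by
  ext ⟨_, i, rfl⟩
  rw [show (⟨x ^ i, _⟩ : zpowers x) = ⟨x, mem_zpowers x⟩ ^ i from rfl, map_zpow, map_zpow, h]

namespace MC

variable (h : MC (⊤ : Subgroup A) x z k)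
include h

theorem normal : (zpowers x).Normal := ⟨fun _ hu _ => h.conj_mem trivial hu⟩

/-- conjugation on the cyclic subgroup -/
noncomputable def tau (y : A) : zpowers x ≃* zpowers x :=
  haveI := h.normal
  MulAut.conjNormal y⁻¹

theorem coe_tau (u : zpowers x) : (h.tau y u : A) = y⁻¹ * u * y := by simp [tau]

theorem ind_apply (hy : y ∉ zpowers x) (θ : zpowers x → ℂ) (u : zpowers x) :
    indFun (zpowers x) θ u = θ u + θ (h.tau y u) := by
  rw [indFun_apply_of_two_cosets (xcls θ) u hy (h.coe_tau u ▸ (h.tau y u).2) fun g _ =>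
    (em _).imp id fun e => h.inv_mul_mem trivial trivial hy e]
  congr 2
  exact Subtype.ext (h.coe_tau u).symm

theorem ind_notMem (θ : zpowers x → ℂ) {a : A} (ha : a ∉ zpowers x) : indFun (zpowers x) θ a = 0 :=
  haveI := h.normal
  indFun_of_normal_of_notMem θ ha

theorem inner_ind [Fintype (zpowers x)] (hy : y ∉ zpowers x) (θ θ' : zpowers x → ℂ) :
    classInner (indFun (zpowers x) θ) (indFun (zpowers x) θ') =
      classInner θ θ' + classInner θ fun u => θ' (h.tau y u) := by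
  rw [classInner_indFun_left _ (isClassFunction_indFun _), ← classInner_add_right]
  exact congrArg _ (funext fun u => h.ind_apply hy θ' u)

theorem tau_tau (hy : y ∉ zpowers x) (u : zpowers x) : h.tau y (h.tau y u) = u := by
  refine Subtype.ext ?_
  rw [h.coe_tau, h.coe_tau, show y⁻¹ * (y⁻¹ * u * y) * y = (y * y)⁻¹ * (u * (y * y)) by group,
    comm_of_mem_zpowers u.2 (h.mul_mem trivial trivial hy hy), inv_mul_cancel_left]

theorem exists_lin : ∃ l : zpowers x →* ℂˣ, (l ⟨z, h.zmem⟩ : ℂ) = -1 := by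
  letI : CommGroup (zpowers x) := { mul_comm := xcomm }
  obtain ⟨l, hl⟩ := CommGroup.exists_apply_ne_one_of_hasEnoughRootsOfUnity (zpowers x) ℂ
    (a := ⟨z, h.zmem⟩) fun e => h.z_ne (congrArg Subtype.val e)
  refine ⟨l, (mul_self_eq_one_iff.1 ?_).resolve_left fun e => hl (Units.ext e)⟩
  rw [← Units.val_mul, ← map_mul, show (⟨z, h.zmem⟩ * ⟨z, h.zmem⟩ : zpowers x) = 1 from
    Subtype.ext h.zz, map_one, Units.val_one]

theorem pow_eq_z : x ^ 2 ^ k = z :=
  (h.eq_z (pow_mem (mem_zpowers x) _) (by rw [← pow_add, ← two_mul, ← pow_succ', ← h.ord,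
    pow_orderOf_eq_one])).resolve_left fun e => by
      have := Nat.le_of_dvd (Nat.two_pow_pos k) (h.ord ▸ orderOf_dvd_of_pow_eq_one e)
      have := Nat.two_pow_pos k
      omega

theorem exists_sigma : ∃ σ : zpowers x →* ℂˣ, (σ ⟨x, mem_zpowers x⟩ : ℂ) = -1 := by
  obtain ⟨l, hl⟩ := h.exists_lin
  refine ⟨l ^ 2 ^ k, ?_⟩
  rw [MonoidHom.pow_apply, ← map_pow, ← hl]
  congr 2
  exact Subtype.ext h.pow_eq_z

theorem fixed_iff (hy : y ∉ zpowers x) {σ ψ : zpowers x →* ℂˣ} (hσ : (σ ⟨x, mem_zpowers x⟩ : ℂ) = -1) :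
    ψ.comp (h.tau y).toMonoidHom = ψ ↔ ψ = 1 ∨ ψ = σ := by
  set x' : zpowers x := ⟨x, mem_zpowers x⟩
  constructor
  · intro e
    have h1 : ψ (h.tau y x' * x'⁻¹) = 1 := by
      rw [map_mul, map_inv, mul_inv_eq_one]; exact DFunLike.congr_fun e x'
    have h2 : (x' ^ 2 : zpowers x).1 ∈ zpowers (h.tau y x' * x'⁻¹).1 := by
      refine mem_zp (x' ^ 2).2 (h.tau y x' * x'⁻¹).2 (orderOf_dvd_of_pow_eq_one ?_)
      have h3 := pow_orderOf_eq_one (h.tau y x' * x'⁻¹)
      rw [Commute.mul_pow (show Commute (h.tau y x') x'⁻¹ from xcomm _ _), ← map_pow, inv_pow, mul_inv_eq_one, ← orderOf_coe] at h3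
      have h4 := congrArg Subtype.val h3
      rw [h.coe_tau, mul_assoc, inv_mul_eq_iff_eq_mul] at h4
      rw [coe_pow, ← pow_mul, mul_comm, pow_mul, ← coe_pow]
      rcases h.cen y trivial hy _ (Subtype.prop _) h4.symm with e | e <;> rw [e]
      exacts [one_pow _, (pow_two z).trans h.zz]
    obtain ⟨i, hi⟩ := h2
    have h3 : ψ (x' ^ 2) = 1 := by
      rw [show x' ^ 2 = (h.tau y x' * x'⁻¹) ^ i from Subtype.ext hi.symm, map_zpow, h1, one_zpow]
    rw [map_pow, pow_two, Units.ext_iff, Units.val_mul, Units.val_one, mul_self_eq_one_iff] at h3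
    exact h3.imp (fun e => lin_ext (Units.ext e)) fun e => lin_ext (Units.ext (e.trans hσ.symm))
  · rintro (rfl | rfl)
    · rfl
    obtain ⟨i, hi⟩ := (h.tau y x').2
    have h1 : (ψ (h.tau y x') : ℂ) = (-1) ^ i := by
      rw [show h.tau y x' = x' ^ i from Subtype.ext hi.symm, map_zpow, Units.val_zpow_eq_zpow_val, hσ]
    rcases i.even_or_odd.imp (Even.neg_one_zpow (α := ℂ)) (Odd.neg_one_zpow (α := ℂ)) with e | e
    · have h2 : ψ.comp (h.tau y).toMonoidHom = 1 := lin_ext (Units.ext (h1.trans e))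
      have h3 : ψ (h.tau y (h.tau y x')) = 1 := DFunLike.congr_fun h2 (h.tau y x')
      rw [h.tau_tau hy] at h3
      rw [h3] at hσ
      norm_num at hσ
    · exact lin_ext (Units.ext ((h1.trans e).trans hσ.symm))

theorem parity [Fintype (zpowers x)] {σ : zpowers x →* ℂˣ} (hσ : (σ ⟨x, mem_zpowers x⟩ : ℂ) = -1)
    {η : A → ℂ} (hη : IsGeneralizedCharacter A η) {n : ℕ} (hn : η 1 = n) {c : ℤ}
    (hc : classInner (indFun (zpowers x) (oneSub σ)) η = c) : Odd c ↔ ¬ 2 ∣ n := by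
  classical
  haveI := Fintype.ofFinite (zpowers x →* ℂˣ)
  obtain ⟨y, -, hy⟩ := h.exists_notMem
  choose a ha using fun ψ : zpowers x →* ℂˣ => (hη.comp (zpowers x).subtype).classInner_int
    (isIrrCharacter_linear ψ).isGeneralizedCharacter
  have ha' : ∀ ψ, classInner (fun u : zpowers x => η u) (linF ψ) = a ψ := ha
  have h1 : (n : ℤ) = ∑ ψ, a ψ := by
    have := apply_eq_sum_linear xcomm (fun u : zpowers x => η u) 1
    simp only [ha', map_one, Units.val_one, mul_one, OneMemClass.coe_one, hn] at this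
    exact_mod_cast this
  have h2 : c = a 1 - a σ := by
    rw [classInner_indFun_left _ hη.isClassFunction, oneSub, classInner_sub_left, ← conj_classInner,
      ← conj_classInner _ (linF σ), ha', ha', map_intCast, map_intCast] at hc
    exact_mod_cast hc.symm
  have h3 : ∀ ψ, a (ψ.comp (h.tau y).toMonoidHom) = a ψ := fun ψ => by
    apply Int.cast_injective (α := ℂ)
    rw [← ha', ← ha', ← classInner_comp_equiv (h.tau y) _ (linF ψ)]
    congr 1
    funext u
    rw [h.coe_tau, hη.isClassFunction.conj_eq']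
  have h4 : σ ≠ 1 := by rintro rfl; norm_num at hσ
  have h5 : ∑ ψ ∈ Finset.univ \ {1, σ}, (a ψ : ZMod 2) = 0 :=
    Finset.sum_involution (fun ψ _ => ψ.comp (h.tau y).toMonoidHom)
      (fun ψ _ => by rw [h3, CharTwo.add_self_eq_zero])
      (fun ψ hψ _ e => by simpa using (Finset.mem_sdiff.1 hψ).2 (by simpa using (h.fixed_iff hy hσ).1 e))
      (fun ψ hψ => by
        have : (ψ.comp (h.tau y).toMonoidHom).comp (h.tau y).toMonoidHom = ψ :=
          MonoidHom.ext fun u => congrArg ψ (h.tau_tau hy u)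
        simp only [Finset.mem_sdiff, Finset.mem_univ, true_and, Finset.mem_insert,
          Finset.mem_singleton, ← h.fixed_iff hy hσ] at hψ ⊢
        exact fun e => hψ (this.symm.trans e).symm)
      fun ψ _ => MonoidHom.ext fun u => congrArg ψ (h.tau_tau hy u)
  have h6 : ((n : ℤ) : ZMod 2) = c := by
    rw [h1, h2, ← Finset.sum_sdiff (Finset.subset_univ {1, σ}), Finset.sum_pair h4.symm]
    push_cast
    rw [h5, zero_add, CharTwo.sub_eq_add]
  rw [ZMod.intCast_eq_intCast_iff_dvd_sub] at h6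
  rw [Int.odd_iff]
  omega

theorem norm_sigma [Fintype (zpowers x)] {σ : zpowers x →* ℂˣ} (hσ : (σ ⟨x, mem_zpowers x⟩ : ℂ) = -1) :
    classInner (indFun (zpowers x) (oneSub σ)) (indFun (zpowers x) (oneSub σ)) = 4 := by
  classical
  obtain ⟨y, -, hy⟩ := h.exists_notMem
  have h4 : σ ≠ 1 := by rintro rfl; norm_num at hσ
  rw [h.inner_ind hy, show (fun u => oneSub σ (h.tau y u)) = oneSub σ from funext fun u => by
    rw [oneSub_apply, oneSub_apply, ← DFunLike.congr_fun ((h.fixed_iff hy hσ).2 (.inr rfl)) u]; rfl,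
    classInner_oneSub h4 h4, if_pos rfl]
  norm_num

theorem sigma_supp {σ : zpowers x →* ℂˣ} (hσ : (σ ⟨x, mem_zpowers x⟩ : ℂ) = -1) {a : A}
    (ha : x ∉ zpowers a) : indFun (zpowers x) (oneSub σ) a = 0 := by
  obtain ⟨y, -, hy⟩ := h.exists_notMem
  by_cases h1 : a ∈ zpowers x
  · have h2 : σ ⟨a, h1⟩ = 1 := by
      obtain ⟨i, rfl⟩ := (mem_powers_iff_mem_zpowers.2 h1 : a ∈ Submonoid.powers x)
      obtain ⟨j, rfl | rfl⟩ := i.even_or_odd'
      · refine Units.ext ?_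
        rw [show (⟨x ^ (2 * j), h1⟩ : zpowers x) = ⟨x, mem_zpowers x⟩ ^ (2 * j) from rfl, map_pow,
          Units.val_pow_eq_pow_val, hσ, pow_mul]
        simp
      · refine absurd (mem_zpowers_pow_iff.2 ?_) ha
        rw [h.ord]
        exact Nat.Coprime.pow_right _ (by simp)
    have h3 := DFunLike.congr_fun ((h.fixed_iff hy hσ).2 (.inr rfl)) ⟨a, h1⟩
    rw [h.ind_apply hy _ ⟨a, h1⟩, oneSub_apply, oneSub_apply,
      show σ (h.tau y ⟨a, h1⟩) = _ from h3, h2]
    simp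
  · exact h.ind_notMem _ h1

end MC

end chr

theorem four_arith {ι : Type*} [DecidableEq ι] {s H : Finset ι} {c : ι → ℤ} (hH : H ⊆ s)
    (hne : H.Nonempty) (h4 : ∑ i ∈ s, c i * c i = 4) (ho : ∀ i ∈ s, Odd (c i) ↔ i ∈ H) :
    H.card = 4 ∧ (∀ i ∈ H, c i = 1 ∨ c i = -1) ∧ ∀ i ∈ s, i ∉ H → c i = 0 := by
  rw [← Finset.sum_sdiff hH] at h4
  have h1 : ∀ i ∈ H, 0 ≤ c i * c i - 1 ∧ 4 ∣ c i * c i - 1 := fun i hi => by
    obtain ⟨m, hm⟩ := (ho i (hH hi)).2 hi
    exact ⟨by rw [hm]; rcases le_or_gt 0 m with h | h <;> nlinarith, m * m + m, by rw [hm]; ring⟩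
  have h2 : ∀ i ∈ s \ H, 4 ∣ c i * c i := fun i hi => by
    obtain ⟨m, hm⟩ := Int.not_odd_iff_even.1 fun e =>
      (Finset.mem_sdiff.1 hi).2 ((ho i (Finset.mem_sdiff.1 hi).1).1 e)
    exact ⟨m * m, by rw [hm]; ring⟩
  have h3 : ∑ i ∈ H, (c i * c i - 1) = ∑ i ∈ H, c i * c i - H.card := by
    simp [Finset.sum_sub_distrib]
  have h5 := Finset.sum_nonneg fun i hi => (h1 i hi).1
  have h6 := Finset.dvd_sum fun i hi => (h1 i hi).2
  have h7 := Finset.dvd_sum h2
  have h8 : 0 ≤ ∑ i ∈ s \ H, c i * c i := Finset.sum_nonneg fun i _ => mul_self_nonneg _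
  have h9 := hne.card_pos
  have h10 : H.card = 4 := by omega
  refine ⟨h10, fun i hi => mul_self_eq_one_iff.1 (sub_eq_zero.1 ?_), fun i hi hi' => mul_self_eq_zero.1 ?_⟩
  · exact (Finset.sum_eq_zero_iff_of_nonneg fun i hi => (h1 i hi).1).1 (by omega) i hi
  · exact (Finset.sum_eq_zero_iff_of_nonneg fun i _ => mul_self_nonneg (c i)).1 (by omega) i
      (Finset.mem_sdiff.2 ⟨hi, hi'⟩)

section col

variable {p : ℕ} [Fact p.Prime] {M : Ideal AlgInt} [M.IsMaximal]
  {G : Type*} [Group G] [Fintype G] {D T : Subgroup G} [Fintype T] [Fintype D]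

variable (p M) in
/-- The data of the local isometry. -/
structure Iso (B : Set (IrrCharacter G)) (h1 : D ≤ T) (t : G) (b : Set (IrrCharacter T))
    (ψ₀ : IrrCharacter T) (J : (D → ℂ) →ₗ[ℂ] T → ℂ) : Prop where
  hM : IsPModular p M
  hT : ∀ g, g ∈ T ↔ g * t * g⁻¹ ∈ zpowers t
  ht : ∃ k, orderOf t = p ^ k
  ind : IsInducedBlock M T b B
  dfg : IsDefectGroup p M b (D.subgroupOf T)
  nj : NJ p b (inclusion h1) ψ₀ J

/-- admissible generalized characters -/
def Ad (t : G) (α : D → ℂ) : Prop :=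
  IsGeneralizedCharacter D α ∧ ∀ a : D, t ∉ zpowers (a : G) → α a = 0

omit [Fintype D] in
theorem Ad.sub {t : G} {α β : D → ℂ} (h : Ad t α) (h' : Ad t β) : Ad t (α - β) :=
  ⟨h.1.sub h'.1, fun a ha => by rw [Pi.sub_apply, h.2 a ha, h'.2 a ha, sub_zero]⟩

/-- multiplicities in the induced generalized character -/
noncomputable def co (J : (D → ℂ) →ₗ[ℂ] T → ℂ) (α : D → ℂ) (χ : IrrCharacter G) : ℤ :=
  ⌊(classInner (indFun T (J α)) χ.1).re⌋

namespace Iso

variable {B : Set (IrrCharacter G)} {h1 : D ≤ T} {t : G} {b : Set (IrrCharacter T)}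
  {ψ₀ : IrrCharacter T} {J : (D → ℂ) →ₗ[ℂ] T → ℂ} (h : Iso p M B h1 t b ψ₀ J) {α β : D → ℂ}
include h

theorem sup (hα : Ad t α) : Sup t (J α) := h.nj.sup h.hT h.ht hα.1.isClassFunction hα.2

theorem co_cast (hα : Ad t α) (χ : IrrCharacter G) :
    (co J α χ : ℂ) = classInner (indFun T (J α)) χ.1 := by
  obtain ⟨n, hn⟩ := (h.nj.gen α hα.1).indFun.classInner_int χ.2.isGeneralizedCharacter
  simp [co, hn]

theorem co_eta (hα : Ad t α) (χ : IrrCharacter G) :
    (co J α χ : ℂ) = classInner α (eta J fun c : T => χ.1 c) := by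
  rw [h.co_cast hα, classInner_indFun_left _ χ.2.isClassFunction, NJ.inner_eta hα.1.isClassFunction]

theorem co_sub (hα : Ad t α) (hβ : Ad t β) (χ : IrrCharacter G) :
    co J (α - β) χ = co J α χ - co J β χ := by
  apply Int.cast_injective (α := ℂ)
  rw [Int.cast_sub, h.co_eta hα, h.co_eta hβ, h.co_eta (hα.sub hβ), classInner_sub_left]

theorem blockPart_J (hα : IsClassFunction D α) : blockPart b (J α) = J α := by
  rw [h.nj.blockPart_eq, eta]
  simp only [fun θ : IrrCharacter D => h.nj.inner α θ.1 hα θ.2.isClassFunction]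
  rw [← hα.eq_sum]

theorem co_zero (hα : Ad t α) {χ : IrrCharacter G} (hχ : χ ∉ B) : co J α χ = 0 := by
  apply Int.cast_injective (α := ℂ)
  rw [h.co_cast hα, (h.sup hα).inner_eq_zero h.hT h.hM h.ht h.ind
    (h.blockPart_J hα.1.isClassFunction) hχ, Int.cast_zero]

theorem ind_eq [DecidablePred (· ∈ B)] (hα : Ad t α) :
    indFun T (J α) = ∑ χ with χ ∈ B, (co J α χ : ℂ) • χ.1 := by
  rw [(isClassFunction_indFun (J α)).eq_sum, Finset.sum_filter]
  refine Finset.sum_congr rfl fun χ _ => ?_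
  rw [← h.co_cast hα]
  split_ifs with hχ
  · rfl
  · rw [h.co_zero hα hχ, Int.cast_zero, zero_smul]

theorem sum_co [DecidablePred (· ∈ B)] (hα : Ad t α) (hβ : Ad t β) :
    ((∑ χ with χ ∈ B, co J α χ * co J β χ : ℤ) : ℂ) = classInner α β := by
  rw [← h.nj.inner α β hα.1.isClassFunction hβ.1.isClassFunction,
    ← (h.sup hα).inner h.hT (h.sup hβ), h.ind_eq hα, classInner_sum_left, Int.cast_sum]
  refine Finset.sum_congr rfl fun χ _ => ?_
  rw [classInner_smul_left, ← conj_classInner, ← h.co_cast hβ, map_intCast, Int.cast_mul]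

theorem ind_eq_zero {g : G} (hα : Ad t α) (h0 : ∀ (a : D) w, w * pp p g * w⁻¹ = a → α a = 0) :
    indFun T (J α) g = 0 :=
  indFun_eq_zero_of_isConj _ fun y hy => by
    rw [h.nj.app α y 0 fun a ha => ?_, zero_mul]
    obtain ⟨w, hw⟩ := isConj_iff.1 hy
    obtain ⟨v, hv⟩ := isConj_iff.1 ha
    refine h0 a (v * w) ?_
    rw [show (a : G) = (inclusion h1 a : T) from rfl, ← hv, coe_mul, coe_mul, coe_inv, coe_pp, ← hw,
      pp_conj]
    group

end Iso

end col

section four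

variable {M : Ideal AlgInt} [M.IsMaximal] [Fact (Nat.Prime 2)]
  {G : Type*} [Group G] [Fintype G] {D T : Subgroup G} [Fintype T] [Fintype D]
  {B : Set (IrrCharacter G)} {h1 : D ≤ T} {t x z : G} {k : ℕ} {b : Set (IrrCharacter T)}
  {ψ₀ : IrrCharacter T} {J : (D → ℂ) →ₗ[ℂ] T → ℂ}

omit [Fintype D] in
theorem mem_zpowers_coe {a c : D} : (a : G) ∈ zpowers (c : G) ↔ a ∈ zpowers c :=
  mem_zpowers_map_iff D.subtype_injective

theorem MC.ad_sigma (h : MC D x z k) (ht : t ∈ zpowers x) {σ : zpowers (⟨x, h.mem⟩ : D) →* ℂˣ}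
    (hσ : (σ ⟨_, mem_zpowers _⟩ : ℂ) = -1) : Ad t (indFun (zpowers (⟨x, h.mem⟩ : D)) (oneSub σ)) :=
  ⟨(isGeneralizedCharacter_oneSub σ).indFun, fun _ ha => h.top.sigma_supp hσ fun e =>
    ha (zpowers_le.2 (mem_zpowers_coe.2 e) ht)⟩

theorem Iso.four [DecidablePred (· ∈ B)] [DecidableEq (IrrCharacter G)] (hI : Iso 2 M B h1 t b ψ₀ J)
    (h : MC D x z k) (ht : t ∈ zpowers x) {σ : zpowers (⟨x, h.mem⟩ : D) →* ℂˣ}
    (hσ : (σ ⟨_, mem_zpowers _⟩ : ℂ) = -1) {c : IrrCharacter G → ℤ}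
    (hc : c = co J (indFun (zpowers (⟨x, h.mem⟩ : D)) (oneSub σ))) :
    (Finset.univ.filter fun χ => χ ∈ B ∧ blockHeight 2 B χ.1 = 0).card = 4 ∧
      (∀ χ ∈ B, blockHeight 2 B χ.1 = 0 → c χ = 1 ∨ c χ = -1) ∧
      ∀ χ ∈ B, blockHeight 2 B χ.1 ≠ 0 → c χ = 0 := by
  haveI := Fintype.ofFinite (zpowers (⟨x, h.mem⟩ : D))
  have ha := h.ad_sigma ht hσ
  obtain ⟨χ₀, h₀, h0⟩ := exists_blockHeight_eq_zero (p := 2) hI.ind.2.1.nonempty
  have := four_arith (s := Finset.univ.filter (· ∈ B)) (c := c)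
    (H := Finset.univ.filter fun χ => χ ∈ B ∧ blockHeight 2 B χ.1 = 0)
    (fun χ => by simp +contextual) ⟨χ₀, by simp [h₀, h0]⟩ (by
      apply Int.cast_injective (α := ℂ)
      rw [hc, hI.sum_co ha ha, h.top.norm_sigma hσ]; norm_num) fun χ hχ => by
      have hχ' : χ ∈ B := by simpa using hχ
      obtain ⟨n, hn, hn'⟩ := hI.nj.height_iff hI.hM (inclusion_injective h1) hI.ind hχ'
      rw [h.top.parity hσ (hI.nj.isGen_eta (χ.2.isCharacter.restrict T)) hn
        (hc ▸ (hI.co_eta ha χ).symm), ← hn']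
      simp [hχ']
  exact ⟨this.1, fun χ hχ e => this.2.1 χ (by simp [hχ, e]),
    fun χ hχ e => this.2.2 χ (by simp [hχ]) (by simp [e])⟩

end four

end Cfsg.Lib.Block2.Tame
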