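import Cfsg.Agent.Lib.Block2.Tame3

/-! Products of two involutions; blocks with dihedral defect group. -/

set_option autoImplicit false
set_option linter.dupNamespace false
set_option linter.unusedSectionVars false
set_option linter.style.haveILetI false

open Cfsg Cfsg.Lib.Block Cfsg.Lib.Block2 Cfsg.Lib.Char Cfsg.Lib.Amalg MonoidAlgebra Subgroup
open Cfsg.Lib.Small
open scoped ComplexConjugate

namespace Cfsg.Lib.Block2.Tame

variable {M : Ideal AlgInt} [M.IsMaximal] [Fact (Nat.Prime 2)]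
  {G : Type*} [Group G] [Fintype G] {T : Subgroup G} [Fintype T] {z : G}

section cs

theorem mul_self_of_isConj (hz : orderOf z = 2) {t : G} (h : IsConj z t) : t * t = 1 := by
  obtain ⟨w, rfl⟩ := isConj_iff.1 h
  rw [← pow_two, ← hz, ← ord_conj w z, pow_orderOf_eq_one]

theorem charExt_ind_sq (hT : T = centralizer {z}) (hz : orderOf z = 2) {γ : T → ℂ} (hγ : Sup z γ) :
    charExt (indFun T γ) (classSum ℂ z * classSum ℂ z) =
      T.index * charExt γ (res T (classSum ℂ z) * res T (classSum ℂ z)) := by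
  classical
  rw [charExt_indFun γ ((isCen_classSum z).mul (isCen_classSum z)), charExt_apply, charExt_apply]
  refine congrArg _ (Finset.sum_congr rfl fun g _ => ?_)
  by_cases hg : z ∈ zpowers (g : G)
  swap
  · rw [hγ.2 g hg, mul_zero, mul_zero]
  rw [coeff_res, coeff_mul_sum, coeff_mul_sum, ← Finset.sum_filter_of_ne (p := (· ∈ T)) fun t _ e => ?_,
    Finset.sum_subtype (p := (· ∈ T)) _ (by simp)]
  · rfl
  rw [coeff_classSum, coeff_classSum] at e
  have h1 : IsConj z t := by_contra fun h => e (by rw [if_neg h, zero_mul])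
  have h2 : IsConj z (t⁻¹ * g) := by_contra fun h => e (by rw [if_neg h, mul_zero])
  have h3 := mul_self_of_isConj hz h1
  have h4 := mul_self_of_isConj hz h2
  rw [inv_eq_of_mul_eq_one_left h3] at h4
  have h5 : t * g * t⁻¹ = (g : G)⁻¹ := by
    rw [inv_eq_of_mul_eq_one_left h3, eq_inv_iff_mul_eq_one, mul_assoc, h4]
  obtain ⟨i, hi⟩ := hg
  rw [hT, mem_cent_iff_two hz, ← hi]
  simp only [← conj_zpow, h5, inv_zpow]
  exact inv_mem (mem_zpowers _)

theorem charExt_res_classSum (hzT : z ∈ T) {ξ : T → ℂ} (h : ∀ t : T, IsConj z t → t.1 ≠ z → ξ t = 0) :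
    charExt ξ (res T (classSum ℂ z)) = ξ ⟨z, hzT⟩ := by
  classical
  rw [charExt_apply, Finset.sum_eq_single ⟨z, hzT⟩ (fun t _ e => ?_) (by simp), coeff_res,
    coeff_classSum_of_isConj (IsConj.refl z), one_mul]
  rw [coeff_res, coeff_classSum]
  split_ifs with h1
  · rw [h t h1 fun e' => e (Subtype.ext e'), mul_zero]
  · exact zero_mul _

theorem height_of_ind (hT : T = centralizer {z}) (hz : orderOf z = 2) {b : Set (IrrCharacter T)}
    {B : Set (IrrCharacter G)} (hM : IsPModular 2 M) (hi : IsInducedBlock M T b B)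
    (hd : blockDefect 2 b = blockDefect 2 B) {ξ ξ' : IrrCharacter T} (hξ : ξ ∈ b)
    (hs : Sup z (ξ.1 - ξ'.1)) (h0 : ∀ t : T, IsConj z t → t.1 ≠ z → ξ.1 t = 0 ∧ ξ'.1 t = 0)
    (hne : ∀ t : T, t.1 = z → ξ.1 t ≠ ξ'.1 t) {χ χ' : IrrCharacter G} (hχ : χ ∈ B) {c : ℂ}
    (hc : c * c = 1) (e : indFun T (ξ.1 - ξ'.1) = c • (χ.1 - χ'.1)) :
    blockHeight 2 B χ.1 = blockHeight 2 b ξ.1 := by
  have hzT : z ∈ T := hT ▸ mem_centralizer_singleton_iff.2 rfl
  have hc0 : c ≠ 0 := left_ne_zero_of_mul_eq_one hc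
  have hz1 : z ∉ zpowers ((1 : T) : G) := by
    simpa using fun e => by rw [e, orderOf_one] at hz; omega
  have h1 : ξ.1 1 = ξ'.1 1 := sub_eq_zero.1 (hs.2 1 hz1)
  have h2 : χ.1 1 = χ'.1 1 := by
    have := congrFun e 1
    rw [indFun_one, hs.2 1 hz1, mul_zero] at this
    exact sub_eq_zero.1 ((mul_eq_zero.1 this.symm).resolve_left hc0)
  have h3 : ∀ θ : IrrCharacter T, θ.1 ⟨z, hzT⟩ * θ.1 ⟨z, hzT⟩ = θ.1 1 * θ.1 1 := fun θ => by
    rcases θ.2.central_involution (z := ⟨z, hzT⟩) (mem_center_iff.2 fun g => Subtype.ext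
      (mem_centralizer_singleton_iff.1 (hT ▸ g.2))) (Subtype.ext (mul_self_of_isConj hz (.refl z)))
      with h | h <;> rw [← mul_one (⟨z, hzT⟩ : T), h] <;> ring
  have h4 : ∀ θ : IrrCharacter T, (∀ t : T, IsConj z t → t.1 ≠ z → θ.1 t = 0) →
      charExt θ.1 (res T (classSum ℂ z) * res T (classSum ℂ z)) = θ.1 1 := fun θ h => by
    have := θ.2.omega_mul ((isCen_classSum z).res T) (res T (classSum ℂ z))
    simp only [omega_apply, charExt_res_classSum hzT h] at this
    have h5 := θ.2.apply_one_ne_zero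
    field_simp at this
    exact mul_right_cancel₀ h5 (this.trans (by rw [pow_two, h3]))
  have h5 : ∀ θ : IrrCharacter G, charExt θ.1 (classSum ℂ z * classSum ℂ z) =
      centralChar θ.1 z * centralChar θ.1 z * θ.1 1 := fun θ => by
    rw [← omega_classSum θ.2.isClassFunction, ← θ.2.omega_mul (isCen_classSum z), omega_apply,
      div_mul_cancel₀ _ θ.2.apply_one_ne_zero]
  have h6 := charExt_ind_sq hT hz hs
  rw [e, charExt_smul, charExt_sub, charExt_sub, h4 ξ fun t a a' => (h0 t a a').1,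
    h4 ξ' fun t a a' => (h0 t a a').2, h1, sub_self, mul_zero, h5, h5, centralChar, centralChar, ← h2] at h6
  have h7 := congrFun e z
  rw [hs.indFun_apply (fun g => by rw [hT, mem_cent_iff_two hz]) ⟨z, hzT⟩ (mem_zpowers z)] at h7
  simp only [Pi.sub_apply, Pi.smul_apply, smul_eq_mul] at h7
  have hI : ((centralizer {z}).index : ℂ) ≠ 0 := Nat.cast_ne_zero.2 index_ne_zero_of_finite
  have h8 := χ.2.apply_one_ne_zero
  have h9 : χ'.1 z = -χ.1 z := by
    refine (mul_self_eq_mul_self_iff.1 ?_).resolve_left fun e' => hne ⟨z, hzT⟩ rfl (by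
      rw [← sub_eq_zero, h7, e', sub_self, mul_zero])
    field_simp at h6
    refine mul_left_cancel₀ (mul_ne_zero hc0 (pow_ne_zero 2 hI)) ?_
    linear_combination -h6
  have h10 : ξ'.1 ⟨z, hzT⟩ = -ξ.1 ⟨z, hzT⟩ :=
    (mul_self_eq_mul_self_iff.1 (by rw [h3, h3, h1])).resolve_left fun e' => hne _ rfl e'.symm
  have h11 : χ.1 z * χ.1 z = ξ.1 1 * ξ.1 1 := by
    rw [h9, h10] at h7
    rw [← h3]
    linear_combination (-(χ.1 z * c) / 2 - ξ.1 ⟨z, hzT⟩ / 2) * h7 - χ.1 z ^ 2 * hc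
  have h12 : ¬ MemLocalIdeal M (centralChar χ.1 z) := fun h => by
    have := (hi.2.2 ξ hξ χ hχ z).add h
    rw [sub_add_cancel, ← omega_res_classSum, omega_apply,
      charExt_res_classSum hzT fun t a a' => (h0 t a a').1] at this
    exact not_memLocalIdeal_of_pow_eq_one two_ne_zero (by
      rw [div_pow, pow_two, h3, pow_two, div_self (mul_self_ne_zero.2 ξ.2.apply_one_ne_zero)]) this
  obtain ⟨u, hu, h13⟩ : ∃ u : ℂ, u * u = 1 ∧
      centralChar χ.1 z = u * ((T.index * charDegree ξ.1 : ℕ) / charDegree χ.1) := by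
    rcases mul_self_eq_mul_self_iff.1 h11 with h | h
    exacts [⟨1, one_mul 1, by rw [centralChar, h, ← hT]; push_cast; rw [irr_cast_deg, irr_cast_deg, one_mul]⟩,
      ⟨-1, by ring, by rw [centralChar, h, ← hT]; push_cast; rw [irr_cast_deg, irr_cast_deg]; ring⟩]
  have hu' : IsIntegral ℤ u := by
    rcases mul_self_eq_one_iff.1 hu with rfl | rfl
    exacts [isIntegral_one, isIntegral_one.neg]
  obtain ⟨m, hm⟩ := dvd_of_isIntegral_div (a := T.index * charDegree ξ.1) χ.2.charDegree_ne_zero (by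
    have := hu'.mul (Block.Cfsg.IsIrrCharacter.isIntegral_centralChar χ.2 z)
    rwa [h13, ← mul_assoc, hu, one_mul] at this)
  have h14 : ¬ 2 ∣ m := fun h => h12 (by
    rw [h13, hm, Nat.cast_mul, mul_div_cancel_left₀ _ (Nat.cast_ne_zero.2 χ.2.charDegree_ne_zero)]
    exact ((memLocalIdeal_natCast_iff hM m).2 h).mul_left (memLocalRing_of_isIntegral hu'))
  have h15 := congrArg (·.factorization 2) hm
  have h16 := factorization_deg_add_defect 2 hχ
  have h17 := factorization_deg_add_defect 2 hξ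
  simp only [Nat.factorization_mul index_ne_zero_of_finite ξ.2.charDegree_ne_zero,
    Nat.factorization_mul χ.2.charDegree_ne_zero (show m ≠ 0 by rintro rfl; simp at h14),
    Finsupp.add_apply, Nat.factorization_eq_zero_of_not_dvd h14] at h15
  rw [← T.index_mul_card, Nat.factorization_mul index_ne_zero_of_finite Nat.card_pos.ne',
    Finsupp.add_apply] at h16
  omega

end cs

theorem one_arith {ι : Type*} {s : Finset ι} {c : ι → ℤ} (h : ∑ i ∈ s, c i * c i = 1) :
    ∃ f ∈ s, c f * c f = 1 ∧ ∀ i ∈ s, i ≠ f → c i = 0 := by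
  classical
  obtain ⟨f, hf, h0⟩ := Finset.exists_ne_zero_of_sum_ne_zero (h.trans_ne one_ne_zero)
  rw [← Finset.add_sum_erase _ _ hf] at h
  have h1 := Finset.sum_nonneg fun i (_ : i ∈ s.erase f) => mul_self_nonneg (c i)
  have h2 := mul_self_nonneg (c f)
  exact ⟨f, hf, by omega, fun i hi e => mul_self_eq_zero.1 ((Finset.sum_eq_zero_iff_of_nonneg
    fun i _ => mul_self_nonneg (c i)).1 (by omega) i (Finset.mem_erase.2 ⟨e, hi⟩))⟩

theorem three_arith {ι : Type*} [DecidableEq ι] {s H : Finset ι} {c w : ι → ℤ} (hH : H ⊆ s)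
    (hw : ∀ i ∈ H, w i = 1 ∨ w i = -1) (hw' : ∀ i ∈ s \ H, w i = 0)
    (h3 : ∑ i ∈ s, c i * c i = 3) (h2 : ∑ i ∈ s, c i * w i = 2) :
    (∀ i ∈ H, c i = 0 ∨ c i = w i) ∧ ∑ i ∈ H, c i * c i = 2 ∧ ∑ i ∈ s \ H, c i * c i = 1 := by
  rw [← Finset.sum_sdiff hH] at h3 h2
  rw [Finset.sum_eq_zero fun i hi => by rw [hw' i hi, mul_zero], zero_add] at h2
  have h1 : ∀ i ∈ H, 0 ≤ c i * c i - c i * w i ∧ 2 ∣ c i * c i - c i * w i := fun i hi => by
    rcases hw i hi with e | e <;> rw [e]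
    · exact ⟨by rcases le_or_gt (c i) 0 with h | h <;> nlinarith, by
        simpa [mul_sub] using (Int.even_mul_pred_self (c i)).two_dvd⟩
    · exact ⟨by rcases le_or_gt 0 (c i) with h | h <;> nlinarith, by
        simpa [mul_add] using (Int.even_mul_succ_self (c i)).two_dvd⟩
  have h4 := Finset.sum_nonneg fun i hi => (h1 i hi).1
  have h5 := Finset.dvd_sum fun i hi => (h1 i hi).2
  have h6 := Finset.sum_nonneg fun i (_ : i ∈ s \ H) => mul_self_nonneg (c i)
  have h7 := Finset.sum_sub_distrib (s := H) (fun i => c i * c i) fun i => c i * w i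
  refine ⟨fun i hi => ?_, by omega, by omega⟩
  have := (Finset.sum_eq_zero_iff_of_nonneg fun i hi => (h1 i hi).1).1 (by omega) i hi
  rw [← mul_sub, mul_eq_zero, sub_eq_zero] at this
  exact this

namespace MC

variable {A : Type*} [Group A] [Fintype A] {x z y : A} {k : ℕ} (h : MC (⊤ : Subgroup A) x z k)
  (hd : ∀ a, a ∉ zpowers x → a * a = 1)
include h hd

theorem tau_eq (hy : y ∉ zpowers x) (u : zpowers x) : h.tau y u = u⁻¹ := Subtype.ext (by
  have := hd (u * y) (by rwa [mul_mem_cancel_left u.2])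
  rw [h.coe_tau, inv_eq_of_mul_eq_one_left (hd y hy), coe_inv, eq_inv_iff_mul_eq_one, ← mul_left_cancel_iff (a := u.1)]
  simpa only [mul_assoc, mul_one, one_mul] using congrArg (· * u.1) this)

theorem ind_inv (θ : zpowers x → ℂ) (u : zpowers x) : indFun (zpowers x) θ u = θ u + θ u⁻¹ := by
  obtain ⟨y, -, hy⟩ := h.exists_notMem
  rw [h.ind_apply hy, h.tau_eq hd hy]

theorem al_inv (ψ : zpowers x →* ℂˣ) :
    indFun (zpowers x) (oneSub ψ⁻¹) = indFun (zpowers x) (oneSub ψ) := funext fun a => by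
  by_cases e : a ∈ zpowers x
  · rw [h.ind_inv hd _ ⟨a, e⟩, h.ind_inv hd _ ⟨a, e⟩]
    simp only [oneSub_apply, MonoidHom.inv_apply, map_inv, inv_inv, add_comm]
  · rw [h.ind_notMem _ e, h.ind_notMem _ e]

theorem inv_eq_iff {σ ψ : zpowers x →* ℂˣ} (hσ : (σ ⟨x, mem_zpowers x⟩ : ℂ) = -1) :
    ψ⁻¹ = ψ ↔ ψ = 1 ∨ ψ = σ := by
  obtain ⟨y, -, hy⟩ := h.exists_notMem
  rw [← h.fixed_iff hy hσ, show ψ.comp (h.tau y).toMonoidHom = ψ⁻¹ from MonoidHom.ext fun u => by
    simp [h.tau_eq hd hy]]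

variable [Fintype (zpowers x)] [DecidableEq (zpowers x →* ℂˣ)]

theorem inner_al {ψ φ : zpowers x →* ℂˣ} (hψ : ψ ≠ 1) (hφ : φ ≠ 1) :
    classInner (indFun (zpowers x) (oneSub ψ)) (indFun (zpowers x) (oneSub φ)) =
      (2 + (if ψ = φ then 1 else 0) + (if ψ = φ⁻¹ then 1 else 0) : ℤ) := by
  obtain ⟨y, -, hy⟩ := h.exists_notMem
  rw [h.inner_ind hy, show (fun u => oneSub φ (h.tau y u)) = oneSub φ⁻¹ from funext fun u => by
    simp [h.tau_eq hd hy, oneSub_apply], classInner_oneSub hψ hφ, classInner_oneSub hψ ((inv_ne_one (a := φ)).2 hφ)]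
  split_ifs <;> norm_num

theorem irr_ind {ψ : zpowers x →* ℂˣ} (hψ : ψ⁻¹ ≠ ψ) :
    IsIrrCharacter A (indFun (zpowers x) (linF ψ)) := by
  obtain ⟨y, -, hy⟩ := h.exists_notMem
  refine (isIrrCharacter_linear ψ).isCharacter.indFun.isIrrCharacter_of_norm_one ?_
  rw [h.inner_ind hy, show (fun u => (ψ (h.tau y u) : ℂ)) = linF ψ⁻¹ from funext fun u => by
    simp [h.tau_eq hd hy, linF], classInner_linF, classInner_linF, if_pos rfl, if_neg hψ.symm, add_zero]

end MC

end Cfsg.Lib.Block2.Tame
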