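import Cfsg.Agent.Lib.Block2.Tame4

/-! The characters of a block with dihedral defect group. -/

set_option autoImplicit false
set_option linter.dupNamespace false
set_option linter.unusedSectionVars false
set_option linter.style.haveILetI false

open Cfsg Cfsg.Lib.Block Cfsg.Lib.Block2 Cfsg.Lib.Char Cfsg.Lib.Amalg MonoidAlgebra Subgroup
open Cfsg.Lib.Small
open scoped ComplexConjugate

namespace Cfsg.Lib.Block2.Tame

variable {M : Ideal AlgInt} [M.IsMaximal] [Fact (Nat.Prime 2)]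
  {G : Type*} [Group G] [Fintype G] {D T : Subgroup G} [Fintype T] {x z : G} {k : ℕ}
  {B : Set (IrrCharacter G)} {b : Set (IrrCharacter T)}

theorem ctr_int {p : ℕ} [Fact p.Prime] (hM : IsPModular p M) (hT : T = centralizer {z})
    (hz : ∃ k, orderOf z = p ^ k) (h : IsInducedBlock M T b B) (hd : blockDefect p b = blockDefect p B)
    {χ ψ : IrrCharacter G} (hχ : χ ∈ B) (hψ : ψ ∈ B) {n : ℤ} (hn : ctr p b z χ ψ = n) :
    (p : ℤ) ^ blockHeight p B ψ.1 ∣ n ∧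
      ((p : ℤ) ^ (blockHeight p B ψ.1 + 1) ∣ n ↔ blockHeight p B χ.1 ≠ 0) := by
  obtain ⟨h1, h2⟩ := ctr_major hM hT hz h hd hχ hψ
  have h0 : (p : ℤ) ^ blockHeight p B ψ.1 ≠ 0 := pow_ne_zero _ (Nat.cast_ne_zero.2 hM.1.ne_zero)
  obtain ⟨m, rfl⟩ := int_dvd_of_isIntegral_div h0 (a := n) (by simpa [hn] using h1)
  rw [hn, Int.cast_mul, Int.cast_pow, Int.cast_natCast, mul_div_cancel_left₀ _ (by exact_mod_cast h0),
    memLocalIdeal_intCast_iff hM] at h2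
  exact ⟨dvd_mul_right _ _, by rw [pow_succ, Int.mul_dvd_mul_iff_left h0, h2]⟩

open scoped Classical in
/-- the members of a block -/
noncomputable def BF (B : Set (IrrCharacter G)) : Finset (IrrCharacter G) := {χ | χ ∈ B}

open scoped Classical in
/-- the members of height zero -/
noncomputable def H0 (B : Set (IrrCharacter G)) : Finset (IrrCharacter G) :=
  {χ | χ ∈ B ∧ blockHeight 2 B χ.1 = 0}

open scoped Classical in
/-- the members of positive height -/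
noncomputable def H1 (B : Set (IrrCharacter G)) : Finset (IrrCharacter G) := BF B \ H0 B

@[simp] theorem mem_BF {χ : IrrCharacter G} : χ ∈ BF B ↔ χ ∈ B := by simp [BF]

@[simp] theorem mem_H0 {χ : IrrCharacter G} : χ ∈ H0 B ↔ χ ∈ B ∧ blockHeight 2 B χ.1 = 0 := by
  simp [H0]

@[simp] theorem mem_H1 {χ : IrrCharacter G} : χ ∈ H1 B ↔ χ ∈ B ∧ blockHeight 2 B χ.1 ≠ 0 := by
  simp +contextual [H1]

theorem H0_subset : H0 B ⊆ BF B := fun _ => by simp +contextual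

theorem sum_BF {β : Type*} [AddCommMonoid β] (f : IrrCharacter G → β) :
    ∑ χ ∈ BF B, f χ = ∑ χ ∈ H0 B, f χ + ∑ χ ∈ H1 B, f χ := by
  classical
  rw [← Finset.sum_sdiff H0_subset, add_comm]; rfl

theorem card_BF : Nat.card B = (H0 B).card + (H1 B).card := by
  classical
  rw [card_block_eq, Finset.card_eq_sum_ones, Finset.card_eq_sum_ones, Finset.card_eq_sum_ones]
  exact sum_BF (B := B) fun _ => 1

/-- an integral combination of the members of `B` -/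
noncomputable def cf (B : Set (IrrCharacter G)) (c : IrrCharacter G → ℤ) : G → ℂ :=
  ∑ χ ∈ BF B, (c χ : ℂ) • χ.1

/-- The column of a generator of the cyclic subgroup. -/
structure WC (B : Set (IrrCharacter G)) (k : ℕ) (w : IrrCharacter G → ℤ) : Prop where
  four : (H0 B).card = 4
  w1 : ∀ χ ∈ H0 B, w χ = 1 ∨ w χ = -1
  w0 : ∀ χ ∈ H1 B, w χ = 0
  wz : ∀ g, orderOf (pp 2 g) ≠ 2 ^ (k + 1) → cf B w g = 0

/-- The characters of a block with dihedral defect group. -/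
structure DH (B : Set (IrrCharacter G)) (k : ℕ) (w v t : IrrCharacter G → ℤ) : Prop
    extends WC B k w where
  v1 : ∀ χ ∈ H0 B, v χ = 0 ∨ v χ = w χ
  v2 : ∑ χ ∈ H0 B, v χ * v χ = 2
  ht : ∀ χ ∈ H1 B, blockHeight 2 B χ.1 = 1 ∧ t χ * t χ = 1 ∧
    ∀ g, ¬ 2 ∣ orderOf g → ∑ ψ ∈ H0 B, v ψ * ψ.1 g + t χ * χ.1 g = 0
  card : (H1 B).card + 1 = 2 ^ k

variable [Fintype D] {h1 : D ≤ T} {ψ₀ : IrrCharacter T} {J : (D → ℂ) →ₗ[ℂ] T → ℂ}

theorem Iso.ind_cf {p : ℕ} [Fact p.Prime] {t : G} (h : Iso p M B h1 t b ψ₀ J) {α : D → ℂ} (hα : Ad t α) :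
    indFun T (J α) = cf B (co J α) := by
  classical
  rw [h.ind_eq hα]; rfl

theorem Iso.exists_ctr (h : Iso 2 M B h1 z b ψ₀ J) (hT : T = centralizer {z}) (hz : orderOf z = 2)
    (hzD : z ∈ D) : ∃ r : ℤ, ∀ χ ψ : IrrCharacter G, ctr 2 b z χ ψ =
      eta J (fun c : T => χ.1 c) ⟨z, hzD⟩ * conj (eta J (fun c : T => ψ.1 c) ⟨z, hzD⟩) * r := by
  have hc : (⟨z, h1 hzD⟩ : T) ∈ center T := mem_center_iff.2 fun g => Subtype.ext
    (mem_centralizer_singleton_iff.1 (hT ▸ g.2))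
  have h2 : ∀ χ : IrrCharacter G, fsub 2 b z χ.1 = eta J (fun c : T => χ.1 c) ⟨z, hzD⟩ •
      reg 2 fun c => ψ₀.1 (⟨z, h1 hzD⟩ * c) := fun χ => funext fun c => by
    rw [← bset_EB h.ind.1.isBlockUnion, fsub_apply hT χ.2.isClassFunction, Pi.smul_apply]
    split_ifs with e
    · rw [reg_of_dvd _ e, smul_zero]
    rw [reg_of_not_dvd _ e, show z * c = (⟨z, h1 hzD⟩ * c : T) from rfl,
      bp_eq (χ.2.isCharacter.restrict T).isClassFunction, bset_EB h.ind.1.isBlockUnion,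
      h.nj.blockPart_eq]
    refine h.nj.app _ _ _ fun a ha => congrArg _ (Subtype.ext ?_)
    rw [pp_mul (mem_center_iff.1 hc c).symm ⟨1, by rw [← orderOf_coe, hz, pow_one]⟩ e] at ha
    obtain ⟨w, hw⟩ := isConj_iff.1 ha
    rw [mem_center_iff.1 hc w, mul_inv_cancel_right] at hw
    exact (congrArg Subtype.val hw).symm
  obtain ⟨a, ha, -⟩ := exists_contrib h.hM h.ind.1
  refine ⟨a ψ₀ ψ₀, fun χ ψ => ?_⟩
  rw [ctr, h2, h2, classInner_smul_left, classInner_smul_right, ha _ h.nj.mem, classInner_reg_right,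
    reg_reg]
  rcases ψ₀.2.central_involution hc (Subtype.ext (mul_self_of_isConj hz (.refl z))) with e | e <;>
    simp only [e]
  · ring
  · rw [show (fun g => -ψ₀.1 g) = (-1 : ℂ) • ψ₀.1 from funext fun g => by simp,
      show reg 2 ((-1 : ℂ) • ψ₀.1) = (-1 : ℂ) • reg 2 ψ₀.1 by
        simpa using reg_sum_smul {()} (fun _ => (-1 : ℂ)) fun _ => ψ₀.1,
      classInner_smul_left, classInner_smul_right]
    simp only [map_neg, map_one]
    ring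

theorem Iso.wc {t : G} (hI : Iso 2 M B h1 t b ψ₀ J) (h : MC D x z k) (ht : t ∈ zpowers x)
    {σ : zpowers (⟨x, h.mem⟩ : D) →* ℂˣ} (hσ : (σ ⟨_, mem_zpowers _⟩ : ℂ) = -1) :
    WC B k (co J (indFun (zpowers (⟨x, h.mem⟩ : D)) (oneSub σ))) := by
  classical
  obtain ⟨h2, h3, h4⟩ := hI.four h ht hσ rfl
  refine ⟨by convert h2 using 2; ext; simp, fun χ hχ => h3 χ (mem_H0.1 hχ).1 (mem_H0.1 hχ).2,
    fun χ hχ => h4 χ (mem_H1.1 hχ).1 (mem_H1.1 hχ).2, fun g hg => ?_⟩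
  rw [← hI.ind_cf (h.ad_sigma ht hσ)]
  refine hI.ind_eq_zero (h.ad_sigma ht hσ) fun a w e => ?_
  by_cases ha : a ∈ zpowers (⟨x, h.mem⟩ : D)
  · refine h.top.sigma_supp hσ fun e' => hg ?_
    rw [← ord_conj w, e, orderOf_coe, ← h.top.ord]
    exact Nat.dvd_antisymm (orderOf_dvd_of_mem_zpowers ha) (orderOf_dvd_of_mem_zpowers e')
  · exact h.top.ind_notMem _ ha

theorem MC.ad (h : MC D x z k) (ψ : zpowers (⟨x, h.mem⟩ : D) →* ℂˣ) :
    Ad z (indFun (zpowers (⟨x, h.mem⟩ : D)) (oneSub ψ)) := by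
  refine ⟨(isGeneralizedCharacter_oneSub ψ).indFun, fun a ha => ?_⟩
  by_cases e : a ∈ zpowers (⟨x, h.mem⟩ : D)
  · obtain rfl : a = 1 := by_contra fun e' =>
      ha (h.z_mem_zpowers (mem_zpowers_coe.2 e) fun e'' => e' (Subtype.ext e''))
    simp [indFun_one, oneSub_apply]
  · exact h.top.ind_notMem _ e

theorem Iso.defect_eq {t : G} (hI : Iso 2 M B h1 t b ψ₀ J) (hD : IsDefectGroup 2 M B D) :
    blockDefect 2 b = blockDefect 2 B := Nat.pow_right_injective le_rfl (by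
  simp only [← card_defectGroup hI.hM hI.ind.1 hI.dfg, ← card_defectGroup hI.hM hI.ind.2.1 hD]
  exact Nat.card_congr (subgroupOfEquivOfLe h1).toEquiv)

theorem Iso.co_eq (hI : Iso 2 M B h1 z b ψ₀ J) (hT : T = centralizer {z}) (hD : IsDefectGroup 2 M B D)
    (h : MC D x z k) (hd : ∀ a ∈ D, a ∉ zpowers x → a * a = 1)
    {ψ φ : zpowers (⟨x, h.mem⟩ : D) →* ℂˣ} (hψ : ψ⁻¹ ≠ ψ) (hφ : φ⁻¹ ≠ φ)
    (hne : ψ ⟨_, h.top.zmem⟩ ≠ φ ⟨_, h.top.zmem⟩) {χ : IrrCharacter G} (hχ : χ ∈ H0 B) :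
    co J (indFun _ (oneSub ψ)) χ = co J (indFun _ (oneSub φ)) χ := by
  classical
  haveI := Fintype.ofFinite (zpowers (⟨x, h.mem⟩ : D))
  have hd' : ∀ a, a ∉ zpowers (⟨x, h.mem⟩ : D) → a * a = 1 := fun a ha =>
    Subtype.ext (hd a a.2 (mem_zpowers_coe.not.2 ha))
  have ha := (h.ad ψ).sub (h.ad φ)
  have hzz : (⟨_, h.top.zmem⟩ : zpowers (⟨x, h.mem⟩ : D))⁻¹ = ⟨_, h.top.zmem⟩ := Subtype.ext h.top.zinv
  have h2 : ψ ≠ 1 := by rintro rfl; exact hψ (MonoidHom.ext fun _ => inv_one)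
  have h3 : φ ≠ 1 := by rintro rfl; exact hφ (MonoidHom.ext fun _ => inv_one)
  have h4 : ψ ≠ φ := by rintro rfl; exact hne rfl
  have h5 : ψ ≠ φ⁻¹ := by rintro rfl; exact hne (by rw [MonoidHom.inv_apply, ← map_inv, hzz])
  have h5' : φ ≠ ψ⁻¹ := by rintro rfl; exact h5 (inv_inv ψ).symm
  obtain ⟨i, j, hij, e⟩ := exists_of_norm_two (w := co J (indFun _ (oneSub ψ) - indFun _ (oneSub φ)))
    (x := fun χ => charDegree χ.1) (by
      rw [← Finset.sum_filter_of_ne (p := (· ∈ B)) fun χ _ e => by_contra fun e' => e (by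
        rw [hI.co_zero ha e', zero_pow two_ne_zero])]
      apply Int.cast_injective (α := ℂ)
      simp only [pow_two]
      rw [hI.sum_co ha ha]
      simp only [classInner_sub_left, classInner_sub_right, h.top.inner_al hd', h2, h3, h4, h5, h5', h4.symm,
        hψ.symm, hφ.symm, Ne, not_false_iff, if_true, if_false]
      norm_num) (fun χ => by exact_mod_cast Nat.pos_of_ne_zero χ.2.charDegree_ne_zero) (by
      rw [← Finset.sum_filter_of_ne (p := (· ∈ B)) fun χ _ e => by_contra fun e' => e (by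
        rw [hI.co_zero ha e', zero_mul])]
      apply Int.cast_injective (α := ℂ)
      have := congrFun (hI.ind_eq ha) 1
      rw [indFun_one, (hI.sup ha).2 1 (by simpa using h.z_ne), mul_zero] at this
      simpa [irr_cast_deg] using this.symm)
  have hi : i ∈ B := by_contra fun e' => by simpa [hI.co_zero ha e', hij] using e i
  have hj : j ∈ B := by_contra fun e' => by simpa [hI.co_zero ha e', hij.symm] using e j
  obtain ⟨Φ, hΦ⟩ := hI.nj.irr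
  have e1 := hΦ ⟨_, h.top.irr_ind hd' hφ⟩
  have e2 := hΦ ⟨_, h.top.irr_ind hd' hψ⟩
  set ξ := Φ ⟨_, h.top.irr_ind hd' hφ⟩
  set ξ' := Φ ⟨_, h.top.irr_ind hd' hψ⟩
  have h6 : ξ.1.1 - ξ'.1.1 = J (indFun _ (oneSub ψ) - indFun _ (oneSub φ)) := by
    rw [e1, e2, ← map_sub, ← indFun_sub, ← indFun_sub, oneSub, oneSub, sub_sub_sub_cancel_left]
  have h7 : indFun T (ξ.1.1 - ξ'.1.1) = i.1 - j.1 := by
    rw [h6, hI.ind_eq ha]
    simp [e, sub_smul, Finset.sum_sub_distrib, ite_smul, hi, hj]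
  have hc : ∀ t w : T, t.1 = z → w * t * w⁻¹ = t := fun t w e => Subtype.ext (by
    rw [coe_mul, coe_mul, coe_inv, e, mem_centralizer_singleton_iff.1 (hT.le w.2), mul_inv_cancel_right])
  have h8 : ∀ (θ) (t : T), IsConj z t → t.1 ≠ z → J (indFun (zpowers (⟨x, h.mem⟩ : D)) θ) t = 0 := by
    intro θ t ht ht'
    have h9 : orderOf t = 2 ^ 1 := by
      obtain ⟨w, hw⟩ := isConj_iff.1 ht
      rw [← orderOf_coe, ← hw, ord_conj, h.zord, pow_one]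
    rw [hI.nj.app _ t 0 fun a ha => h.top.ind_notMem _ fun e => ?_, zero_mul]
    rw [pp_self ⟨1, h9⟩] at ha
    obtain ⟨w, hw⟩ := isConj_iff.1 ha.symm
    have h10 : orderOf (inclusion h1 a) = 2 := by rw [← ord_conj w, hw, h9, pow_one]
    rcases h.eq_z (mem_zpowers_coe.2 e) (u := a.1) (congrArg Subtype.val (show inclusion h1 a *
      inclusion h1 a = 1 by rw [← pow_two, ← h10, pow_orderOf_eq_one])) with e | e
    · rw [show inclusion h1 a = 1 from Subtype.ext e, orderOf_one] at h10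
      omega
    · exact ht' (by rw [← hw, hc (inclusion h1 a) w e]; exact e)
  have h9 : ∀ (θ) (t : T), t.1 = z → J (indFun (zpowers (⟨x, h.mem⟩ : D)) θ) t =
      2 * θ ⟨_, h.top.zmem⟩ * ψ₀.1 t := fun θ t ht => hI.nj.app _ t _ fun a ha => by
    rw [pp_self ⟨1, by rw [← orderOf_coe, ht, h.zord, pow_one]⟩] at ha
    obtain ⟨w, hw⟩ := isConj_iff.1 ha
    rw [hc t w ht] at hw
    rw [show a = (⟨_, h.top.zmem⟩ : zpowers (⟨x, h.mem⟩ : D)) from Subtype.ext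
      ((congrArg Subtype.val hw).symm.trans ht), h.top.ind_inv hd', hzz, two_mul]
  have h10 : blockHeight 2 b ξ.1.1 ≠ 0 := by
    have h11 : charDegree ξ.1.1 = 2 * charDegree ψ₀.1 := by
      apply Nat.cast_injective (R := ℂ)
      have := h.top.ind_inv hd' (linF φ) 1
      rw [Nat.cast_mul, irr_cast_deg, irr_cast_deg, e1, hI.nj.app_one (inclusion_injective h1)]
      exact congrArg (· * _) (this.trans (by simp [linF]; norm_num))
    have h12 := factorization_deg_add_defect 2 ξ.2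
    have h13 := factorization_deg_add_defect 2 hI.nj.mem
    rw [h11, Nat.factorization_mul two_ne_zero ψ₀.2.charDegree_ne_zero, Finsupp.add_apply,
      Nat.prime_two.factorization_self] at h12
    have := hI.nj.ht
    omega
  have H := fun χ χ' hχ c hc' => height_of_ind hT h.zord hI.hM hI.ind (hI.defect_eq hD) ξ.2 (ξ' := ξ')
    (h6 ▸ hI.sup ha) (fun t a a' => ⟨e1 ▸ h8 _ t a a', e2 ▸ h8 _ t a a'⟩) (fun t ht e => by
      rw [e1, e2, h9 _ t ht, h9 _ t ht] at e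
      refine hne (Units.ext (mul_left_cancel₀ two_ne_zero (mul_right_cancel₀ ?_ e.symm)))
      rcases ψ₀.2.central_involution (z := t) (mem_center_iff.2 fun g => mul_inv_eq_iff_eq_mul.1
        (hc t g ht)) (Subtype.ext (ht ▸ h.zz :)) with e | e <;> rw [← mul_one t, e] <;>
        simpa using ψ₀.2.apply_one_ne_zero) (χ := χ) (χ' := χ') hχ (c := c) hc'
  have h11 : χ ≠ i := by
    rintro rfl
    exact h10 ((H χ j hi 1 (one_mul 1) (by rw [h7, one_smul])).symm.trans (mem_H0.1 hχ).2)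
  have h12 : χ ≠ j := by
    rintro rfl
    exact h10 ((H χ i hj (-1) (by ring) (by rw [h7, neg_one_smul, neg_sub])).symm.trans (mem_H0.1 hχ).2)
  rw [← sub_eq_zero, ← hI.co_sub (h.ad ψ) (h.ad φ), e, if_neg h11, if_neg h12, sub_zero]

theorem exists_third {Λ : Type*} [CommGroup Λ] {e : Λ → ℂˣ} (he : ∀ a b, e (a * b) = e a * e b)
    (hz : ∀ a, e a = 1 ∨ e a = -1) {σ l ψ φ : Λ} (g1 : ∀ ψ, ¬ ψ⁻¹ = ψ ↔ ¬ ψ = 1 ∧ ¬ ψ = σ) (hl : e l = -1)
    (hψ : ψ⁻¹ ≠ ψ) (hφ : φ⁻¹ ≠ φ) (e0 : e ψ = e φ) (e1 : φ ≠ ψ) (e2 : φ ≠ ψ⁻¹) :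
    ∃ ρ, ρ⁻¹ ≠ ρ ∧ e ψ ≠ e ρ := by
  have hn : (-1 : ℂˣ) ≠ 1 := by simp [Units.ext_iff]; norm_num
  have h1 : e 1 = 1 := by simpa using he 1 1
  rcases hz ψ with e3 | e3
  · by_cases e4 : l = σ
    · exact ⟨l * ψ, (g1 _).2 ⟨fun e5 => hn (by simpa [he, hl, e3, h1] using congrArg e e5),
        fun e5 => ((g1 ψ).1 hψ).1 (mul_eq_left.1 (e5.trans e4.symm))⟩, by simp [he, hl, e3, hn.symm]⟩
    · exact ⟨l, (g1 _).2 ⟨fun e5 => hn (by rw [← hl, e5, h1]), e4⟩, by simp [hl, e3, hn.symm]⟩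
  · by_cases e4 : ψ * φ = σ
    · have h2 : e φ⁻¹ = -1 := by simpa [h1, ← e0, e3, neg_eq_iff_eq_neg, eq_comm] using he φ φ⁻¹
      exact ⟨ψ * φ⁻¹, (g1 _).2 ⟨fun e5 => e1 (mul_inv_eq_one.1 e5).symm, fun e5 => hφ
        (mul_left_cancel (e5.trans e4.symm))⟩, by simp [he, h2, e3, hn]⟩
    · exact ⟨ψ * φ, (g1 _).2 ⟨fun e5 => e2 (eq_inv_of_mul_eq_one_right e5), e4⟩, by simp [he, ← e0, e3, hn]⟩

omit [Fintype D] in
theorem exists_DH (hM : IsPModular 2 M) (hB : IsPBlock M B) (hD : IsDefectGroup 2 M B D)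
    (h : MC D x z k) (hd : ∀ a ∈ D, a ∉ zpowers x → a * a = 1) : ∃ w v t, DH B k w v t := by
  classical
  haveI := Fintype.ofFinite (centralizer ({z} : Set G))
  haveI := Fintype.ofFinite D
  haveI := Fintype.ofFinite (zpowers (⟨x, h.mem⟩ : D))
  haveI := Fintype.ofFinite (zpowers (⟨x, h.mem⟩ : D) →* ℂˣ)
  obtain ⟨b, ψ₀, J, i1, i2, i3⟩ := exists_iso hM hB hD h.le_cent (centralizer_le (by simpa using h.zP))
    fun Q hQ g hg hn ho => h.cent_of_norm_t h.zmem (fun a ha ha' => h.zord ▸ orderOf_dvd_of_pow_eq_one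
      ((pow_two a).trans (hd a ha ha'))) hQ (mem_norm_zpowers.2 ((mem_cent_iff_two h.zord).1 hg)) hn ho
  have hI : Iso 2 M B h.le_cent z b ψ₀ J := ⟨hM, fun g => mem_cent_iff_two h.zord, ⟨1, h.zord⟩, i1, i2, i3⟩
  have hd' : ∀ a, a ∉ zpowers (⟨x, h.mem⟩ : D) → a * a = 1 := fun a ha =>
    Subtype.ext (hd a a.2 (mem_zpowers_coe.not.2 ha))
  obtain ⟨σ, hσ⟩ := h.top.exists_sigma
  have W := hI.wc h h.zmem hσ
  obtain ⟨c, hc⟩ : ∃ c : (zpowers (⟨x, h.mem⟩ : D) →* ℂˣ) → IrrCharacter G → ℤ,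
    ∀ ψ, c ψ = co J (indFun _ (oneSub ψ)) := ⟨_, fun _ => rfl⟩
  rw [← hc] at W
  have g1 := fun ψ => (h.top.inv_eq_iff hd' hσ (ψ := ψ)).not.trans not_or
  have hσ1 : σ ≠ 1 := by rintro rfl; norm_num at hσ
  have S : ∀ ψ φ, ψ ≠ 1 → φ ≠ 1 → ∑ χ ∈ BF B, c ψ χ * c φ χ =
      2 + (if ψ = φ then 1 else 0) + (if ψ = φ⁻¹ then 1 else 0) := fun ψ φ h1 h2 => by
    apply Int.cast_injective (α := ℂ)
    rw [← h.top.inner_al hd' h1 h2, ← hI.sum_co (h.ad ψ) (h.ad φ), hc, hc]; rfl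
  have T3 := fun ψ (hψ : ψ⁻¹ ≠ ψ) => three_arith (c := c ψ) H0_subset W.w1 W.w0
    (by rw [S ψ ψ ((g1 ψ).1 hψ).1 ((g1 ψ).1 hψ).1, if_pos rfl, if_neg hψ.symm]; rfl) (by
      rw [S ψ σ ((g1 ψ).1 hψ).1 hσ1, (h.top.inv_eq_iff hd' hσ).2 (.inr rfl), if_neg ((g1 ψ).1 hψ).2]; rfl)
  haveI : Nonempty (IrrCharacter G) := ⟨hB.nonempty.choose⟩
  choose! f hf hf1 hf0 using fun ψ hψ => one_arith (s := H1 B) (T3 ψ hψ).2.2
  have hci : ∀ ψ, c ψ⁻¹ = c ψ := fun ψ => by rw [hc, hc, h.top.al_inv hd']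
  set z' : zpowers (⟨x, h.mem⟩ : D) := ⟨_, h.top.zmem⟩
  have hz : ∀ ψ : zpowers (⟨x, h.mem⟩ : D) →* ℂˣ, ψ z' = 1 ∨ ψ z' = -1 := fun ψ =>
    (mul_self_eq_one_iff.1 (by rw [← Units.val_mul, ← map_mul, show z' * z' = 1 from Subtype.ext h.top.zz,
      map_one, Units.val_one])).imp (fun e => Units.ext e) fun e => Units.ext e
  have A : ∀ ψ φ, ψ⁻¹ ≠ ψ → φ⁻¹ ≠ φ → ∀ χ ∈ H0 B, c ψ χ = c φ χ := fun ψ φ hψ hφ χ hχ => by
    have A0 := fun ψ φ hψ hφ e => hI.co_eq rfl hD h hd (ψ := ψ) (φ := φ) hψ hφ e hχ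
    simp only [← hc] at A0
    by_cases e : ψ z' ≠ φ z'
    · exact A0 _ _ hψ hφ e
    by_cases e1 : φ = ψ
    · rw [e1]
    by_cases e2 : φ = ψ⁻¹
    · rw [e2, hci]
    obtain ⟨l, hl⟩ := h.top.exists_lin
    obtain ⟨ρ, h1, h2⟩ := exists_third (e := fun ψ : zpowers (⟨x, h.mem⟩ : D) →* ℂˣ => ψ z')
      (fun _ _ => rfl) hz g1 (l := l) (Units.ext hl) hψ hφ (not_not.1 e) e1 e2
    exact (A0 _ _ hψ h1 h2).trans (A0 _ _ hφ h1 (not_not.1 e ▸ h2)).symm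
  have F : ∀ ψ φ, ψ⁻¹ ≠ ψ → φ⁻¹ ≠ φ → (f φ = f ψ ↔ φ = ψ ∨ φ = ψ⁻¹) := fun ψ φ hψ hφ => by
    refine ⟨fun e => by_contra fun e' => ?_, ?_⟩
    · have := S φ ψ ((g1 _).1 hφ).1 ((g1 _).1 hψ).1
      rw [if_neg (not_or.1 e').1, if_neg (not_or.1 e').2, sum_BF, Finset.sum_congr rfl fun χ hχ => by
        rw [A φ ψ hφ hψ χ hχ], (T3 ψ hψ).2.1, Finset.sum_eq_single_of_mem _ (hf ψ hψ) fun χ hχ e => by
          rw [hf0 ψ hψ χ hχ e, mul_zero]] at this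
      exact mul_ne_zero (left_ne_zero_of_mul_eq_one (e ▸ hf1 φ hφ)) (left_ne_zero_of_mul_eq_one (hf1 ψ hψ))
        (by omega)
    rintro (rfl | rfl)
    · rfl
    · exact by_contra fun e => left_ne_zero_of_mul_eq_one (hf1 _ hφ) (by rw [hci, hf0 ψ hψ _ (hf _ hφ) e])
  choose s hs hs' using fun ψ => show ∃ s : ℤ, s * s = 1 ∧ (s : ℂ) = ψ z' from (hz ψ).elim
    (fun e => ⟨1, rfl, by simp [e]⟩) fun e => ⟨-1, rfl, by simp [e]⟩
  have E : ∀ χ : IrrCharacter G, eta J (fun c => χ.1 c) ⟨z, h.zP⟩ = (-∑ ψ, c ψ χ * s ψ : ℤ) := fun χ => by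
    rw [apply_eq_neg_sum xcomm (fun u : zpowers (⟨x, h.mem⟩ : D) => eta J (fun c => χ.1 c) u) (y := z')
      fun e => h.top.z_ne (congrArg Subtype.val e)]
    push_cast
    refine congrArg _ (Finset.sum_congr rfl fun ψ _ => ?_)
    rw [hs', ← conj_classInner, ← classInner_indFun_left _ (isClassFunction_eta _ _), ← hI.co_eta (h.ad ψ),
      hc, map_intCast]
  obtain ⟨r, hr⟩ := hI.exists_ctr rfl h.zord h.zP
  simp only [E, map_intCast, ← Int.cast_mul] at hr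
  obtain ⟨χ₀, h₀, h0⟩ := exists_blockHeight_eq_zero (p := 2) hB.nonempty
  have C := fun χ hχ => ctr_int hM rfl ⟨1, h.zord⟩ i1 (hI.defect_eq hD) h₀ hχ (hr χ₀ χ)
  have C0 := (C χ₀ h₀).2
  rw [h0, zero_add, pow_one] at C0
  have O : ∀ χ ∈ H1 B, ∃ ψ, ψ⁻¹ ≠ ψ ∧ f ψ = χ ∧ blockHeight 2 B χ.1 = 1 := fun χ hχ => by
    have h2 : ∀ ψ, c ψ χ ≠ 0 → ψ⁻¹ ≠ ψ ∧ f ψ = χ := fun ψ e => by
      have h3 : ψ⁻¹ ≠ ψ := (g1 ψ).2 ⟨by
        rintro rfl
        exact e (by simp [hc, co, oneSub, indFun_zero, classInner_zero_left]), by rintro rfl; exact e (W.w0 χ hχ)⟩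
      exact ⟨h3, by_contra fun e' => e (hf0 ψ h3 χ hχ (Ne.symm e'))⟩
    obtain ⟨h3, h4⟩ := C χ (mem_H1.1 hχ).1
    obtain ⟨ψ, hψ⟩ : ∃ ψ, c ψ χ ≠ 0 := by
      by_contra! e
      simp [e, h0] at h4
    obtain ⟨h5, rfl⟩ := h2 ψ hψ
    refine ⟨ψ, h5, rfl, ?_⟩
    have h6 : ∑ φ, c φ (f ψ) * s φ = 2 * (c ψ (f ψ) * s ψ) := by
      rw [← Finset.sum_subset (Finset.subset_univ {ψ, ψ⁻¹}) fun φ _ e => mul_eq_zero_of_left (by_contra
        fun e' => e (by simpa using (F ψ φ h5 (h2 φ e').1).1 (h2 φ e').2)) _, Finset.sum_pair h5.symm, hci,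
        show s ψ⁻¹ = s ψ from Int.cast_injective (α := ℂ) (by
          rw [hs', hs', MonoidHom.inv_apply, ← map_inv, show z'⁻¹ = z' from Subtype.ext h.top.zinv]), two_mul]
    obtain ⟨n, hn⟩ := Nat.exists_eq_add_one_of_ne_zero (mem_H1.1 hχ).2
    rcases n with _ | n
    · exact hn
    refine absurd rfl (C0.1 ?_)
    obtain ⟨m, hm⟩ := (pow_dvd_pow _ (show 2 ≤ _ by omega)).trans h3
    rw [h6] at hm
    refine ⟨m * (c ψ (f ψ) * s ψ) * ∑ ψ, c ψ χ₀ * s ψ, mul_left_cancel₀ two_ne_zero ?_⟩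
    push_cast at hm ⊢
    linear_combination (c ψ (f ψ) * s ψ * ∑ ψ, c ψ χ₀ * s ψ) * hm -
      2 * (∑ ψ, c ψ χ₀ * s ψ) ^ 2 * r * (hs ψ + s ψ * s ψ * hf1 ψ h5)
  choose! q q1 q2 q3 using O
  obtain ⟨v, v1, v2, v3⟩ : ∃ v : IrrCharacter G → ℤ, (∀ χ ∈ H0 B, v χ = 0 ∨ v χ = c σ χ) ∧
      ∑ χ ∈ H0 B, v χ * v χ = 2 ∧ ∀ ψ, ψ⁻¹ ≠ ψ → ∀ χ ∈ H0 B, c ψ χ = v χ := by
    by_cases e : ∃ ψ : zpowers (⟨x, h.mem⟩ : D) →* ℂˣ, ψ⁻¹ ≠ ψ
    · obtain ⟨ψ, hψ⟩ := e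
      exact ⟨c ψ, (T3 ψ hψ).1, (T3 ψ hψ).2.1, fun φ hφ => A φ ψ hφ hψ⟩
    obtain ⟨U, hU, hU'⟩ := Finset.exists_subset_card_eq (W.four.symm ▸ (by norm_num : 2 ≤ 4))
    refine ⟨fun χ => if χ ∈ U then c σ χ else 0, fun χ _ => by by_cases e : χ ∈ U <;> simp [e], ?_,
      fun ψ hψ => absurd ⟨ψ, hψ⟩ e⟩
    rw [← Finset.sum_subset hU fun χ _ e => by simp [e], Finset.sum_congr rfl (g := fun _ => 1)
      fun χ hχ => by rcases W.w1 χ (hU hχ) with e | e <;> simp [hχ, e]]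
    simp [hU']
  refine ⟨_, v, fun χ => c (q χ) χ, W, v1, v2, fun χ hχ => ⟨q3 χ hχ, by simpa only [q2 χ hχ] using hf1 _ (q1 χ hχ),
    fun g hg => ?_⟩, ?_⟩
  · have := hI.ind_eq_zero (g := g) (h.ad (q χ)) fun a w e => by
      rw [pp_of_not_dvd hg, mul_one, mul_inv_cancel] at e
      rw [show a = 1 from Subtype.ext e.symm]
      simp [indFun_one, oneSub_apply]
    rw [hI.ind_cf (h.ad _), ← hc, cf, Finset.sum_apply, sum_BF, Finset.sum_eq_single_of_mem χ hχ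
      fun ψ hψ e => by simp [hf0 _ (q1 χ hχ) ψ hψ ((q2 χ hχ).symm ▸ e)]] at this
    rw [← this]
    exact congrArg (· + _) (Finset.sum_congr rfl fun ψ hψ => by rw [← v3 _ (q1 χ hχ) ψ hψ]; rfl)
  have h2 := Finset.card_eq_sum_card_fiberwise (s := {ψ | ψ⁻¹ ≠ ψ}) (t := H1 B) (f := f) fun ψ hψ =>
    hf ψ (by simpa using hψ)
  rw [Finset.sum_congr rfl (g := fun _ => 2) fun χ hχ => by
    rw [← Finset.card_pair (q1 χ hχ).symm]
    congr 1
    ext φ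
    simp only [Finset.mem_filter, Finset.mem_univ, true_and, Finset.mem_insert, Finset.mem_singleton]
    refine ⟨fun e => (F _ _ (q1 χ hχ) e.1).1 (e.2.trans (q2 χ hχ).symm), fun e => ?_⟩
    have h3 : φ⁻¹ ≠ φ := by
      rcases e with rfl | rfl
      exacts [q1 χ hχ, fun e => q1 χ hχ (e.symm.trans (inv_inv (q χ)))]
    exact ⟨h3, ((F _ _ (q1 χ hχ) h3).2 e).trans (q2 χ hχ)⟩,
    show ({ψ | ψ⁻¹ ≠ ψ} : Finset _) = {1, σ}ᶜ from Finset.ext fun ψ => by simpa using g1 ψ,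
    Finset.card_compl, Finset.card_pair hσ1.symm, ← Nat.card_eq_fintype_card, card_linear xcomm,
    h.top.card_X, Finset.sum_const, smul_eq_mul, pow_succ] at h2
  have := Nat.two_pow_pos k
  omega

end Cfsg.Lib.Block2.Tame
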