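import Cfsg.Agent.Lib.Block2.Major
import Cfsg.Agent.Lib.Block2.KR

/-! Blocks with abelian defect groups and elements fixed by the inertial group. -/

set_option autoImplicit false
set_option linter.dupNamespace false
set_option linter.unusedSectionVars false
set_option linter.style.haveILetI false

open Cfsg Cfsg.Lib.Block Cfsg.Lib.Block2 Cfsg.Lib.Char Cfsg.Lib.Amalg MonoidAlgebra Subgroup
open Cfsg.Lib.Small
open scoped ComplexConjugate

namespace Cfsg.Lib.Block2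

theorem fourier_aux {A : Type*} [Group A] [Fintype A] (Λ : Subgroup (A →* ℂˣ)) (f : A → ℂ)
    (h : ∀ l ∈ Λ, l ≠ 1 → ∑ u, l u * f u = 0) (z : A)
    (h2 : ∀ w ≠ 1, (∀ l ∈ Λ, l w = 1) → f (z * w) = f w) : f z = f 1 := by
  classical
  haveI : Finite (A →* ℂˣ) := inferInstance
  haveI := Fintype.ofFinite Λ
  have h3 : ∀ z : A, ∑ w, (∑ l : Λ, (l.1 w : ℂ)) * f (z * w) = ∑ u, f u := fun z => by
    simp only [Finset.sum_mul]
    rw [Finset.sum_comm, Finset.sum_eq_single 1 (fun l _ hl => ?_) (by simp)]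
    · simpa using Equiv.sum_comp (Equiv.mulLeft z) f
    · have := h l l.2 fun e => hl (Subtype.ext e)
      rw [← Equiv.sum_comp (Equiv.mulLeft z)] at this
      simp only [Equiv.coe_mulLeft, map_mul, Units.val_mul, mul_assoc, ← Finset.mul_sum] at this
      exact (mul_eq_zero_iff_left (Units.ne_zero _)).1 this
  have h4 := (h3 z).trans (h3 1).symm
  rw [← sub_eq_zero, ← Finset.sum_sub_distrib, Finset.sum_eq_single 1 (fun w _ hw => ?_) (by simp),
    ← mul_sub, mul_one, mul_one, mul_eq_zero, sub_eq_zero] at h4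
  · exact h4.resolve_left (by simp)
  by_cases h5 : ∀ l ∈ Λ, l w = 1
  · rw [h2 w hw h5, one_mul, sub_self]
  push Not at h5
  obtain ⟨l, hl, h5⟩ := h5
  have h6 := Equiv.sum_comp (Equiv.mulLeft (⟨l, hl⟩ : Λ)) fun l : Λ => (l.1 w : ℂ)
  simp only [Equiv.coe_mulLeft, coe_mul, MonoidHom.mul_apply, Units.val_mul, ← Finset.mul_sum] at h6
  rw [by_contra fun h7 => h5 (Units.ext ((mul_eq_right₀ h7).1 h6)), zero_mul, zero_mul, sub_self]

variable {G : Type*} [Group G] [Finite G] {p : ℕ} {M : Ideal AlgInt} [M.IsMaximal]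
variable {H P Q T : Subgroup G} {ε φ η : MonoidAlgebra (resField M) G} {u z : G}

theorem exists_inv_lin [Fact p.Prime] (hp : IsPGroup p P) (hP : P ≤ 𝐂 P) (hT : T ≤ 𝐍 P)
    (hd : ¬ p ∣ (𝐂 P).relIndex T) {z : P} (hz : z.1 ∈ 𝐂 T) (h1 : z ≠ 1) :
    ∃ l : P →* ℂˣ, (∀ t ∈ T, ∀ u v : P, v.1 = t * u * t⁻¹ → l v = l u) ∧ l z ≠ 1 := by
  letI : CommGroup P := { mul_comm := fun a b => Subtype.ext (hP b.2 a a.2) }
  obtain ⟨μ, hμ⟩ := CommGroup.exists_apply_ne_one_of_hasEnoughRootsOfUnity P ℂ h1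
  set f := P.normalizerMonoidHom.comp (inclusion hT) with hf
  haveI := Fintype.ofFinite f.range
  have h2 : Nat.card f.range = (𝐂 P).relIndex T := by
    rw [← index_ker, hf, ← MonoidHom.comap_ker, normalizerMonoidHom_ker]; rfl
  refine ⟨∏ a : f.range, μ.comp a.1.toMonoidHom, fun t ht u v e => ?_, fun e => hμ ?_⟩
  · simp only [MonoidHom.finsetProd_apply]
    refine Eq.trans ?_ (Equiv.prod_comp (Equiv.mulRight (⟨f ⟨t, ht⟩, _, rfl⟩ : f.range)) _)
    exact Finset.prod_congr rfl fun a _ => by rw [show v = f ⟨t, ht⟩ u from Subtype.ext e]; rfl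
  · rw [MonoidHom.finsetProd_apply, Finset.prod_congr rfl (g := fun _ => μ z) fun ⟨_, t, rfl⟩ _ =>
      congrArg μ (Subtype.ext (mul_inv_eq_iff_eq_mul.2 (hz t t.2))), Finset.prod_const,
      Finset.card_univ, ← Nat.card_eq_fintype_card, h2] at e
    obtain ⟨k, hk⟩ := hp z
    exact orderOf_eq_one_iff.1 (Nat.eq_one_of_dvd_coprimes
      (((Fact.out : p.Prime).coprime_iff_not_dvd.2 hd).pow_left k)
      (orderOf_dvd_of_pow_eq_one (by rw [← map_pow, hk, map_one])) (orderOf_dvd_of_pow_eq_one e))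

theorem Blk.bset_push {K : Type*} [Group K] [Finite K] {f : K →* G} (hf : Function.Injective f)
    {L : Subgroup K} {φ : MonoidAlgebra (resField M) K} (h : Blk L φ) :
    bset (L.map f) (push f φ) = irrCongr (L.equivMapOfInjective f hf) '' bset L φ := by
  conv_lhs => rw [← h.EB_bset, push_EB hf]
  exact bset_EB (h.isPBlock_bset.irrCongr _).isBlockUnion

open scoped Classical in
variable (p H P ε) in
/-- The rank of the block of a subpair. -/
noncomputable def rkQ (Q : Subgroup G) : ℕ :=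
  if h : ∃ φ, SLE p H Q φ P ε then blockRank p (bset (H ⊓ 𝐂 Q) h.choose) else 0

variable [Fact p.Prime]

theorem SLE.rkQ_eq (hM : IsPModular p M) (h : SLE p H Q φ P ε) :
    rkQ p H P ε Q = blockRank p (bset (H ⊓ 𝐂 Q) φ) := by
  have h1 : ∃ φ, SLE p H Q φ P ε := ⟨φ, h⟩
  rw [rkQ, dif_pos h1, h1.choose_spec.unique hM h]

open scoped Classical in
theorem MaxP.sum_lin_top (hM : IsPModular p M) [Fintype P] (hm : MaxP p ⊤ η P ε) (hP : P ≤ 𝐂 P)
    {l : P →* ℂˣ} (hl : ∀ t ∈ stabP ⊤ P ε, ∀ u v : P, v.1 = t * u * t⁻¹ → l v = l u) :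
    ∑ u : P, l u * (rkQ p ⊤ P ε (zpowers u.1) / (clsSet (stabP ⊤ P ε) u.1).ncard : ℂ) =
      if l = 1 then Nat.card (bset ⊤ η) else 0 := by
  haveI := Fintype.ofFinite G
  obtain ⟨B, hB, rfl⟩ := hm.blk'.exists_eq_top
  have h1 : FSt p P ε (extendByZero P (linF l)) := fun u g h => by
    obtain ⟨y, hy, c, hc, rfl⟩ := h.exists_of_comm hM hm hP
    have h2 := h.le (mem_zpowers u)
    have h3 := h.le' (conj_mem_cj _ (mem_zpowers u))
    rw [extendByZero_of_mem _ h2, extendByZero_of_mem _ h3]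
    refine congrArg Units.val (hl y hy _ _ ?_)
    simp only [mul_inv_rev, mul_assoc y, ← hc.2 u (mem_zpowers u)]
    simp [mul_assoc]
  have h2 := hm.sum_classInner_sst hM hB h1
  rw [Finset.sum_subtype (p := (· ∈ P)) (Finset.univ.filter (· ∈ P)) (by simp)] at h2
  refine Eq.trans (Finset.sum_congr rfl fun u _ => ?_) (h2.symm.trans ?_)
  · rw [extendByZero_coe, (hm.bp.sle_sp hM u.2).rkQ_eq hM, top_inf_eq, mul_div_assoc, nF_eq]
    congr 4
    ext v
    exact ⟨fun ⟨y, hy, e⟩ => e ▸ hm.bp.fCj_of_stab hM u.2 hy,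
      fun h => h.exists_of_cent hM hm (hP u.2) (hP h.mem')⟩
  split_ifs with h
  · rw [Finset.sum_congr rfl (g := fun _ => 1) fun χ hχ => by
      rw [hm.sst_const hM hB (by simpa using hχ) (c := 1) fun u hu => by
        rw [extendByZero_of_mem _ hu, h]; rfl, one_smul, χ.2.classInner_self],
      bset_top hB.isBlockUnion, card_irrCongr_image]
    simp [Nat.card_eq_fintype_card, Fintype.card_subtype]
  refine (Finset.sum_eq_zero fun χ hχ => ?_).trans Nat.cast_zero.symm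
  have hχ' : χ ∈ B := by simpa using hχ
  obtain ⟨ψ, -, e, -⟩ := hm.exists_irr_sst_linear hM hB h1 hχ'
  by_contra h0
  rw [← e] at h0
  refine h (MonoidHom.ext fun u => Units.ext ?_)
  have h3 := hm.bp.sle_sp hM u.2
  exact (extendByZero_coe (linF l) u).symm.trans (h1.apply_eq_one hM h3
    (hm.con_self_ne_zero_of_major hM hB h3 (hP u.2) hχ')
    (e.symm.trans (ψ.2.eq_of_classInner_ne_zero χ.2 h0)))

open scoped Classical in
theorem MaxP.sum_lin (hM : IsPModular p M) [Fintype P] (hm : MaxP p H η P ε) (hP : P ≤ 𝐂 P)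
    {l : P →* ℂˣ} (hl : ∀ t ∈ stabP H P ε, ∀ u v : P, v.1 = t * u * t⁻¹ → l v = l u) :
    ∑ u : P, l u * (rkQ p H P ε (zpowers u.1) / (clsSet (stabP H P ε) u.1).ncard : ℂ) =
      if l = 1 then Nat.card (bset H η) else 0 := by
  obtain ⟨K, _, _, f, hf, rfl⟩ : ∃ (K : Type _) (_ : Group K) (_ : Finite K) (f : K →* G),
      Function.Injective f ∧ H = (⊤ : Subgroup K).map f := ⟨H, _, inferInstance, _, H.subtype_injective,
    by rw [← MonoidHom.range_eq_map, range_subtype]⟩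
  obtain ⟨P, ε, -, rfl, rfl⟩ := hm.bp.exists_eq_push hf
  obtain ⟨η, h1, rfl⟩ := hm.blk'.exists_eq_push hf
  rw [maxP_push_iff hf] at hm
  haveI := Fintype.ofFinite P
  set e := P.equivMapOfInjective f hf
  have h2 := hm.sum_lin_top hM (fun x hx => (map_mem_centralizer_iff hf).1 (hP (mem_map_of_mem f hx)))
    (l := l.comp e.toMonoidHom) fun t ht u v h => hl _ ((mem_stabP_push hf).2 ht) _ _ (by
      simp [e, h])
  rw [h1.bset_push hf, card_irrCongr_image, ← e.toEquiv.sum_comp]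
  refine Eq.trans (Finset.sum_congr rfl fun u _ => ?_) (h2.trans (by
    simp only [MonoidHom.ext_iff, e.surjective.forall]; rfl))
  have h3 := hm.bp.exists_sle hM (zpowers_le.2 u.2)
  obtain ⟨φ, h3⟩ := h3
  have h4 := h3.push hf
  rw [h3.rkQ_eq hM, show ((e.toEquiv u : P.map f) : G) = f u from rfl, ← MonoidHom.map_zpowers,
    h4.rkQ_eq hM, ← map_inf_cent hf, h3.bp.blk.bset_push hf, blockRank_irrCongr, ← map_stabP hf,
    ← Set.ncard_image_of_injective _ hf]
  congr 4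
  ext v
  exact ⟨fun ⟨_, ⟨x, hx, rfl⟩, e⟩ => ⟨_, ⟨x, hx, rfl⟩, by simp [← e]⟩,
    fun ⟨_, ⟨x, hx, rfl⟩, e⟩ => ⟨_, ⟨x, hx, rfl⟩, by simp [← e]⟩⟩

theorem MaxP.rkQ_cent (hM : IsPModular p M) (hm : MaxP p H η P ε) (hP : P ≤ 𝐂 P)
    (h : SLE p H Q φ P ε) {R : Subgroup G} (hR : R ≤ P) :
    rkQ p (H ⊓ 𝐂 Q) P ε R = rkQ p H P ε (Q ⊔ R) := by
  have h0 : P ≤ 𝐂 Q := hP.trans (centralizer_le h.le)
  have h1 := hm.cent_of_comm hM h0 h
  obtain ⟨ψ, h3⟩ := hm.bp.exists_sle hM (sup_le h.le hR)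
  have h4 := (ind_cent_iff_sle hM (hP.trans (centralizer_le h3.le)) h3.le hm.bp h3.bp).2 h3
  have h5 := (ind_cent_iff_sle (φ := ψ) hM (hP.trans (centralizer_le hR)) hR h1.bp ⟨hR.trans h1.bp.le,
    hm.bp.isPGroup.to_le hR, by rw [← inf_cent_sup]; exact h3.bp.blk⟩).1 (by
      rwa [← inf_cent_sup, ← inf_cent_sup, sup_eq_right.2 h.le])
  rw [h5.rkQ_eq hM, h3.rkQ_eq hM, inf_cent_sup]

theorem MaxP.rkQ_bot (hM : IsPModular p M) (hm : MaxP p H η P ε) :
    rkQ p H P ε ⊥ = blockRank p (bset H η) := by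
  rw [(((bpo_iff_sle_bot hM).1 hm.bpo)).rkQ_eq hM, inf_eq_left.2 fun x _ y hy => by simp [mem_bot.1 hy]]

omit [Fact p.Prime] in
theorem stabP_inf_cent : stabP (H ⊓ 𝐂 Q) P ε = stabP H P ε ⊓ 𝐂 Q := by
  simp only [stabP, inf_right_comm _ (𝐂 Q)]

/-- Watanabe's theorem for the number of Brauer characters. -/
theorem MaxP.rkQ_eq_of_fixed (hM : IsPModular p M) (hm : MaxP p H η P ε) (hP : P ≤ 𝐂 P) (hz : z ∈ P)
    (hz' : z ∈ 𝐂 (stabP H P ε)) : rkQ p H P ε (zpowers z) = blockRank p (bset H η) := by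
  induction H using WellFoundedLT.induction generalizing η with
  | ind H ih =>
  haveI := Fintype.ofFinite P
  have h1 : ∀ v ∈ P, v ∉ 𝐂 (stabP H P ε) →
      rkQ p H P ε (zpowers v) = rkQ p H P ε (zpowers v ⊔ zpowers z) := fun v hv h => by
    obtain ⟨φ, h2⟩ := hm.bp.exists_sle hM (zpowers_le.2 hv)
    rw [← hm.rkQ_cent hM hP h2 (zpowers_le.2 hz), h2.rkQ_eq hM]
    refine (ih _ (inf_lt_left.2 fun h3 => h fun t ht => ?_) (hm.cent_of_comm hM
      (hP.trans (centralizer_le h2.le)) h2) (centralizer_le ?_ hz')).symm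
    · exact (h3 (stabP_le ht) v (mem_zpowers v)).symm
    · rw [stabP_inf_cent]; exact fun _ h => h.1
  have h2 : ∀ w, (clsSet (stabP H P ε) (z * w)).ncard = (clsSet (stabP H P ε) w).ncard := fun w => by
    rw [← Set.ncard_image_of_injective (clsSet _ w) (mul_right_injective z)]
    congr 1
    ext v
    exact ⟨fun ⟨x, hx, e⟩ => ⟨_, ⟨x, hx, rfl⟩, by simp only [← e, ← mul_assoc, hz' x hx]⟩,
      fun ⟨_, ⟨x, hx, rfl⟩, e⟩ => ⟨x, hx, by simp only [← e, ← mul_assoc, hz' x hx]⟩⟩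
  have h3 : (clsSet (stabP H P ε) (1 : G)).ncard = 1 :=
    Set.ncard_eq_one.2 ⟨1, Set.ext fun v => ⟨fun ⟨x, _, e⟩ => by simpa using e.symm,
      fun e => ⟨1, one_mem _, by simpa using e.symm⟩⟩⟩
  have h4 := fourier_aux
    { carrier := {l : P →* ℂˣ | ∀ t ∈ stabP H P ε, ∀ u v : P, v.1 = t * u * t⁻¹ → l v = l u}
      one_mem' := fun _ _ _ _ _ => rfl
      mul_mem' := fun h h' t ht u v e => by simp [h t ht u v e, h' t ht u v e]
      inv_mem' := fun h t ht u v e => by simp [h t ht u v e] }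
    (fun u => (rkQ p H P ε (zpowers u.1) / (clsSet (stabP H P ε) u.1).ncard : ℂ))
    (fun l hl h => by rw [hm.sum_lin hM hP hl, if_neg h, Nat.cast_zero]) ⟨z, hz⟩ fun w hw h => by
      have h5 : w.1 ∉ 𝐂 (stabP H P ε) := fun h5 => by
        obtain ⟨l, h6, h7⟩ := exists_inv_lin hm.bp.isPGroup hP stabP_le_norm (fun h => hm.not_dvd hM
          (h.trans (by
            rw [← inf_relIndex_right (P ⊔ _), ← inf_relIndex_right (𝐂 P)]
            exact dvd_of_eq (congrArg (relIndex · _) (le_antisymm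
              (le_inf (le_sup_of_le_right fun x h => ⟨stabP_le h.2, h.1⟩) inf_le_right)
              (inf_le_inf_right _ (sup_le hP inf_le_right))))))) h5 hw
        exact h7 (h l h6)
      have h6 : zpowers (z * w) ⊔ zpowers z = zpowers w.1 ⊔ zpowers z := le_antisymm
        (sup_le (zpowers_le.2 (mul_mem (mem_sup_right (mem_zpowers _)) (mem_sup_left (mem_zpowers _))))
          le_sup_right) (sup_le (zpowers_le.2 ((mul_mem_cancel_left (mem_sup_right (mem_zpowers z))).1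
            (mem_sup_left (mem_zpowers _)))) le_sup_right)
      simp only [coe_mul]
      rw [h2, h1 _ (mul_mem hz w.2) (by rwa [mul_mem_cancel_left hz']), h1 _ w.2 h5, h6]
  have h5 := h2 1
  simp only [coe_one, h3, mul_one] at h4 h5
  rw [h5, zpowers_one_eq_bot, hm.rkQ_bot hM] at h4
  simpa using h4

/-- Watanabe's theorem. -/
theorem MaxP.card_eq_of_fixed (hM : IsPModular p M) (hm : MaxP p H η P ε) (hP : P ≤ 𝐂 P)
    (h : SLE p H (zpowers z) φ P ε) (hz' : z ∈ 𝐂 (stabP H P ε)) :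
    Nat.card (bset (H ⊓ 𝐂 (zpowers z)) φ) = Nat.card (bset H η) := by
  haveI := Fintype.ofFinite P
  have hz := h.le (mem_zpowers z)
  have h1 := hm.sum_lin hM hP (l := 1) fun _ _ _ _ _ => rfl
  have h2 := (hm.cent_of_comm hM (hP.trans (centralizer_le h.le)) h).sum_lin hM hP (l := 1)
    fun _ _ _ _ _ => rfl
  rw [if_pos rfl] at h1 h2
  refine Nat.cast_injective (R := ℂ) (h2.symm.trans (Eq.trans (Finset.sum_congr rfl fun u _ => ?_) h1))
  obtain ⟨ψ, h3⟩ := hm.bp.exists_sle hM (zpowers_le.2 u.2)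
  rw [hm.rkQ_cent hM hP h (zpowers_le.2 u.2), sup_comm, ← hm.rkQ_cent hM hP h3 h.le,
    (hm.cent_of_comm hM (hP.trans (centralizer_le h3.le)) h3).rkQ_eq_of_fixed hM hP hz
    (centralizer_le (by rw [stabP_inf_cent]; exact fun _ h => h.1) hz'), h3.rkQ_eq hM, stabP_inf_cent,
    inf_eq_left.2 (le_centralizer_iff.1 (zpowers_le.2 hz'))]

end Cfsg.Lib.Block2
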