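import Cfsg.Agent.Lib.Block2.Tame5
import Cfsg.Agent.Lib.Block2.Wat

/-! Counting subsections of tame blocks. -/

set_option autoImplicit false
set_option linter.dupNamespace false
set_option linter.unusedSectionVars false
set_option linter.style.haveILetI false

open Cfsg Cfsg.Lib.Block Cfsg.Lib.Block2 Cfsg.Lib.Char Cfsg.Lib.Amalg MonoidAlgebra Subgroup
open Cfsg.Lib.Small
open scoped ComplexConjugate

namespace Cfsg.Lib.Block2.Tame

section gen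

variable {p : ℕ} [Fact p.Prime] {M : Ideal AlgInt} [M.IsMaximal] {G : Type*} [Group G] [Fintype G]
  {P T D : Subgroup G} {β ε η : MonoidAlgebra (resField M) G} {B : Set (IrrCharacter G)} {u v : G}

theorem iso_of_defG [Fintype T] [Fintype D] (hM : IsPModular p M) (hB : IsPBlock M B) (h1 : D ≤ T)
    (hd : DefG p T η D) (hi : Ind T η ⊤ (eB M B)) (hn : NilB p T η) :
    ∃ b ψ₀ J, IsInducedBlock M T b B ∧ IsDefectGroup p M b (D.subgroupOf T) ∧
      NJ p b (inclusion h1) ψ₀ J := by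
  have hb := hn.blk.isPBlock_bset
  rw [← hn.blk.EB_bset] at hd hi hn
  have hd := (isDefectGroup_subgroupOf_iff hM hb h1).2 hd
  obtain ⟨ψ₀, J, hJ⟩ := exists_NJ hM hb ((isNilpotentBlock_iff_top hM hb).1
    ((isNilpotentBlock_iff hM hb).2 hn)) hd (subgroupOfEquivOfLe h1)
  exact ⟨_, ψ₀, J, hi.isInducedBlock hb hB, hd, hJ⟩

variable (p P ε) in
/-- the contribution of an element to the number of characters -/
noncomputable def aF (u : G) : ℚ := (rk p P ε u : ℚ) / nF p P ε u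

variable (hM : IsPModular p M) (hB : IsPBlock M B) (hm : MaxP p ⊤ (eB M B) P ε)
include hM hB hm

theorem rk_eq (h : FCj p P ε u v) : rk p P ε v = rk p P ε u := by
  classical
  apply Nat.cast_injective (R := ℂ)
  rw [← (hm.bpo_sp hM h.mem).sum_con hM hB, ← (hm.bpo_sp hM h.mem').sum_con hM hB]
  exact Finset.sum_congr rfl fun χ _ => h.con_eq hM χ.2.isClassFunction χ.2.isClassFunction

omit hB in
theorem rk_pos (hu : u ∈ P) : 0 < rk p P ε u :=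
  Nat.pos_of_ne_zero (blockRank_ne_zero hM (hm.bp.sle_sp hM hu).bp.blk_top.isPBlock_bset)

omit hB in
theorem one_le_sum {Y : Finset G} (hne : Y.Nonempty) (hY : ∀ u ∈ Y, u ∈ P)
    (h : ∀ u ∈ Y, ∀ v, FCj p P ε u v → v ∈ Y) : 1 ≤ ∑ u ∈ Y, aF p P ε u := by
  have h0 : (0 : ℚ) < Y.card := by exact_mod_cast hne.card_pos
  refine le_trans (by rw [nsmul_eq_mul, mul_one_div_cancel h0.ne']) (Finset.card_nsmul_le_sum Y _
    (1 / (Y.card : ℚ)) fun u hu => ?_)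
  refine div_le_div₀ (Nat.cast_nonneg _) (by exact_mod_cast rk_pos hM hm (hY u hu))
    (by exact_mod_cast hm.bp.nF_pos hM (hY u hu)) ?_
  rw [nF_eq, ← Set.ncard_coe_finset]
  exact_mod_cast Set.ncard_le_ncard (h u hu)

theorem sum_class {Y : Finset G} (hu : u ∈ P) (h : ∀ v, v ∈ Y ↔ FCj p P ε u v) :
    ∑ v ∈ Y, aF p P ε v = rk p P ε u := by
  have h1 : nF p P ε u = Y.card := by
    rw [nF_eq, ← Set.ncard_coe_finset]
    exact congrArg _ (Set.ext fun v => (h v).symm)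
  have h2 := hm.bp.nF_pos hM hu
  rw [Finset.sum_congr rfl (g := fun _ => (rk p P ε u : ℚ) / Y.card) fun v hv => by
    rw [aF, rk_eq hM hB hm ((h v).1 hv), ((h v).1 hv).nF_eq hM, h1], Finset.sum_const, nsmul_eq_mul,
    mul_div_cancel₀ _ (by exact_mod_cast (h1 ▸ h2).ne')]

end gen

section push

variable {p : ℕ} [Fact p.Prime] {M : Ideal AlgInt} [M.IsMaximal] {G K : Type*} [Group G] [Fintype G]
  [Group K] [Fintype K] {f : K →* G} {P : Subgroup K} {ε : MonoidAlgebra (resField M) K} {u : K}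

theorem rk_push (hM : IsPModular p M) (hf : Function.Injective f) (h : BP p ⊤ P ε) (hu : u ∈ P)
    (h1 : 𝐂 (zpowers (f u)) ≤ (⊤ : Subgroup K).map f) : rk p (P.map f) (push f ε) (f u) = rk p P ε u := by
  have h2 := h.sle_sp hM hu
  have h3 := h2.push hf
  have h4 := h2.bp.blk.bset_push hf
  have e : (⊤ ⊓ 𝐂 (zpowers u) : Subgroup K).map f = 𝐂 (zpowers (f u)) := by
    rw [map_inf_cent hf, MonoidHom.map_zpowers, inf_eq_right.2 h1]
  rw [MonoidHom.map_zpowers] at h3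
  rw [rk, (h3.of_ge (inf_le_right.trans h1) le_top).sp_eq hM, ← e, h4, blockRank_irrCongr, top_inf_eq]

theorem nF_push (hM : IsPModular p M) (hf : Function.Injective f)
    (h1 : ∀ g, g * f u * g⁻¹ ∈ P.map f → g ∈ (⊤ : Subgroup K).map f) (h : BP p ⊤ P ε) (hu : u ∈ P) :
    nF p (P.map f) (push f ε) (f u) = nF p P ε u := by
  have h2 : ∀ g : K, g * u * g⁻¹ ∈ P → ⊤ ⊓ 𝐂 ((cj g (zpowers u)).map f) ≤ (⊤ : Subgroup K).map f :=
    fun g hg c hc => by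
      refine (mul_mem_cancel_right (mem_map_of_mem f (mem_top g))).1 (h1 _ ?_)
      have := hc.2 _ (mem_map_of_mem f (conj_mem_cj g (mem_zpowers u)))
      rw [show c * f g * f u * (c * f g)⁻¹ = c * f (g * u * g⁻¹) * c⁻¹ by simp [mul_assoc], ← this,
        mul_inv_cancel_right]
      exact mem_map_of_mem f hg
  have h3 : ∀ g : K, cj (f g) ((zpowers u).map f) = (cj g (zpowers u)).map f := fun g => by
    rw [MonoidHom.map_zpowers, cj_zpowers, cj_zpowers, MonoidHom.map_zpowers, map_mul, map_mul, map_inv]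
  have h4 := h2 1 (by simpa using hu)
  rw [cj_one] at h4
  rw [nF, nF, ← Set.ncard_image_of_injective _ hf, ← MonoidHom.map_zpowers]
  congr 1
  ext v
  constructor
  · rintro ⟨g, ⟨-, φ, i1, i2⟩, rfl⟩
    obtain ⟨g, -, rfl⟩ := h1 g (i2.le (conj_mem_cj g (mem_map_of_mem f (mem_zpowers u))))
    have i3 := h.sle_sp hM hu
    obtain rfl := i1.unique hM ((i3.push hf).of_ge h4 le_top)
    rw [h3, cjA_push] at i2
    refine ⟨_, ⟨g, ⟨trivial, _, i3, (sle_push_iff hM hf).1 (i2.of_le' (map_mono le_top) (h2 g ?_) le_top)⟩,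
      rfl⟩, by simp⟩
    exact (mem_map_iff_mem hf).1 (i2.le (mem_map_of_mem f (conj_mem_cj g (mem_zpowers u))))
  · rintro ⟨_, ⟨g, ⟨-, φ, i1, i2⟩, rfl⟩, rfl⟩
    refine ⟨f g, ⟨trivial, _, (i1.push hf).of_ge h4 le_top, ?_⟩, by simp⟩
    rw [h3, cjA_push]
    exact (i2.push hf).of_ge (h2 g (i2.le (conj_mem_cj g (mem_zpowers u)))) le_top

end push

variable {M : Ideal AlgInt} [M.IsMaximal] [Fact (Nat.Prime 2)] {G : Type*} [Group G] [Fintype G]
  {P : Subgroup G} {β ε : MonoidAlgebra (resField M) G} {B : Set (IrrCharacter G)} {x y z u v g : G}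
  {k : ℕ}

open scoped Classical in
/-- elements with prescribed order -/
noncomputable def ordF (P : Subgroup G) (q : ℕ → Prop) : Finset G := {u | u ∈ P ∧ q (orderOf u)}

theorem mem_ordF {q : ℕ → Prop} : u ∈ ordF P q ↔ u ∈ P ∧ q (orderOf u) := by simp [ordF]

theorem FCj.ord (h : FCj 2 P ε u v) : orderOf v = orderOf u := by
  obtain ⟨g, -, rfl⟩ := h
  exact ord_conj g u

theorem sum_ordF (q r : ℕ → Prop) (f : G → ℚ) : ∑ u ∈ ordF P q, f u =
    ∑ u ∈ ordF P fun n => q n ∧ r n, f u + ∑ u ∈ ordF P fun n => q n ∧ ¬ r n, f u := by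
  classical
  rw [← Finset.sum_filter_add_sum_filter_not _ fun u => r (orderOf u)]
  congr 2 <;> ext <;> simp [mem_ordF, and_assoc]

theorem one_le_ordF (hM : IsPModular 2 M) (hm : MaxP 2 ⊤ (eB M B) P ε) {q : ℕ → Prop} (hu : u ∈ P)
    (h : q (orderOf u)) : 1 ≤ ∑ u ∈ ordF P q, aF 2 P ε u :=
  one_le_sum hM hm ⟨u, mem_ordF.2 ⟨hu, h⟩⟩ (fun _ h => (mem_ordF.1 h).1) fun _ h _ h' =>
    mem_ordF.2 ⟨h'.mem', FCj.ord h' ▸ (mem_ordF.1 h).2⟩

theorem card_eq (hM : IsPModular 2 M) (hB : IsPBlock M B) (hm : MaxP 2 ⊤ (eB M B) P ε) :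
    (Nat.card B : ℚ) = blockRank 2 B + ∑ u ∈ ordF P (· = 2), aF 2 P ε u +
      ∑ u ∈ ordF P (¬ · ∣ 2), aF 2 P ε u := by
  classical
  rw [hm.card_eq_sum hM hB, ← Finset.sum_filter_add_sum_filter_not _ fun u => orderOf u ∣ 2,
    ← Finset.add_sum_erase _ _ (a := 1) (by simp), hm.rk_one hM hB, hm.bp.nF_one hM, Nat.cast_one, div_one]
  refine congrArg₂ _ (congrArg _ (Finset.sum_congr (Finset.ext fun u => ?_) fun _ _ => rfl))
    (Finset.sum_congr (Finset.ext fun u => by simp [mem_ordF]) fun _ _ => rfl)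
  simp only [mem_ordF, Nat.dvd_prime Nat.prime_two, Finset.mem_erase, Finset.mem_filter, Finset.mem_univ,
    true_and, orderOf_eq_one_iff]
  exact ⟨by tauto, fun h => ⟨fun e => by simp [e] at h, by tauto⟩⟩

namespace MC

variable (h : MC P x z k)
include h

theorem loc (hM : IsPModular 2 M) (hm : MaxP 2 ⊤ β P ε) (hu : u ∈ zpowers x)
    (ho : ∀ a ∈ P, a ∉ zpowers x → orderOf a ∣ orderOf u) : rk 2 P ε u = 1 ∧
      ∀ v ∈ zpowers x, FCj 2 P ε u v → ∃ y ∈ P, y * u * y⁻¹ = v := by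
  have h2 : 𝐂 (zpowers u) ≤ 𝐍 (zpowers u) := centralizer_le_normalizer _
  obtain ⟨η, hη, -⟩ := exists_loc hM hm (h.le_norm hu) ((centralizer_le (zpowers_le.2 (h.le hu))).trans h2)
  have hn := hη.nilB_of_forall hM fun Q φ hQ g hg => h.cent_of_norm_t hu ho hQ.le hg.1.1 hg.1.2
  have h3 := (hm.bp.sle_sp hM (h.le hu)).of_le' (h.le_norm hu) (inf_le_right.trans h2) le_top
  refine ⟨?_, ?_⟩
  · have := (hn.cent' hM (hη.bpo.of_sle hM h3)).blockRank_bset hM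
    rwa [inf_eq_right.2 h2] at this
  rintro _ hv ⟨g, hg, rfl⟩
  have h4 : g ∈ 𝐍 (zpowers u) := mem_norm_zpowers.2 (mem_zp hv hu (ord_conj g u).dvd)
  obtain ⟨y, hy, h5⟩ := hn.exists_mem hM hη (Q := zpowers u) ⟨h4, _, h3, (hg.sle hM
    (hm.bp.sle_sp hM (h.le hu))).of_le' (h.le_norm hu) (by
      rw [cj_of_mem_normalizer h4]; exact inf_le_right.trans h2) le_top⟩
  exact ⟨y, hy, by rw [← mul_inv_cancel_left y g, mul_assoc y (y⁻¹ * g), ← h5 u (mem_zpowers u)]; group⟩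

theorem aF_half (hM : IsPModular 2 M) (hm : MaxP 2 ⊤ β P ε) (hu : u ∈ zpowers x)
    (ho : ∀ a ∈ P, a ∉ zpowers x → orderOf a ∣ orderOf u ∧ orderOf a ≠ orderOf u) :
    aF 2 P ε u = 1 / 2 := by
  obtain ⟨h1, h2⟩ := h.loc hM hm hu fun a ha ha' => (ho a ha ha').1
  obtain ⟨y, hy, hy'⟩ := h.exists_notMem
  have h3 : u ≠ y * u * y⁻¹ := fun e => by
    have h4 := ho y hy hy'
    have h5 : orderOf y ≠ 1 := fun e => hy' (orderOf_eq_one_iff.1 e ▸ one_mem _)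
    rcases h.cen y hy hy' u hu (eq_mul_inv_iff_mul_eq.1 e).symm with rfl | rfl
    · exact h5 (Nat.dvd_one.1 (orderOf_one (G := G) ▸ h4.1))
    · rw [h.zord, Nat.dvd_prime Nat.prime_two] at h4
      tauto
  rw [aF, h1, nF_eq, show {v | FCj 2 P ε u v} = {u, y * u * y⁻¹} from Set.ext fun v => ⟨fun hv => ?_, ?_⟩,
    Set.ncard_pair h3]
  · norm_num
  · obtain ⟨a, ha, rfl⟩ := h2 v (by_contra fun e => (ho v hv.mem' e).2 (by
      obtain ⟨g, -, rfl⟩ := hv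
      exact ord_conj g u)) hv
    by_cases e : a ∈ zpowers x
    · exact .inl (by rw [comm_of_mem_zpowers e hu, mul_inv_cancel_right])
    · exact .inr (by
        rw [← mul_inv_cancel_left y a, mul_assoc y (y⁻¹ * a),
          comm_of_mem_zpowers (h.inv_mul_mem hy ha hy' e) hu]
        simp [mul_assoc])
  · rintro (rfl | rfl)
    exacts [hm.bp.fCj_refl hM (h.le hu), hm.bp.fCj_of_mem hM (h.le hu) hy]

theorem four (hv : v ∈ P) (h1 : v ∉ zpowers x) (h2 : v * v = 1) :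
    MC (P ⊓ centralizer {v}) v v 0 ∧ ∀ a ∈ P ⊓ centralizer {v}, a * a = 1 := by
  have h3 : v ≠ 1 := fun e => h1 (e ▸ one_mem _)
  have h4 : orderOf v = 2 := orderOf_eq_prime ((pow_two v).trans h2) h3
  have h5 : ∀ a, a ∈ P ⊓ centralizer {v} ↔ a = 1 ∨ a = z ∨ a = v ∨ a = v * z := fun a => by
    refine ⟨fun ha => h.cent_le hv h1 ha.1 (mem_centralizer_singleton_iff.1 ha.2).symm, ?_⟩
    have h6 : v ∈ P ⊓ centralizer {v} := ⟨hv, mem_centralizer_singleton_iff.2 rfl⟩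
    have h7 : z ∈ P ⊓ centralizer {v} := ⟨h.zP, mem_centralizer_singleton_iff.2 (h.comm_z hv).symm⟩
    rintro (rfl | rfl | rfl | rfl)
    exacts [one_mem _, h7, h6, Subgroup.mul_mem _ h6 h7]
  have h8 : ∀ a ∈ P ⊓ centralizer {v}, a * a = 1 := fun a ha => by
    rcases (h5 a).1 ha with rfl | rfl | rfl | rfl
    exacts [one_mul 1, h.zz, h2, by rw [mul_assoc, ← mul_assoc z, ← h.comm_z hv, mul_assoc, h.zz, mul_one, h2]]
  refine ⟨⟨(h5 v).2 (by simp), h4, ?_, mem_zpowers v, h4, fun a ha _ => .inl (h8 a ha),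
    fun a _ _ u hu _ => eq_of_mem_zpowers_two h4 hu⟩, h8⟩
  · have h6 : z ≠ v := fun e => h1 (e ▸ h.zmem)
    have h7 : v * z ≠ 1 := fun e => h6 (by rw [eq_inv_of_mul_eq_one_left e, h.zinv])
    rw [← SetLike.coe_sort_coe, Nat.card_coe_set_eq, show ((P ⊓ centralizer {v} : Subgroup G) : Set G) =
      {1, z, v, v * z} from Set.ext h5, Set.ncard_insert_of_notMem (by simp [h.z_ne.symm, h3.symm, h7.symm]),
      Set.ncard_insert_of_notMem (by simp [h6, h3]), Set.ncard_pair (by simp [h.z_ne])]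
    rfl

theorem exists_four (hM : IsPModular 2 M) (hm : MaxP 2 ⊤ β P ε) (hy : y ∈ P) (h2 : orderOf y = 2)
    (h3 : ¬ FCj 2 P ε y z) : ∃ v, FCj 2 P ε y v ∧ MC (P ⊓ centralizer {v}) v v 0 ∧
      DefG 2 (centralizer {v}) (sp 2 P ε v) (P ⊓ centralizer {v}) ∧
      NilB 2 (centralizer {v}) (sp 2 P ε v) := by
  have h4 := hm.bp.sle_sp hM hy
  obtain ⟨E, hE⟩ := h4.bp.blk.exists_defG hM
  obtain ⟨g, -, h5, h6⟩ := hm.exists_conj_defG hM (hm.bpo.of_sle hM h4) h4.bp.cent_le_stabP hE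
  have h7 : FCj 2 P ε y (g * y * g⁻¹) := ⟨g, ⟨trivial, _, h4, h5⟩, rfl⟩
  have h8 := hE.cjA g
  have h9 : orderOf (g * y * g⁻¹) = 2 := (ord_conj g y).trans h2
  have h10 : g * y * g⁻¹ * (g * y * g⁻¹) = 1 := by rw [← pow_two, ← h9, pow_orderOf_eq_one]
  rw [cj_zpowers] at h5
  rw [← h6, ← h5.sp_eq hM, cj_inf_cent, cj_top, top_inf_eq, cj_zpowers, centralizer_zpowers_eq] at h8
  obtain ⟨h11, h12⟩ := h.four h7.mem' (fun e => (h.eq_z e h10).elim (fun e => by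
    rw [e, orderOf_one] at h9; omega) fun e => h3 (e ▸ h7)) h10
  refine ⟨_, h7, h11, h8, ?_⟩
  obtain ⟨η, hη⟩ := h8.exists_maxP hM (hm.bp.sle_sp hM h7.mem').blk_cent
  exact hη.nilB_of_forall hM fun Q φ hQ a ha => h11.cent_of_norm_t (mem_zpowers _)
    (fun b hb hb' => h9 ▸ orderOf_dvd_of_pow_eq_one ((pow_two b).trans (h12 b hb))) hQ.le (mem_norm_zpowers.2 ((mem_cent_iff_two h9).1 ha.1.1)) ha.1.2

theorem rk_four (hM : IsPModular 2 M) (hB : IsPBlock M B) (hm : MaxP 2 ⊤ (eB M B) P ε) (hy : y ∈ P)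
    (h2 : orderOf y = 2) (h3 : ¬ FCj 2 P ε y z) : rk 2 P ε y = 1 := by
  obtain ⟨v, h4, -, -, h5⟩ := h.exists_four hM hm hy h2 h3
  rw [← rk_eq hM hB hm h4, rk, centralizer_zpowers_eq, h5.blockRank_bset hM]

theorem inv_cases (hM : IsPModular 2 M) (hB : IsPBlock M B) (hm : MaxP 2 ⊤ (eB M B) P ε) :
    (∀ y ∈ P, orderOf y = 2 → FCj 2 P ε z y) ∧ ∑ u ∈ ordF P (· = 2), aF 2 P ε u = rk 2 P ε z ∨
    (∃ y ∈ P, orderOf y = 2 ∧ ¬ FCj 2 P ε y z) ∧ rk 2 P ε z + 1 ≤ ∑ u ∈ ordF P (· = 2), aF 2 P ε u ∧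
      ((∀ a ∈ P, ∀ b ∈ P, a ∉ zpowers x → b ∉ zpowers x → a * a = 1 → b * b = 1 →
        ∃ w ∈ P, w * a * w⁻¹ = b) → ∑ u ∈ ordF P (· = 2), aF 2 P ε u = rk 2 P ε z + 1) := by
  classical
  by_cases e : ∀ y ∈ P, orderOf y = 2 → FCj 2 P ε z y
  · exact .inl ⟨e, sum_class hM hB hm h.zP fun v => mem_ordF.trans
      ⟨fun h => e v h.1 h.2, fun h1 => ⟨h1.mem', (FCj.ord h1).trans h.zord⟩⟩⟩
  push Not at e
  obtain ⟨y, hy, h1, h2⟩ := e
  rw [← Finset.sum_filter_add_sum_filter_not _ (FCj 2 P ε z), sum_class hM hB hm h.zP fun v => by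
    simpa [mem_ordF] using fun h1 : FCj 2 P ε z v => And.intro h1.mem' ((FCj.ord h1).trans h.zord)]
  have h3 : ∀ u v, FCj 2 P ε u v → (u ∈ P ∧ orderOf u = 2) ∧ ¬ FCj 2 P ε z u →
      (v ∈ P ∧ orderOf v = 2) ∧ ¬ FCj 2 P ε z v := fun u v h h' =>
    ⟨⟨h.mem', (FCj.ord h).trans h'.1.2⟩, fun e => h'.2 (e.trans hM h.symm)⟩
  refine .inr ⟨⟨y, hy, h1, fun e => h2 e.symm⟩, by
    gcongr
    exact one_le_sum hM hm ⟨y, by simp [mem_ordF, *]⟩ (by simp +contextual [mem_ordF])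
      fun u hu v e => by simpa [mem_ordF] using h3 u v e (by simpa [mem_ordF] using hu), fun hc => ?_⟩
  have h4 : ∀ v, (v ∈ P ∧ orderOf v = 2) ∧ ¬ FCj 2 P ε z v → v ∉ zpowers x ∧ v * v = 1 := fun v hv => by
    have h5 : v * v = 1 := by rw [← pow_two, ← hv.1.2, pow_orderOf_eq_one]
    refine ⟨fun e => (h.eq_z e h5).elim (fun e => ?_) fun e => hv.2 (e ▸ hm.bp.fCj_refl hM hv.1.1), h5⟩
    simpa [e] using hv.1.2
  rw [sum_class hM hB hm hy fun v => ?_, h.rk_four hM hB hm hy h1 fun e => h2 e.symm, Nat.cast_one]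
  simp only [Finset.mem_filter, mem_ordF]
  refine ⟨fun hv => ?_, fun hv => h3 y v hv ⟨⟨hy, h1⟩, h2⟩⟩
  obtain ⟨w, hw, rfl⟩ := hc y hy v hv.1.1 (h4 y ⟨⟨hy, h1⟩, h2⟩).1 (h4 v hv).1 (h4 y ⟨⟨hy, h1⟩, h2⟩).2 (h4 v hv).2
  exact hm.bp.fCj_of_mem hM hy hw

theorem sum_half (hM : IsPModular 2 M) (hm : MaxP 2 ⊤ β P ε) {j : ℕ} (hj : j ≤ k + 1)
    (ho : ∀ a ∈ P, a ∉ zpowers x → orderOf a ∣ 2 ^ j) :
    ∑ u ∈ ordF P (¬ · ∣ 2 ^ j), aF 2 P ε u = (2 ^ (k + 1) - 2 ^ j) / 2 := by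
  classical
  have h2 : orderOf (x ^ 2 ^ (k + 1 - j)) = 2 ^ j := by
    rw [orderOf_pow_of_dvd (by positivity) (h.ord ▸ pow_dvd_pow _ (by omega)), h.ord,
      Nat.pow_div (by omega) two_pos]
    congr 1; omega
  have h1 : ∀ u, u ∈ ordF P (¬ · ∣ 2 ^ j) ↔ u ∈ zpowers x ∧ u ∉ zpowers (x ^ 2 ^ (k + 1 - j)) := fun u => by
    rw [mem_ordF]
    exact ⟨fun hu => ⟨by_contra fun e => hu.2 (ho u hu.1 e), fun e => hu.2 (h2 ▸ orderOf_dvd_of_mem_zpowers e)⟩,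
      fun hu => ⟨h.le hu.1, fun e => hu.2 (mem_zp hu.1 (pow_mem (mem_zpowers x) _) (h2 ▸ e))⟩⟩
  have h3 : ∀ t : G, (Finset.univ.filter (· ∈ zpowers t)).card = orderOf t := fun t => by
    rw [← Fintype.card_subtype, ← Nat.card_eq_fintype_card, Nat.card_zpowers]
  rw [Finset.sum_congr rfl fun u hu => h.aF_half hM hm ((h1 u).1 hu).1 fun a ha ha' => ?_, Finset.sum_const,
    show ordF P (¬ · ∣ 2 ^ j) = Finset.univ.filter (· ∈ zpowers x) \
      Finset.univ.filter (· ∈ zpowers (x ^ 2 ^ (k + 1 - j))) from Finset.ext fun u => by simpa using h1 u,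
    Finset.card_sdiff_of_subset fun u => by simpa using fun e => zpowers_le.2 (pow_mem (mem_zpowers x) _) e,
    h3, h3, h2, h.ord, nsmul_eq_mul, Nat.cast_sub (Nat.pow_le_pow_right two_pos hj)]
  · push_cast; ring
  obtain ⟨i, -, hi⟩ := (Nat.dvd_prime_pow Nat.prime_two).1 (h.ord ▸ orderOf_dvd_of_mem_zpowers ((h1 u).1 hu).1)
  have h4 := (mem_ordF.1 hu).2
  refine ⟨(ho a ha ha').trans (hi ▸ pow_dvd_pow _ (le_of_not_ge fun e => h4 (hi ▸ pow_dvd_pow _ e))),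
    fun e => h4 (e ▸ ho a ha ha')⟩

theorem dih_count (hM : IsPModular 2 M) (hB : IsPBlock M B) (hm : MaxP 2 ⊤ (eB M B) P ε)
    (hd : ∀ a ∈ P, a ∉ zpowers x → a * a = 1) : Nat.card B = 2 ^ k + 3 ∧
      ((∀ y ∈ P, orderOf y = 2 → FCj 2 P ε z y) ∧ blockRank 2 B = 3 ∨
        (∃ y ∈ P, orderOf y = 2 ∧ ¬ FCj 2 P ε y z) ∧ blockRank 2 B ≤ 2) := by
  obtain ⟨w, v, t, H⟩ := exists_DH hM hB ((isDefectGroup_iff_defG_top hM hB).2 hm.defG) h hd
  have h1 : Nat.card B = 2 ^ k + 3 := by rw [card_BF, H.four, ← H.card]; omega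
  have h2 : ∀ a ∈ P, a ∉ zpowers x → orderOf a ∣ 2 := fun a ha ha' =>
    orderOf_dvd_of_pow_eq_one ((pow_two a).trans (hd a ha ha'))
  have h3 := card_eq hM hB hm
  have h4 := h.sum_half hM hm (j := 1) (by omega) h2
  have h5 := h.inv_cases hM hB hm
  rw [pow_one] at h4
  rw [h4, h1, pow_succ] at h3
  rw [(h.loc hM hm h.zmem (h.zord ▸ h2)).1] at h5
  push_cast at h3 h5
  refine ⟨h1, h5.imp (fun e => ⟨e.1, ?_⟩) fun e => ⟨e.1, ?_⟩⟩
  · exact_mod_cast (by linarith [e.2] : (blockRank 2 B : ℚ) = 3)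
  · exact_mod_cast (by linarith [e.2.1] : (blockRank 2 B : ℚ) ≤ 2)

end MC

end Cfsg.Lib.Block2.Tame
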