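import Cfsg.Agent.Lib.Block2.Tame6
import Cfsg.Prelude.Def_CaseTheorems

/-! Dihedral, semidihedral and quaternion groups. -/

set_option autoImplicit false
set_option linter.dupNamespace false
set_option linter.unusedSectionVars false
set_option linter.style.haveILetI false

open Cfsg Cfsg.Lib.Block Cfsg.Lib.Block2 Cfsg.Lib.Char Cfsg.Lib.Amalg MonoidAlgebra Subgroup
open Cfsg.Lib.Small

namespace Cfsg.Lib.Block2.Tame

variable {G : Type*} [Group G] [Finite G] {P : Subgroup G} {x y z : G} {k : ℕ}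

theorem mc_of_rel (hx : x ∈ P) (hy : y ∈ P) (ho : orderOf x = 2 ^ (k + 1)) (hc : Nat.card P = 2 ^ (k + 2))
    (hz : z = x ^ 2 ^ k) (hy' : y ∉ zpowers x) (h1 : y * y = 1 ∨ y * y = z)
    (h2 : y * x * y⁻¹ = x⁻¹ ∨ 2 ≤ k ∧ y * x * y⁻¹ = x⁻¹ * z) : MC P x z k ∧
      (y * x * y⁻¹ = x⁻¹ → ∀ a ∈ P, a ∉ zpowers x → a * a = y * y) := by
  have hz' : z ∈ zpowers x := hz ▸ pow_mem (mem_zpowers x) _
  have h3 : orderOf z = 2 := by
    rw [hz, orderOf_pow_of_dvd (by positivity) (ho ▸ pow_dvd_pow _ (by omega)), ho, pow_succ,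
      Nat.mul_div_cancel_left _ (by positivity)]
  have h4 : z * z = 1 := by rw [← pow_two, ← h3, pow_orderOf_eq_one]
  have h5 : ∀ a ∈ P, a ∉ zpowers x → ∃ i : ℕ, a = x ^ i * y := fun a ha ha' => by
    obtain ⟨i, hi⟩ := mem_powers_iff_mem_zpowers.2 (inv_mul_mem_of_card_le (zpowers_le.2 hx) (by
      rw [hc, Nat.card_zpowers, ho, pow_succ' _ (k + 1)]) (inv_mem ha) (inv_mem hy) (by simpa) (by simpa))
    exact ⟨i, by simp only at hi; rw [hi]; group⟩
  have h6 : ∀ i : ℕ, x ^ i * (y * x ^ i * y⁻¹) = 1 ∨ 2 ≤ k ∧ Odd i ∧ x ^ i * (y * x ^ i * y⁻¹) = z := fun i => by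
    rw [← conj_pow]
    rcases h2 with e | ⟨e1, e⟩
    · simp [e]
    rw [e, Commute.mul_pow (comm_of_mem_zpowers (inv_mem (mem_zpowers x)) hz'), inv_pow, mul_inv_cancel_left]
    obtain ⟨j, rfl | rfl⟩ := i.even_or_odd'
    · simp [pow_mul, pow_two, h4]
    · simp [pow_succ, pow_mul, h4, e1]
  have h7 : ∀ u ∈ zpowers x, u * u = 1 → u = 1 ∨ u = z := fun u hu e => eq_of_mem_zpowers_two h3
    (mem_zp hu hz' (h3 ▸ orderOf_dvd_of_pow_eq_one ((pow_two u).trans e)))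
  refine ⟨⟨hx, ho, hc, hz', h3, fun a ha ha' => ?_, fun a ha ha' u hu e => ?_⟩, fun e a ha ha' => ?_⟩
  · obtain ⟨i, rfl⟩ := h5 a ha ha'
    rw [show x ^ i * y * (x ^ i * y) = x ^ i * (y * x ^ i * y⁻¹) * (y * y) by group]
    rcases h6 i with e | ⟨-, -, e⟩ <;> rcases h1 with e' | e' <;> simp [e, e', h4]
  · obtain ⟨i, rfl⟩ := h5 a ha ha'
    obtain ⟨j, rfl⟩ := mem_powers_iff_mem_zpowers.2 hu
    simp only at e ⊢
    rw [mul_assoc, ← mul_assoc (x ^ j), (Commute.pow_pow_self x j i).eq, mul_assoc, mul_right_inj] at e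
    rcases h6 j with e' | ⟨e1, e2, e'⟩ <;> rw [e, mul_inv_cancel_right] at e'
    · exact h7 _ hu e'
    have h8 : 2 ^ (k + 1) ∣ j * 2 ^ 2 := ho ▸ orderOf_dvd_of_pow_eq_one (by
      rw [pow_mul, show 2 ^ 2 = 2 * 2 from rfl, pow_mul, pow_two (x ^ j), e', pow_two, h4])
    have := Nat.le_of_dvd (by norm_num) ((Nat.Coprime.pow_left _ (Nat.coprime_two_left.2 e2)).dvd_of_dvd_mul_left
      h8)
    have := Nat.pow_le_pow_right two_pos (show 3 ≤ k + 1 by omega)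
    omega
  · obtain ⟨i, rfl⟩ := h5 a ha ha'
    rw [show x ^ i * y * (x ^ i * y) = x ^ i * (y * x ^ i * y⁻¹) * (y * y) by group, ← conj_pow, e]
    simp

theorem mc_of_dihedral (e : P ≃* DihedralGroup (2 ^ (k + 1))) :
    ∃ x z, MC P x z k ∧ ∀ a ∈ P, a ∉ zpowers x → a * a = 1 := by
  let f := P.subtype.comp e.symm.toMonoidHom
  have hf : Function.Injective f := P.subtype_injective.comp e.symm.injective
  have h1 : f (.sr 0) * f (.sr 0) = 1 := by rw [← map_mul, DihedralGroup.sr_mul_self, map_one]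
  have h2 : f (.sr 0) * f (.r 1) * (f (.sr 0))⁻¹ = (f (.r 1))⁻¹ := by
    simp only [← map_mul, ← map_inv]; simp
  obtain ⟨h3, h4⟩ := mc_of_rel (P := P) (x := f (.r 1)) (y := f (.sr 0)) (k := k) (Subtype.prop _)
    (Subtype.prop _) ((orderOf_injective f hf _).trans DihedralGroup.orderOf_r_one)
    (by rw [Nat.card_congr e.toEquiv, DihedralGroup.nat_card, pow_succ' _ (k + 1)]) rfl (by
      rw [mem_zpowers_map_iff hf]
      rintro ⟨i, hi⟩
      simp at hi) (.inl h1) (.inl h2)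
  exact ⟨_, _, h3, h1 ▸ h4 h2⟩

theorem mc_of_quaternion (e : P ≃* QuaternionGroup (2 ^ k)) :
    ∃ x z, MC P x z k ∧ ∀ a ∈ P, a ∉ zpowers x → a * a = z := by
  let f := P.subtype.comp e.symm.toMonoidHom
  have hf : Function.Injective f := P.subtype_injective.comp e.symm.injective
  have h1 : f (.xa 0) * f (.xa 0) = f (.a 1) ^ 2 ^ k := by
    rw [← map_mul, ← map_pow, QuaternionGroup.a_one_pow]; simp
  have h2 : f (.xa 0) * f (.a 1) * (f (.xa 0))⁻¹ = (f (.a 1))⁻¹ := by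
    rw [mul_inv_eq_iff_eq_mul, eq_inv_mul_iff_mul_eq]
    simp only [← map_mul]; simp
  obtain ⟨h3, h4⟩ := mc_of_rel (P := P) (x := f (.a 1)) (y := f (.xa 0)) (k := k) (Subtype.prop _)
    (Subtype.prop _) ((orderOf_injective f hf _).trans (QuaternionGroup.orderOf_a_one.trans (pow_succ' _ _).symm))
    (by rw [Nat.card_congr e.toEquiv, Nat.card_eq_fintype_card, QuaternionGroup.card, pow_add, mul_comm]; rfl) rfl (by
      rw [mem_zpowers_map_iff hf]
      intro hi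
      obtain ⟨i, hi⟩ := mem_powers_iff_mem_zpowers.2 hi
      simp at hi) (.inr h1) (.inl h2)
  exact ⟨_, _, h3, h1 ▸ h4 h2⟩

theorem mc_of_quasi (h : IsQuasiDihedral P) : ∃ x y z k, MC P x z k ∧ 2 ≤ k ∧ y ∈ P ∧ y ∉ zpowers x ∧
    y * y = 1 ∧ y * x * y⁻¹ = x⁻¹ * z := by
  obtain ⟨n, hn, hc, x, y, h1, h2, h3⟩ := h
  obtain ⟨k, rfl⟩ : ∃ k, n = k + 1 := ⟨n - 1, by omega⟩
  have h4 : (y : G) * x * (y : G)⁻¹ = (x : G)⁻¹ * x ^ 2 ^ k := by
    rw [eq_inv_mul_iff_mul_eq, ← Nat.sub_add_cancel (Nat.two_pow_pos k), pow_succ']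
    exact congrArg _ (congrArg Subtype.val h3)
  have h5 : (y : G) ∉ zpowers (x : G) := fun e => by
    rw [comm_of_mem_zpowers e (mem_zpowers _), mul_inv_cancel_right, eq_inv_mul_iff_mul_eq, ← pow_two,
      pow_eq_pow_iff_modEq, orderOf_coe, h1] at h4
    have h6 := Nat.pow_le_pow_right two_pos (show 2 ≤ k by omega)
    have := h4.eq_of_lt_of_lt (by omega) (by omega)
    omega
  have h6 : (y : G) * y = 1 := by rw [← pow_two, ← h2, ← orderOf_coe, pow_orderOf_eq_one]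
  exact ⟨x, y, _, k, (mc_of_rel x.2 y.2 ((orderOf_coe x).trans h1) hc rfl h5 (.inl h6)
    (.inr ⟨by omega, h4⟩)).1, by omega, y.2, h5, h6, h4⟩

end Cfsg.Lib.Block2.Tame
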