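import Cfsg.Agent.Lib.Block2.Tame7
import Cfsg.Agent.S4637

/-! The projective characters of a block with dihedral defect group. -/

set_option autoImplicit false
set_option linter.dupNamespace false
set_option linter.unusedSectionVars false
set_option linter.style.haveILetI false

open Cfsg Cfsg.Lib.Block Cfsg.Lib.Block2 Cfsg.Lib.Char Cfsg.Lib.Amalg MonoidAlgebra Subgroup
open Cfsg.Lib.Small
open scoped ComplexConjugate

namespace Cfsg.Lib.Block2.Tame

variable {M : Ideal AlgInt} [M.IsMaximal] [Fact (Nat.Prime 2)] {G : Type*} [Group G] [Fintype G]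
  {D : Subgroup G} {B : Set (IrrCharacter G)} {x z : G} {k : ℕ} {w v t : IrrCharacter G → ℤ}
  {η : G → ℂ}

section

variable {c c' : IrrCharacter G → ℤ}

theorem inner_cf_right (η : G → ℂ) : classInner η (cf B c) = ∑ χ ∈ BF B, c χ * classInner η χ.1 := by
  simp only [cf, classInner_sum_right, classInner_smul_right, map_intCast]

theorem inner_cf_irr {χ : IrrCharacter G} (h : χ ∈ B) : classInner (cf B c) χ.1 = c χ := by
  classical
  simp [cf, classInner_sum_left, classInner_smul_left, classInner_irr, h]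

theorem inner_cf : classInner (cf B c) (cf B c') = (∑ χ ∈ BF B, c χ * c' χ : ℤ) := by
  rw [inner_cf_right, Int.cast_sum]
  exact Finset.sum_congr rfl fun χ h => by rw [inner_cf_irr (mem_BF.1 h), mul_comm, Int.cast_mul]

theorem isGen_cf : IsGeneralizedCharacter G (cf B c) := isGeneralizedCharacter_sum _ fun χ _ => by
  simpa only [Int.cast_smul_eq_zsmul] using χ.2.isGeneralizedCharacter.zsmul (c χ)

end

theorem eq_sum_of_VB (hM : IsPModular 2 M) (hB : IsBlockUnion M B) (h : η ∈ VB 2 B) :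
    η = ∑ χ ∈ BF B, classInner η χ.1 • χ.1 := by
  obtain ⟨-, h1, h2⟩ := VB_spec hM hB h
  conv_lhs => rw [h1.eq_sum]
  exact (Finset.sum_subset (Finset.subset_univ _) fun χ _ e => by rw [h2 χ (by simpa using e), zero_smul]).symm

theorem inner_eq_zero_of_VB (hM : IsPModular 2 M) (hB : IsBlockUnion M B) (h : η ∈ VB 2 B) {θ : G → ℂ}
    (h0 : ∀ g, ¬ 2 ∣ orderOf g → θ g = 0) : classInner η θ = 0 := by
  rw [← (VB_spec hM hB h).1, ← classInner_reg_right, show reg 2 θ = 0 from funext fun g => by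
    by_cases e : 2 ∣ orderOf g
    exacts [reg_of_dvd _ e, (reg_of_not_dvd _ e).trans (h0 g e)], classInner_zero_right]

theorem WC.inner (h : WC B k w) (hM : IsPModular 2 M) (hB : IsBlockUnion M B) (hη : η ∈ VB 2 B) :
    ∑ χ ∈ H0 B, w χ * classInner η χ.1 = 0 := by
  have := inner_eq_zero_of_VB hM hB hη fun g hg => h.wz g (by
    rw [pp_of_not_dvd hg, orderOf_one]; exact (Nat.one_lt_two_pow (by omega)).ne)
  rwa [inner_cf_right, sum_BF, Finset.sum_eq_zero (s := H1 B) fun χ e => by simp [h.w0 χ e], add_zero] at this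

theorem mem_VB_of_span {l : ℕ} {F : Fin l → G → ℂ} (hl : blockRank 2 B = l)
    (h : ∀ η ∈ VB 2 B, η ∈ Submodule.span ℂ (Set.range F)) (i : Fin l) : F i ∈ VB 2 B :=
  (Submodule.eq_of_le_of_finrank_le h ((finrank_range_le_card F).trans (by
    rw [← blockRank_eq, hl, Fintype.card_fin]))).ge (Submodule.subset_span ⟨i, rfl⟩)

/-- An orthogonal basis of the projective characters. -/
structure DS (B : Set (IrrCharacter G)) (k n : ℕ) (c₀ : IrrCharacter G → ℤ)
    (c : Fin n → IrrCharacter G → ℤ) : Prop where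
  four : (H0 B).card = 4
  rank : blockRank 2 B = n + 1
  le : n ≤ 2
  ne : k = 0 → n ≠ 1
  n0 : ∑ χ ∈ BF B, c₀ χ * c₀ χ = 2 ^ (k + 2)
  s0 : ∀ χ ∈ H0 B, c₀ χ * c₀ χ = 1
  e0 : ∀ χ ∈ H1 B, 2 ∣ c₀ χ
  s1 : ∀ i, ∀ χ ∈ H0 B, c i χ * c i χ = 1
  z1 : ∀ i, ∀ χ ∈ H1 B, c i χ = 0
  o0 : ∀ i, ∑ χ ∈ H0 B, c₀ χ * c i χ = 0
  o1 : ∀ i j, i ≠ j → ∑ χ ∈ H0 B, c i χ * c j χ = 0
  m0 : cf B c₀ ∈ VB 2 B
  m1 : ∀ i, cf B (c i) ∈ VB 2 B

theorem DH.eq_one (H : DH B k w v t) {f : IrrCharacter G → ℤ} (h0 : ∀ χ ∈ H0 B, 1 ≤ f χ)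
    (h1 : ∀ χ ∈ H1 B, 4 ≤ f χ) (h : ∑ χ ∈ BF B, f χ = 2 ^ (k + 2)) : ∀ χ ∈ H0 B, f χ = 1 := by
  have h2 := Finset.card_nsmul_le_sum _ _ _ h1
  have h3 := H.card
  have h4 := H.four
  rw [sum_BF, pow_add] at h
  zify at h3
  refine fun χ hχ => ((Finset.sum_eq_sum_iff_of_le h0).1 (le_antisymm (Finset.sum_le_sum h0) ?_) χ hχ).symm
  simp only [Finset.sum_const, nsmul_eq_mul, h4] at h2 ⊢
  push_cast
  linarith

theorem DH.ds_one (H : DH B k w v t) (hM : IsPModular 2 M) (hB : IsPBlock M B)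
    (hd : blockDefect 2 B = k + 2) (hl : blockRank 2 B = 1) : ∃ c₀ c, DS B k 0 c₀ c := by
  classical
  obtain ⟨a, h1, h2⟩ := exists_contrib hM hB
  obtain ⟨χ₀, h₀, h0⟩ := exists_blockHeight_eq_zero (p := 2) hB.nonempty
  rw [hd] at h1
  have h3 : ∀ χ ∈ B, cf B (a χ) = (2 : ℂ) ^ (k + 2) • reg 2 χ.1 := fun χ hχ => by
    rw [eq_sum_of_VB hM hB.isBlockUnion (reg_mem_VB hχ), Finset.smul_sum]
    exact Finset.sum_congr rfl fun ψ _ => by rw [h1 χ hχ, mul_smul]; rfl
  have h4 : ∀ χ ∈ B, ∑ ψ ∈ BF B, a χ ψ * a χ ψ = 2 ^ (k + 2) * a χ χ := fun χ hχ => by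
    apply Int.cast_injective (α := ℂ)
    rw [← inner_cf, h3 χ hχ, classInner_smul_left, classInner_smul_right, classInner_reg_reg]
    simp [h1 χ hχ, map_ofNat]
  have h5 : ∀ χ ∈ B, a χ χ₀ ≠ 0 → 0 < a χ χ := fun χ hχ e => (mul_pos_iff_of_pos_left (by positivity : (0 : ℤ) < 2 ^ (k + 2))).1 (by
    rw [← h4 χ hχ]
    exact (mul_self_pos.2 e).trans_le (Finset.single_le_sum (fun ψ _ => mul_self_nonneg (a χ ψ))
      (mem_BF.2 h₀)))
  have h6 : ∀ χ ∈ B, a χ₀ χ = a χ χ₀ := fun χ hχ => by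
    apply Int.cast_injective (α := ℂ)
    rw [← map_intCast (starRingEnd ℂ), h1 χ hχ, h1 χ₀ h₀, map_mul, conj_classInner_reg]
    simp [map_ofNat]
  have h7 : ∀ χ ∈ B, a χ χ₀ ≠ 0 := fun χ hχ e => (h2 χ₀ h₀ χ hχ).2.1 (by rw [h6 χ hχ, e]; exact dvd_zero _) h0
  have h8 := H.eq_one (f := fun χ => a χ χ) (fun χ hχ => h5 χ (mem_H0.1 hχ).1 (h7 χ (mem_H0.1 hχ).1))
    (fun χ hχ => Int.le_of_dvd (h5 χ (mem_H1.1 hχ).1 (h7 χ (mem_H1.1 hχ).1)) (by
      simpa [(H.ht χ hχ).1] using (h2 χ (mem_H1.1 hχ).1 χ (mem_H1.1 hχ).1).2.2 (mem_H1.1 hχ).2)) (by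
    apply Int.cast_injective (α := ℂ)
    have := sum_inner_reg_eq_rank hM hB.isBlockUnion
    rw [Int.cast_sum, Finset.sum_congr rfl fun χ hχ => h1 χ (mem_BF.1 hχ) χ, ← Finset.mul_sum]
    rw [hl] at this
    simpa [BF] using this) χ₀ (mem_H0.2 ⟨h₀, h0⟩)
  have h9 := h4 χ₀ h₀
  have h10 : ∀ χ ∈ H1 B, 2 ∣ a χ₀ χ := fun χ hχ => by simpa [(H.ht χ hχ).1] using (h2 χ₀ h₀ χ (mem_H1.1 hχ).1).1
  rw [h8, mul_one] at h9
  refine ⟨a χ₀, Fin.elim0, H.four, hl, by omega, by omega, h9, H.eq_one (fun χ hχ => mul_self_pos.2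
    (h6 χ (mem_H0.1 hχ).1 ▸ h7 χ (mem_H0.1 hχ).1)) (fun χ hχ => Int.le_of_dvd (mul_self_pos.2
    (h6 χ (mem_H1.1 hχ).1 ▸ h7 χ (mem_H1.1 hχ).1)) (mul_dvd_mul (h10 χ hχ) (h10 χ hχ))) h9, h10,
    (·.elim0), (·.elim0), (·.elim0), (·.elim0), h3 χ₀ h₀ ▸ Submodule.smul_mem _ _ (reg_mem_VB h₀), (·.elim0)⟩

open scoped Classical in
/-- change of signs -/
noncomputable def sg (w : IrrCharacter G → ℤ) (a b χ : IrrCharacter G) : ℤ :=
  if χ = a ∨ χ = b then w χ else -w χ

open scoped Classical in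
/-- the projective character of height zero -/
noncomputable def c0 (B : Set (IrrCharacter G)) (w v t : IrrCharacter G → ℤ) (χ : IrrCharacter G) : ℤ :=
  if χ ∈ H0 B then 2 * v χ - w χ else -2 * t χ

/-- labels for the characters of height zero -/
structure Lab (B : Set (IrrCharacter G)) (w v : IrrCharacter G → ℤ) (a b c d : IrrCharacter G) : Prop where
  mem : ∀ χ, χ ∈ H0 B ↔ χ = a ∨ χ = b ∨ χ = c ∨ χ = d
  ab : a ≠ b
  ac : a ≠ c
  ad : a ≠ d
  bc : b ≠ c
  bd : b ≠ d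
  cd : c ≠ d
  va : v a = w a
  vb : v b = w b
  vc : v c = 0
  vd : v d = 0

variable {a b c d : IrrCharacter G}

theorem Lab.swap (L : Lab B w v a b c d) : Lab B w v a b d c :=
  ⟨fun χ => (L.mem χ).trans (by tauto), L.ab, L.ad, L.ac, L.bd, L.bc, L.cd.symm, L.va, L.vb, L.vd, L.vc⟩

theorem Lab.sum (L : Lab B w v a b c d) {β : Type*} [AddCommMonoid β] (f : IrrCharacter G → β) :
    ∑ χ ∈ H0 B, f χ = f a + f b + f c + f d := by
  classical
  rw [show H0 B = {a, b, c, d} from Finset.ext fun χ => (L.mem χ).trans (by simp)]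
  simp [L.ab, L.ac, L.ad, L.bc, L.bd, L.cd, add_assoc]

namespace DH

variable (H : DH B k w v t)
include H

theorem ww {χ : IrrCharacter G} (h : χ ∈ H0 B) : w χ * w χ = 1 := mul_self_eq_one_iff.2 (H.w1 χ h)

theorem exists_lab : ∃ a b c d, Lab B w v a b c d := by
  classical
  have h1 : ((H0 B).filter (v · ≠ 0)).card = 2 := by
    have := H.v2
    rw [← Finset.sum_filter_of_ne (p := (v · ≠ 0)) fun χ _ => left_ne_zero_of_mul,
      Finset.sum_congr rfl (g := fun _ => 1) fun χ hχ => by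
        rw [(H.v1 χ (Finset.mem_filter.1 hχ).1).resolve_left (Finset.mem_filter.1 hχ).2,
          H.ww (Finset.mem_filter.1 hχ).1]] at this
    simpa [← Int.natCast_inj] using this
  have h2 := Finset.card_filter_add_card_filter_not (s := H0 B) (v · ≠ 0)
  obtain ⟨a, b, h3, h4⟩ := Finset.card_eq_two.1 h1
  obtain ⟨c, d, h5, h6⟩ := Finset.card_eq_two.1 (by have := H.four; omega :
    ((H0 B).filter (¬ v · ≠ 0)).card = 2)
  simp only [Finset.ext_iff, Finset.mem_filter, Finset.mem_insert, Finset.mem_singleton, not_not] at h4 h6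
  have ha := (h4 a).2 (.inl rfl)
  have hb := (h4 b).2 (.inr rfl)
  have hc := (h6 c).2 (.inl rfl)
  have hd := (h6 d).2 (.inr rfl)
  exact ⟨a, b, c, d, fun χ => by rw [← or_assoc, ← h4, ← h6]; tauto, h3, fun e => ha.2 (e ▸ hc.2),
    fun e => ha.2 (e ▸ hd.2), fun e => hb.2 (e ▸ hc.2), fun e => hb.2 (e ▸ hd.2), h5,
    (H.v1 a ha.1).resolve_left ha.2, (H.v1 b hb.1).resolve_left hb.2, hc.2, hd.2⟩

variable (hM : IsPModular 2 M) (hB : IsBlockUnion M B) (L : Lab B w v a b c d)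
include hM hB L

theorem rel (hη : η ∈ VB 2 B) {χ : IrrCharacter G} (hχ : χ ∈ H1 B) :
    w a * classInner η a.1 + w b * classInner η b.1 + t χ * classInner η χ.1 = 0 := by
  have := inner_eq_zero_of_VB hM hB hη (θ := ∑ ψ ∈ H0 B, (v ψ : ℂ) • ψ.1 + (t χ : ℂ) • χ.1) fun g hg => by
    simpa using (H.ht χ hχ).2.2 g hg
  simpa [L.sum, classInner_add_right, classInner_smul_right, L.va, L.vb, L.vc, L.vd] using this

theorem decomp (hη : η ∈ VB 2 B) : ∃ x y : ℂ, η = x • cf B (c0 B w v t) + y • cf B (sg w a c) +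
    ((w a * classInner η a.1 - w b * classInner η b.1 - w c * classInner η c.1 +
      w d * classInner η d.1) / 4) • cf B (sg w a d) := by
  refine ⟨(w a * classInner η a.1 + w b * classInner η b.1) / 2, (w a * classInner η a.1 -
    w b * classInner η b.1 + w c * classInner η c.1 - w d * classInner η d.1) / 4, ?_⟩
  have h1 := H.inner hM hB hη
  rw [L.sum] at h1
  nth_rw 1 [eq_sum_of_VB hM hB hη]
  simp only [cf, Finset.smul_sum, smul_smul, ← Finset.sum_add_distrib, ← add_smul]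
  refine Finset.sum_congr rfl fun χ hχ => congrArg (· • _) ?_
  by_cases e : χ ∈ H0 B
  · have h2 : (w χ : ℂ) * w χ = 1 := by exact_mod_cast H.ww e
    rw [c0, if_pos e]
    rcases (L.mem χ).1 e with rfl | rfl | rfl | rfl <;>
      simp only [sg, L.va, L.vb, L.vc, L.vd, L.ab, L.ac, L.ad, L.bc, L.bd, L.cd, L.ab.symm, L.ac.symm,
        L.ad.symm, L.cd.symm, true_or, or_true, or_false, if_true, if_false] <;> push_cast
    · linear_combination -classInner η χ.1 * h2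
    · linear_combination -classInner η χ.1 * h2
    · linear_combination -classInner η χ.1 * h2 + w χ / 2 * h1
    · linear_combination -classInner η χ.1 * h2 + w χ / 2 * h1
  · have h2 : χ ∈ H1 B := by simpa [mem_BF.1 hχ] using e
    have h3 : (t χ : ℂ) * t χ = 1 := by exact_mod_cast (H.ht χ h2).2.1
    simp only [c0, if_neg e, sg, H.w0 χ h2, neg_zero, ite_self]
    push_cast
    linear_combination -classInner η χ.1 * h3 + t χ * H.rel hM hB L hη h2

omit hM hB in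
theorem ds {n : ℕ} {u : Fin n → IrrCharacter G} (hu : ∀ i, u i = c ∨ u i = d) (hu' : Function.Injective u)
    (hl : blockRank 2 B = n + 1) (hn : k = 0 → n ≠ 1) (h : ∀ η ∈ VB 2 B, η ∈ Submodule.span ℂ
      (Set.range (Fin.cons (cf B (c0 B w v t)) fun i => cf B (sg w a (u i)) : Fin (n + 1) → G → ℂ))) :
    DS B k n (c0 B w v t) fun i => sg w a (u i) := by
  classical
  have ha := (L.mem a).2 (by simp)
  have hb := (L.mem b).2 (by simp)
  have hc := (L.mem c).2 (by simp)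
  have hd := (L.mem d).2 (by simp)
  have h1 : ∀ χ ∈ H0 B, c0 B w v t χ * c0 B w v t χ = 1 := fun χ hχ => by
    rw [c0, if_pos hχ, ← H.ww hχ]
    rcases H.v1 χ hχ with e | e <;> rw [e] <;> ring
  have h2 : ∀ χ ∈ H1 B, c0 B w v t χ = -2 * t χ := fun χ hχ => if_neg fun e => (mem_H1.1 hχ).2 (mem_H0.1 e).2
  refine ⟨H.four, hl, ?_, hn, ?_, h1, fun χ hχ => h2 χ hχ ▸ ⟨-t χ, by ring⟩, fun i χ hχ => ?_,
    fun i χ hχ => by simp [sg, H.w0 χ hχ], fun i => ?_, fun i j e => ?_, mem_VB_of_span hl h 0,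
    fun i => mem_VB_of_span hl h i.succ⟩
  · simpa [Finset.card_pair L.cd] using Finset.card_le_card_of_injOn (s := Finset.univ) (t := {c, d}) u
      (fun i _ => by simpa using hu i) hu'.injOn
  · rw [sum_BF, Finset.sum_congr rfl h1, Finset.sum_congr (s₁ := H1 B) rfl (g := fun _ => 4) fun χ hχ => by
      rw [h2 χ hχ]; linear_combination 4 * (H.ht χ hχ).2.1, pow_add]
    have := H.card
    zify at this
    simp only [Finset.sum_const, nsmul_eq_mul, H.four]
    push_cast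
    linarith
  · rw [sg]; split_ifs <;> simp [H.ww hχ]
  · rcases hu i with e | e <;> simp [L.sum, e, c0, sg, -mem_H0, ha, hb, hc, hd, L.va, L.vb, L.vc, L.vd, L.ab.symm,
      L.ac.symm, L.ad.symm, L.bc, L.bd, L.cd, L.cd.symm, two_mul, H.ww]
  · rcases hu i with e1 | e1 <;> rcases hu j with e2 | e2
    all_goals first | exact absurd (hu' (e1.trans e2.symm)) e | simp [L.sum, e1, e2, sg, -mem_H0, ha, hb,
      hc, hd, L.ab.symm, L.ac.symm, L.ad.symm, L.bc, L.bd, L.cd, L.cd.symm, H.ww]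

end DH

theorem four_signs {a b c d : ℤ} (ha : a * a = 1) (hb : b * b = 1) (hc : c * c = 1) (hd : d * d = 1)
    (h : a + b + c + d = 0) : (b = a ∧ c = -a ∧ d = -a) ∨ (b = -a ∧ c = a ∧ d = -a) ∨
      (b = -a ∧ c = -a ∧ d = a) := by
  rw [mul_self_eq_one_iff] at ha hb hc hd
  omega

theorem exists_DS (hM : IsPModular 2 M) (hB : IsPBlock M B) (hD : IsDefectGroup 2 M B D)
    (h : MC D x z k) (hd : ∀ a ∈ D, a ∉ zpowers x → a * a = 1) : ∃ n c₀ c, DS B k n c₀ c := by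
  classical
  obtain ⟨w, v, t, H⟩ := exists_DH hM hB hD h hd
  obtain ⟨ε, hm⟩ := (hD.defG_top hM hB).exists_maxP hM (blk_top_eB hB)
  obtain ⟨a, b, c, d, L⟩ := H.exists_lab
  have hU := hB.isBlockUnion
  by_cases h1 : blockRank 2 B = 1
  · exact ⟨0, H.ds_one hM hB (Nat.pow_right_injective le_rfl ((card_defectGroup hM hB hD).symm.trans h.card)) h1⟩
  obtain ⟨-, ⟨-, h2⟩ | ⟨⟨y, hy, h2, h3⟩, h4⟩⟩ := h.dih_count hM hB hm hd
  · refine ⟨2, _, _, H.ds L (u := ![c, d]) (Fin.forall_fin_two.2 ⟨.inl rfl, .inr rfl⟩) (by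
      simp [Function.Injective, Fin.forall_fin_two, L.cd, L.cd.symm]) h2 (by omega) fun η hη => ?_⟩
    obtain ⟨x, y, e⟩ := H.decomp hM hU L hη
    rw [e]
    exact add_mem (add_mem (Submodule.smul_mem _ _ (Submodule.subset_span ⟨0, rfl⟩))
      (Submodule.smul_mem _ _ (Submodule.subset_span ⟨1, rfl⟩)))
      (Submodule.smul_mem _ _ (Submodule.subset_span ⟨2, rfl⟩))
  have h5 : blockRank 2 B = 2 := by have := blockRank_ne_zero hM hB; omega
  have hk : k ≠ 0 := by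
    rintro rfl
    haveI : Nontrivial D := Finite.one_lt_card_iff_nontrivial.1 (by rw [h.card]; norm_num)
    have h6 := hm.bpo.ind hM
    have h7 := hm.bp.blk_top
    rw [top_inf_eq, ← h7.EB_bset] at h6
    have := Cfsg.Agent.S4637.result M hM B hB D hD ⟨h.card, (Monoid.exponent_eq_prime_iff Nat.prime_two).2
      fun g hg => orderOf_eq_prime (Subtype.ext ((pow_two g.1).trans (by
        by_cases e : g.1 ∈ zpowers x
        · rw [← pow_two]
          exact orderOf_dvd_iff_pow_eq_one.1 (h.ord ▸ orderOf_dvd_of_mem_zpowers e :)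
        · exact hd g g.2 e))) hg⟩ _ (h6.isInducedBlock h7.isPBlock_bset hB) _
      (fun g => mem_stabP_top_iff h7.isPBlock_bset) _ rfl
    omega
  obtain ⟨u, h6, h7, h8, h9⟩ := h.exists_four hM hm hy h2 h3
  haveI := Fintype.ofFinite (centralizer ({u} : Set G))
  haveI := Fintype.ofFinite (D ⊓ centralizer {u} : Subgroup G)
  obtain ⟨b', ψ₀, J, i1, i2, i3⟩ := iso_of_defG hM hB inf_le_right h8 (by
    simpa only [top_inf_eq, centralizer_zpowers_eq] using (hm.bpo_sp hM h6.mem').ind hM) h9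
  obtain ⟨σ, hσ⟩ := h7.top.exists_sigma
  obtain ⟨w', W⟩ : ∃ w', WC B 0 w' := ⟨_, Iso.wc ⟨hM, fun g => mem_cent_iff_two h7.zord, ⟨1, h7.zord⟩, i1,
    i2, i3⟩ h7 (mem_zpowers u) hσ⟩
  have h10 : ∑ χ ∈ BF B, w χ * w' χ = 0 := by
    apply Int.cast_injective (α := ℂ)
    rw [← inner_cf, classInner_def, Finset.sum_eq_zero fun g _ => ?_, mul_zero, Int.cast_zero]
    by_cases e : orderOf (pp 2 g) = 2 ^ (k + 1)
    · rw [W.wz g fun e' => hk (by
        simpa using Nat.pow_right_injective le_rfl (e.symm.trans e')), map_zero, mul_zero]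
    · rw [H.wz g e, zero_mul]
  rw [sum_BF, Finset.sum_eq_zero (s := H1 B) fun χ e => by simp [H.w0 χ e], add_zero, L.sum] at h10
  have h11 : ∀ χ ∈ H0 B, w χ * w' χ * (w χ * w' χ) = 1 ∧ (w' χ : ℂ) = (w χ * w' χ : ℤ) * w χ := fun χ hχ =>
    ⟨by rw [mul_mul_mul_comm, H.ww hχ, mul_self_eq_one_iff.2 (W.w1 χ hχ), mul_one], by
      rw [← Int.cast_mul, mul_right_comm, H.ww hχ, one_mul]⟩
  have ha := h11 a ((L.mem a).2 (by simp))
  have hb := h11 b ((L.mem b).2 (by simp))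
  have hc := h11 c ((L.mem c).2 (by simp))
  have hd := h11 d ((L.mem d).2 (by simp))
  have h12 : ((w a * w' a : ℤ) : ℂ) * (w a * w' a : ℤ) = 1 := by exact_mod_cast ha.1
  have key : ∀ c d, Lab B w v a b c d → (∀ η ∈ VB 2 B, w a * classInner η a.1 - w b * classInner η b.1 -
      w c * classInner η c.1 + w d * classInner η d.1 = 0) → ∃ n c₀ c, DS B k n c₀ c := fun c d L h => by
    refine ⟨1, _, _, H.ds L (u := ![c]) (fun i => by simp) (Function.injective_of_subsingleton _) h5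
      (by omega) fun η hη => ?_⟩
    obtain ⟨x, y, e⟩ := H.decomp hM hU L hη
    rw [e, h η hη, zero_div, zero_smul, add_zero]
    exact add_mem (Submodule.smul_mem _ _ (Submodule.subset_span ⟨0, rfl⟩))
      (Submodule.smul_mem _ _ (Submodule.subset_span ⟨1, rfl⟩))
  have h13 := fun η hη => W.inner hM hU (η := η) hη
  simp only [L.sum] at h13
  rw [ha.2, hb.2, hc.2, hd.2] at h13
  rcases four_signs ha.1 hb.1 hc.1 hd.1 h10 with ⟨e1, e2, e3⟩ | ⟨e1, e2, e3⟩ | ⟨e1, e2, e3⟩ <;>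
    simp only [e1, e2, e3, Int.cast_neg] at h13
  · obtain ⟨χ, hχ⟩ : (H1 B).Nonempty := Finset.card_pos.1 (by
      have := H.card; have := Nat.one_lt_two_pow hk; omega)
    have h14 := reg_mem_VB (p := 2) (mem_H1.1 hχ).1
    have h15 := H.inner hM hU h14
    have h16 : (t χ : ℂ) * t χ = 1 := by exact_mod_cast (H.ht χ hχ).2.1
    rw [L.sum] at h15
    refine absurd (congrFun (classInner_self_eq_zero.1 ((classInner_reg_reg (p := 2) χ.1 χ.1).trans ?_)) 1)
      (by rw [reg_of_not_dvd _ (by simp)]; exact χ.2.apply_one_ne_zero)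
    linear_combination t χ * H.rel hM hU L h14 hχ - classInner (reg 2 χ.1) χ.1 * h16 - t χ / 2 * h15 -
      t χ * (w a * w' a : ℤ) / 2 * h13 _ h14 + t χ / 2 * (w a * classInner (reg 2 χ.1) a.1 +
        w b * classInner (reg 2 χ.1) b.1 - w c * classInner (reg 2 χ.1) c.1 -
        w d * classInner (reg 2 χ.1) d.1) * h12
  · exact key d c L.swap fun η hη => by
      linear_combination (w a * w' a : ℤ) * h13 η hη - (w a * classInner η a.1 - w b * classInner η b.1 +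
        w c * classInner η c.1 - w d * classInner η d.1) * h12
  · exact key c d L fun η hη => by
      linear_combination (w a * w' a : ℤ) * h13 η hη - (w a * classInner η a.1 - w b * classInner η b.1 -
        w c * classInner η c.1 + w d * classInner η d.1) * h12

end Cfsg.Lib.Block2.Tame
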