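import Cfsg.Agent.Lib.Block2.Tame8

/-! The columns of the central involution. -/

set_option autoImplicit false
set_option linter.dupNamespace false
set_option linter.unusedSectionVars false
set_option linter.style.haveILetI false

open Cfsg Cfsg.Lib.Block Cfsg.Lib.Block2 Cfsg.Lib.Char Cfsg.Lib.Amalg MonoidAlgebra Subgroup
open Cfsg.Lib.Small
open scoped ComplexConjugate

namespace Cfsg.Lib.Block2.Tame

variable {M : Ideal AlgInt} [M.IsMaximal] [Fact (Nat.Prime 2)] {G : Type*} [Group G] [Fintype G]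
  {D : Subgroup G} {B : Set (IrrCharacter G)} {x z : G} {k n : ℕ} {w σ : IrrCharacter G → ℤ}
  {P : Fin n → IrrCharacter G → ℤ}

theorem odd_sq {a : ℤ} (h : Odd a) : 0 ≤ a * a - 1 ∧ 8 ∣ a * a - 1 := by
  obtain ⟨m, rfl⟩ := h
  obtain ⟨j, hj⟩ := (Int.even_mul_succ_self m).two_dvd
  exact ⟨by rcases le_or_gt 0 m with h | h <;> nlinarith, j, by linear_combination 4 * hj⟩

theorem even_sq {a : ℤ} (h : 2 ∣ a) (h0 : a ≠ 0) : a * a - 4 = 0 ∨ 12 ≤ a * a - 4 := by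
  obtain ⟨m, rfl⟩ := h
  rcases (by omega : m = 1 ∨ m = -1 ∨ 2 ≤ m ∨ m ≤ -2) with rfl | rfl | h | h
  exacts [.inl rfl, .inl rfl, .inr (by nlinarith), .inr (by nlinarith)]

theorem no_twelve {ι : Type*} {H : Finset ι} (h4 : H.card = 4) {s p w : ι → ℤ} (hs : ∀ i ∈ H, Odd (s i))
    (hp : ∀ i ∈ H, p i * p i = 1) (hw : ∀ i ∈ H, w i * w i = 1) (h1 : ∑ i ∈ H, s i * p i = 0)
    (h2 : ∑ i ∈ H, w i * s i = 0) (h3 : ∑ i ∈ H, w i * p i = 0) : ∑ i ∈ H, s i * s i ≠ 12 := by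
  intro h
  let e := (Finset.equivFinOfCardEq h4).symm
  have h5 : ∀ f : ι → ℤ, ∑ i ∈ H, f i = f (e 0) + f (e 1) + f (e 2) + f (e 3) := fun f => by
    rw [← Finset.sum_coe_sort, ← e.sum_comp, Fin.sum_univ_four]
  have h6 : ∀ i, w (e i) * p (e i) * (w (e i) * p (e i)) = 1 := fun i => by
    rw [mul_mul_mul_comm, hw _ (e i).2, hp _ (e i).2, mul_one]
  have h7 : ∀ i, s (e i) * p (e i) = w (e i) * p (e i) * (w (e i) * s (e i)) ∧
      s (e i) * s (e i) = w (e i) * s (e i) * (w (e i) * s (e i)) := fun i =>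
    ⟨by linear_combination -(s (e i) * p (e i)) * hw _ (e i).2,
      by linear_combination -(s (e i) * s (e i)) * hw _ (e i).2⟩
  have h8 := fun i => (odd_sq (hs _ (e i).2)).2
  simp only [h5, h7] at h h1 h2 h3 h8
  have a0 := h8 0
  have a1 := h8 1
  have a2 := h8 2
  rcases four_signs (h6 0) (h6 1) (h6 2) (h6 3) h3 with ⟨e1, e2, e3⟩ | ⟨e1, e2, e3⟩ | ⟨e1, e2, e3⟩ <;>
    rw [e1, e2, e3] at h1 <;> have := h6 0 <;> generalize w (e 0) * p (e 0) = u at * <;>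
    generalize w (e 0) * s (e 0) = a at * <;> generalize w (e 1) * s (e 1) = b at * <;>
    generalize w (e 2) * s (e 2) = c at * <;> generalize w (e 3) * s (e 3) = d at *
  · obtain rfl : b = -a := by rcases mul_self_eq_one_iff.1 this with rfl | rfl <;> omega
    obtain rfl : d = -c := by omega
    simp only [neg_mul_neg] at h
    omega
  · obtain rfl : c = -a := by rcases mul_self_eq_one_iff.1 this with rfl | rfl <;> omega
    obtain rfl : d = -b := by omega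
    simp only [neg_mul_neg] at h
    omega
  · obtain rfl : d = -a := by rcases mul_self_eq_one_iff.1 this with rfl | rfl <;> omega
    obtain rfl : c = -b := by omega
    simp only [neg_mul_neg] at h
    omega

/-- The columns of the central involution of the defect group. -/
structure ZC (B : Set (IrrCharacter G)) (k n : ℕ) (w σ : IrrCharacter G → ℤ)
    (P : Fin n → IrrCharacter G → ℤ) : Prop extends WC B (k + 1) w where
  le : n ≤ 2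
  ne : k = 0 → n ≠ 1
  n0 : ∑ χ ∈ BF B, σ χ * σ χ = 2 ^ (k + 3)
  n1 : ∀ i j, ∑ χ ∈ BF B, P i χ * P j χ = if i = j then 8 else 0
  o0 : ∀ i, ∑ χ ∈ BF B, σ χ * P i χ = 0
  par : ∀ i χ, 2 ∣ σ χ + P i χ
  ws : ∑ χ ∈ BF B, w χ * σ χ = 0
  wp : ∀ i, ∑ χ ∈ BF B, w χ * P i χ = 0
  ht : ∀ χ ∈ B, ∀ ψ ∈ B, 2 ^ blockHeight 2 B ψ.1 ∣ σ χ * σ ψ + 2 ^ k * ∑ i, P i χ * P i ψ ∧
    (2 ^ (blockHeight 2 B ψ.1 + 1) ∣ σ χ * σ ψ + 2 ^ k * ∑ i, P i χ * P i ψ ↔ blockHeight 2 B χ.1 ≠ 0)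
  bd : ∀ χ ∈ B, blockHeight 2 B χ.1 ≤ k + 1

namespace ZC

variable (Z : ZC B k n w σ P)
include Z

theorem odd_iff {χ : IrrCharacter G} (hχ : χ ∈ B) : Odd (σ χ) ↔ blockHeight 2 B χ.1 = 0 := by
  have h1 : (2 : ℤ) ∣ 2 ^ k * ∑ i, P i χ * P i χ := by
    rcases k with _ | k
    · obtain rfl | rfl : n = 0 ∨ n = 2 := by have := Z.le; have := Z.ne rfl; omega
      · simp
      · have h0 := Z.par 0 χ
        have h1 := Z.par 1 χ
        simp only [Fin.sum_univ_two, ← even_iff_two_dvd, Int.even_add, pow_zero, one_mul, Int.even_mul] at *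
        tauto
    · exact (dvd_pow_self 2 (by omega)).mul_right _
  obtain ⟨h2, h3⟩ := Z.ht χ hχ χ hχ
  rw [← Int.not_even_iff_odd, ← or_self_iff (a := Even _), ← Int.even_mul, even_iff_two_dvd,
    ← dvd_add_left h1]
  exact ⟨fun h => by_contra fun e => h ((dvd_pow_self 2 e).trans h2), fun h => by simpa [h] using h3⟩

theorem odd {χ : IrrCharacter G} (hχ : χ ∈ H0 B) : Odd (σ χ) := (Z.odd_iff (mem_H0.1 hχ).1).2 (mem_H0.1 hχ).2

theorem even {χ : IrrCharacter G} (hχ : χ ∈ H1 B) : 2 ∣ σ χ := (Int.not_odd_iff_even.1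
  ((Z.odd_iff (mem_H1.1 hχ).1).not.2 (mem_H1.1 hχ).2)).two_dvd

theorem col (i : Fin n) : (∀ χ ∈ H0 B, P i χ * P i χ = 1) ∧ (∀ χ ∈ H1 B, 2 ∣ P i χ) ∧
    ∃ ρ ∈ H1 B, P i ρ ≠ 0 ∧ ∀ χ ∈ H1 B, χ ≠ ρ → P i χ = 0 := by
  have h1 := fun χ (hχ : χ ∈ H0 B) => odd_sq (a := P i χ) (by
    have := Int.odd_iff.1 (Z.odd hχ); have := Z.par i χ; rw [Int.odd_iff]; omega)
  have h0 : ∀ χ ∈ H1 B, 2 ∣ P i χ := fun χ hχ => by have := Z.even hχ; have := Z.par i χ; omega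
  choose! q hq using h0
  have h2 := Z.n1 i i
  have h3 := Finset.sum_nonneg fun χ hχ => (h1 χ hχ).1
  have h4 := Finset.dvd_sum fun χ hχ => (h1 χ hχ).2
  have h5 := Finset.sum_nonneg fun χ (_ : χ ∈ H1 B) => mul_self_nonneg (q χ)
  have h6 : ∑ χ ∈ H0 B, (P i χ * P i χ - 1) = ∑ χ ∈ H0 B, P i χ * P i χ - 4 := by
    simp [Finset.sum_sub_distrib, Z.four]
  rw [sum_BF, if_pos rfl, Finset.sum_congr (s₁ := H1 B) rfl (g := fun χ => 4 * (q χ * q χ)) fun χ hχ => by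
    rw [hq χ hχ]; ring, ← Finset.mul_sum] at h2
  obtain ⟨ρ, h7, h8, h9⟩ := one_arith (s := H1 B) (c := q) (by omega)
  exact ⟨fun χ hχ => sub_eq_zero.1 ((Finset.sum_eq_zero_iff_of_nonneg fun χ hχ => (h1 χ hχ).1).1 (by omega) χ hχ),
    fun χ hχ => ⟨_, hq χ hχ⟩, ρ, h7, hq ρ h7 ▸ mul_ne_zero two_ne_zero (left_ne_zero_of_mul_eq_one h8),
    fun χ hχ e => by rw [hq χ hχ, h9 χ hχ e, mul_zero]⟩

theorem main : ∃ s r : ℕ, Nat.card B = 4 + s + r ∧ s + 1 ≤ 2 ^ (k + 1) ∧ r ≤ n ∧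
    ((∀ i, ∑ χ ∈ H0 B, σ χ * P i χ = 0) → (∀ i j, i ≠ j → ∑ χ ∈ H0 B, P i χ * P j χ = 0) → r = n) ∧
    (2 ^ (k + 1) ≤ s + 3 → (s + 3 = 2 ^ (k + 1) → r ≠ 0 ∨ ∀ χ ∈ H0 B, σ χ * σ χ = 1) →
      s + 1 = 2 ^ (k + 1) ∧ (∀ χ ∈ B, blockHeight 2 B χ.1 = 0 ∨ blockHeight 2 B χ.1 = 1 ∨
        blockHeight 2 B χ.1 = k + 1) ∧
      (1 ≤ k → Nat.card {χ : IrrCharacter G // χ ∈ B ∧ blockHeight 2 B χ.1 = 1} + 1 = 2 ^ (k + 1))) := by
  classical
  choose p1 p2 ρ r1 r2 r3 using Z.col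
  obtain ⟨χ₀, h₀⟩ : (H0 B).Nonempty := Finset.card_pos.1 (by rw [Z.four]; norm_num)
  have C := fun χ (hχ : χ ∈ H1 B) => Z.ht χ₀ (mem_H0.1 h₀).1 χ (mem_H1.1 hχ).1
  simp only [(mem_H0.1 h₀).2, ne_eq, not_true, iff_false] at C
  have hρ : ∀ i (f : IrrCharacter G → ℤ), ∑ χ ∈ BF B, f χ * P i χ =
      ∑ χ ∈ H0 B, f χ * P i χ + f (ρ i) * P i (ρ i) := fun i f => by
    rw [sum_BF, Finset.sum_eq_single_of_mem _ (r1 i) fun χ hχ e => by rw [r3 i χ hχ e, mul_zero]]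
  have R : ∀ χ ∈ (H1 B).filter (¬ σ · ≠ 0), χ ∈ Finset.univ.image ρ := fun χ hχ => by
    simp only [Finset.mem_filter, not_not] at hχ
    by_contra e
    refine (C χ hχ.1).2 ?_
    rw [hχ.2, Finset.sum_eq_zero fun i _ => by rw [r3 i χ hχ.1 fun e' => e (by simp [e']), mul_zero]]
    simp
  have h1 := fun χ hχ => odd_sq (Z.odd (χ := χ) hχ)
  have h2 := fun χ (hχ : χ ∈ (H1 B).filter (σ · ≠ 0)) =>
    even_sq (Z.even (Finset.mem_filter.1 hχ).1) (Finset.mem_filter.1 hχ).2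
  have h2' : ∀ χ ∈ (H1 B).filter (σ · ≠ 0), 0 ≤ σ χ * σ χ - 4 := fun χ hχ => by have := h2 χ hχ; omega
  have h3 := Finset.sum_nonneg fun χ hχ => (h1 χ hχ).1
  have h4 := Finset.dvd_sum fun χ hχ => (h1 χ hχ).2
  have h5 := Finset.sum_nonneg h2'
  have h6 : ∑ χ ∈ H0 B, (σ χ * σ χ - 1) = ∑ χ ∈ H0 B, σ χ * σ χ - 4 := by
    simp [Finset.sum_sub_distrib, Z.four]
  have h7 : ∑ χ ∈ (H1 B).filter (σ · ≠ 0), (σ χ * σ χ - 4) = ∑ χ ∈ H1 B, σ χ * σ χ -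
      4 * ((H1 B).filter (σ · ≠ 0)).card := by
    rw [Finset.sum_sub_distrib, Finset.sum_filter_of_ne fun χ _ => left_ne_zero_of_mul]
    simp [mul_comm]
  have h8 := Z.n0
  rw [sum_BF, show (2 : ℤ) ^ (k + 3) = 4 * (2 ^ (k + 1) : ℕ) by push_cast; ring] at h8
  refine ⟨((H1 B).filter (σ · ≠ 0)).card, ((H1 B).filter (¬ σ · ≠ 0)).card, by
    rw [card_BF, Z.four, add_assoc, Finset.card_filter_add_card_filter_not], by omega,
    (Finset.card_le_card R).trans (Finset.card_image_le.trans (by simp)), fun a1 a2 => ?_, fun a1 a2 => ?_⟩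
  · rw [Finset.Subset.antisymm R fun χ hχ => ?_, Finset.card_image_of_injective _ fun i j e => ?_]
    · simp
    · by_contra e'
      have := Z.n1 i j
      rw [hρ, a2 i j e', if_neg e', zero_add] at this
      exact mul_ne_zero (e ▸ r2 i) (r2 j) this
    · obtain ⟨i, -, rfl⟩ := Finset.mem_image.1 hχ
      have := Z.o0 i
      rw [hρ, a1 i, zero_add] at this
      simpa [-mem_H1, r1 i, r2 i] using this
  have h9 : ∀ χ ∈ (H1 B).filter (σ · ≠ 0), σ χ * σ χ - 4 = 0 := fun χ hχ => by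
    have := Finset.single_le_sum h2' hχ
    have := h2 χ hχ
    omega
  rw [Finset.sum_eq_zero h9] at h7
  have h10 : ∑ χ ∈ H0 B, σ χ * σ χ ≠ 12 := fun e => by
    rcases a2 (by omega) with a3 | a3
    · obtain ⟨χ, hχ⟩ := Finset.card_ne_zero.1 a3
      obtain ⟨i, -, rfl⟩ := Finset.mem_image.1 (R χ hχ)
      have e1 := Z.o0 i
      have e2 := Z.ws
      have e3 := Z.wp i
      rw [hρ, not_not.1 (Finset.mem_filter.1 hχ).2, zero_mul, add_zero] at e1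
      rw [sum_BF, Finset.sum_eq_zero (s := H1 B) fun χ e => by simp [Z.w0 χ e], add_zero] at e2 e3
      exact no_twelve Z.four (fun _ => Z.odd) (p1 i) (fun χ hχ => mul_self_eq_one_iff.2 (Z.w1 χ hχ)) e1 e2 e3 e
    · simp [Finset.sum_congr rfl a3, Z.four] at e
  have h11 := sub_eq_zero.1 ((Finset.sum_eq_zero_iff_of_nonneg fun χ hχ => (h1 χ hχ).1).1 (by omega) χ₀ h₀)
  have h12 : ∀ χ ∈ H1 B, 2 ^ (k + 1) ∣ 2 ^ k * ∑ i, P i χ₀ * P i χ := fun χ hχ =>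
    pow_succ (2 : ℤ) k ▸ mul_dvd_mul_left _ (Finset.dvd_sum fun i _ => (p2 i χ hχ).mul_left _)
  have h13 : ∀ χ ∈ H1 B, σ χ = 0 → blockHeight 2 B χ.1 = k + 1 := fun χ hχ e =>
    le_antisymm (Z.bd χ (mem_H1.1 hχ).1) (le_of_not_gt fun e' => (C χ hχ).2 (by
      rw [e, mul_zero, zero_add]
      exact (pow_dvd_pow _ e').trans (h12 χ hχ)))
  have h14 : 1 ≤ k → ∀ χ ∈ H1 B, σ χ ≠ 0 → blockHeight 2 B χ.1 = 1 := fun hk χ hχ e => by
    refine le_antisymm (le_of_not_gt fun e' => ?_) (Nat.pos_of_ne_zero (mem_H1.1 hχ).2)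
    have e1 := (dvd_add_left ((pow_dvd_pow _ (by omega : 2 ≤ k + 1)).trans (h12 χ hχ))).1
      ((pow_dvd_pow _ e').trans (C χ hχ).1)
    have e2 := mul_dvd_mul e1 e1
    rw [mul_mul_mul_comm, h11, one_mul, sub_eq_zero.1 (h9 χ (Finset.mem_filter.2 ⟨hχ, e⟩))] at e2
    norm_num at e2
  refine ⟨by omega, fun χ hχ => ?_, fun hk => ?_⟩
  · by_cases e : blockHeight 2 B χ.1 = 0
    · exact .inl e
    have := Z.bd χ hχ
    by_cases e' : σ χ = 0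
    · exact .inr (.inr (h13 χ (mem_H1.2 ⟨hχ, e⟩) e'))
    have := fun hk => h14 hk χ (mem_H1.2 ⟨hχ, e⟩) e'
    omega
  · rw [Nat.card_congr (Equiv.subtypeEquivRight (q := (· ∈ (H1 B).filter (σ · ≠ 0))) fun χ => ?_),
      Nat.card_eq_finsetCard]
    · omega
    rw [Finset.mem_filter]
    refine ⟨fun h => ?_, fun h => ⟨(mem_H1.1 h.1).1, h14 hk χ h.1 h.2⟩⟩
    have e : χ ∈ H1 B := mem_H1.2 ⟨h.1, by omega⟩
    exact ⟨e, fun e' => by have := h13 χ e e'; omega⟩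

end ZC

end Cfsg.Lib.Block2.Tame
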