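import Cfsg.Agent.Lib.Block2.Ito
import Cfsg.Agent.Lib.Small.PM1
import Cfsg.Agent.Lib.Block.Column

/-! Simple groups with a dihedral Sylow normalizer of order `2p`: the order formula. -/

set_option autoImplicit false
set_option linter.dupNamespace false
set_option linter.unusedSectionVars false
set_option linter.style.haveILetI false

open Cfsg Cfsg.Lib.Char Subgroup MulAction Cfsg.Lib.Small Cfsg.Lib.Clifford Cfsg.Lib.Hall
open Cfsg.Lib.Block (pairFun classInner_pairFun isClassFunction_pairFun)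
open scoped ComplexConjugate

namespace Cfsg.Lib.Block2.Tp

open Ito

variable {G : Type*} [Group G] [Fintype G] {p : ℕ} [hp : Fact p.Prime] {P : Subgroup G} {t : G}

theorem exists_dih [IsSimpleGroup G] (hp2 : p ≠ 2) (P : Sylow p G)
    (hN : Nat.card (normalizer ((P : Subgroup G) : Set G)) = 2 * p) : ∃ t, Dih p (P : Subgroup G) t := by
  have hp' : p.Prime := Fact.out
  have h1 : 2 * p ∣ Nat.card G := hN ▸ card_subgroup_dvd_card _
  have hc : Nat.card P = p := by
    obtain ⟨k, hk⟩ := P.isPGroup'.exists_card_eq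
    have h2 : p ^ k ∣ 2 * p := hk ▸ hN ▸ card_dvd_of_le le_normalizer
    have h3 : p ^ k ∣ p ^ 1 := by
      rw [pow_one]
      exact (Nat.Coprime.pow_left k ((Nat.coprime_primes hp' Nat.prime_two).2 hp2)).dvd_of_dvd_mul_left h2
    have h4 := (Nat.pow_dvd_pow_iff_le_right hp'.one_lt).1 h3
    have h5 : k ≠ 0 := by
      rintro rfl
      refine P.not_dvd_index ?_
      have := (P : Subgroup G).card_mul_index
      rw [hk, pow_zero, one_mul] at this
      exact this ▸ (dvd_mul_left _ _).trans h1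
    rw [hk, show k = 1 by omega, pow_one]
  have hm := comm_of_prime hc
  have hnc : ¬ normalizer ((P : Subgroup G) : Set G) ≤ centralizer ((P : Subgroup G) : Set G) := fun h => by
    have h2 := MonoidHom.ker_transferSylow_isComplement' P h
    rcases IsSimpleGroup.eq_bot_or_eq_top_of_normal (MonoidHom.transferSylow P h).ker inferInstance with h3 | h3
    · have := h2.card_mul_card
      rw [h3, card_bot, hc, one_mul] at this
      have := Nat.le_of_dvd Nat.card_pos h1
      have := hp'.pos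
      omega
    · exact MonoidHom.not_dvd_card_ker_transferSylow P h (by
        rw [h3, card_top]; exact (dvd_mul_left _ _).trans h1)
  obtain ⟨t, ht, ht'⟩ := SetLike.not_le_iff_exists.1 hnc
  have hPC : (P : Subgroup G) ≤ centralizer ((P : Subgroup G) : Set G) := fun x hx =>
    mem_centralizer_iff.2 fun y hy => congrArg Subtype.val (hm ⟨y, hy⟩ ⟨x, hx⟩)
  have htP : t ∉ (P : Subgroup G) := fun h => ht' (hPC h)
  have hi : ((P : Subgroup G).subgroupOf (normalizer ((P : Subgroup G) : Set G))).index = 2 := by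
    have := ((P : Subgroup G).subgroupOf (normalizer ((P : Subgroup G) : Set G))).card_mul_index
    rw [Core.card_subgroupOf_of_le le_normalizer, hc, hN, mul_comm] at this
    exact Nat.eq_of_mul_eq_mul_right hp'.pos this
  have hm2 : ∀ x ∈ normalizer ((P : Subgroup G) : Set G), x ∈ (P : Subgroup G) ∨ t⁻¹ * x ∈ (P : Subgroup G) :=
    fun x hx => or_iff_not_imp_left.2 fun h => by
      have := (mul_mem_iff_of_index_two hi (a := ⟨t, ht⟩⁻¹) (b := ⟨x, hx⟩)).2
        (by simp only [mem_subgroupOf, inv_mem_iff]; exact iff_of_false htP h)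
      exact this
  refine ⟨t, hp2, hc, fun y hy => ?_, htP, hm2⟩
  have h2 : t⁻¹ * y * t ∈ (P : Subgroup G) := by
    simpa using (mem_normalizer_iff.1 (inv_mem ht) y).1 hy
  have h3 : t * t ∈ (P : Subgroup G) := by
    refine (hm2 t⁻¹ (inv_mem ht)).elim (fun h => absurd (inv_mem_iff.1 h) htP) fun h => ?_
    simpa using inv_mem h
  have h4 := mem_centralizer_iff.1 (hPC h3) y hy
  have h5 := mem_centralizer_iff.1 (hPC h2) y hy
  by_contra h6
  refine ht' (mem_centralizer_iff.2 fun w hw => ?_)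
  obtain ⟨k, rfl⟩ := mem_zpowers_of_card hc (mul_mem hy h2) (fun e => h6 (eq_inv_of_mul_eq_one_right e)) hw
  refine (Commute.zpow_left ?_ k).eq
  change y * (t⁻¹ * y * t) * t = t * (y * (t⁻¹ * y * t))
  rw [show t * (y * (t⁻¹ * y * t)) = t * (t⁻¹ * y * t * y) by rw [h5]]
  calc y * (t⁻¹ * y * t) * t = y * t⁻¹ * (y * (t * t)) := by group
    _ = _ := by rw [h4]; group

theorem conj2 (χ : IrrCharacter G) {s : G} (hs : s * s = 1) : conj (χ.1 s) = χ.1 s :=
  Block.Cfsg.IsCharacter.conj_apply_of_two χ.2.isCharacter hs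

section dih

variable (h : Dih p P t)
include h

theorem comm {a b : G} (ha : a ∈ P) (hb : b ∈ P) : a * b = b * a :=
  congrArg Subtype.val (comm_of_prime h.card ⟨a, ha⟩ ⟨b, hb⟩)

theorem pow_p {y : G} (hy : y ∈ P) : y ^ p = 1 := by
  have : (⟨y, hy⟩ : P) ^ p = 1 := h.card ▸ pow_card_eq_one'
  simpa using congrArg Subtype.val this

theorem exists_sq {y : G} (hy : y ∈ P) : ∃ w ∈ P, w * w = y := by
  obtain ⟨k, hk⟩ := hp.out.odd_of_ne_two h.odd
  exact ⟨y ^ (k + 1), pow_mem hy _, by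
    rw [← pow_add, show k + 1 + (k + 1) = p + 1 by omega, pow_succ, pow_p h hy, one_mul]⟩

theorem eq_one_of_sq {y : G} (hy : y ∈ P) (e : y * y = 1) : y = 1 := by
  obtain ⟨k, hk⟩ := hp.out.odd_of_ne_two h.odd
  have := pow_p h hy
  rwa [hk, pow_succ, pow_mul, sq, e, one_pow, one_mul] at this

theorem t_mem : t ∈ normalizer (P : Set G) := inv_mem_iff.1 (mem_normalizer_fintype fun y hy => by
  rw [inv_inv, h.inv y hy]; exact inv_mem hy)

theorem tt : t * t = 1 := by
  have h1 : t * t ∈ P := by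
    refine (h.mem t⁻¹ (inv_mem (t_mem h))).elim (fun e => absurd (inv_mem_iff.1 e) h.nm) fun e => ?_
    simpa using inv_mem e
  refine eq_one_of_sq h h1 (mul_eq_one_iff_eq_inv.2 ?_)
  rw [← h.inv _ h1]; group

theorem t_inv : t⁻¹ = t := inv_eq_of_mul_eq_one_right (tt h)

theorem t_ord : orderOf t = 2 :=
  orderOf_eq_prime (by rw [sq, tt h]) fun e => h.nm (e ▸ one_mem P)

theorem conj_t {y : G} (hy : y ∈ P) : IsConj t (t * y) := by
  obtain ⟨w, hw, rfl⟩ := exists_sq h hy
  refine isConj_iff.2 ⟨w⁻¹, ?_⟩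
  rw [← h.inv w hw, t_inv h]
  have := h.inv w hw
  rw [t_inv h] at this
  calc t * w * t * t * (t * w * t)⁻¹ = t * w * (t * t) * (t * w * t)⁻¹ := by group
    _ = _ := by rw [tt h, this]; group

theorem cent_le : centralizer (P : Set G) ≤ P := fun x hx =>
  (h.mem x (centralizer_le_normalizer _ hx)).resolve_right fun h1 => by
    haveI : Nontrivial P := Finite.one_lt_card_iff_nontrivial.1 (h.card ▸ hp.out.one_lt)
    obtain ⟨y, hy⟩ := exists_ne (1 : P)
    refine hy (Subtype.ext (eq_one_of_sq h y.2 (mul_eq_one_iff_eq_inv.2 ?_)))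
    have h2 := mem_centralizer_iff.1 hx y y.2
    have h3 := comm h h1 (inv_mem y.2)
    rw [← h.inv y y.2] at h3
    have : (y : G)⁻¹ = (t⁻¹ * x) * (y : G)⁻¹ * (t⁻¹ * x)⁻¹ := by rw [comm h h1 (inv_mem y.2)]; group
    have h4 : x * (y : G)⁻¹ * x⁻¹ = (y : G)⁻¹ := by rw [mul_assoc, ← mul_inv_rev, ← h2]; group
    rw [this, show (t⁻¹ * x) * (y : G)⁻¹ * (t⁻¹ * x)⁻¹ = t⁻¹ * (x * (y : G)⁻¹ * x⁻¹) * t by group, h4,
      h.inv _ (inv_mem y.2), inv_inv]

theorem conj_P (hn : ¬ p ∣ P.index) {g : G} (hg : p ∣ orderOf g) : ∃ u ∈ P, u ≠ 1 ∧ IsConj g u := by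
  have h1 := orderOf_pow_orderOf_div (orderOf_pos g).ne' hg
  have hP : IsPGroup p P := IsPGroup.of_card (n := 1) (by rw [h.card, pow_one])
  have h2 : IsPGroup p (zpowers (g ^ (orderOf g / p))) :=
    IsPGroup.of_card (n := 1) (by rw [Nat.card_zpowers, h1, pow_one])
  obtain ⟨Q, hQ⟩ := h2.exists_le_sylow
  obtain ⟨x, hx⟩ := MulAction.exists_smul_eq G Q (hP.toSylow hn)
  have h3 : x * g ^ (orderOf g / p) * x⁻¹ ∈ P := by
    have := (Sylow.smul_eq_iff_mem_normalizer (g := (1 : G)) (P := Q)).2 (one_mem _)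
    have h4 : (x • Q : Sylow p G) = hP.toSylow hn := hx
    have h5 : x * g ^ (orderOf g / p) * x⁻¹ ∈ ((x • Q : Sylow p G) : Subgroup G) := by
      rw [Sylow.coe_subgroup_smul]
      exact smul_mem_pointwise_smul _ (MulAut.conj x) _ (hQ (mem_zpowers _))
    rwa [h4] at h5
  have h4 : x * g ^ (orderOf g / p) * x⁻¹ ≠ 1 := fun e => by
    rw [conj_eq_one_iff] at e
    rw [e, orderOf_one] at h1
    exact hp.out.one_lt.ne h1
  refine ⟨x * g * x⁻¹, cent_le h (mem_centralizer_iff.2 fun w hw => ?_), fun e => ?_, isConj_iff.2 ⟨x, rfl⟩⟩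
  · obtain ⟨k, rfl⟩ := mem_zpowers_of_card h.card h3 h4 hw
    rw [← conj_pow]
    exact (((Commute.refl _).pow_left _).zpow_left k).eq
  · rw [conj_eq_one_iff] at e
    rw [e, orderOf_one] at hg
    exact hp.out.one_lt.ne' (Nat.dvd_one.1 hg)

theorem ord_eq (hn : ¬ p ∣ P.index) {g : G} (hg : p ∣ orderOf g) : orderOf g = p := by
  obtain ⟨u, hu, h1, h2⟩ := conj_P h hn hg
  obtain ⟨x, rfl⟩ := isConj_iff.1 h2
  rw [← orderOf_eq_prime (pow_p h hu) h1]
  exact ((MulAut.conj x).orderOf_eq g).symm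

open scoped Classical in
theorem pair_val (hn : ¬ p ∣ P.index) {s s' g : G} (hs : s * s = 1) (hs' : s' * s' = 1) (hg : p ∣ orderOf g) :
    pairFun s s' g = if IsConj s t ∧ IsConj s' t then p else 0 := by
  obtain ⟨u, hu, h1, h2⟩ := conj_P h hn hg
  rw [(isClassFunction_pairFun s s').eq_of_isConj h2]
  have sq1 : ∀ {a x : G}, a * a = 1 → IsConj a x → x * x = 1 := fun ha hx => by
    obtain ⟨c, rfl⟩ := isConj_iff.1 hx
    rw [conj_mul, ha, mul_one, mul_inv_cancel]
  have key : ∀ x, x * x = 1 → x * u * x⁻¹ = u⁻¹ → t⁻¹ * x ∈ P := fun x hx e => by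
    refine (h.mem x (mem_normalizer_fintype fun n hn => ?_)).resolve_left fun h3 => h1 ?_
    · obtain ⟨k, rfl⟩ := mem_zpowers_of_card h.card hu h1 hn
      rw [← conj_zpow, e]
      exact zpow_mem (inv_mem hu) k
    · rw [comm h h3 hu, mul_inv_cancel_right] at e
      exact eq_one_of_sq h hu (mul_eq_one_iff_eq_inv.2 e)
  have key2 : ∀ x y, IsConj s x → IsConj s' y → x * y = u → t⁻¹ * x ∈ P ∧ t⁻¹ * y ∈ P := fun x y hx hy e => by
    have a1 := inv_eq_of_mul_eq_one_right (sq1 hs hx)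
    have a2 := inv_eq_of_mul_eq_one_right (sq1 hs' hy)
    refine ⟨key x (sq1 hs hx) ?_, key y (sq1 hs' hy) ?_⟩
    · rw [← e, mul_inv_rev, a1, a2, ← mul_assoc, sq1 hs hx, one_mul]
    · rw [← e, mul_inv_rev, a1, a2, mul_assoc, mul_assoc, sq1 hs' hy, mul_one]
  have key3 : ∀ x, t⁻¹ * x ∈ P → IsConj t x := fun x hx => by simpa using conj_t h hx
  split_ifs with h3
  · unfold pairFun
    rw [Finset.sum_congr rfl (g := fun x => if t⁻¹ * x ∈ P then (1 : ℂ) else 0) fun x hx => ?_, ← Finset.sum_filter,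
      Finset.filter_filter, Finset.sum_const, nsmul_eq_mul, mul_one, ← h.card, ← card_elems, Nat.cast_inj]
    · refine Finset.card_bij (fun x _ => t⁻¹ * x) (fun x hx => mem_elems.2 (Finset.mem_filter.1 hx).2.2)
        (fun _ _ _ _ e => mul_left_cancel e) fun y hy => ⟨t * y, ?_, by simp⟩
      exact Finset.mem_filter.2 ⟨Finset.mem_univ _, h3.1.trans (conj_t h (mem_elems.1 hy)), by
        simpa using mem_elems.1 hy⟩
    · have hx' := (Finset.mem_filter.1 hx).2
      split_ifs with h4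
      · rw [Finset.sum_eq_single (x⁻¹ * u) (fun y _ hy => if_neg fun e => hy (by rw [← e]; group)) fun hy => ?_,
          if_pos (by group)]
        refine absurd (Finset.mem_filter.2 ⟨Finset.mem_univ _, h3.2.trans (key3 _ ?_)⟩) hy
        rw [inv_eq_of_mul_eq_one_right (sq1 hs hx'), ← mul_assoc]
        exact mul_mem h4 hu
      · exact Finset.sum_eq_zero fun y hy => if_neg fun e => h4 (key2 x y hx' (Finset.mem_filter.1 hy).2 e).1
  · rw [Nat.cast_zero]
    exact Block.pairFun_eq_zero fun x y hx hy e => h3 ⟨hx.trans (key3 _ (key2 x y hx hy e).1).symm,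
      hy.trans (key3 _ (key2 x y hx hy e).2).symm⟩

theorem sum_N {f : G → ℂ} (hf : IsClassFunction G f) :
    ∑ g ∈ elems (normalizer (P : Set G)), f g = ∑ g ∈ elems P, f g + p * f t := by
  classical
  have : elems (normalizer (P : Set G)) = elems P ∪ (elems P).image (t * ·) := by
    ext x
    simp only [mem_elems, Finset.mem_union, Finset.mem_image]
    refine ⟨fun hx => (h.mem x hx).imp_right fun e => ⟨_, e, by simp⟩, ?_⟩
    rintro (hx | ⟨y, hy, rfl⟩)
    exacts [le_normalizer hx, mul_mem (t_mem h) (le_normalizer hy)]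
  rw [this, Finset.sum_union, Finset.sum_image fun _ _ _ _ e => mul_left_cancel e,
    Finset.sum_congr rfl fun y hy => (hf.eq_of_isConj (conj_t h (mem_elems.1 hy))).symm, Finset.sum_const, card_elems,
    h.card, nsmul_eq_mul]
  rw [Finset.disjoint_right]
  simp only [Finset.mem_image, mem_elems]
  rintro _ ⟨y, hy, rfl⟩ e
  exact h.nm ((mul_mem_cancel_right hy).1 e)

end dih

/-- The principal `p`-block: `1`, `χ` and an exceptional character `θ`. -/
structure Bk (p : ℕ) (P : Subgroup G) (t : G) (χ θ : IrrCharacter G) (ε : ℤ) : Prop where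
  dih : Dih p P t
  ndvd : ¬ p ∣ P.index
  n1 : χ ≠ principalIrr G
  n2 : θ ≠ principalIrr G
  n3 : θ ≠ χ
  sign : ε = 1 ∨ ε = -1
  sing : ∀ g, p ∣ orderOf g → χ.1 g = ε
  reg : ∀ g, ¬ p ∣ orderOf g → θ.1 g = χ.1 g + ε

namespace Bk

variable {χ θ : IrrCharacter G} {ε : ℤ} (h : Bk p P t χ θ ε)
include h

theorem inner {f : G → ℂ} {c : ℂ} (hf : ∀ g, p ∣ orderOf g → f g = c) :
    classInner f (principalIrr G).1 + ε * classInner f χ.1 - ε * classInner f θ.1 = c := by
  have hε : (ε : ℂ) * ε = 1 := by rcases h.sign with e | e <;> simp [e]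
  have key : ∀ f : G → ℂ, classInner f (principalIrr G).1 + ε * classInner f χ.1 - ε * classInner f θ.1 =
      classInner f ((principalIrr G).1 + (ε : ℂ) • χ.1 - (ε : ℂ) • θ.1) := fun f => by
    rw [classInner_sub_right, classInner_add_right, classInner_smul_right, classInner_smul_right, map_intCast]
  have h1 := key (c • (principalIrr G).1)
  simp only [classInner_smul_left] at h1
  rw [(principalIrr G).2.classInner_self, (principalIrr G).2.classInner_of_ne χ.2 fun e => h.n1 (Subtype.ext e.symm),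
    (principalIrr G).2.classInner_of_ne θ.2 fun e => h.n2 (Subtype.ext e.symm), ← classInner_smul_left] at h1
  simp only [mul_one, mul_zero, add_zero, sub_zero] at h1
  rw [key, h1, classInner_def, classInner_def]
  refine congrArg _ (Finset.sum_congr rfl fun g _ => ?_)
  by_cases hg : p ∣ orderOf g
  · rw [hf g hg]; simp [principalIrr]
  · have : ((principalIrr G).1 + (ε : ℂ) • χ.1 - (ε : ℂ) • θ.1) g = 0 := by
      simp only [principalIrr, Pi.sub_apply, Pi.add_apply, Pi.smul_apply, smul_eq_mul, h.reg g hg]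
      linear_combination -hε
    rw [this]; simp

theorem not_dvd_two {s : G} (hs : s * s = 1) : ¬ p ∣ orderOf s := fun e =>
  h.dih.odd ((Nat.prime_dvd_prime_iff_eq hp.out Nat.prime_two).1 (e.trans (orderOf_dvd_of_pow_eq_one (by rwa [sq]))))

theorem deg : θ.1 1 = χ.1 1 + ε := h.reg 1 (h.not_dvd_two (mul_one 1))

open scoped Classical in
theorem formula {s s' : G} (hs : s * s = 1) (hs' : s' * s' = 1) :
    Nat.card G * ((χ.1 1 - χ.1 s) * (χ.1 1 - χ.1 s')) = (if IsConj s t ∧ IsConj s' t then p else 0) *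
      (Nat.card (centralizer ({s} : Set G)) * Nat.card (centralizer ({s'} : Set G)) * (χ.1 1 * θ.1 1)) := by
  have h1 := h.inner fun g hg => pair_val h.dih h.ndvd hs hs' hg
  have hε : (ε : ℂ) * ε = 1 := by rcases h.sign with e | e <;> simp [e]
  rw [classInner_pairFun _ _ (principalIrr G).2, classInner_pairFun _ _ χ.2, classInner_pairFun _ _ θ.2,
    conj2 χ hs, conj2 χ hs', conj2 θ hs, conj2 θ hs'] at h1
  have h2 := χ.2.apply_one_ne_zero
  have h3 := θ.2.apply_one_ne_zero
  have h4 : (Nat.card (centralizer ({s} : Set G)) : ℂ) ≠ 0 := Nat.cast_ne_zero.2 Nat.card_pos.ne'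
  have h5 : (Nat.card (centralizer ({s'} : Set G)) : ℂ) ≠ 0 := Nat.cast_ne_zero.2 Nat.card_pos.ne'
  rw [← h1, h.reg s (h.not_dvd_two hs), h.reg s' (h.not_dvd_two hs')]
  simp only [principalIrr, map_one]
  field_simp
  rw [h.deg]
  linear_combination (χ.1 1 * (ε + χ.1 s + χ.1 s') - χ.1 s * χ.1 s') * hε

end Bk

end Cfsg.Lib.Block2.Tp
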