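import Cfsg.Agent.Lib.Block2.Tp1
import Cfsg.Agent.Lib.Layer.PTerm

/-! Simple groups of degree `3p` with Sylow normalizer of order `2p`: the permutation character. -/

set_option autoImplicit false
set_option linter.dupNamespace false
set_option linter.unusedSectionVars false
set_option linter.style.haveILetI false

open Cfsg Cfsg.Lib.Char Subgroup MulAction Cfsg.Lib.Small Cfsg.Lib.Clifford Cfsg.Lib.Hall
open scoped ComplexConjugate

namespace Cfsg.Lib.Block2.Tp

open Ito

variable {G : Type*} [Group G] [Fintype G] {p : ℕ} [hp : Fact p.Prime] {P : Subgroup G} {t : G}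

omit hp in
theorem index_eq_of_isConj {s t : G} (h : IsConj s t) :
    (centralizer ({s} : Set G)).index = (centralizer ({t} : Set G)).index := by
  obtain ⟨x, rfl⟩ := isConj_iff.1 h
  rw [← Block.ncard_isConj, ← Block.ncard_isConj]
  exact congrArg _ (Set.ext fun y => ⟨h.symm.trans, h.trans⟩)

omit hp in
theorem exists_central (S : Sylow 2 G) (h : 2 ∣ Nat.card G) :
    ∃ z ∈ (S : Subgroup G), orderOf z = 2 ∧ (S : Subgroup G) ≤ centralizer ({z} : Set G) := by
  haveI : Nontrivial S := Finite.one_lt_card_iff_nontrivial.1 (lt_of_lt_of_le one_lt_two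
    (Nat.le_of_dvd Nat.card_pos (S.dvd_card_of_dvd_card h)))
  haveI := S.isPGroup'.center_nontrivial
  obtain ⟨k, hk, h1⟩ := (S.isPGroup'.to_subgroup (center S)).nontrivial_iff_card.1 inferInstance
  obtain ⟨z, hz⟩ := exists_prime_orderOf_dvd_card' (G := center S) 2 (h1 ▸ dvd_pow_self 2 hk.ne')
  exact ⟨z.1.1, z.1.2, by rw [Subgroup.orderOf_coe, Subgroup.orderOf_coe, hz], fun y hy =>
    mem_centralizer_singleton_iff.2 (congrArg Subtype.val (mem_center_iff.1 z.2 ⟨y, hy⟩))⟩

omit hp in
theorem odd_index (h1 : ∀ s : G, orderOf s = 2 → IsConj s t) (ht : orderOf t = 2) :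
    Odd (centralizer ({t} : Set G)).index := by
  obtain ⟨S⟩ : Nonempty (Sylow 2 G) := inferInstance
  obtain ⟨z, -, h2, h3⟩ := exists_central S (ht ▸ orderOf_dvd_natCard t)
  rw [← index_eq_of_isConj (h1 z h2), ← Nat.not_even_iff_odd, even_iff_two_dvd]
  exact fun e => S.not_dvd_index (e.trans (index_dvd_of_le h3))

namespace Bk

variable [IsSimpleGroup G] {χ θ : IrrCharacter G} {ε : ℤ} (h : Bk p P t χ θ ε)
include h

theorem faithful {g : G} (hg : χ.1 g = χ.1 1) : g = 1 :=
  mem_bot.1 (charKer_eq_bot_of_simple h.n1 ▸ χ.2.mem_charKer.2 hg)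

theorem one_class {s : G} (hs : orderOf s = 2) : IsConj s t := by
  have h1 : s * s = 1 := by rw [← sq, ← hs, pow_orderOf_eq_one]
  have h2 := h.formula h1 h1
  by_contra h3
  rw [if_neg fun e => h3 e.1, Nat.cast_zero, zero_mul, mul_eq_zero, mul_self_eq_zero, sub_eq_zero] at h2
  refine h2.elim (Nat.cast_ne_zero.2 Nat.card_pos.ne') fun e => ?_
  rw [h.faithful e.symm, orderOf_one] at hs
  omega

theorem order : (centralizer ({t} : Set G)).index * (χ.1 1 - χ.1 t) ^ 2 =
    p * Nat.card (centralizer ({t} : Set G)) * (χ.1 1 * θ.1 1) := by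
  have h2 := h.formula (tt h.dih) (tt h.dih)
  rw [if_pos ⟨IsConj.refl t, IsConj.refl t⟩, ← (centralizer ({t} : Set G)).card_mul_index] at h2
  apply mul_left_cancel₀ (a := (Nat.card (centralizer ({t} : Set G)) : ℂ)) (Nat.cast_ne_zero.2 Nat.card_pos.ne')
  push_cast at h2
  linear_combination h2

end Bk

variable {Ω : Type*} [Fintype Ω] [MulAction G Ω]

theorem free [IsPretransitive G Ω] (h : Dih p P t) (hn : ¬ p ∣ P.index) (hΩ : Fintype.card Ω = 3 * p) {g : G}
    (hg : p ∣ orderOf g) (a : Ω) : g • a ≠ a := fun e => by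
  have h1 := (stabilizer G a).card_mul_index
  rw [index_stabilizer_of_transitive, Nat.card_eq_fintype_card (α := Ω), hΩ, ← P.card_mul_index, h.card] at h1
  obtain ⟨k, hk⟩ := hg.trans (Subgroup.orderOf_dvd_natCard (stabilizer G a) e)
  exact hn ⟨k * 3, Nat.eq_of_mul_eq_mul_left hp.out.pos (by rw [← h1, hk]; ring)⟩

theorem fix_t [IsPretransitive G Ω] (h : Dih p P t) (hn : ¬ p ∣ P.index) (hΩ : Fintype.card Ω = 3 * p) :
    Nat.card (fixedBy Ω t) = 1 ∨ Nat.card (fixedBy Ω t) = 3 := by
  have h1 : Nat.card (P × fixedBy Ω t) ≤ Nat.card Ω := by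
    refine Nat.card_le_card_of_injective (fun x => (x.1 : G) • (x.2 : Ω)) fun ⟨x, a⟩ ⟨y, b⟩ e => ?_
    have h2 : (b : Ω) = ((y : G)⁻¹ * x) • (a : Ω) := by rw [mul_smul]; exact eq_inv_smul_iff.2 e.symm
    have hw := mul_mem (inv_mem y.2) x.2
    have h3 : (y : G)⁻¹ * x = 1 := by
      generalize (y : G)⁻¹ * x = w at h2 hw
      have h4 : (w * w) • (a : Ω) = a := by
        have a1 : t • (a : Ω) = a := a.2
        have b1 : t • (b : Ω) = b := b.2
        have h5 := h.inv w hw
        rw [t_inv h] at h5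
        rw [h2, ← a1, ← mul_smul, ← mul_smul, h5, a1] at b1
        rw [mul_smul, ← b1, smul_inv_smul]
      by_contra h5
      refine free h hn hΩ ?_ _ h4
      rw [orderOf_eq_prime (pow_p h (mul_mem hw hw)) fun e => h5 (eq_one_of_sq h hw e)]
    rw [h3, one_smul] at h2
    exact Prod.ext (Subtype.ext (inv_mul_eq_one.1 h3).symm) (Subtype.ext h2.symm)
  rw [Nat.card_prod, h.card, Nat.card_eq_fintype_card (α := Ω), hΩ, mul_comm] at h1
  have h2 := Nat.le_of_mul_le_mul_right h1 hp.out.pos
  have h3 : IsPGroup 2 (zpowers t) := IsPGroup.of_card (n := 1) (by rw [Nat.card_zpowers, t_ord h, pow_one])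
  have h4 := h3.card_modEq_card_fixedPoints Ω
  have h5 : fixedPoints (zpowers t) Ω = fixedBy Ω t := Set.ext fun a =>
    ⟨fun e => e ⟨t, mem_zpowers t⟩, fun e y => zpowers_le.2 (show t ∈ stabilizer G a from e) y.2⟩
  rw [h5, Nat.card_eq_fintype_card (α := Ω), hΩ] at h4
  have := (hp.out.eq_two_or_odd.resolve_left h.odd)
  unfold Nat.ModEq at h4
  omega

omit hp in
theorem eq_sum_of_deg {φ : G → ℂ} {a : IrrCharacter G → ℕ} (h2 : ∀ g, φ g = ∑ χ, (a χ : ℂ) * χ.1 g)
    (h3 : charDegree φ = ∑ χ, a χ * charDegree χ.1) (s : Finset (IrrCharacter G))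
    (h : charDegree φ ≤ ∑ χ ∈ s, a χ * charDegree χ.1) (g : G) : φ g = ∑ χ ∈ s, (a χ : ℂ) * χ.1 g := by
  classical
  rw [h3, ← Finset.sum_add_sum_compl s] at h
  rw [h2, ← Finset.sum_add_sum_compl s, add_eq_left]
  refine Finset.sum_eq_zero fun χ hχ => ?_
  have h4 : ∑ χ ∈ sᶜ, a χ * charDegree χ.1 = 0 := by omega
  rw [(mul_eq_zero.1 (Finset.sum_eq_zero_iff.1 h4 χ hχ)).resolve_right (deg_pos χ).ne']
  simp

theorem cases [IsSimpleGroup G] (hG : ¬ IsMulCommutative G) (hp3 : 3 < p) [IsPretransitive G Ω]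
    (h : Dih p P t) (hn : ¬ p ∣ P.index) (hΩ : Fintype.card Ω = 3 * p) :
    ∃ χ θ, Bk p P t χ θ (-1) ∧ p * (charDegree χ.1 * charDegree θ.1) ∣ Nat.card G ∧
      ((charDegree χ.1 + 1 = p ∧ χ.1 t = 0 ∧ (p = 5 → Nat.card G = 60) ∧
        (5 < p → ∀ g : G, Even (orderOf g) → orderOf g = 2)) ∨
      (charDegree χ.1 + 1 = 2 * p ∧ χ.1 t = 1 ∧ ∃ ψ : IrrCharacter G, ψ.1 1 = p ∧
        pch G Ω = (fun _ => 1) + χ.1 + ψ.1) ∨ pch G Ω = (fun _ => 1) + χ.1) := by
  classical
  have hC := cent_le h
  obtain ⟨e, n, X, Y, κ, ε, H⟩ := exists_PB h.card hn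
  obtain ⟨D⟩ := H.dOne
  obtain rfl : 2 = e := by
    have h1 := sum_N h (isClassFunction_const 1)
    rw [Finset.sum_const, Finset.sum_const, card_elems, card_elems, D.card_N hC, H.he, h.card] at h1
    simp only [nsmul_eq_mul, mul_one] at h1
    exact Nat.eq_of_mul_eq_mul_left hp.out.pos (by rw [mul_two]; exact_mod_cast h1.symm)
  have hn2 := H.mul
  have h1 := H.one_mem_X (commutator_eq_top_of_simple hG) (by omega)
  obtain ⟨χ, h2, h3, h4⟩ := H.two rfl h1
  have hχ := (h3 χ).2 (.inr rfl)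
  have hd : 1 < charDegree χ.1 := lt_of_le_of_ne (deg_pos χ) fun e =>
    h2 (eq_principal_of_degree_one (commutator_eq_top_of_simple hG) e.symm)
  obtain ⟨θ, hθ⟩ := H.exists_Y
  obtain rfl : ε χ = κ := by
    have h5 := h4 θ hθ
    have := deg_pos θ
    rcases H.sign with e | e <;> rcases H.sign_ε χ hχ with e' | e' <;> rw [e, e'] at h5 <;> omega
  have hb : ∀ θ ∈ Y, Bk p P t χ θ (ε χ) := fun θ hθ =>
    ⟨h, hn, h2, fun e => Finset.disjoint_left.1 H.disj h1 (e ▸ hθ), fun e => Finset.disjoint_left.1 H.disj hχ (e ▸ hθ),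
      H.sign, H.val_X χ hχ, fun g hg => by
        have := H.rel θ hθ g hg
        rw [show X = {principalIrr G, χ} by ext; simp [h3], Finset.sum_pair h2.symm, H.ε_one h1] at this
        change _ = _ * 1 + _ at this
        rcases H.sign with e | e <;> rw [e] at this ⊢ <;> push_cast at this ⊢
        · linear_combination this
        · linear_combination -this⟩
  have hdθ : ∀ θ ∈ Y, (charDegree θ.1 : ℤ) = charDegree χ.1 + ε χ := fun θ hθ => by
    have := (hb θ hθ).deg
    rw [← coe_deg, ← coe_deg] at this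
    exact_mod_cast this
  obtain ⟨a⟩ : Nonempty Ω := Fintype.card_pos_iff.1 (by omega)
  obtain ⟨m, m1, m2, m3, -⟩ := exists_coeffs (isCharacter_fixedBy (G := G) Ω)
  have hπ : charDegree (pch G Ω) = 3 * p := by
    apply Nat.cast_injective (R := ℂ)
    rw [Char.Cfsg.IsCharacter.coe_charDegree (isCharacter_fixedBy Ω), ← hΩ]
    exact pch_one
  have a1 : m (principalIrr G) = 1 := by exact_mod_cast (m1 (principalIrr G)).symm.trans (pch_inner_one a)
  have a2 : ∀ θ ∈ Y, (m θ : ℤ) = m χ + ε χ := fun θ hθ => by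
    have := (hb θ hθ).inner (f := pch G Ω) (c := 0) fun g hg =>
      Nat.cast_eq_zero.2 (Nat.card_eq_zero.2 (.inl ⟨fun z => free h hn hΩ hg z.1 z.2⟩))
    rw [m1, m1, m1, a1] at this
    have : (1 + ε χ * m χ - ε χ * m θ : ℤ) = 0 := by exact_mod_cast this
    rcases H.sign with e | e <;> rw [e] at this ⊢ <;> omega
  have hs : ∑ φ ∈ X ∪ Y, m φ * charDegree φ.1 = 1 + m χ * charDegree χ.1 + n * (m θ * charDegree θ.1) := by
    rw [Finset.sum_union H.disj, show X = {principalIrr G, χ} by ext; simp [h3], Finset.sum_pair h2.symm, a1,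
      deg_principal, Finset.sum_congr rfl (g := fun _ => m θ * charDegree θ.1) fun φ hφ => by
        rw [H.deg_eq hφ hθ, show m φ = m θ by have := a2 φ hφ; have := a2 θ hθ; omega],
      Finset.sum_const, H.card_Y, smul_eq_mul]
  have hle : 1 + m χ * charDegree χ.1 + n * (m θ * charDegree θ.1) ≤ 3 * p := by
    rw [← hs, ← hπ, m3]; exact Finset.sum_le_sum_of_subset (Finset.subset_univ _)
  have hav := H.av_X hχ
  have a3 := a2 θ hθ
  have d3 := hdθ θ hθ
  have hB := hb θ hθ
  have hf := fix_t h hn hΩ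
  have ho := hB.order
  have hi := odd_index (fun s => hB.one_class) (t_ord h)
  rcases H.sign with e | e <;> rw [e] at hav a3 d3 hB
  · exfalso
    obtain ⟨k, hk⟩ : ∃ k, av P χ.1 = k + 2 := ⟨av P χ.1 - 2, by
      rcases (show av P χ.1 = 0 ∨ av P χ.1 = 1 ∨ 2 ≤ av P χ.1 by omega) with e | e | e
      · rw [e] at hav; omega
      · rw [e] at hav; omega
      · omega⟩
    rw [hk] at hav
    have e1 : charDegree θ.1 = p * k + p + 2 := by push_cast at hav; zify; linarith
    have e2 : n * (p + 2) ≤ n * (m θ * charDegree θ.1) := by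
      gcongr; calc p + 2 ≤ 1 * charDegree θ.1 := by omega
        _ ≤ _ := by gcongr; omega
    obtain rfl : n = 2 := by nlinarith
    obtain rfl : p = 5 := by omega
    have e3 : m χ = 0 := by nlinarith
    have e4 : charDegree θ.1 = 7 := by rw [show m θ = 1 by omega] at hle; omega
    have e5 := eq_sum_of_deg m2 m3 (X ∪ Y) (by rw [hs, hπ, e3, e4, show m θ = 1 by omega]; omega) t
    rw [Finset.sum_union H.disj, show X = {principalIrr G, χ} by ext; simp [h3], Finset.sum_pair h2.symm, a1, e3,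
      Finset.sum_congr rfl (g := fun _ => χ.1 t + 1) fun φ hφ => by
        rw [show m φ = 1 by have := a2 φ hφ; omega, (hb φ hφ).reg t (hB.not_dvd_two (tt h)), e]; simp,
      Finset.sum_const, H.card_Y] at e5
    rw [← coe_deg, ← coe_deg, e4, show charDegree χ.1 = 6 by omega] at ho
    obtain ⟨j, hj⟩ := Layer.four_dvd_card_of_simple hG (t_ord h ▸ orderOf_dvd_natCard t)
    rw [← (centralizer ({t} : Set G)).card_mul_index] at hj
    generalize (centralizer ({t} : Set G)).index = i at *
    generalize Nat.card (centralizer ({t} : Set G)) = c at *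
    have h4 : 4 ∣ c := (show Nat.Coprime (2 ^ 2) i from (Nat.coprime_two_left.2 hi).pow_left 2).dvd_of_dvd_mul_right
      ⟨j, hj⟩
    obtain ⟨i, rfl⟩ := hi
    simp only [principalIrr] at e5
    rcases hf with hf | hf <;> rw [hf] at e5
    · rw [show χ.1 t = -1 by push_cast at e5; linear_combination -e5 / 2] at ho
      have : ((2 * i + 1) * 49 : ℤ) = 210 * c := by
        apply Int.cast_injective (α := ℂ); push_cast at ho ⊢; linear_combination ho
      omega
    · rw [show χ.1 t = 0 by push_cast at e5; linear_combination -e5 / 2] at ho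
      have : ((2 * i + 1) * 36 : ℤ) = 210 * c := by
        apply Int.cast_injective (α := ℂ); push_cast at ho ⊢; linear_combination ho
      omega
  refine ⟨χ, θ, hB, ?_, ?_⟩
  · rw [← (centralizer (P : Set G)).card_mul_index, le_antisymm hC fun x hx => mem_centralizer_iff.2 fun y hy =>
      comm h hy hx, h.card]
    refine mul_dvd_mul_left _ (Nat.Coprime.mul_dvd_of_dvd_of_dvd ?_ ?_ ?_)
    · rw [show charDegree χ.1 = charDegree θ.1 + 1 by omega]; simp
    · simpa [le_antisymm hC fun x hx => mem_centralizer_iff.2 fun y hy => comm h hy hx] using H.dvd_X hχ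
    · simpa [le_antisymm hC fun x hx => mem_centralizer_iff.2 fun y hy => comm h hy hx] using H.dvd_Y hθ
  obtain ⟨k, hk⟩ : ∃ k, charDegree χ.1 + 1 = p * (k + 1) := ⟨av P χ.1, by zify; linarith⟩
  have hk3 : k < 3 := by
    by_contra h5
    have : 1 * charDegree χ.1 ≤ m χ * charDegree χ.1 := by gcongr; omega
    have : p * 4 ≤ p * (k + 1) := by gcongr; omega
    omega
  obtain rfl | hk1 : k = 0 ∨ 1 ≤ k := by omega
  · have hf : ∀ g, χ.1 g = χ.1 1 → g = 1 := fun g => hB.faithful
    rw [zero_add, mul_one] at hk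
    refine .inl ⟨hk, H.val_two hC hp3 hk hf (t_ord h), fun h5 => ?_, fun h5 g => H.eq_two_of_even hC hp3 hk hf h5⟩
    choose f hf' using (H.isRat hC hp3 hk).exists_int χ.2.isCharacter
    have := h.card_eq (a := f) (by rw [← funext hf']; exact χ.2)
      (Int.cast_injective (α := ℂ) (by rw [← hf', ← coe_deg, ← hk]; simp))
      (fun y hy h1 => Int.cast_injective (α := ℂ) (by rw [← hf', hB.sing y (H.dvd_orderOf hy h1)]))
      fun g hg => hf g (by rw [hf', hf', hg])
    subst h5
    exact_mod_cast (this.trans (by norm_num) : (Nat.card G : ℤ) = 60)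
  have b0 : m θ = 0 := by
    by_contra h5
    have : 2 * charDegree χ.1 ≤ m χ * charDegree χ.1 := by gcongr; omega
    have : p * 2 ≤ p * (k + 1) := by gcongr; omega
    omega
  have b1 : m χ = 1 := by omega
  rw [b0, b1, zero_mul, mul_zero, add_zero, one_mul] at hs
  have hs' : ∀ g, ∑ φ ∈ X ∪ Y, (m φ : ℂ) * φ.1 g = 1 + χ.1 g := fun g => by
    rw [Finset.sum_union H.disj, show X = {principalIrr G, χ} by ext; simp [h3], Finset.sum_pair h2.symm, a1, b1,
      Finset.sum_eq_zero fun φ hφ => by rw [show m φ = 0 by have := a2 φ hφ; omega]; simp]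
    simp [principalIrr]
  obtain rfl | rfl : k = 1 ∨ k = 2 := by omega
  · refine .inr (.inl ⟨by omega, ?_, ?_⟩)
    · have c1 := sum_N h χ.2.isClassFunction
      have c2 := av_anti χ.2.isCharacter (le_normalizer (H := P))
      have c3 : av P χ.1 = 1 := Nat.eq_of_mul_eq_mul_left hp.out.pos (by zify at hk ⊢; linarith)
      rw [sum_eq_av χ.2.isCharacter, sum_eq_av χ.2.isCharacter, D.card_N hC, H.he, h.card, c3] at c1
      have hp0 : (p : ℂ) ≠ 0 := Nat.cast_ne_zero.2 hp.out.ne_zero
      obtain c4 | c4 : av (normalizer (P : Set G)) χ.1 = 0 ∨ av (normalizer (P : Set G)) χ.1 = 1 := by omega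
      · exfalso
        rw [c4] at c1
        rw [show χ.1 t = -1 from mul_left_cancel₀ hp0 (by push_cast at c1; linear_combination -c1), ← coe_deg,
          ← coe_deg] at ho
        have c5 : (centralizer ({t} : Set G)).index * (2 * 2) * p = Nat.card (centralizer ({t} : Set G)) *
            (charDegree χ.1 * charDegree θ.1) := by
          apply Nat.cast_injective (R := ℂ)
          apply mul_left_cancel₀ hp0
          have : (charDegree χ.1 + 1 : ℂ) = p * 2 := by exact_mod_cast hk
          rw [sub_neg_eq_add, this] at ho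
          push_cast
          linear_combination ho
        rcases (Nat.Prime.dvd_mul hp.out).1 ⟨_, c5.symm.trans (mul_comm _ _)⟩ with c6 | c6
        · obtain ⟨y, hy⟩ := exists_prime_orderOf_dvd_card' p c6
          have c7 : Commute (y : G) t := mem_centralizer_singleton_iff.1 y.2
          rw [← Subgroup.orderOf_coe] at hy
          have c8 := c7.orderOf_mul_eq_mul_orderOf_of_coprime (by
            rw [hy, t_ord h]; exact (Nat.coprime_primes hp.out Nat.prime_two).2 h.odd)
          rw [ord_eq h hn (c8 ▸ hy ▸ dvd_mul_right _ _), hy, t_ord h] at c8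
          omega
        · rcases (Nat.Prime.dvd_mul hp.out).1 c6 with c7 | c7
          · have := Nat.le_of_dvd one_pos ((Nat.dvd_add_right c7).1 ⟨_, hk⟩)
            omega
          · have := Nat.le_of_dvd two_pos ((Nat.dvd_add_right c7).1 ⟨2, by omega⟩)
            omega
      · rw [c4] at c1
        exact mul_left_cancel₀ hp0 (by push_cast at c1; linear_combination -c1)
    · have c1 : ∑ φ ∈ (X ∪ Y)ᶜ, m φ * charDegree φ.1 = p := by
        have := Finset.sum_add_sum_compl (X ∪ Y) fun φ => m φ * charDegree φ.1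
        rw [← m3, hπ, hs] at this
        omega
      obtain ⟨ψ, c2, c3⟩ := Finset.exists_ne_zero_of_sum_ne_zero (c1.trans_ne hp.out.ne_zero)
      have c4 := Finset.single_le_sum (f := fun φ => m φ * charDegree φ.1) (fun _ _ => Nat.zero_le _) c2
      simp only [Finset.mem_compl] at c2
      simp only [c1] at c4
      have c5 := Nat.le_of_dvd (deg_pos ψ) (H.out hC ψ (fun e => c2 (Finset.mem_union_left _ e))
        fun e => c2 (Finset.mem_union_right _ e))
      have c6 : m ψ = 1 := by
        have : m ψ ≠ 0 := fun e => c3 (by rw [e, zero_mul])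
        by_contra c6
        have : 2 * charDegree ψ.1 ≤ m ψ * charDegree ψ.1 := by gcongr; omega
        omega
      rw [c6, one_mul] at c4
      refine ⟨ψ, by rw [← coe_deg, le_antisymm c4 c5], funext fun g => ?_⟩
      have := eq_sum_of_deg m2 m3 (insert ψ (X ∪ Y)) (by rw [Finset.sum_insert c2, hs, hπ, c6]; omega) g
      rw [Finset.sum_insert c2, hs', c6] at this
      simp only [Pi.add_apply]
      rw [show pch G Ω g = _ from this]
      push_cast
      ring
  · exact .inr (.inr (funext fun g => (eq_sum_of_deg m2 m3 (X ∪ Y) (by rw [hs, hπ]; omega) g).trans (hs' g)))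

end Cfsg.Lib.Block2.Tp
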