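import Cfsg.Agent.Lib.Block2.Tp2
import Cfsg.Agent.Lib.BS.Bro
import Cfsg.Agent.Lib.Linear.PLineStab
import Cfsg.Agent.Lib.Exc.EC
import Cfsg.Agent.S0280

/-! Primitive simple groups in which involutions fix one or three points. -/

set_option autoImplicit false
set_option linter.dupNamespace false
set_option linter.unusedSectionVars false
set_option linter.style.haveILetI false

open Cfsg Cfsg.Lib.Char Subgroup MulAction Cfsg.Lib.BS
open scoped Pointwise

namespace Cfsg.Lib.Block2.Tp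

variable {G : Type*} [Group G] [Fintype G] {Ω : Type*} [Fintype Ω] [MulAction G Ω]

theorem card_le_two_mul (R : Subgroup G) {b c : Ω} (hR : ∀ g ∈ R, g • b = b ∨ g • b = c) :
    Nat.card R = Nat.card ↥(R ⊓ stabilizer G b) ∨ Nat.card R = 2 * Nat.card ↥(R ⊓ stabilizer G b) := by
  have h1 := Linear.ncard_orbit_mul_card_inf_stabilizer R b
  have h2 : (MulAction.orbit R b).ncard ≤ 2 := (Set.ncard_le_ncard (t := {b, c}) (by
    rintro _ ⟨g, rfl⟩; exact hR g g.2)).trans ((Set.ncard_insert_le _ _).trans (by simp))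
  have h3 : 0 < (MulAction.orbit R b).ncard := (Set.ncard_pos).2 ⟨b, mem_orbit_self b⟩
  obtain h | h : (MulAction.orbit R b).ncard = 1 ∨ (MulAction.orbit R b).ncard = 2 := by omega
  · exact .inl (by rw [← h1, h, one_mul])
  · exact .inr (by rw [← h1, h])

omit [Fintype G] in
theorem smul_mem_fix {g z : G} (h : Commute g z) {a : Ω} (ha : a ∈ fixedBy Ω z) : g • a ∈ fixedBy Ω z := by
  rw [mem_fixedBy, ← mul_smul, ← h.eq, mul_smul, ha]

theorem exists_invol {g : G} (hg : Even (orderOf g)) : ∃ u ∈ zpowers g, orderOf u = 2 :=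
  ⟨_, npow_mem_zpowers g _, orderOf_pow_orderOf_div (orderOf_pos g).ne' hg.two_dvd⟩

omit [Fintype G] in
theorem three_of {A : Set Ω} (h : Nat.card A = 3) {a : Ω} (ha : a ∈ A) :
    ∃ b c, b ≠ a ∧ c ≠ a ∧ b ≠ c ∧ ∀ x, x ∈ A ↔ x = a ∨ x = b ∨ x = c := by
  rw [Nat.card_coe_set_eq, Set.ncard_eq_three] at h
  obtain ⟨x, y, z, h1, h2, h3, rfl⟩ := h
  rcases ha with rfl | rfl | rfl
  · exact ⟨y, z, h1.symm, h2.symm, h3, by simp⟩
  · exact ⟨x, z, h1, h3.symm, h2, fun _ => by simp; tauto⟩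
  · exact ⟨x, y, h2, h3, h1, fun _ => by simp; tauto⟩

/-- A `2`-group centralizing `z` fixes one of the three fixed points of `z`. -/
theorem exists_fix {R : Subgroup G} (hR : IsPGroup 2 R) {z : G} (hz : R ≤ centralizer ({z} : Set G))
    (h : Nat.card (fixedBy Ω z) = 3) : ∃ a ∈ fixedBy Ω z, R ≤ stabilizer G a := by
  letI : MulAction R (fixedBy Ω z) :=
    { smul := fun g a => ⟨(g : G) • (a : Ω), smul_mem_fix (mem_centralizer_singleton_iff.1 (hz g.2)) a.2⟩
      one_smul := fun a => Subtype.ext (one_smul G _)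
      mul_smul := fun g k a => Subtype.ext (mul_smul (g : G) (k : G) _) }
  obtain ⟨a, ha⟩ := hR.nonempty_fixed_point_of_prime_not_dvd_card (fixedBy Ω z) (by rw [h]; decide)
  exact ⟨a, a.2, fun g hg => congrArg Subtype.val (ha ⟨g, hg⟩)⟩

omit [Fintype G] in
theorem swap_of {z g : G} {a b c : Ω} (h : ∀ x, x ∈ fixedBy Ω z ↔ x = a ∨ x = b ∨ x = c) (hb : b ≠ a)
    (hg : Commute g z) (ha : g • a = a) : g • b = b ∨ g • b = c :=
  ((h _).1 (smul_mem_fix hg ((h b).2 (.inr (.inl rfl))))).resolve_left fun e =>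
    hb (smul_left_cancel g (e.trans ha.symm))

omit [Fintype G] in
theorem fix_all {z g : G} {a b c : Ω} (h : ∀ x, x ∈ fixedBy Ω z ↔ x = a ∨ x = b ∨ x = c) (hb : c ≠ a) (hc : b ≠ c)
    (hg : Commute g z) (ha : g • a = a) (hb' : g • b = b) : fixedBy Ω z ⊆ fixedBy Ω g := fun x hx => by
  rcases (h x).1 hx with rfl | rfl | rfl
  exacts [ha, hb', (swap_of (c := b) (fun y => (h y).trans (by tauto)) hb hg ha).resolve_right fun e =>
    hc (smul_left_cancel g (hb'.trans e.symm))]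

theorem eq_one_of_fix (h3 : ∀ s : G, orderOf s = 2 → Nat.card (fixedBy Ω s) = 3) {z g : G} (hz : orderOf z = 2)
    (hg : IsPGroup 2 (zpowers g)) (h : fixedBy Ω z ⊆ fixedBy Ω g) {x : Ω} (hx : x ∉ fixedBy Ω z) (e : g • x = x) :
    g = 1 := by
  by_contra h1
  obtain ⟨k, hk⟩ := hg.exists_card_eq
  rw [Nat.card_zpowers] at hk
  obtain ⟨u, hu, h2⟩ := exists_invol (g := g) (by
    rw [hk]; exact (Nat.even_pow' fun e => h1 (orderOf_eq_one_iff.1 (by rw [hk, e, pow_zero]))).2 even_two)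
  obtain ⟨j, rfl⟩ := mem_zpowers_iff.1 hu
  have h4 := fixedBy_subset_fixedBy_zpow Ω g j
  have := Set.eq_of_subset_of_ncard_le (h.trans h4) (by
    rw [← Nat.card_coe_set_eq, ← Nat.card_coe_set_eq, h3 _ h2, h3 _ hz])
  exact hx (this ▸ h4 e)

variable [IsSimpleGroup G]

theorem se_le {M H : Subgroup G} (hM : IsStronglyEmbedded M) (S : Sylow 2 G) (h1 : (S : Subgroup G) ≤ M)
    (h2 : (S : Subgroup G) ≤ H) (hH : H ≠ ⊤) : H ≤ M := by
  obtain ⟨Q, t, h, h3, h4⟩ := bro.simple hM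
  obtain ⟨T, rfl⟩ := h.sylow_eq h3 h4
  obtain rfl : T = S := Sylow.ext (S.3 T.2 (h.le_Q_of_isPGroup S.2 h1))
  intro x hx
  by_contra h5
  rcases IsSimpleGroup.eq_bot_or_eq_top_of_normal (normalClosure ((T : Subgroup G) : Set G)) inferInstance with e | e
  · exact h.Q_ne_bot (eq_bot_iff.2 (e ▸ le_normalClosure))
  refine hH (eq_top_iff.2 (e.ge.trans ((closure_le _).2 fun y hy => ?_)))
  obtain ⟨w, hw, hy⟩ := Group.mem_conjugatesOfSet_iff.1 hy
  obtain ⟨g, rfl⟩ := isConj_iff.1 hy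
  by_cases hg : g ∈ M
  · exact h2 (h.conj_Q hg hw)
  · obtain ⟨y, hy, h6⟩ := h.two_trans' h5 hg
    have h7 := mul_mem (h2 hy) hx
    rw [show g * w * g⁻¹ = (y * x) * ((g⁻¹ * (y * x))⁻¹ * w * (g⁻¹ * (y * x))) * (y * x)⁻¹ by group]
    exact mul_mem (mul_mem h7 (h2 (h.conj_Q' h6 hw))) (inv_mem h7)

theorem bender_card {M : Subgroup G} (hM : IsStronglyEmbedded M) (S : Sylow 2 G) :
    M.index = Nat.card S + 1 ∧ Nat.card G < Nat.card S ^ 3 := by
  obtain ⟨Q, t, h, h3, h4⟩ := bro.simple hM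
  obtain ⟨T, rfl⟩ := h.sylow_eq h3 h4
  refine ⟨by rw [h.index_H, Nat.card_congr (T.equiv S).toEquiv], ?_⟩
  have key : ∀ k r g : ℕ, g * Nat.card G = 2 ^ k * r → Odd g → r < (2 ^ k) ^ 2 → Nat.card G < Nat.card S ^ 3 :=
    fun k r g e hg hr => by
      have h1 : 2 ^ k ∣ Nat.card S := by
        rw [S.card_eq_multiplicity]
        exact pow_dvd_pow _ ((Nat.prime_two.pow_dvd_iff_le_factorization Nat.card_pos.ne').1
          (((Nat.coprime_two_left.2 hg).pow_left k).dvd_of_dvd_mul_left ⟨r, e⟩))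
      have h2 := Nat.le_of_dvd Nat.card_pos h1
      calc Nat.card G ≤ g * Nat.card G := Nat.le_mul_of_pos_left _ hg.pos
        _ < (2 ^ k) ^ 3 := by rw [e, pow_succ' _ 2]; gcongr
        _ ≤ _ := by gcongr
  rcases (bro.bender hM).cases' with ⟨F, _, _, n, hn, hF, ⟨e⟩⟩ | e | ⟨F, _, _, n, hn, hF, ⟨e⟩⟩
  · have := Linear.card_PSL_two_of_even (F := F) (by
      rw [Nat.card_eq_fintype_card, hF]; exact (Nat.even_pow' (by omega)).2 even_two)
    rw [Nat.card_eq_fintype_card (α := F), hF, ← Nat.card_congr e.toEquiv, mul_assoc] at this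
    refine key n _ 1 (by rw [one_mul, this]) odd_one ?_
    obtain ⟨q, hq⟩ : ∃ q, 2 ^ n = q + 1 := ⟨2 ^ n - 1, by have := Nat.one_le_two_pow (n := n); omega⟩
    rw [hq, add_tsub_cancel_right]; nlinarith
  · obtain ⟨-, m, -, hm⟩ := isSuzuki_of_iso e
    refine key ((2 * m + 1) * 2) _ 1 (by rw [one_mul, hm, pow_mul, mul_assoc]) odd_one ?_
    rw [pow_mul]
    obtain ⟨q, hq⟩ : ∃ q, 2 ^ (2 * m + 1) = q + 1 := ⟨2 ^ (2 * m + 1) - 1, by
      have := Nat.one_le_two_pow (n := 2 * m + 1); omega⟩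
    rw [hq, add_tsub_cancel_right]
    nlinarith [Nat.zero_le (q ^ 4), Nat.zero_le (q ^ 3), Nat.zero_le (q ^ 2)]
  · have h1 := Cfsg.Agent.S0280.result hF 3 (by norm_num)
    simp only [Finset.prod_range_succ, Finset.prod_range_zero, Even.zero, Nat.not_even_one, even_two, if_true,
      if_false, zero_add, pow_one, one_mul] at h1
    rw [← Nat.card_congr e.toEquiv, mul_left_comm, mul_assoc (2 ^ n + 1), mul_left_comm _ (2 ^ n + 1)] at h1
    refine key (n * 3) _ _ (by rw [Nat.eq_of_mul_eq_mul_left (Nat.succ_pos _) h1, pow_mul])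
      (Odd.of_dvd_nat (by decide) (Nat.gcd_dvd_left 3 _)) ?_
    rw [pow_mul]
    have hq := Nat.two_pow_pos n
    generalize 2 ^ n = q at hq
    obtain ⟨r, hr⟩ : ∃ r, q ^ 2 = r + 1 := ⟨q ^ 2 - 1, by have := Nat.one_le_pow 2 q hq; omega⟩
    have h5 : q ^ 2 ≤ q ^ 3 := Nat.pow_le_pow_right hq (by omega)
    change (q ^ 2 - 1) * (q ^ 3 + 1) < _
    rw [hr, add_tsub_cancel_right]
    nlinarith

variable [FaithfulSMul G Ω] [IsPreprimitive G Ω]

theorem se_of_one (hΩ : 1 < Fintype.card Ω) (h1 : ∀ s : G, orderOf s = 2 → Nat.card (fixedBy Ω s) = 1) {t : G}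
    (ht : orderOf t = 2) (S : Sylow 2 G) :
    Fintype.card Ω = Nat.card S + 1 ∧ Nat.card G < Nat.card S ^ 3 := by
  have h2 : ∀ s : G, orderOf s = 2 → ∃ a, fixedBy Ω s = {a} := fun s hs =>
    Set.ncard_eq_one.1 (Nat.card_coe_set_eq _ ▸ h1 s hs)
  obtain ⟨a, ha⟩ := h2 t ht
  have h3 : (stabilizer G a).index = Fintype.card Ω := by
    rw [index_stabilizer_of_transitive, Nat.card_eq_fintype_card]
  rw [← h3]
  refine bender_card (Invol.stronglyEmbedded_iff.2 ⟨fun e => ?_, ?_, fun s g hs h4 h5 => ?_⟩) S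
  · rw [e, index_top] at h3; omega
  · exact even_iff_two_dvd.2 (ht ▸ Subgroup.orderOf_dvd_natCard _ (show a ∈ fixedBy Ω t from ha ▸ rfl))
  · obtain ⟨b, hb⟩ := h2 s hs
    have h6 : a ∈ fixedBy Ω s := h4
    have h7 : g⁻¹ • a ∈ fixedBy Ω s := by
      rw [mem_fixedBy, eq_inv_smul_iff, ← mul_smul, ← mul_smul]; exact h5
    rw [hb] at h6 h7
    exact inv_mem_iff.1 (h7.trans h6.symm)

theorem of_three (hΩ : 3 < Fintype.card Ω) (h3 : ∀ s : G, orderOf s = 2 → Nat.card (fixedBy Ω s) = 3) {t : G}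
    (ht : orderOf t = 2) (S : Sylow 2 G) : Nat.card S ∣ 2 * (Fintype.card Ω - 3) ∧
      ∃ z s : S, orderOf z = 2 ∧ orderOf s = 2 ∧ z ≠ s ∧ Commute z s ∧ Nat.card (centralizer ({s} : Set S)) = 4 := by
  obtain ⟨z, hz, z2, hS⟩ := exists_central S (ht ▸ orderOf_dvd_natCard t)
  obtain ⟨a, ha, hSa⟩ := exists_fix S.2 hS (h3 z z2)
  obtain ⟨b, c, hb, hc, hbc, hΔ⟩ := three_of (h3 z z2) ha
  have hz' : ∀ g ∈ (S : Subgroup G), Commute g z := fun g hg => mem_centralizer_singleton_iff.1 (hS hg)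
  have hsw : ∀ g ∈ (S : Subgroup G), g • b = b ∨ g • b = c := fun g hg => swap_of hΔ hb (hz' g hg) (hSa hg)
  have hT : ∀ g ∈ (S : Subgroup G), g • b = b → fixedBy Ω z ⊆ fixedBy Ω g := fun g hg e =>
    fix_all hΔ hc hbc (hz' g hg) (hSa hg) e
  have hfree : ∀ g ∈ (S : Subgroup G), g • b = b → ∀ x ∉ fixedBy Ω z, g • x = x → g = 1 := fun g hg e x hx =>
    eq_one_of_fix h3 z2 (S.2.to_le (zpowers_le.2 hg)) (hT g hg e) hx
  constructor
  · have h1 := Linear.card_dvd_ncard_of_semiregular ((S : Subgroup G) ⊓ stabilizer G b) (fixedBy Ω z)ᶜ (Set.toFinite _)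
      (fun g hg x hx e => hx (by simpa using smul_mem_fix (hz' g hg.1).inv_left e))
      fun g hg x hx => hfree g hg.1 hg.2 x hx
    rw [Set.ncard_compl, ← Nat.card_coe_set_eq, h3 z z2, Nat.card_eq_fintype_card (α := Ω)] at h1
    rcases card_le_two_mul _ hsw with e | e <;> rw [e]
    exacts [h1.mul_left 2, mul_dvd_mul_left 2 h1]
  haveI : Nontrivial Ω := Fintype.one_lt_card_iff_nontrivial.1 (by omega)
  obtain ⟨s, hs, s2, hsb⟩ : ∃ s ∈ (S : Subgroup G), orderOf s = 2 ∧ s • b ≠ b := by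
    by_contra! h4
    have h5 : ∀ g : G, g ∈ stabilizer G (fixedBy Ω z) ↔ fixedBy Ω (g * z * g⁻¹) = fixedBy Ω z := fun g => by
      rw [mem_stabilizer_iff, smul_fixedBy]
    have h6 : (S : Subgroup G) ≤ stabilizer G (fixedBy Ω z) := fun g hg => by
      rw [h5, (hz' g hg).eq, mul_inv_cancel_right]
    have h7 : ∀ u ∈ stabilizer G (fixedBy Ω z), orderOf u = 2 → fixedBy Ω u = fixedBy Ω z := fun u hu u2 => by
      obtain ⟨Q, hQ⟩ := (IsPGroup.of_card (n := 1) (by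
        rw [Nat.card_zpowers, Subgroup.orderOf_mk, u2, pow_one]) :
          IsPGroup 2 (zpowers (⟨u, hu⟩ : stabilizer G (fixedBy Ω z)))).exists_le_sylow
      obtain ⟨x, hx⟩ := exists_smul_eq (stabilizer G (fixedBy Ω z)) Q (S.subtype h6)
      have h8 : (x : G) * u * (x : G)⁻¹ ∈ (S : Subgroup G) := by
        have : x * ⟨u, hu⟩ * x⁻¹ ∈ (S.subtype h6 : Subgroup _) := by
          rw [← hx, Sylow.coe_subgroup_smul]
          exact smul_mem_pointwise_smul _ (MulAut.conj x) _ (hQ (mem_zpowers _))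
        exact this
      have h9 : orderOf ((x : G) * u * (x : G)⁻¹) = 2 := ((MulAut.conj (x : G)).orderOf_eq u).trans u2
      have h10 := Set.eq_of_subset_of_ncard_le (hT _ h8 (h4 _ h8 h9)) (by
        rw [← Nat.card_coe_set_eq, ← Nat.card_coe_set_eq, h3 _ h9, h3 _ z2])
      rw [← smul_fixedBy] at h10
      exact smul_left_cancel (x : G) (h10.symm.trans x.2.symm)
    have h8 : stabilizer G (fixedBy Ω z) ≠ ⊤ := fun e => by
      have : fixedBy Ω z = Set.univ := Set.eq_univ_of_forall fun x => by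
        obtain ⟨g, rfl⟩ := exists_smul_eq G a x
        have : g • fixedBy Ω z = fixedBy Ω z := (e ▸ mem_top g : g ∈ stabilizer G (fixedBy Ω z))
        exact this ▸ Set.smul_mem_smul_set ha
      have h9 := h3 z z2
      rw [this, Nat.card_coe_set_eq, Set.ncard_univ, Nat.card_eq_fintype_card] at h9
      omega
    have h9 : IsStronglyEmbedded (stabilizer G (fixedBy Ω z)) := Invol.stronglyEmbedded_iff.2
      ⟨h8, even_iff_two_dvd.2 (z2 ▸ Subgroup.orderOf_dvd_natCard _ (h6 hz)), fun u g u2 hu hg => by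
        rw [mem_stabilizer_iff, ← h7 u hu u2, smul_fixedBy, h7 _ hg (((MulAut.conj g).orderOf_eq u).trans u2),
          h7 u hu u2]⟩
    have h10 := (isCoatom_stabilizer_iff_preprimitive G a).2 inferInstance
    have h11 := (h10.le_iff.1 (se_le h9 S h6 hSa h10.1)).resolve_left h8
    obtain ⟨g, rfl⟩ := exists_smul_eq G a b
    refine hb (inv_mem_iff.1 (h11 ▸ (Invol.stronglyEmbedded_iff.1 h9).2.2 z g⁻¹ z2 (h6 hz) ?_))
    rw [h11, mem_stabilizer_iff, inv_inv, mul_smul, mul_smul, (hΔ _).2 (.inr (.inl rfl)), inv_smul_smul]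
  have hzs : z ≠ s := fun e => hsb (e ▸ (hΔ b).2 (.inr (.inl rfl)))
  refine ⟨⟨z, hz⟩, ⟨s, hs⟩, by rw [Subgroup.orderOf_mk, z2], by rw [Subgroup.orderOf_mk, s2],
    fun e => hzs (congrArg Subtype.val e), Subtype.ext (hz' s hs).symm, ?_⟩
  obtain ⟨b', c', hb', hc', hbc', hΔ'⟩ := three_of (h3 s s2) (show a ∈ fixedBy Ω s from hSa hs)
  have h4 : b' ∉ fixedBy Ω z := fun e => by
    have h5 : s • b' = b' := (hΔ' _).2 (.inr (.inl rfl))
    rcases (hΔ _).1 e with rfl | rfl | rfl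
    exacts [hb' rfl, hsb h5, hbc (smul_left_cancel s (((hsw s hs).resolve_left hsb).trans h5.symm))]
  have h5 : Nat.card (centralizer ({⟨s, hs⟩} : Set S)) = Nat.card ↥((S : Subgroup G) ⊓ centralizer {s}) := by
    rw [← Core.card_subgroupOf_of_le (inf_le_left : (S : Subgroup G) ⊓ centralizer {s} ≤ S)]
    congr 2
    ext x
    simp [mem_subgroupOf, mem_centralizer_singleton_iff, Subtype.ext_iff]
  have h6 := card_le_two_mul ((S : Subgroup G) ⊓ centralizer {s}) fun g hg =>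
    swap_of hΔ' hb' (mem_centralizer_singleton_iff.1 hg.2) (hSa hg.1)
  have h7 := card_le_two_mul ((S : Subgroup G) ⊓ centralizer {s} ⊓ stabilizer G b') fun g hg => hsw g hg.1.1
  rw [show (S : Subgroup G) ⊓ centralizer {s} ⊓ stabilizer G b' ⊓ stabilizer G b = ⊥ from
    eq_bot_iff.2 fun g hg => hfree g hg.1.1.1 hg.2 b' h4 hg.1.2, card_bot] at h7
  have h8 := Exc.four_dvd_card_cent (G := S) (s := ⟨s, hs⟩) (s₁ := ⟨z, hz⟩) (by rw [Subgroup.orderOf_mk, s2])
    (by rw [Subgroup.orderOf_mk, z2]) (Subtype.ext (hz' s hs).symm) fun e => hzs (congrArg Subtype.val e)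
  have := Nat.le_of_dvd Nat.card_pos h8
  omega

end Cfsg.Lib.Block2.Tp
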