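import Cfsg.Agent.Lib.Block2.Tp3

/-! The semidihedral case. -/

set_option autoImplicit false
set_option linter.dupNamespace false
set_option linter.unusedSectionVars false
set_option linter.style.haveILetI false

open Cfsg Cfsg.Lib.Char Subgroup MulAction Cfsg.Lib.Small Cfsg.Lib.Clifford Cfsg.Lib.Hall
open Cfsg.Lib.Block (pairFun classInner_pairFun isClassFunction_pairFun)
open scoped ComplexConjugate

namespace Cfsg.Lib.Block2.Tp

variable {G : Type*} [Group G] [Fintype G]

structure SD (n : ℕ) (X Y : G) : Prop where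
  hn : 3 ≤ n
  ord : orderOf X = 2 ^ n
  cnj : Y * X * Y⁻¹ = X ^ (2 ^ (n - 1) - 1)
  syl : ∀ R : Subgroup G, IsPGroup 2 R → Nat.card R ∣ 2 ^ (n + 1) ∧
    (Nat.card R = 2 ^ (n + 1) → ¬ ∀ a ∈ R, ∀ b ∈ R, a * b = b * a)

namespace SD

theorem of {S : Sylow 2 G} (h : IsQuasiDihedral S) : ∃ n, ∃ X Y : G, SD n X Y ∧ Nat.card S = 2 ^ (n + 1) := by
  obtain ⟨n, h1, h2, x, y, h3, -, h4⟩ := h
  refine ⟨n, x, y, ⟨h1, by rw [Subgroup.orderOf_coe, h3], by simpa using congrArg Subtype.val h4, fun R hR => ?_⟩, h2⟩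
  obtain ⟨Q, hQ⟩ := hR.exists_le_sylow
  have h5 := (Nat.card_congr (Q.equiv S).toEquiv).trans h2
  refine ⟨h5 ▸ card_dvd_of_le hQ, fun h6 h7 => ?_⟩
  obtain rfl := eq_of_le_of_card_ge hQ (h5.trans h6.symm).le
  have h8 : y * x = x * y := (Q.equiv S).symm.injective (by
    rw [map_mul, map_mul]; exact Subtype.ext (h7 _ (Subtype.prop _) _ (Subtype.prop _)))
  rw [h8, mul_inv_cancel_right] at h4
  obtain ⟨k, rfl⟩ : ∃ k, n = k + 3 := ⟨n - 3, by omega⟩
  have h9 := pow_inj_mod.1 ((pow_one x).trans h4)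
  have := Nat.one_le_two_pow (n := k)
  rw [h3, show k + 3 - 1 = k + 2 by omega, Nat.mod_eq_of_lt (by rw [pow_add]; omega),
    Nat.mod_eq_of_lt (by rw [pow_add, pow_add]; omega), pow_add] at h9
  omega

variable {n : ℕ} {X Y : G} (h : SD n X Y)
include h

theorem two : IsPGroup 2 (zpowers X) := IsPGroup.of_card (by rw [Nat.card_zpowers, h.ord])

theorem ne_of {j k : ℕ} (hj : j < 2 ^ n) (hk : k < 2 ^ n) (e : j ≠ k) : X ^ j ≠ X ^ k := fun e' => by
  have := pow_inj_mod.1 e'
  rw [h.ord, Nat.mod_eq_of_lt hj, Nat.mod_eq_of_lt hk] at this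
  exact e this

theorem pw : 2 ^ n = 2 * 2 ^ (n - 1) ∧ 4 ≤ 2 ^ (n - 1) := by
  obtain ⟨k, rfl⟩ : ∃ k, n = k + 3 := ⟨n - 3, by have := h.hn; omega⟩
  have := Nat.one_le_two_pow (n := k)
  rw [show k + 3 - 1 = k + 2 by omega, pow_add, pow_add]
  omega

theorem z_ord : orderOf (X ^ 2 ^ (n - 1)) = 2 :=
  orderOf_eq_prime (by rw [← pow_mul, mul_comm, ← h.pw.1, ← h.ord, pow_orderOf_eq_one])
    (pow_zero X ▸ h.ne_of (by have := h.pw; omega) (by have := h.pw; omega) (by have := h.pw; omega))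

theorem mem_zp {g : G} (hg : Commute g X) (h2 : IsPGroup 2 (zpowers g)) : g ∈ zpowers X := by
  have h1 : ∀ r, Commute g r → Commute X r → zpowers g ⊔ zpowers X ≤ centralizer {r} := fun r a b =>
    sup_le (zpowers_le.2 (mem_centralizer_singleton_iff.2 a)) (zpowers_le.2 (mem_centralizer_singleton_iff.2 b))
  obtain ⟨h3, h4⟩ := h.syl _ (h2.to_sup_of_normal_right' h.two (zpowers_le.2 (centralizer_le_normalizer _
    (mem_centralizer_iff.2 fun _ ⟨k, hk⟩ => hk ▸ (hg.zpow_right k).symm.eq))))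
  have h5 : 2 ^ n ∣ Nat.card ↥(zpowers g ⊔ zpowers X) := by
    rw [← h.ord, ← Nat.card_zpowers]; exact card_dvd_of_le le_sup_right
  obtain ⟨k, hk, e⟩ := (Nat.dvd_prime_pow Nat.prime_two).1 h3
  rw [e, Nat.pow_dvd_pow_iff_le_right one_lt_two] at h5
  obtain rfl | rfl : n = k ∨ k = n + 1 := by omega
  · rw [eq_of_le_of_card_ge (le_sup_right : zpowers X ≤ zpowers g ⊔ zpowers X) (by rw [e, Nat.card_zpowers, h.ord])]
    exact mem_sup_left (mem_zpowers g)
  · exact absurd (fun a ha b hb => mem_centralizer_singleton_iff.1 (h1 b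
      (mem_centralizer_singleton_iff.1 (h1 g (.refl _) hg.symm hb)).symm
      (mem_centralizer_singleton_iff.1 (h1 X hg (.refl _) hb)).symm ha)) (h4 e)

omit h in
theorem mem_C {g : G} : g ∈ centralizer (zpowers X : Set G) ↔ Commute g X :=
  ⟨fun e => (mem_centralizer_iff.1 e X (mem_zpowers X)).symm, fun e =>
    mem_centralizer_iff.2 fun _ ⟨k, hk⟩ => hk ▸ (e.zpow_right k).symm.eq⟩

omit h in
theorem mem_N {g : G} (e : g * X * g⁻¹ ∈ zpowers X) : g ∈ normalizer (zpowers X : Set G) :=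
  mem_normalizer_fintype fun _ ⟨k, hk⟩ => by rw [← hk, ← conj_zpow]; exact zpow_mem e k

theorem Y_C : Y ∉ centralizer (zpowers X : Set G) := fun e => by
  have := h.cnj
  rw [(mem_C.1 e).eq, mul_inv_cancel_right] at this
  exact h.ne_of (by have := h.pw; omega) (by have := h.pw; omega) (by have := h.pw; omega) ((pow_one X).trans this)

theorem Y_N : Y ∈ normalizer (zpowers X : Set G) := mem_N (h.cnj ▸ npow_mem_zpowers X _)

theorem idx : ((centralizer (zpowers X : Set G)).subgroupOf (normalizer (zpowers X : Set G))).index = 2 := by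
  have h1 := index_ker (zpowers X).normalizerMonoidHom
  have h2 := card_subgroup_dvd_card (zpowers X).normalizerMonoidHom.range
  rw [← h1, normalizerMonoidHom_ker, IsCyclic.card_mulAut, Nat.card_zpowers, h.ord,
    Nat.totient_prime_pow Nat.prime_two (by have := h.hn; omega)] at h2
  obtain ⟨j, -, hj⟩ := (Nat.dvd_prime_pow Nat.prime_two).1 (by simpa using h2)
  have h3 := ((centralizer (zpowers X : Set G)).subgroupOf (normalizer (zpowers X : Set G))).card_mul_index
  rw [Core.card_subgroupOf_of_le (centralizer_le_normalizer _), hj] at h3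
  have h4 : 2 ^ (n + j) ∣ Nat.card G := by
    refine dvd_trans ?_ (card_subgroup_dvd_card (normalizer (zpowers X : Set G)))
    rw [← h3, pow_add, ← h.ord]
    exact mul_dvd_mul_right (Subgroup.orderOf_dvd_natCard _ (mem_C.2 (.refl X))) _
  obtain ⟨R, hR⟩ := Sylow.exists_subgroup_card_pow_prime 2 h4
  have h5 := (h.syl R (IsPGroup.of_card hR)).1
  rw [hR, Nat.pow_dvd_pow_iff_le_right one_lt_two] at h5
  obtain rfl | rfl : j = 0 ∨ j = 1 := by omega
  · rw [pow_zero, index_eq_one] at hj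
    exact absurd (hj ▸ mem_top (⟨Y, h.Y_N⟩ : normalizer (zpowers X : Set G)) :) h.Y_C
  · exact hj

theorem not_inv {a : G} : a * X * a⁻¹ ≠ X⁻¹ := fun e => by
  have h0 : X⁻¹ = X ^ (2 ^ n - 1) := inv_eq_of_mul_eq_one_right (by
    rw [← pow_succ', Nat.sub_add_cancel Nat.one_le_two_pow, ← h.ord, pow_orderOf_eq_one])
  have h1 : a ∉ centralizer (zpowers X : Set G) := fun e' => by
    rw [(mem_C.1 e').eq, mul_inv_cancel_right, h0] at e
    exact h.ne_of (by have := h.pw; omega) (by have := h.pw; omega) (by have := h.pw; omega) ((pow_one X).trans e)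
  have h2 : Y⁻¹ * a ∈ centralizer (zpowers X : Set G) :=
    (mul_mem_iff_of_index_two h.idx (a := ⟨Y, h.Y_N⟩⁻¹) (b := ⟨a, mem_N (e ▸ inv_mem (mem_zpowers X))⟩)).2
      (by simp only [mem_subgroupOf, inv_mem_iff]; exact iff_of_false h.Y_C h1)
  rw [show a * X * a⁻¹ = Y * (Y⁻¹ * a * X * (Y⁻¹ * a)⁻¹) * Y⁻¹ by group, (mem_C.1 h2).eq, mul_inv_cancel_right,
    h.cnj, h0] at e
  exact h.ne_of (by have := h.pw; omega) (by have := h.pw; omega) (by have := h.pw; omega) e

variable {Ω : Type*} [Fintype Ω] [MulAction G Ω]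

theorem elim (hG : commutator G = ⊤) (h3 : ∀ s : G, orderOf s = 2 → Nat.card (fixedBy Ω s) = 3)
    {χ ψ : IrrCharacter G} (hπ : pch G Ω = (fun _ => 1) + χ.1 + ψ.1) (hχ : ∀ g, Even (orderOf g) → χ.1 g = 1)
    {w : ℕ} (hw : Odd w) (hd : χ.1 1 = 2 * (2 ^ n * w : ℕ) + 1) (hd' : ψ.1 1 = (2 ^ n * w : ℕ) + 1) : False := by
  classical
  have z2 := h.z_ord
  set z := X ^ 2 ^ (n - 1) with hz
  have hCz : ∀ g, Commute g X → Commute g z := fun g hg => hg.pow_right _
  obtain ⟨a, ha, hXa⟩ := exists_fix h.two (zpowers_le.2 (mem_centralizer_singleton_iff.2 (hCz X (.refl X)))) (h3 z z2)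
  obtain ⟨b, c, hb, hc, hbc, hΔ⟩ := three_of (h3 z z2) ha
  have hXa' : X • a = a := hXa (mem_zpowers X)
  have hψ : ∀ g, Even (orderOf g) → ψ.1 g = Nat.card (fixedBy Ω g) - 2 := fun g hg => by
    have := congrFun hπ g
    simp only [Pi.add_apply, hχ g hg] at this
    linear_combination -this
  rcases swap_of hΔ hb (hCz X (.refl X)) hXa' with hXb | hXb
  · have h1 : (fun y : zpowers X => ψ.1 ((zpowers X).subtype y)) = (fun _ => 1) + (w : ℂ) • regChar (zpowers X) := by
      ext y
      by_cases hy : y = 1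
      · simp [hy, hd', regChar_one, -Nat.card_eq_fintype_card, Nat.card_zpowers, h.ord]; ring
      obtain ⟨y, k, rfl⟩ := y
      have h2 : IsPGroup 2 (zpowers (X ^ k)) := h.two.to_le (zpowers_le.2 (zpow_mem_zpowers X k))
      have h4 := (fix_all hΔ hc hbc (hCz X (.refl X)) hXa' hXb).trans (fixedBy_subset_fixedBy_zpow Ω X k)
      have h5 : X ^ k ≠ 1 := fun e => hy (Subtype.ext e)
      obtain ⟨j, hj⟩ := h2.exists_card_eq
      rw [Nat.card_zpowers] at hj
      simp only [Pi.add_apply, Pi.smul_apply, regChar_of_ne hy, coe_subtype]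
      rw [hψ _ (hj ▸ (Nat.even_pow' fun e => h5 (orderOf_eq_one_iff.1 (by rw [hj, e, pow_zero]))).2 even_two),
        ← h4.antisymm fun x hx => by_contra fun e => h5 (eq_one_of_fix h3 z2 h2 h4 e hx), h3 z z2]
      norm_num
    have h2 := detChar_comp ψ.2.isCharacter (zpowers X).subtype ⟨X, mem_zpowers X⟩
    rw [detChar_of_mem_commutator ψ.1 (hG ▸ mem_top _), h1,
      detChar_add isCharacter_one (isCharacter_regChar.natCast_smul w), detChar_const_one, Pi.mul_apply,
      detChar_of_regular (t := w) (isCharacter_regChar.natCast_smul w) (by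
        simp [regChar_one, -Nat.card_eq_fintype_card, Nat.card_zpowers]) fun y _ hy => by simp [regChar_of_ne hy],
      Subgroup.orderOf_mk, h.ord, Odd.neg_one_pow (Odd.mul (Even.add_one
        ((Nat.even_pow' (by have := h.hn; omega)).2 even_two)) hw)] at h2
    norm_num at h2
  have hXc : X • c ≠ c := fun e => hbc (smul_left_cancel X (hXb.trans e.symm))
  have hfX : fixedBy Ω X = {a} := Set.ext fun x => ⟨fun hx => by
    rcases (hΔ x).1 (pow_mem (show X ∈ stabilizer G x from hx) _ : z ∈ stabilizer G x) with rfl | rfl | rfl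
    exacts [rfl, absurd (hXb.symm.trans hx).symm hbc, absurd hx hXc], fun hx => hx ▸ hXa'⟩
  set C := centralizer (zpowers X : Set G)
  have hCa : ∀ g ∈ C, g • a = a := fun g hg => by
    have := smul_mem_fix (mem_C.1 hg) (show a ∈ fixedBy Ω X from hXa')
    rwa [hfX] at this
  have hCb : ∀ g ∈ C, g • b = b ∨ g • b = c := fun g hg => swap_of hΔ hb (hCz g (mem_C.1 hg)) (hCa g hg)
  have hCc : ∀ g ∈ C, g • c = c ∨ g • c = b := fun g hg =>
    swap_of (fun y => (hΔ y).trans (by tauto)) hc (hCz g (mem_C.1 hg)) (hCa g hg)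
  let ζ : C →* ℂˣ := MonoidHom.mk' (fun g => if (g : G) • b = b then 1 else -1) fun g k => by
    rcases hCb k k.2 with e | e <;> simp only [coe_mul, mul_smul, e, if_true, mul_one, hbc.symm, if_false]
    rcases hCb g g.2 with e' | e'
    · rw [if_pos e', if_neg fun e'' => hbc (smul_left_cancel (g : G) (e'.trans e''.symm)), one_mul]
    · rw [if_neg (e'.trans_ne hbc.symm), if_pos ((hCc g g.2).resolve_left fun e'' =>
        hbc (smul_left_cancel (g : G) (e'.trans e''.symm)))]
      simp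
  have hζ : ∀ g : C, ζ g = if (g : G) • b = b then 1 else -1 := fun _ => rfl
  have hζ' : ∀ g : C, ζ g = -1 ↔ (g : G) • b ≠ b := fun g => by
    rw [hζ]; split_ifs with e <;> simp [e]
  have hXC : X ∈ C := mem_C.2 (.refl X)
  have hX : ζ ⟨X, hXC⟩ = -1 := (hζ' _).2 (hXb.trans_ne hbc.symm)
  have hD : ∀ g : C, (g : G) • b ≠ b → X ∈ zpowers (g : G) := fun g hg => by
    obtain ⟨j, o, ho, e⟩ := Nat.exists_eq_two_pow_mul_odd (orderOf_pos (g : G)).ne'
    obtain ⟨k, hk⟩ := (mem_powers_iff_mem_zpowers.2 (h.mem_zp ((mem_C.1 g.2).pow_left o) (IsPGroup.of_card (n := j) (by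
      rw [Nat.card_zpowers, orderOf_pow' _ ho.pos.ne', e, Nat.gcd_mul_left_left, Nat.mul_div_cancel _ ho.pos]))))
    have h1 : ζ ⟨X, hXC⟩ ^ k = ζ g ^ o := by
      rw [← map_pow, ← map_pow]; exact congrArg ζ (Subtype.ext hk)
    rw [hX, (hζ' g).2 hg, ho.neg_one_pow] at h1
    have h2 : Odd k := Nat.not_even_iff_odd.1 fun e => by rw [e.neg_one_pow] at h1; norm_num [Units.ext_iff] at h1
    refine zpowers_le.2 (npow_mem_zpowers (g : G) o) ?_
    rw [← show X ^ k = _ from hk, mem_zpowers_pow_iff, h.ord]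
    exact (Nat.coprime_two_right.2 h2).pow_right n
  have hDo : ∀ g : G, X ∈ zpowers g → 8 ∣ orderOf g := fun g hg =>
    dvd_trans (h.ord ▸ pow_dvd_pow 2 h.hn) (orderOf_dvd_of_mem_zpowers hg)
  set f : C → ℂ := (fun _ => 1) - fun g => (ζ g : ℂ) with hf
  have hf' : ∀ g : C, f g = if (g : G) • b = b then 0 else 2 := fun g => by
    simp only [hf, Pi.sub_apply, hζ]; split_ifs <;> norm_num
  have hΘ := (isGeneralizedCharacter_one.sub (isIrrCharacter_linear ζ).isGeneralizedCharacter).indFun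
  change IsGeneralizedCharacter G (indFun C f) at hΘ
  have key : ∀ (φ : G → ℂ) (v : ℤ), IsClassFunction G φ → (∀ g : C, (g : G) • b ≠ b → φ g = v) →
      classInner (indFun C f) φ = v := fun φ v h1 h2 => by
    have : classInner f (fun _ => 1) = 1 := by
      rw [hf, classInner_sub_left, isIrrCharacter_one.classInner_self,
        (isIrrCharacter_linear ζ).classInner_of_ne isIrrCharacter_one fun e => by
          have := congrFun e ⟨X, hXC⟩; rw [hX] at this; norm_num at this, sub_zero]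
    rw [classInner_indFun_left _ h1, ← mul_one (v : ℂ), ← this, classInner_def, classInner_def, mul_left_comm,
      Finset.mul_sum _ _ (v : ℂ)]
    refine congrArg _ (Finset.sum_congr rfl fun g _ => ?_)
    rw [hf']
    split_ifs with e
    · simp
    · simp [h2 g e, mul_comm]
  have hev : ∀ g : C, (g : G) • b ≠ b → Even (orderOf (g : G)) := fun g hg =>
    even_iff_two_dvd.2 (dvd_trans (by norm_num) (hDo _ (hD g hg)))
  have i1 := key (fun _ => 1) 1 (isClassFunction_const 1) fun _ _ => by simp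
  have i2 := key χ.1 1 χ.2.isClassFunction fun g hg => by rw [hχ _ (hev g hg)]; simp
  have i3 := key ψ.1 (-1) ψ.2.isClassFunction fun g hg => by
    obtain ⟨k, hk⟩ := hD g hg
    rw [hψ _ (hev g hg), show fixedBy Ω (g : G) = {a} from Set.Subset.antisymm
      (hfX ▸ hk ▸ fixedBy_subset_fixedBy_zpow Ω _ k) (Set.singleton_subset_iff.2 (hCa g g.2))]
    norm_num
  have i4 := key _ 4 hΘ.isClassFunction fun g hg => by
    have h1 := h.idx
    have h2 := ((centralizer (zpowers X : Set G)).subgroupOf (normalizer (zpowers X : Set G))).card_mul_index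
    rw [Core.card_subgroupOf_of_le (centralizer_le_normalizer _), h1] at h2
    apply mul_left_cancel₀ (a := (Nat.card C : ℂ)) (Nat.cast_ne_zero.2 Nat.card_pos.ne')
    obtain ⟨k, hk⟩ := hD g hg
    rw [card_mul_indFun, Finset.sum_congr rfl (g := fun x => if x ∈ normalizer (zpowers X : Set G) then (2 : ℂ) else 0)
      fun x _ => ?_, ← Finset.sum_filter, Finset.sum_const, ← Fintype.card_subtype, ← Nat.card_eq_fintype_card,
      ← h2]
    · simp; ring
    have h4 : x⁻¹ * X * x = (x⁻¹ * g * x) ^ k := by rw [← hk]; simpa using (conj_zpow (a := x⁻¹)).symm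
    split_ifs with e
    · have h5 : x⁻¹ * g * x ∈ C := by
        refine mem_C.2 ?_
        have := mem_centralizer_iff.1 g.2 _ ((mem_normalizer_iff.1 e X).1 (mem_zpowers X))
        change x⁻¹ * g * x * X = X * (x⁻¹ * g * x)
        calc x⁻¹ * g * x * X = x⁻¹ * (g * (x * X * x⁻¹)) * x := by group
          _ = _ := by rw [← this]; group
      rw [Char.extendByZero_of_mem _ h5, hf', if_neg fun e' => hbc (hXb.symm.trans ?_).symm]
      obtain ⟨j, hj⟩ := (mem_normalizer_iff.1 e X).1 (mem_zpowers X)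
      have : X = (x⁻¹ * X * x) ^ j := by
        rw [show x⁻¹ * X * x = x⁻¹ * X * x⁻¹⁻¹ by rw [inv_inv], conj_zpow, show X ^ j = _ from hj]; group
      rw [this, h4]
      exact zpow_mem (zpow_mem (show x⁻¹ * g * x ∈ stabilizer G b from e') k) j
    · by_cases h5 : x⁻¹ * g * x ∈ C
      · rw [Char.extendByZero_of_mem _ h5, hf', if_pos]
        by_contra h6
        refine e (inv_mem_iff.1 (mem_N ?_))
        rw [inv_inv]
        refine h.mem_zp (mem_C.1 (h4 ▸ zpow_mem h5 k)) (IsPGroup.of_card (n := n) ?_)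
        rw [Nat.card_zpowers, ← h.ord]
        simpa using (MulAut.conj x⁻¹).orderOf_eq X
      · exact Char.extendByZero_of_notMem _ h5
  have i5 := key _ 0 (isClassFunction_pairFun z z) fun g hg => by
    rw [Int.cast_zero]
    refine Block.pairFun_eq_zero fun x y hx hy e => ?_
    have sq1 : ∀ {x : G}, IsConj z x → x⁻¹ = x := fun hx => by
      obtain ⟨c, rfl⟩ := isConj_iff.1 hx
      refine inv_eq_of_mul_eq_one_right ?_
      rw [conj_mul, ← sq, ← z2, pow_orderOf_eq_one, mul_one, mul_inv_cancel]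
    obtain ⟨k, hk⟩ := hD g hg
    refine h.not_inv (a := x) ?_
    have : x * g * x⁻¹ = (g : G)⁻¹ := by
      rw [← e, mul_inv_rev, sq1 hy, ← mul_assoc]
      nth_rewrite 1 [← sq1 hx]
      rw [inv_mul_cancel, one_mul]
    rw [← hk, ← conj_zpow, this, inv_zpow]
  have hv : ∀ g : G, g * g = 1 → indFun C f g = 0 := fun g hg => indFun_eq_zero_of_isConj _ fun y hy => by
    rw [hf', if_pos]
    by_contra e
    have h1 := hDo _ (hD y e)
    obtain ⟨c, hc⟩ := isConj_iff.1 hy
    rw [← hc, show c * g * c⁻¹ = MulAut.conj c g from rfl, MulEquiv.orderOf_eq] at h1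
    exact absurd (h1.trans (orderOf_dvd_of_pow_eq_one (n := 2) (by rwa [sq]))) (by decide)
  have hN : (0 : ℝ) < (2 ^ n * w : ℕ) := by have := hw.pos; positivity
  have n1 : χ.1 ≠ fun _ => 1 := fun e => by
    rw [e] at hd
    have := congrArg Complex.re hd
    simp only [Complex.add_re, Complex.one_re, Complex.mul_re, Complex.natCast_re, Complex.natCast_im] at this
    norm_num at this
    exact hw.pos.ne' this
  have n2 : ψ.1 ≠ fun _ => 1 := fun e => by
    rw [e] at hd'
    exact hN.ne' (by exact_mod_cast (by linear_combination -hd' : ((2 ^ n * w : ℕ) : ℂ) = 0))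
  have n3 : χ.1 ≠ ψ.1 := fun e => by
    rw [e, hd'] at hd
    exact hN.ne' (by exact_mod_cast (by linear_combination -hd : ((2 ^ n * w : ℕ) : ℂ) = 0))
  have hφ : IsIrrCharacter G ((fun _ => 1) + χ.1 - ψ.1 - indFun C f) := by
    refine (((isGeneralizedCharacter_one.add χ.2.isGeneralizedCharacter).sub ψ.2.isGeneralizedCharacter).sub
      hΘ).isIrrCharacter_of_norm_one ?_ ?_
    · simp only [classInner_add_left, classInner_add_right, classInner_sub_left, classInner_sub_right, i1, i2,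
        i3, i4, χ.2.classInner_self, ψ.2.classInner_self, isIrrCharacter_one.classInner_self,
        isGeneralizedCharacter_one.classInner_comm hΘ, χ.2.isGeneralizedCharacter.classInner_comm hΘ,
        ψ.2.isGeneralizedCharacter.classInner_comm hΘ, χ.2.classInner_of_ne isIrrCharacter_one n1,
        ψ.2.classInner_of_ne isIrrCharacter_one n2, isIrrCharacter_one.classInner_of_ne χ.2 n1.symm,
        isIrrCharacter_one.classInner_of_ne ψ.2 n2.symm, χ.2.classInner_of_ne ψ.2 n3,
        ψ.2.classInner_of_ne χ.2 n3.symm]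
      norm_num
    · simp only [Pi.add_apply, Pi.sub_apply, hv 1 (mul_one 1), hd, hd']
      simp only [Complex.add_re, Complex.sub_re, Complex.one_re, Complex.mul_re, Complex.natCast_re,
        Complex.natCast_im, Complex.zero_re, Complex.re_ofNat, Complex.im_ofNat]
      linarith
  have zz : z * z = 1 := by rw [← sq, ← z2, pow_orderOf_eq_one]
  have j1 := classInner_pairFun z z hφ
  rw [classInner_sub_right, classInner_sub_right, classInner_add_right, ← conj_classInner (indFun C f), i5,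
    classInner_pairFun _ _ isIrrCharacter_one, classInner_pairFun _ _ χ.2, classInner_pairFun _ _ ψ.2] at j1
  simp only [Pi.add_apply, Pi.sub_apply, hv 1 (mul_one 1), hv z zz, hd, hd', hχ z (z2 ▸ even_two),
    hψ z (z2 ▸ even_two), h3 z z2] at j1
  have hK : (Nat.card G * ((Nat.card (centralizer ({z} : Set G)) : ℂ)⁻¹ *
      (Nat.card (centralizer ({z} : Set G)) : ℂ)⁻¹)) ≠ 0 := by simp [Nat.card_pos.ne']
  generalize (Nat.card G * ((Nat.card (centralizer ({z} : Set G)) : ℂ)⁻¹ *
      (Nat.card (centralizer ({z} : Set G)) : ℂ)⁻¹)) = K at hK j1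
  generalize 2 ^ n * w = N at *
  have k1 : (N + 1 : ℂ) ≠ 0 := by exact_mod_cast Nat.succ_ne_zero N
  have k2 : (2 * N + 1 : ℂ) ≠ 0 := by exact_mod_cast Nat.succ_ne_zero (2 * N)
  rw [show (1 + (2 * N + 1) - (N + 1) - 0 : ℂ) = N + 1 by ring] at j1
  norm_num at j1
  field_simp at j1
  exact hN.ne' (by exact_mod_cast (pow_eq_zero_iff two_ne_zero).1 (by linear_combination j1 / 2 : (N : ℂ) ^ 2 = 0))

end SD

end Cfsg.Lib.Block2.Tp
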