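import Cfsg.Agent.Lib.Block2.Tp4
import Cfsg.Agent.Lib.Known.PSL2
import Cfsg.Agent.Lib.Exc.D8
import Cfsg.Agent.S0483
import Cfsg.Agent.S0497
import Cfsg.Agent.S3224
import Cfsg.Agent.S4706

/-! Simple groups of degree `3p` with Sylow normalizer of order `2p`. -/

set_option autoImplicit false
set_option linter.dupNamespace false
set_option linter.unusedSectionVars false
set_option linter.style.haveILetI false

open Cfsg Cfsg.Lib.Char Subgroup MulAction Cfsg.Lib.Small Cfsg.Lib.Clifford Cfsg.Lib.Hall Matrix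
open scoped ComplexConjugate

namespace Cfsg.Lib.Block2.Tp

open Ito

variable {G : Type*} [Group G] [Fintype G] {p : ℕ} [hp : Fact p.Prime] {P : Subgroup G} {t : G}

theorem gw [IsSimpleGroup G] (hG : ¬ IsMulCommutative G) (h : Dih p P t) (hn : ¬ p ∣ P.index) {S : Sylow 2 G}
    {z s : S} (z2 : orderOf z = 2) (s2 : orderOf s = 2) (hzs : z ≠ s) (hc : Commute z s)
    (h4 : Nat.card (centralizer ({s} : Set S)) = 4) :
    IsQuasiDihedral S ∨ 2 * Nat.card G = p * (p - 1) * (p + 1) ∨ Nat.card G = (2 * p + 1) * p * (2 * p + 2) ∨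
      Nat.card G = 2520 ∨ (Nat.card G = (2 * p - 1) * (2 * p - 2) * p ∧ ∃ r k : ℕ, r.Prime ∧ 2 * p = r ^ k + 1) := by
  refine or_iff_not_imp_left.2 fun h1 => ?_
  have h5 := Nat.le_of_dvd Nat.card_pos (h4 ▸ card_subgroup_dvd_card (centralizer ({s} : Set S)))
  obtain ⟨n, hn2, e⟩ : ∃ n, 2 ≤ n ∧ Nonempty (S ≃* DihedralGroup n) := by
    rcases Cfsg.Agent.S3224.result S.2 s s2 h4 with ⟨n, ⟨e⟩⟩ | e | e
    · exact ⟨n, by rw [Nat.card_congr e.toEquiv, DihedralGroup.nat_card] at h5; omega, ⟨e⟩⟩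
    · exact absurd e h1
    · haveI := Invol.isKleinFour_closure z2 s2 hzs hc
      have : closure ({z, s} : Set S) = ⊤ := eq_top_of_card_eq _ (IsKleinFour.card_four.trans e.symm)
      obtain ⟨f⟩ := IsKleinFour.nonempty_mulEquiv (G₁ := closure ({z, s} : Set S)) (G₂ := DihedralGroup 2)
      exact ⟨2, le_rfl, ⟨(topEquiv.symm.trans (MulEquiv.subgroupCongr this.symm)).trans f⟩⟩
  haveI : Group.IsPerfect G := ⟨commutator_eq_top_of_simple hG⟩
  have hO := BS.oddCore_eq_bot_of_simple (G := G) (even_iff_two_dvd.2 (t_ord h ▸ orderOf_dvd_natCard t))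
  let f : G ≃* G ⧸ oddCore G := ((QuotientGroup.quotientMulEquivOfEq hO).trans QuotientGroup.quotientBot).symm
  rcases Cfsg.Agent.S0483.result S n hn2 e with ⟨F, _, _, hF, hF3, ⟨g⟩⟩ | ⟨⟨g⟩⟩
  · have g' := f.trans g
    rw [← Nat.card_eq_fintype_card] at hF hF3
    have h6 := Linear.card_PSL_two_of_odd hF
    rw [← Nat.card_congr g'.toEquiv] at h6
    obtain ⟨r, hr⟩ := CharP.exists F
    obtain ⟨k, h7, h8⟩ := FiniteField.card F r
    haveI := Fact.mk h7
    rw [← Nat.card_eq_fintype_card] at h8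
    have h9 : Nat.gcd 2 (Nat.card F - 1) = 2 := Nat.gcd_eq_left (by obtain ⟨j, hj⟩ := hF; exact ⟨j, by omega⟩)
    have key : ∀ m, p ∣ 2 * m → (∃ x : Linear.PSL2 F, orderOf x = m) → m = p := fun m hm ⟨x, hx⟩ => by
      rw [← hx, ← g'.symm.orderOf_eq]
      refine ord_eq h hn ?_
      rw [g'.symm.orderOf_eq, hx]
      exact ((Nat.coprime_primes hp.out Nat.prime_two).2 h.odd).dvd_of_dvd_mul_left hm
    have h10 : p ∣ Nat.card G := h.card ▸ card_subgroup_dvd_card P
    obtain ⟨j, hj⟩ := hF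
    rcases (Nat.Prime.dvd_mul hp.out).1 (h6 ▸ h10.mul_left 2) with h11 | h11
    rcases (Nat.Prime.dvd_mul hp.out).1 h11 with h11 | h11
    · obtain rfl := (Nat.prime_dvd_prime_iff_eq hp.out h7).1 (hp.out.dvd_of_dvd_pow (h8 ▸ h11))
      refine .inl ?_
      obtain hk | hk : (k : ℕ) = 1 ∨ 2 ≤ (k : ℕ) := by have := k.pos; omega
      · rw [h6, h8, hk, pow_one]
      · have : p ^ 2 ∣ 2 * Nat.card G := h6 ▸ ((h8 ▸ pow_dvd_pow p hk).mul_right _).mul_right _
        rw [← P.card_mul_index, h.card, mul_left_comm, sq, Nat.mul_dvd_mul_iff_left hp.out.pos] at this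
        exact absurd (((Nat.coprime_primes hp.out Nat.prime_two).2 h.odd).dvd_of_dvd_mul_left this) hn
    · have := key j (by rwa [hj] at h11) ((Known.PSL2_spectrum r j).2 (.inr (.inl (by rw [h9, hj]; simp))))
      subst this
      exact .inr (.inl (Nat.eq_of_mul_eq_mul_left two_pos (by rw [h6, hj, add_tsub_cancel_right]; ring)))
    · have := key (j + 1) (by rwa [hj] at h11) ((Known.PSL2_spectrum r (j + 1)).2
        (.inr (.inr (by rw [h9, hj, show 2 * j + 1 + 1 = 2 * (j + 1) by ring]; simp))))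
      subst this
      refine .inr (.inr (.inr ⟨Nat.eq_of_mul_eq_mul_left two_pos ?_, r, k, h7, by omega⟩))
      rw [h6, hj, show 2 * (j + 1) - 1 = 2 * j + 1 by omega, show 2 * (j + 1) - 2 = 2 * j by omega,
        add_tsub_cancel_right]
      ring
  · refine .inr (.inr (.inl ?_))
    rw [Nat.card_congr (f.trans g).toEquiv, nat_card_alternatingGroup]
    simp [Nat.factorial]

omit hp in
theorem arith {p k r s : ℤ} (hp : 0 < p) (h1 : 1 ≤ k) (h2 : k ≤ 3 * p - 2) (e1 : k + r * (2 * p - 1) + s * p = 0)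
    (e2 : k * k + r * r * (2 * p - 1) + s * s * p = 3 * p * k) : ∃ r : ℤ, 2 * p = 6 * r ^ 2 + 3 * r + 1 := by
  obtain ⟨j, rfl⟩ : ∃ j, s = -j - 2 * r := ⟨-s - 2 * r, by ring⟩
  obtain rfl : k = r + p * j := by linear_combination e1
  have e3 : (12 * r + 6 * j - 3) ^ 2 = 12 * (j * (3 - j)) * (2 * p - 1) + 9 :=
    mul_left_cancel₀ hp.ne' (by linear_combination 24 * e2)
  have h3 : 0 ≤ j * (3 - j) := by
    by_contra h
    nlinarith [sq_nonneg (12 * r + 6 * j - 3)]
  obtain rfl | rfl | rfl | rfl : j = 0 ∨ j = 1 ∨ j = 2 ∨ j = 3 := by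
    have : 0 ≤ j := by nlinarith
    have : j ≤ 3 := by nlinarith
    omega
  · have : r * (2 * r - 1) = 0 := by linarith
    rcases mul_eq_zero.1 this with h | h <;> omega
  · exact ⟨r, by linarith⟩
  · exact ⟨-1 - r, by linarith⟩
  · have : (r + 1) * (2 * r + 3) = 0 := by linarith
    rcases mul_eq_zero.1 this with h | h <;> omega

omit hp in
theorem arith2 {p r k : ℕ} (hp : 3 < p) (hr : r.Prime) (h : 2 * p = r ^ k + 1) {a : ℤ}
    (ha : (2 * p : ℤ) = 6 * a ^ 2 + 3 * a + 1) : p = 5 := by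
  have h1 : (r : ℤ) ^ k = 3 * (a * (2 * a + 1)) := by zify at h; linarith
  obtain rfl : 3 = r := (Nat.prime_dvd_prime_iff_eq Nat.prime_three hr).1 (Nat.prime_three.dvd_of_dvd_pow (n := k)
    (Int.natCast_dvd_natCast.1 ⟨_, by push_cast; exact h1⟩))
  have key : ∀ x : ℤ, x ∣ (3 : ℕ) ^ k → ¬ 3 ∣ x → x = 1 ∨ x = -1 := fun x h2 h3 => by
    obtain ⟨i, -, hi⟩ := (Nat.dvd_prime_pow Nat.prime_three).1 (Int.natCast_dvd_natCast.1
      (Int.natAbs_dvd.2 (by exact_mod_cast h2 : x ∣ (3 ^ k : ℕ))))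
    rcases i with _ | i
    · omega
    · exact absurd (Int.natCast_dvd.2 (hi ▸ dvd_pow_self 3 i.succ_ne_zero)) h3
  by_cases h3 : 3 ∣ a
  · rcases key (2 * a + 1) ⟨3 * a, by rw [h1]; ring⟩ (by omega) with e | e
    · obtain rfl : a = 0 := by omega
      omega
    · omega
  · rcases key a ⟨3 * (2 * a + 1), by rw [h1]; ring⟩ h3 with rfl | rfl <;> omega

variable {Ω : Type*} [Fintype Ω] [MulAction G Ω]

theorem rank3 [IsPretransitive G Ω] (hp3 : 3 < p) (hΩ : Fintype.card Ω = 3 * p) {χ ψ : IrrCharacter G}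
    (hπ : pch G Ω = (fun _ => 1) + χ.1 + ψ.1) (h1 : χ.1 1 = 2 * p - 1) (h2 : ψ.1 1 = p) :
    ∃ r : ℤ, (2 * p : ℤ) = 6 * r ^ 2 + 3 * r + 1 := by
  classical
  have n1 : χ.1 ≠ fun _ => 1 := fun e => by
    simp only [e] at h1
    have : (1 : ℤ) = 2 * p - 1 := by exact_mod_cast h1
    omega
  have n2 : ψ.1 ≠ fun _ => 1 := fun e => by
    simp only [e] at h2
    have : 1 = p := by exact_mod_cast h2
    omega
  have n4 : χ.1 1 ≠ ψ.1 1 := fun e => by
    rw [h1, h2] at e
    have : (2 * p - 1 : ℤ) = p := by exact_mod_cast e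
    omega
  have n3 : χ.1 ≠ ψ.1 := fun e => n4 (e ▸ rfl)
  have r1 : ∀ (σ : ℂ ≃+* ℂ) g, σ (χ.1 g) = χ.1 g := fun σ g => by
    obtain ⟨n, hn⟩ := int_of_rank χ.2 ψ.2 n1 hπ n4 g
    rw [hn, map_intCast]
  have r2 : ∀ (σ : ℂ ≃+* ℂ) g, σ (ψ.1 g) = ψ.1 g := fun σ g => by
    obtain ⟨n, hn⟩ := int_of_rank ψ.2 χ.2 n2 (hπ.trans (add_right_comm _ _ _)) n4.symm g
    rw [hn, map_intCast]
  have hin : ∀ φ, IsIrrCharacter G φ → classInner (pch G Ω) φ =
      (if (fun _ => 1) = φ then 1 else 0) + (if χ.1 = φ then 1 else 0) + (if ψ.1 = φ then 1 else 0) := fun φ hφ => by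
    rw [hπ, classInner_add_left, classInner_add_left, isIrrCharacter_one.classInner_eq_ite hφ,
      χ.2.classInner_eq_ite hφ, ψ.2.classInner_eq_ite hφ]
  have m1 : classInner (pch G Ω) χ.1 = 1 := by rw [hin _ χ.2, if_neg n1.symm, if_pos rfl, if_neg n3.symm]; simp
  have m2 : classInner (pch G Ω) ψ.1 = 1 := by rw [hin _ ψ.2, if_neg n2.symm, if_pos rfl, if_neg n3]; simp
  have htr : ∀ M : Matrix Ω Ω ℂ, MInv G M → M.trace = classInner (tm G M) (fun _ => 1) +
      classInner (tm G M) χ.1 * (2 * p - 1) + classInner (tm G M) ψ.1 * p := fun M hM => by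
    rw [hM.trace_eq, ← Finset.sum_subset (Finset.subset_univ
      ({⟨_, isIrrCharacter_one⟩, χ, ψ} : Finset (IrrCharacter G))),
      Finset.sum_insert (by simp [Subtype.ext_iff, n1.symm, n2.symm]), Finset.sum_pair (by simp [Subtype.ext_iff, n3])]
    · simp only [h1, h2]; ring
    · intro φ _ hφ
      simp only [Finset.mem_insert, Finset.mem_singleton, Subtype.ext_iff, not_or] at hφ
      rw [hM.inner_eq_zero φ.2.isCharacter, zero_mul]
      rw [hin _ φ.2, if_neg (Ne.symm hφ.1), if_neg (Ne.symm hφ.2.1), if_neg (Ne.symm hφ.2.2)]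
      simp
  haveI : Nontrivial Ω := Fintype.one_lt_card_iff_nontrivial.1 (by omega)
  obtain ⟨a, b, hb⟩ := exists_pair_ne Ω
  have hr := pch_inner_self (G := G) a
  nth_rewrite 2 [hπ] at hr
  rw [classInner_add_right, classInner_add_right, pch_inner_one a, m1, m2] at hr
  have hr' : Nat.card (orbitRel.Quotient (stabilizer G a) Ω) = 3 := by
    exact_mod_cast hr.symm.trans (by norm_num : (1 + 1 + 1 : ℂ) = 3)
  obtain ⟨x, hx, hx'⟩ : ∃ x, x ≠ a ∧ x ∉ MulAction.orbit (stabilizer G a) b := by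
    by_contra! h
    have := Nat.card_le_card_of_surjective (fun c : Bool => (Quotient.mk'' (if c then a else b) :
      orbitRel.Quotient (stabilizer G a) Ω)) fun ω => by
        induction ω using Quotient.inductionOn' with | h y =>
        by_cases hy : y = a
        · exact ⟨true, by simp [hy]⟩
        · exact ⟨false, (Quotient.sound' (h y hy)).symm⟩
    rw [hr'] at this
    simp at this
  have hk : Nat.card (MulAction.orbit (stabilizer G a) b) ≤ 3 * p - 2 := by
    rw [Nat.card_coe_set_eq, ← hΩ, ← Nat.card_eq_fintype_card, ← Set.ncard_pair hx, ← Set.ncard_compl]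
    refine Set.ncard_le_ncard fun y hy => ?_
    rintro (rfl | rfl)
    · exact hx' hy
    · obtain ⟨g, hg⟩ := hy
      exact hb (smul_left_cancel (g : G) ((show (g : G) • y = y from g.2).trans (show (g : G) • b = y from hg).symm))
  have hA := mInv_om (G := G) a b
  obtain ⟨u, hu⟩ := hA.inner_int (om_int a b) χ.2.isCharacter r1
  obtain ⟨v, hv⟩ := hA.inner_int (om_int a b) ψ.2.isCharacter r2
  have e1 := htr _ hA
  have e2 := htr _ (hA.mul hA.transpose)
  rw [om_trace hb.symm, om_inner_one, hu, hv] at e1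
  rw [hA.trace_mul_om, om_of_mem ⟨1, one_smul _ _, one_smul _ _⟩,
    hA.inner_mul hA.transpose isCharacter_one (Or.inr (pch_inner_one a)),
    hA.inner_mul hA.transpose χ.2.isCharacter (Or.inr m1), hA.inner_mul hA.transpose ψ.2.isCharacter (Or.inr m2),
    inner_transpose _ isCharacter_one (by simp), inner_transpose _ χ.2.isCharacter r1,
    inner_transpose _ ψ.2.isCharacter r2, om_inner_one, hu, hv, hΩ, mul_one] at e2
  have := card_orbit_pos' (G := stabilizer G a) b
  exact arith (k := Nat.card (MulAction.orbit (stabilizer G a) b)) (r := u) (s := v) (by omega) (by omega) (by omega)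
    (by exact_mod_cast e1.symm) (by exact_mod_cast e2.symm)

variable [IsSimpleGroup G] [FaithfulSMul G Ω]

theorem prim (hG : ¬ IsMulCommutative G) (hp3 : 3 < p) [IsPreprimitive G Ω] (h : Dih p P t) (hn : ¬ p ∣ P.index)
    (hΩ : Fintype.card Ω = 3 * p) : p = 5 ∧ Nat.card G = 360 := by
  obtain ⟨χ, θ, hB, hdvd, hc⟩ := cases hG hp3 h hn hΩ
  have t2 := t_ord h
  have hi := odd_index (fun s => hB.one_class) t2
  have hpo := hp.out.odd_of_ne_two h.odd
  obtain ⟨S⟩ : Nonempty (Sylow 2 G) := inferInstance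
  obtain ⟨σ, hσ⟩ := S.2.exists_card_eq
  have hS := (S : Subgroup G).card_mul_index
  have hS' : Odd (S : Subgroup G).index := Nat.not_even_iff_odd.1 fun e => S.not_dvd_index e.two_dvd
  have hC := (centralizer ({t} : Set G)).card_mul_index
  obtain ⟨c', hc'⟩ : 2 ^ σ ∣ Nat.card (centralizer ({t} : Set G)) :=
    ((Nat.coprime_two_left.2 hi).pow_left σ).dvd_of_dvd_mul_right ⟨_, by rw [hC, ← hS, hσ]⟩
  have hc'' : Odd c' := Odd.of_dvd_nat hS' ⟨_, Nat.eq_of_mul_eq_mul_left (Nat.two_pow_pos σ) (by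
    rw [← mul_assoc, ← hc', hC, ← hS, hσ])⟩
  have hf : ∀ s : G, orderOf s = 2 → Nat.card (fixedBy Ω s) = Nat.card (fixedBy Ω t) := fun s hs => by
    exact_mod_cast (isCharacter_fixedBy (G := G) Ω).isClassFunction.eq_of_isConj (hB.one_class hs)
  have hd : charDegree χ.1 = charDegree θ.1 + 1 := by
    have := hB.deg
    rw [← coe_deg, ← coe_deg] at this
    exact_mod_cast (by rw [this]; simp : (charDegree χ.1 : ℂ) = charDegree θ.1 + 1)
  have ho := hB.order
  rw [← coe_deg, ← coe_deg, hd] at ho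
  rw [hd] at hdvd hc
  have hle := Nat.le_of_dvd Nat.card_pos hdvd
  have h1 := fun e : Nat.card (fixedBy Ω t) = 1 => se_of_one (by omega) (fun s hs => (hf s hs).trans e) t2 S
  have h3 := fun e : Nat.card (fixedBy Ω t) = 3 => of_three (by omega) (fun s hs => (hf s hs).trans e) t2 S
  rw [hΩ, hσ] at h1 h3
  set d := charDegree θ.1
  set c := Nat.card (centralizer ({t} : Set G))
  set i := (centralizer ({t} : Set G)).index
  have hd0 : (d + 1 : ℂ) ≠ 0 := by exact_mod_cast d.succ_ne_zero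
  rcases hc with ⟨c1, c2, c3, c4⟩ | ⟨c1, c2, ψ, c3, c4⟩ | c1
  · exfalso
    have e1 : i * (d + 1) = p * c * d := by
      apply Nat.cast_injective (R := ℂ)
      apply mul_left_cancel₀ hd0
      rw [c2] at ho
      push_cast at ho ⊢
      linear_combination ho
    obtain rfl | hp5 : p = 5 ∨ 5 < p := by obtain ⟨k, hk⟩ := hpo; omega
    · obtain ⟨a⟩ : Nonempty Ω := Fintype.card_pos_iff.1 (by omega)
      haveI : Nontrivial Ω := Fintype.one_lt_card_iff_nontrivial.1 (by omega)
      have e2 := (stabilizer G a).card_mul_index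
      have e3 : (stabilizer G a).index = 15 := by rw [index_stabilizer_of_transitive, Nat.card_eq_fintype_card, hΩ]
      rw [e3, c3 rfl] at e2
      have e4 : Nat.card (stabilizer G a) = 2 ^ 2 := by omega
      let T := (IsPGroup.of_card e4).toSylow (by rw [e3]; decide)
      have e5 := (isCoatom_stabilizer_iff_preprimitive G a).2 inferInstance
      have e6 : normalizer ((T : Subgroup G) : Set G) ≤ centralizer ((T : Subgroup G) : Set G) := by
        rcases e5.le_iff.1 (le_normalizer (H := stabilizer G a)) with e | e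
        · rcases IsSimpleGroup.eq_bot_or_eq_top_of_normal _ (normalizer_eq_top_iff.1 e) with e' | e'
          · rw [e', card_bot] at e4; omega
          · exact absurd e' e5.1
        · haveI := IsPGroup.isMulCommutative_of_card_eq_prime_sq e4
          exact e.le.trans (le_centralizer _)
      have e7 := (MonoidHom.ker_transferSylow_isComplement' T e6).card_mul_card
      rcases IsSimpleGroup.eq_bot_or_eq_top_of_normal (MonoidHom.transferSylow T e6).ker inferInstance with e | e
      · rw [e, card_bot, c3 rfl, show Nat.card T = _ from e4] at e7; omega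
      · rw [e, card_top, c3 rfl, show Nat.card T = _ from e4] at e7; omega
    have e2 : d + 1 ∣ c := by
      have : d + 1 ∣ p * c * d := ⟨i, by rw [← e1, mul_comm]⟩
      exact (show (d + 1).Coprime p by rw [← c1]; simp).dvd_of_dvd_mul_left
        ((show (d + 1).Coprime d by simp).dvd_of_dvd_mul_right this)
    have e3 : IsPGroup 2 (centralizer ({t} : Set G)) := fun x => ⟨1, Subtype.ext (by
      have e4 : Commute (x : G) t := mem_centralizer_singleton_iff.1 x.2
      rcases Nat.even_or_odd (orderOf (x : G)) with e | e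
      · simpa [c4 hp5 _ e] using pow_orderOf_eq_one (x : G)
      · have e5 := e4.orderOf_mul_eq_mul_orderOf_of_coprime (t2 ▸ Nat.coprime_two_right.2 e)
        rw [t2] at e5
        rw [c4 hp5 _ (e5 ▸ even_two.mul_left _)] at e5
        simp [orderOf_eq_one_iff.1 (by omega : orderOf (x : G) = 1)])⟩
    obtain ⟨Q, hQ⟩ := e3.exists_le_sylow
    have e4 := Nat.le_of_dvd Nat.card_pos (e2.trans (card_dvd_of_le hQ))
    rw [Nat.card_congr (Q.equiv S).toEquiv, hσ] at e4
    rcases fix_t h hn hΩ with e | e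
    · have e5 : 2 ^ σ ∣ d + 1 := ((Nat.coprime_two_left.2 hi).pow_left σ).dvd_of_dvd_mul_left
        ⟨p * c' * d, by rw [e1, hc']; ring⟩
      have := Nat.le_of_dvd d.succ_pos e5
      have := (h1 e).1
      omega
    · obtain ⟨-, z, s, -, -, -, -, e5⟩ := h3 e
      have e6 : ∀ x : S, x⁻¹ = x := fun x => by
        obtain ⟨k, hk⟩ := (IsPGroup.iff_orderOf.1 S.2) x
        rcases k with _ | k
        · rw [orderOf_eq_one_iff.1 hk, inv_one]
        · refine inv_eq_of_mul_eq_one_right ?_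
          have := pow_orderOf_eq_one x
          rwa [← Subgroup.orderOf_coe, c4 hp5 x (by
            rw [Subgroup.orderOf_coe, hk]; exact (Nat.even_pow' k.succ_ne_zero).2 even_two), sq] at this
      rw [show centralizer {s} = ⊤ from eq_top_iff.2 fun x _ => mem_centralizer_singleton_iff.2 (by
        rw [← e6 (x * s), _root_.mul_inv_rev, e6, e6]), card_top, hσ] at e5
      omega
  · have hd1 : (d : ℂ) ≠ 0 := by exact_mod_cast (by omega : d ≠ 0)
    have e1 : i * d = p * c * (d + 1) := by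
      apply Nat.cast_injective (R := ℂ)
      apply mul_left_cancel₀ hd1
      rw [c2] at ho
      push_cast at ho ⊢
      linear_combination ho
    obtain ⟨w, hw⟩ : 2 ^ σ ∣ d := ((Nat.coprime_two_left.2 hi).pow_left σ).dvd_of_dvd_mul_left
      ⟨p * c' * (d + 1), by rw [e1, hc']; ring⟩
    have hw' : Odd w := Odd.of_dvd_nat ((hpo.mul hc'').mul (Even.add_one ⟨p - 1, by omega⟩ : Odd (d + 1)))
      ⟨i, Nat.eq_of_mul_eq_mul_left (Nat.two_pow_pos σ) (by
        rw [← mul_assoc _ w, ← hw, mul_comm d, e1, hc']; ring)⟩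
    have e2 : 2 ^ σ ≤ d := Nat.le_of_dvd (by omega) ⟨w, hw⟩
    obtain ⟨-, z, s, z2, s2, hzs, hzs', e5⟩ := h3 ((fix_t h hn hΩ).resolve_left fun e => by have := (h1 e).1; omega)
    have c5 : χ.1 1 = 2 * p - 1 := by
      rw [← coe_deg, hd, eq_sub_iff_add_eq]; exact_mod_cast c1
    obtain ⟨q, rfl⟩ : ∃ q, p = q + 4 := ⟨p - 4, by omega⟩
    obtain hq : d = 2 * q + 6 := by omega
    rcases gw hG h hn z2 s2 hzs hzs' e5 with e | e | e | e | ⟨e, r, k, hr, hk⟩
    · obtain ⟨n, X, Y, hX, e'⟩ := SD.of e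
      obtain rfl : σ = n + 1 := Nat.pow_right_injective le_rfl (hσ.symm.trans e')
      refine (hX.elim (commutator_eq_top_of_simple hG)
        (fun s hs => (hf s hs).trans ((fix_t h hn hΩ).resolve_left fun e => by have := (h1 e).1; omega)) c4
        (fun g hg => ?_) hw' ?_ ?_).elim
      · have e6 := hB.reg g fun e => Nat.not_even_iff_odd.2 hpo (ord_eq h hn e ▸ hg)
        rw [apply_eq_zero_of_defectZero Nat.prime_two ?_ hg.two_dvd] at e6
        · push_cast at e6; linear_combination -e6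
        · change d.factorization 2 = _
          rw [hw, ← hS, hσ, Nat.factorization_mul (by positivity) hw'.pos.ne',
            Nat.factorization_mul (by positivity) hS'.pos.ne', Finsupp.add_apply, Finsupp.add_apply,
            Nat.factorization_eq_zero_of_not_dvd hw'.not_two_dvd_nat,
            Nat.factorization_eq_zero_of_not_dvd hS'.not_two_dvd_nat]
      · rw [← coe_deg, hd, hw]; push_cast; ring
      · rw [c3]; exact_mod_cast (by rw [pow_succ, mul_right_comm] at hw; omega : q + 4 = 2 ^ n * w + 1)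
    · rw [hq] at hle
      rw [show q + 4 - 1 = q + 3 from rfl] at e
      nlinarith
    · have e6 : (2 * q + 7) ∣ (2 * (q + 4) + 1) * (2 * (q + 4) + 2) := by
        rw [e, hq, mul_right_comm, mul_comm _ (q + 4), Nat.mul_dvd_mul_iff_left (by omega)] at hdvd
        exact (dvd_mul_right _ _).trans hdvd
      rw [show (2 * (q + 4) + 1) * (2 * (q + 4) + 2) = (2 * q + 7) * (2 * q + 12) + 6 by ring,
        Nat.dvd_add_right (dvd_mul_right _ _)] at e6
      have := Nat.le_of_dvd (by norm_num) e6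
      omega
    · rw [e, hq] at hle hdvd
      rw [e] at hC
      rw [hq] at e1
      have : q < 7 := by nlinarith [Nat.zero_le (q ^ 3), Nat.zero_le (q ^ 2)]
      have e7 : c * c * ((q + 4) * (2 * q + 7)) = 2520 * (2 * q + 6) := by
        rw [← hC, mul_assoc c i, e1]; ring
      clear_value c
      have := hp.out
      interval_cases q <;> try (first | omega | (norm_num at this; done))
      have : c < 22 := by nlinarith
      have : 21 < c := by nlinarith
      omega
    · obtain ⟨a, ha⟩ := rank3 hp3 hΩ c4 c5 c3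
      have := arith2 hp3 hr hk ha
      exact ⟨this, by rw [e, this]⟩
  · exfalso
    have c2 := congrFun c1 1
    have c3 := congrFun c1 t
    simp only [Pi.add_apply, pch_one, hΩ, ← coe_deg, hd] at c2 c3
    have c4 : 3 * p = 1 + (d + 1) := by exact_mod_cast c2
    obtain ⟨q, rfl⟩ : ∃ q, p = q + 4 := ⟨p - 4, by omega⟩
    obtain hq : d = 3 * q + 10 := by omega
    rcases fix_t h hn hΩ with e | e
    · obtain ⟨e2, e3⟩ := h1 e
      rw [show χ.1 t = 0 by simp only [pch, e] at c3; push_cast at c3; linear_combination -c3] at ho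
      have e1 : i * (d + 1) = (q + 4) * c * d := by
        apply Nat.cast_injective (R := ℂ)
        apply mul_left_cancel₀ hd0
        push_cast at ho ⊢
        linear_combination ho
      obtain ⟨j, hj⟩ := hdvd
      have e4 : c * c = (d + 1) ^ 2 * j := Nat.eq_of_mul_eq_mul_left (show 0 < (q + 4) * d by rw [hq]; positivity) (by
        calc (q + 4) * d * (c * c) = c * ((q + 4) * c * d) := by ring
          _ = _ := by rw [← e1, ← mul_assoc, hC, hj]; ring)
      obtain ⟨a⟩ : Nonempty Ω := Fintype.card_pos_iff.1 (by omega)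
      have e5 := (stabilizer G a).index_dvd_card
      rw [index_stabilizer_of_transitive, Nat.card_eq_fintype_card (α := Ω), hΩ, hj, mul_assoc, mul_comm 3,
        Nat.mul_dvd_mul_iff_left (by omega)] at e5
      have n1 : Nat.Coprime 3 (d + 1) := (Nat.prime_three.coprime_iff_not_dvd).2 (by omega)
      have n2 : Nat.Coprime 3 d := (Nat.prime_three.coprime_iff_not_dvd).2 (by omega)
      have e6 : 3 ∣ j := (n1.mul_right n2).dvd_of_dvd_mul_left e5
      have e7 : 3 ∣ c := (Nat.prime_three.dvd_mul.1 (e4 ▸ e6.mul_left _)).elim id id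
      have e8 : 3 ^ 2 ∣ j := (n1.pow 2 2).dvd_of_dvd_mul_left (e4 ▸ sq 3 ▸ mul_dvd_mul e7 e7)
      have e9 := Nat.le_of_dvd (Nat.pos_of_ne_zero fun e => Nat.card_pos.ne' (by rw [hj, e, mul_zero])) e8
      rw [show 2 ^ σ = d + 1 by omega, hj, hq] at e3
      have := Nat.mul_le_mul_left ((q + 4) * ((3 * q + 10 + 1) * (3 * q + 10))) e9
      nlinarith [Nat.zero_le (q ^ 3), Nat.zero_le (q ^ 2)]
    · obtain ⟨e2, z, s, z2, s2, hzs, hzs', e5⟩ := h3 e
      rw [show χ.1 t = 2 by simp only [pch, e] at c3; push_cast at c3; linear_combination -c3] at ho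
      rcases gw hG h hn z2 s2 hzs hzs' e5 with e | e | e | e | ⟨e, -⟩
      · obtain ⟨n, X, Y, hX, e'⟩ := SD.of e
        obtain rfl : σ = n + 1 := Nat.pow_right_injective le_rfl (hσ.symm.trans e')
        have e1 : i * 9 * (q + 3) ^ 2 = (q + 4) * c * ((d + 1) * d) := by
          apply Nat.cast_injective (R := ℂ)
          rw [hq] at ho ⊢
          push_cast at ho ⊢
          linear_combination ho
        rw [show 3 * (q + 4) - 3 = 3 * (q + 3) by omega, pow_succ', Nat.mul_dvd_mul_iff_left two_pos] at e2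
        obtain ⟨o, ho⟩ := ((show Nat.Coprime 2 3 by decide).pow_left n).dvd_of_dvd_mul_left e2
        obtain ⟨m, rfl⟩ : ∃ m, n = m + 3 := ⟨n - 3, by have := hX.hn; omega⟩
        obtain ⟨u, hu⟩ : ∃ u, d + 1 = 2 * (2 * u + 1) := ⟨3 * (2 ^ m * 2 * o), by
          rw [pow_add] at ho; linarith⟩
        have e3 : Odd ((q + 4) * c' * (2 * u + 1) * d) :=
          ((hpo.mul hc'').mul (odd_two_mul_add_one u)).mul ⟨2 * u, by omega⟩
        refine e3.not_two_dvd_nat ⟨i * 9 * 2 ^ m * o ^ 2, Nat.eq_of_mul_eq_mul_left (Nat.two_pow_pos (m + 5)) ?_⟩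
        rw [ho, hc', hu] at e1
        calc _ = (q + 4) * (2 ^ (m + 3 + 1) * c') * (2 * (2 * u + 1) * d) := by ring
          _ = _ := by rw [← e1]; ring
      · rw [hq] at hle
        rw [show q + 4 - 1 = q + 3 from rfl] at e
        nlinarith
      · rw [e, hq] at hle
        nlinarith
      · rw [e, hq] at hle hdvd
        have : q < 3 := by nlinarith [Nat.zero_le (q ^ 3), Nat.zero_le (q ^ 2)]
        have := hp.out
        interval_cases q <;> first | omega | norm_num at this
      · rw [e, hq, show 2 * (q + 4) - 1 = 2 * q + 7 by omega, show 2 * (q + 4) - 2 = 2 * q + 6 by omega] at hle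
        nlinarith [Nat.zero_le (q ^ 3), Nat.zero_le (q ^ 2)]

theorem imprim (hG : ¬ IsMulCommutative G) (hp3 : 3 < p) [IsPretransitive G Ω] (hΩ : Fintype.card Ω = 3 * p)
    (P : Sylow p G) (hN : Nat.card (normalizer ((P : Subgroup G) : Set G)) = 2 * p) (h : ¬ IsPreprimitive G Ω) :
    ∃ (F : Type) (_ : Field F) (_ : Fintype F) (m : ℕ), Fintype.card F = 2 ^ m ∧ p = 2 ^ m + 1 ∧
      Nonempty (G ≃* ProjectiveSpecialLinearGroup (Fin 2) F) := by
  classical
  haveI : Nontrivial Ω := Fintype.one_lt_card_iff_nontrivial.1 (by omega)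
  obtain ⟨a⟩ : Nonempty Ω := inferInstance
  have h1 : (stabilizer G a).index = 3 * p := by rw [index_stabilizer_of_transitive, Nat.card_eq_fintype_card, hΩ]
  obtain ⟨K, h2, h3⟩ : ∃ K, stabilizer G a < K ∧ K ≠ ⊤ := by
    by_contra! h2
    exact h ((isCoatom_stabilizer_iff_preprimitive G a).1 ⟨fun e => by rw [e, index_top] at h1; omega, h2⟩)
  have h4 : K.normalCore = ⊥ := (IsSimpleGroup.eq_bot_or_eq_top_of_normal _ inferInstance).resolve_right
    fun e => h3 (eq_top_iff.2 (e ▸ K.normalCore_le))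
  have h5 : 2 * p ∣ Nat.card G := hN ▸ card_subgroup_dvd_card _
  have h6 : K.index = p := by
    obtain ⟨x, y, hx, hy, e⟩ := exists_dvd_and_dvd_of_dvd_mul (h1 ▸ index_dvd_of_le h2.le)
    have h7 := Nat.le_of_dvd (Nat.factorial_pos _) (h5.trans (Exc.card_dvd_of_core h4))
    rcases (Nat.dvd_prime Nat.prime_three).1 hx with rfl | rfl <;>
      rcases (Nat.dvd_prime hp.out).1 hy with rfl | rfl
    · exact absurd (index_eq_one.1 e) h3
    · rw [e, one_mul]
    · rw [e] at h7; simp [Nat.factorial] at h7; omega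
    · refine absurd (eq_of_le_of_card_ge h2.le (Nat.eq_of_mul_eq_mul_right (by omega : 0 < 3 * y) ?_).le) h2.ne
      nth_rewrite 1 [← e, ← h1]
      rw [card_mul_index, card_mul_index]
  let e := MonoidHom.ofInjective ((MonoidHom.ker_eq_bot_iff (toPermHom G (G ⧸ K))).1 (K.normalCore_eq_ker ▸ h4))
  haveI := Fintype.ofFinite (G ⧸ K)
  rcases Cfsg.Agent.S4706.result (by omega) (Nat.card_eq_fintype_card.symm.trans h6) _
    (P.mapSurjective (f := e.toMonoidHom) e.surjective) (by
      change Nat.card (normalizer (SetLike.coe ((P : Subgroup G).map e.toMonoidHom))) = _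
      rw [← map_equiv_normalizer_eq, card_map_of_injective (f := e.toMonoidHom) e.injective, hN]) with
    h7 | ⟨m, F, _, _, h7, h8, ⟨f⟩⟩
  · have h8 : (((P : Subgroup G).map e.toMonoidHom).comap e.toMonoidHom).Normal := h7.comap e.toMonoidHom
    rw [comap_map_eq_self_of_injective (f := e.toMonoidHom) e.injective] at h8
    rw [normalizer_eq_top_iff.2 h8, card_top] at hN
    obtain ⟨t, ht⟩ := exists_dih (by omega) P (by rw [normalizer_eq_top_iff.2 h8, card_top, hN])
    rcases IsSimpleGroup.eq_bot_or_eq_top_of_normal _ h8 with e' | e'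
    · have := ht.card; rw [e', card_bot] at this; omega
    · exact absurd (e' ▸ mem_top t) ht.nm
  · obtain ⟨g⟩ := Small.nonempty_sl_equiv_psl (F := F) (by
      rw [Nat.card_eq_fintype_card, h8]
      exact (Nat.even_pow' (by rintro rfl; omega)).2 even_two)
    exact ⟨F, _, _, m, h8, h7, ⟨(e.trans f).trans g⟩⟩

end Cfsg.Lib.Block2.Tp
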